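import Mathlib

/-!
# First cohomology of a finite cyclic group via an explicit basis (helper13)

If `G` is a finite group generated by `g`, acting linearly on `V`, and `c : ι → V` is a finite
family of elements killed by the norm which is independent modulo the image of `ρ g - 1` and spans
the kernel of the norm modulo that image, then `H¹(G, V)` is finite-dimensional of dimension
`card ι`.
-/

set_option autoImplicit false
universe u
open CategoryTheory

namespace Groth.Agent.Lib.helper13.ASCov

lemma sum_group_eq_sum_range {k : Type u} [Field k] {G : Type u} [Group G] [Fintype G] (g : G)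
    (hg : ∀ x : G, x ∈ Subgroup.zpowers g) {V : Type u} [AddCommGroup V] [Module k V]
    (ρ : Representation k G V) (v : V) :
    ∑ x : G, ρ x v = ∑ l ∈ Finset.range (Nat.card G), (ρ g ^ l) v := by
  have hord : orderOf g = Nat.card G := orderOf_eq_card_of_forall_mem_zpowers hg
  let f : Fin (Nat.card G) → G := fun l => g ^ (l : ℕ)
  have hinj : Function.Injective f := by
    intro l l' h
    apply Fin.ext
    apply pow_injOn_Iio_orderOf (x := g)
    · rw [Set.mem_Iio, hord]; exact l.2
    · rw [Set.mem_Iio, hord]; exact l'.2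
    · exact h
  have hbij : Function.Bijective f := by
    rw [Fintype.bijective_iff_injective_and_card]
    refine ⟨hinj, ?_⟩
    rw [Fintype.card_fin, Nat.card_eq_fintype_card]
  rw [Finset.sum_range, ← Fintype.sum_equiv (Equiv.ofBijective f hbij)
    (fun l => (ρ g ^ (l : ℕ)) v) (fun x => ρ x v)]
  intro l
  show (ρ g ^ (l : ℕ)) v = ρ (g ^ (l : ℕ)) v
  rw [map_pow]

theorem cyclic_H1_basis {k : Type u} [Field k] {G : Type u} [Group G] [Finite G] (g : G)
    (hg : ∀ x : G, x ∈ Subgroup.zpowers g) {V : Type u} [AddCommGroup V] [Module k V]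
    (ρ : Representation k G V) {ι : Type} [Fintype ι] (c : ι → V)
    (h_ker : ∀ i, ∑ l ∈ Finset.range (Nat.card G), (ρ g ^ l) (c i) = 0)
    (h_span : ∀ v, ∑ l ∈ Finset.range (Nat.card G), (ρ g ^ l) v = 0 →
      ∃ (w : V) (lam : ι → k), v = ρ g w - w + ∑ i, lam i • c i)
    (h_ind : ∀ (lam : ι → k) (w : V), ρ g w - w = ∑ i, lam i • c i → ∀ i, lam i = 0) :
    Module.Finite k (groupCohomology.H1 (Rep.of ρ)) ∧
      Module.finrank k (groupCohomology.H1 (Rep.of ρ)) = Fintype.card ι := by
  haveI : IsCyclic G := ⟨⟨g, hg⟩⟩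
  letI cg : CommGroup G := IsCyclic.commGroup
  letI : Fintype G := Fintype.ofFinite G
  have hodd : Odd 1 := odd_one
  let π := Rep.FiniteCyclicGroup.groupCohomologyπOdd (Rep.of ρ) g hg 1 hodd
  have h1 : ∀ x : LinearMap.ker (Rep.of ρ).norm.hom.toLinearMap, π x = 0 ↔
      x.1 ∈ LinearMap.range (Rep.applyAsHom (Rep.of ρ) g - 𝟙 (Rep.of ρ)).hom.toLinearMap :=
    fun x => Rep.FiniteCyclicGroup.groupCohomologyπOdd_eq_zero_iff (Rep.of ρ) g hg 1 hodd x
  have h2 : Function.Surjective π := by
    have e1 : Function.Surjective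
        (Rep.FiniteCyclicGroup.subCompNormHom (Rep.of ρ) g).moduleCatCyclesIso.inv :=
      (ConcreteCategory.bijective_of_isIso _).2
    have e2 : Function.Surjective
        (Rep.FiniteCyclicGroup.subCompNormHom (Rep.of ρ) g).homologyπ := by
      rw [← ModuleCat.epi_iff_surjective]; infer_instance
    have e3 : Function.Surjective
        (Rep.FiniteCyclicGroup.groupCohomologyIsoOdd (Rep.of ρ) g hg 1 hodd).inv :=
      (ConcreteCategory.bijective_of_isIso _).2
    have := e3.comp (e2.comp e1)
    intro y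
    obtain ⟨x, hx⟩ := this y
    exact ⟨x, hx⟩
  have h3 : ∀ v : V, (Rep.of ρ).norm.hom.toLinearMap v = ∑ x : G, ρ x v := by
    intro v
    simp [Rep.norm, Representation.norm]
  have h4 : ∀ v : V,
      (Rep.applyAsHom (Rep.of ρ) g - 𝟙 (Rep.of ρ)).hom.toLinearMap v = ρ g v - v := by
    intro v
    simp [Rep.sub_hom]
    rfl
  have h5 : ∀ v : V,
      v ∈ LinearMap.range (Rep.applyAsHom (Rep.of ρ) g - 𝟙 (Rep.of ρ)).hom.toLinearMap ↔
        ∃ w, ρ g w - w = v := by
    intro v
    simp only [LinearMap.mem_range, h4]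
  have h6 : ∀ v : V, v ∈ LinearMap.ker (Rep.of ρ).norm.hom.toLinearMap ↔
      ∑ l ∈ Finset.range (Nat.card G), (ρ g ^ l) v = 0 := by
    intro v
    rw [LinearMap.mem_ker, h3, sum_group_eq_sum_range g hg ρ v]
  -- a plain linear map
  let πl : LinearMap.ker (Rep.of ρ).norm.hom.toLinearMap →ₗ[k] groupCohomology.H1 (Rep.of ρ) :=
    π.hom
  have hπl : ∀ x, πl x = π x := fun _ => rfl
  have hmemker : ∀ i, c i ∈ LinearMap.ker (Rep.of ρ).norm.hom.toLinearMap :=
    fun i => (h6 _).mpr (h_ker i)
  let b : ι → groupCohomology.H1 (Rep.of ρ) := fun i => πl ⟨c i, hmemker i⟩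
  have hli : LinearIndependent k b := by
    rw [Fintype.linearIndependent_iff]
    intro lam hsum i
    have hz : πl (∑ i, lam i • (⟨c i, hmemker i⟩ :
        LinearMap.ker (Rep.of ρ).norm.hom.toLinearMap)) = 0 := by
      rw [map_sum, ← hsum]
      apply Finset.sum_congr rfl
      intro i _
      rw [map_smul]
    rw [hπl, h1] at hz
    obtain ⟨w, hw⟩ := (h5 _).mp hz
    refine h_ind lam w ?_ i
    rw [hw]
    simp
  have hsp : ⊤ ≤ Submodule.span k (Set.range b) := by
    rintro y -
    obtain ⟨x, rfl⟩ := h2 y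
    obtain ⟨w, lam, hx⟩ := h_span x.1 ((h6 _).mp x.2)
    set y' : LinearMap.ker (Rep.of ρ).norm.hom.toLinearMap :=
      x - ∑ i, lam i • (⟨c i, hmemker i⟩ : LinearMap.ker (Rep.of ρ).norm.hom.toLinearMap)
      with hy'
    have hy'1 : y'.1 = ρ g w - w := by
      rw [hy']
      simp [hx]
    have hy'0 : πl y' = 0 := by
      rw [hπl, h1, h5]
      exact ⟨w, hy'1.symm⟩
    have hx' : x = y' + ∑ i, lam i • (⟨c i, hmemker i⟩ :
        LinearMap.ker (Rep.of ρ).norm.hom.toLinearMap) := by
      rw [hy']; abel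
    show πl x ∈ _
    rw [hx', map_add, hy'0, zero_add, map_sum]
    refine Submodule.sum_mem _ fun i _ => ?_
    rw [map_smul]
    exact Submodule.smul_mem _ _ (Submodule.subset_span ⟨i, rfl⟩)
  let B := Module.Basis.mk hli hsp
  exact ⟨Module.Finite.of_basis B, by rw [Module.finrank_eq_card_basis B]⟩

end Groth.Agent.Lib.helper13.ASCov
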