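import Mathlib

/-!
# The order-`p` automorphism `t ↦ t·u` of `k⟦t⟧` with `u^n (1+t^n) = 1`: basic facts (helper13)
-/

set_option autoImplicit false
universe u

namespace Groth.Agent.Lib.helper13.ASCov

open PowerSeries

variable {k : Type u} [Field k]

/-- the standing hypotheses -/
structure Setup (p : ℕ) (n : ℕ) (u : PowerSeries k) (uU : (PowerSeries k)ˣ)
    (σ : PowerSeries k →+* PowerSeries k) : Prop where
  hp : p.Prime
  hchar : CharP k p
  hn : 0 < n
  hpn : ¬ p ∣ n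
  hu1 : constantCoeff u = 1
  hun : u ^ n * (1 + X ^ n) = 1
  huU : (uU : PowerSeries k) = u
  hσX : σ X = X * u
  hσC : ∀ r, σ (C r) = C r

/-- the twisted operator `h ↦ u^e · σ h` -/
noncomputable def Tw (uU : (PowerSeries k)ˣ) (σ : PowerSeries k →+* PowerSeries k) (e : ℤ)
    (h : PowerSeries k) : PowerSeries k :=
  ((uU ^ e : (PowerSeries k)ˣ) : PowerSeries k) * σ h

section general

variable {uU : (PowerSeries k)ˣ} {σ : PowerSeries k →+* PowerSeries k}

lemma Tw_add (e : ℤ) (h h' : PowerSeries k) :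
    Tw uU σ e (h + h') = Tw uU σ e h + Tw uU σ e h' := by
  simp [Tw, mul_add]

lemma Tw_sub (e : ℤ) (h h' : PowerSeries k) :
    Tw uU σ e (h - h') = Tw uU σ e h - Tw uU σ e h' := by
  simp [Tw, mul_sub]

lemma Tw_zero (e : ℤ) : Tw uU σ e 0 = 0 := by simp [Tw]

lemma Tw_neg (e : ℤ) (h : PowerSeries k) : Tw uU σ e (-h) = - Tw uU σ e h := by
  simp [Tw]

lemma Tw_sum {ι : Type*} (e : ℤ) (s : Finset ι) (f : ι → PowerSeries k) :
    Tw uU σ e (∑ i ∈ s, f i) = ∑ i ∈ s, Tw uU σ e (f i) := by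
  simp [Tw, map_sum, Finset.mul_sum]

lemma Tw_mul (e e' : ℤ) (h h' : PowerSeries k) :
    Tw uU σ (e + e') (h * h') = Tw uU σ e h * Tw uU σ e' h' := by
  simp only [Tw, zpow_add, Units.val_mul, map_mul]; ring

lemma Tw_one (e : ℤ) : Tw uU σ e 1 = ((uU ^ e : (PowerSeries k)ˣ) : PowerSeries k) := by
  simp [Tw]

lemma Tw_zero_exp (h : PowerSeries k) : Tw uU σ 0 h = σ h := by simp [Tw]

lemma dvd_mul' {n : ℕ} {f g : PowerSeries k} (hf : X ^ n ∣ f - 1) (hg : X ^ n ∣ g - 1) :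
    X ^ n ∣ f * g - 1 := by
  have : f * g - 1 = (f - 1) * g + (g - 1) := by ring
  rw [this]
  exact dvd_add (Dvd.dvd.mul_right hf g) hg

lemma dvd_inv' {n : ℕ} (w : (PowerSeries k)ˣ) (hw : X ^ n ∣ (w : PowerSeries k) - 1) :
    X ^ n ∣ ((w⁻¹ : (PowerSeries k)ˣ) : PowerSeries k) - 1 := by
  have : ((w⁻¹ : (PowerSeries k)ˣ) : PowerSeries k) - 1
      = -((w⁻¹ : (PowerSeries k)ˣ) : PowerSeries k) * ((w : PowerSeries k) - 1) := by
    have := w.inv_mul
    linear_combination this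
  rw [this]
  exact Dvd.dvd.mul_left hw _

lemma dvd_npow' {n : ℕ} (w : (PowerSeries k)ˣ) (r : ℕ) (hw : X ^ n ∣ (w : PowerSeries k) - 1) :
    X ^ n ∣ ((w ^ r : (PowerSeries k)ˣ) : PowerSeries k) - 1 := by
  induction r with
  | zero => simp
  | succ r ih =>
    rw [pow_succ, Units.val_mul]
    exact dvd_mul' ih hw

lemma dvd_zpow' {n : ℕ} (w : (PowerSeries k)ˣ) (j : ℤ) (hw : X ^ n ∣ (w : PowerSeries k) - 1) :
    X ^ n ∣ ((w ^ j : (PowerSeries k)ˣ) : PowerSeries k) - 1 := by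
  obtain ⟨r, rfl | rfl⟩ := Int.eq_nat_or_neg j
  · rw [zpow_natCast]; exact dvd_npow' w r hw
  · rw [zpow_neg, zpow_natCast, ← inv_pow]; exact dvd_npow' _ r (dvd_inv' w hw)

lemma coeff_one_of_pos {n : ℕ} (hn : 0 < n) : coeff n (1 : PowerSeries k) = 0 := by
  rw [coeff_one]; simp [hn.ne']

lemma coeff_mul' {n : ℕ} (hn : 0 < n) {w w' : PowerSeries k} (hw : X ^ n ∣ w - 1)
    (hw' : X ^ n ∣ w' - 1) : coeff n (w * w') = coeff n w + coeff n w' := by
  have e : w * w' = (w - 1) * (w' - 1) + w + w' - 1 := by ring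
  have hd : X ^ (n + n) ∣ (w - 1) * (w' - 1) := by rw [pow_add]; exact mul_dvd_mul hw hw'
  have h0 : coeff n ((w - 1) * (w' - 1)) = 0 := (X_pow_dvd_iff.mp hd) n (by omega)
  rw [e, map_sub, map_add, map_add, h0, coeff_one_of_pos hn]; ring

lemma coeff_npow' {n : ℕ} (hn : 0 < n) (w : (PowerSeries k)ˣ) (r : ℕ)
    (hw : X ^ n ∣ (w : PowerSeries k) - 1) :
    coeff n ((w ^ r : (PowerSeries k)ˣ) : PowerSeries k)
      = (r : k) * coeff n (w : PowerSeries k) := by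
  induction r with
  | zero => simp [coeff_one_of_pos hn]
  | succ r ih =>
    rw [pow_succ, Units.val_mul, coeff_mul' hn (dvd_npow' w r hw) hw, ih]; push_cast; ring

lemma coeff_inv' {n : ℕ} (hn : 0 < n) (w : (PowerSeries k)ˣ)
    (hw : X ^ n ∣ (w : PowerSeries k) - 1) :
    coeff n ((w⁻¹ : (PowerSeries k)ˣ) : PowerSeries k) = - coeff n (w : PowerSeries k) := by
  have := coeff_mul' hn hw (dvd_inv' w hw)
  rw [w.mul_inv, coeff_one_of_pos hn] at this
  linear_combination -this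

lemma coeff_zpow' {n : ℕ} (hn : 0 < n) (w : (PowerSeries k)ˣ) (j : ℤ)
    (hw : X ^ n ∣ (w : PowerSeries k) - 1) :
    coeff n ((w ^ j : (PowerSeries k)ˣ) : PowerSeries k)
      = (j : k) * coeff n (w : PowerSeries k) := by
  obtain ⟨r, rfl | rfl⟩ := Int.eq_nat_or_neg j
  · rw [zpow_natCast, coeff_npow' hn w r hw]; simp
  · rw [zpow_neg, zpow_natCast, ← inv_pow, coeff_npow' hn _ r (dvd_inv' w hw), coeff_inv' hn w hw]
    simp

lemma coeff_X_mul_of_pos {n : ℕ} (hn : 0 < n) (Y : PowerSeries k) :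
    coeff n (X * Y) = coeff (n - 1) Y := by
  obtain ⟨n', rfl⟩ := Nat.exists_eq_succ_of_ne_zero hn.ne'
  simp [coeff_succ_X_mul]

lemma root_unique {n : ℕ} (hn : (n : k) ≠ 0) {a b : PowerSeries k}
    (ha : constantCoeff a = 1) (hb : constantCoeff b = 1) (h : a ^ n = b ^ n) : a = b := by
  have key := Commute.geom_sum₂_mul (Commute.all a b) n
  rw [h, sub_self] at key
  have hS : IsUnit (∑ i ∈ Finset.range n, a ^ i * b ^ (n - 1 - i)) := by
    rw [PowerSeries.isUnit_iff_constantCoeff]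
    simp [map_sum, ha, hb, hn]
  exact sub_eq_zero.mp ((hS.mul_right_eq_zero).mp key)

end general

namespace Setup

variable {p n : ℕ} {u : PowerSeries k} {uU : (PowerSeries k)ˣ}
  {σ : PowerSeries k →+* PowerSeries k}

lemma hnk (S : Setup p n u uU σ) : (n : k) ≠ 0 := by
  haveI := S.hchar
  intro h0
  exact S.hpn ((CharP.cast_eq_zero_iff k p n).mp h0)

lemma hp0 (S : Setup p n u uU σ) : ((p : ℕ) : PowerSeries k) = 0 := by
  haveI := S.hchar
  rw [← map_natCast (C : k →+* PowerSeries k), CharP.cast_eq_zero, map_zero]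

lemma constantCoeff_σ (S : Setup p n u uU σ) (f : PowerSeries k) :
    constantCoeff (σ f) = constantCoeff f := by
  obtain ⟨G1, g0, rfl⟩ : ∃ G1 g0, f = X * G1 + C g0 :=
    ⟨_, _, eq_X_mul_shift_add_const f⟩
  rw [map_add, map_mul, S.hσX, S.hσC]
  simp

lemma Tw_X_pow_mul (S : Setup p n u uU σ) (e : ℤ) (j : ℕ) (h : PowerSeries k) :
    Tw uU σ e (X ^ j * h) = X ^ j * Tw uU σ (e + j) h := by
  simp only [Tw, map_mul, map_pow, S.hσX, mul_pow, zpow_add, zpow_natCast, Units.val_mul,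
    Units.val_pow_eq_pow_val, S.huU]
  ring

lemma Tw_C_mul (S : Setup p n u uU σ) (e : ℤ) (r : k) (h : PowerSeries k) :
    Tw uU σ e (C r * h) = C r * Tw uU σ e h := by
  simp only [Tw, map_mul, S.hσC]
  ring

lemma Tw_smul (S : Setup p n u uU σ) (e : ℤ) (r : k) (h : PowerSeries k) :
    Tw uU σ e (r • h) = r • Tw uU σ e h := by
  rw [smul_eq_C_mul, smul_eq_C_mul, S.Tw_C_mul]

lemma dvd_u (S : Setup p n u uU σ) : X ^ n ∣ u - 1 := by
  have hgeo := geom_sum_mul u n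
  have hS : IsUnit (∑ i ∈ Finset.range n, u ^ i) := by
    rw [PowerSeries.isUnit_iff_constantCoeff]
    simp [map_sum, S.hu1, S.hnk]
  obtain ⟨S', hS'⟩ := hS.exists_left_inv
  refine ⟨-(S' * u ^ n), ?_⟩
  linear_combination (-(u - 1)) * hS' + S' * hgeo + S' * S.hun

lemma dvd_uU (S : Setup p n u uU σ) : X ^ n ∣ (uU : PowerSeries k) - 1 := by
  rw [S.huU]; exact S.dvd_u

lemma dvd_zpow (S : Setup p n u uU σ) (e : ℤ) :
    X ^ n ∣ ((uU ^ e : (PowerSeries k)ˣ) : PowerSeries k) - 1 :=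
  dvd_zpow' uU e S.dvd_uU

lemma dvd_σ (S : Setup p n u uU σ) {f : PowerSeries k} (hf : X ^ n ∣ f - 1) :
    X ^ n ∣ σ f - 1 := by
  obtain ⟨c', hc'⟩ := hf
  refine ⟨u ^ n * σ c', ?_⟩
  have : σ f - 1 = σ (f - 1) := by rw [map_sub, map_one]
  rw [this, hc', map_mul, map_pow, S.hσX, mul_pow]
  ring

lemma lam_eq (S : Setup p n u uU σ) : (n : k) * coeff n u = -1 := by
  have hq1 : X ^ n ∣ u ^ n - 1 := by
    have := dvd_npow' uU n S.dvd_uU
    rwa [Units.val_pow_eq_pow_val, S.huU] at this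
  have h1 := coeff_mul' S.hn hq1 (show X ^ n ∣ (1 + X ^ n : PowerSeries k) - 1 by simp)
  rw [S.hun, coeff_one_of_pos S.hn] at h1
  have h2 := coeff_npow' S.hn uU n S.dvd_uU
  rw [Units.val_pow_eq_pow_val, S.huU] at h2
  rw [h2, map_add, coeff_one_of_pos S.hn, coeff_X_pow_self, zero_add] at h1
  linear_combination -h1

lemma lam_ne (S : Setup p n u uU σ) : coeff n u ≠ 0 := by
  intro h0
  have := S.lam_eq
  rw [h0, mul_zero] at this
  exact absurd this (by norm_num)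

/-- the basic identity -/
lemma E (S : Setup p n u uU σ) (i : ℤ) (G1 : PowerSeries k) (g0 : k) :
    Tw uU σ i (X * G1 + C g0) - (X * G1 + C g0)
      = X * (Tw uU σ (i + 1) G1 - G1)
        + C g0 * (((uU ^ i : (PowerSeries k)ˣ) : PowerSeries k) - 1) := by
  have e1 : ((uU ^ (i + 1) : (PowerSeries k)ˣ) : PowerSeries k)
      = ((uU ^ i : (PowerSeries k)ˣ) : PowerSeries k) * u := by
    rw [zpow_add_one, Units.val_mul, S.huU]
  simp only [Tw]
  rw [e1, map_add, map_mul, S.hσX, S.hσC]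
  ring

lemma P (S : Setup p n u uU σ) : ∀ r : ℕ, r ≤ n → ∀ (i : ℤ) (G : PowerSeries k),
    X ^ r ∣ Tw uU σ i G - G := by
  intro r
  induction r with
  | zero => intro _ i G; rw [pow_zero]; exact one_dvd _
  | succ r ih =>
    intro hr i G
    obtain ⟨G1, g0, rfl⟩ : ∃ G1 g0, G = X * G1 + C g0 :=
      ⟨_, _, eq_X_mul_shift_add_const G⟩
    rw [S.E]
    apply dvd_add
    · rw [pow_succ']; exact mul_dvd_mul_left X (ih (by omega) (i + 1) G1)
    · exact Dvd.dvd.mul_left ((pow_dvd_pow X hr).trans (S.dvd_zpow i)) _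

lemma K (S : Setup p n u uU σ) (i : ℤ) (G : PowerSeries k) :
    coeff n (Tw uU σ i G - G) = constantCoeff G * ((i : k) * coeff n u) := by
  obtain ⟨G1, g0, rfl⟩ : ∃ G1 g0, G = X * G1 + C g0 :=
    ⟨_, _, eq_X_mul_shift_add_const G⟩
  have h0 : coeff (n - 1) (Tw uU σ (i + 1) G1 - G1) = 0 :=
    (X_pow_dvd_iff.mp (S.P n le_rfl (i + 1) G1)) (n - 1) (by have := S.hn; omega)
  rw [S.E, map_add, coeff_X_mul_of_pos S.hn, h0, coeff_C_mul, map_sub, coeff_one_of_pos S.hn,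
    coeff_zpow' S.hn uU i S.dvd_uU, S.huU, sub_zero]
  simp

/-- if `X^(n+1)` divides `Tw i G - G` and `p ∤ i` then the constant coefficient of `G` is `0` -/
lemma const_eq_zero (S : Setup p n u uU σ) (i : ℤ) (hi : ¬ (p : ℤ) ∣ i) (G : PowerSeries k)
    (hG : coeff n (Tw uU σ i G - G) = 0) : constantCoeff G = 0 := by
  haveI := S.hchar
  rw [S.K] at hG
  have hcast : ((i : ℤ) : k) ≠ 0 := by
    intro h0
    exact hi ((CharP.intCast_eq_zero_iff k p _).mp h0)
  rcases mul_eq_zero.mp hG with h | h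
  · exact h
  · exact absurd h (mul_ne_zero hcast S.lam_ne)

end Setup

end Groth.Agent.Lib.helper13.ASCov
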