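import Groth.Agent.Lib.helper13.ASCov2

/-!
# The order-`p` automorphism `t ↦ t·u`: iterates, invariants, independence, reduction (helper13)
-/

set_option autoImplicit false
universe u

namespace Groth.Agent.Lib.helper13.ASCov

open PowerSeries

variable {k : Type u} [Field k]

/-- the units `U_l` with `σ^l(X) = X · U_l` -/
noncomputable def UU (uU : (PowerSeries k)ˣ) (σ : PowerSeries k →+* PowerSeries k) (l : ℕ) :
    (PowerSeries k)ˣ :=
  (fun x => uU * Units.map (σ : PowerSeries k →* PowerSeries k) x)^[l] 1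

/-- the index set `{1 ≤ m ≤ n : p ∤ a - m}` -/
def Mset (p n : ℕ) (a : ℤ) : Finset ℕ :=
  (Finset.Icc 1 n).filter (fun m : ℕ => ¬ (p : ℤ) ∣ a - (m : ℤ))

section general

variable {uU : (PowerSeries k)ˣ} {σ : PowerSeries k →+* PowerSeries k}

lemma UU_zero : UU uU σ 0 = 1 := rfl

lemma UU_succ (l : ℕ) :
    UU uU σ (l + 1) = uU * Units.map (σ : PowerSeries k →* PowerSeries k) (UU uU σ l) :=
  Function.iterate_succ_apply' _ _ _

lemma UU_succ_val (l : ℕ) :
    (UU uU σ (l + 1) : PowerSeries k) = (uU : PowerSeries k) * σ (UU uU σ l : PowerSeries k) := by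
  rw [UU_succ, Units.val_mul, Units.coe_map]
  rfl

lemma iterate_Tw (e : ℤ) (l : ℕ) (h : PowerSeries k) :
    (Tw uU σ e)^[l] h = (((UU uU σ l) ^ e : (PowerSeries k)ˣ) : PowerSeries k) * σ^[l] h := by
  induction l with
  | zero => simp [UU_zero]
  | succ l ih =>
    rw [Function.iterate_succ_apply', ih, Function.iterate_succ_apply', UU_succ, mul_zpow,
      ← map_zpow, Units.val_mul, Units.coe_map]
    simp only [Tw, map_mul]
    rw [mul_assoc]
    rfl

end general

namespace Setup

variable {p n : ℕ} {u : PowerSeries k} {uU : (PowerSeries k)ˣ}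
  {σ : PowerSeries k →+* PowerSeries k}

lemma UU_const (S : Setup p n u uU σ) (l : ℕ) :
    constantCoeff (UU uU σ l : PowerSeries k) = 1 := by
  induction l with
  | zero => simp [UU_zero]
  | succ l ih => rw [UU_succ_val, map_mul, S.constantCoeff_σ, ih, S.huU, S.hu1, mul_one]

lemma iterate_σ_X (S : Setup p n u uU σ) (l : ℕ) :
    σ^[l] X = X * (UU uU σ l : PowerSeries k) := by
  induction l with
  | zero => simp [UU_zero]
  | succ l ih =>
    rw [Function.iterate_succ_apply', ih, map_mul, S.hσX, UU_succ_val, S.huU]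
    ring

lemma UU_pow (S : Setup p n u uU σ) (l : ℕ) :
    (X * (UU uU σ l : PowerSeries k)) ^ n * (1 + (l : PowerSeries k) * X ^ n) = X ^ n := by
  induction l with
  | zero => simp [UU_zero]
  | succ l ih =>
    have e1 : X * (UU uU σ (l + 1) : PowerSeries k) = σ (X * (UU uU σ l : PowerSeries k)) := by
      rw [UU_succ_val, map_mul, S.hσX, S.huU]; ring
    have e2 : σ ((X * (UU uU σ l : PowerSeries k)) ^ n) * σ (1 + (l : PowerSeries k) * X ^ n)
        = σ (X ^ n) := by
      rw [← map_mul, ih]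
    have e3 : σ (1 + (l : PowerSeries k) * X ^ n)
        = 1 + (l : PowerSeries k) * (X ^ n * u ^ n) := by
      rw [map_add, map_one, map_mul, map_natCast, map_pow, S.hσX, mul_pow]
    have e4 : σ (X ^ n) = X ^ n * u ^ n := by rw [map_pow, S.hσX, mul_pow]
    rw [e3, e4] at e2
    rw [e1, ← map_pow, Nat.cast_succ]
    linear_combination (1 + X ^ n) * e2 +
      (X ^ n - σ ((X * (UU uU σ l : PowerSeries k)) ^ n) * (l : PowerSeries k) * X ^ n) * S.hun

lemma UU_p (S : Setup p n u uU σ) : UU uU σ p = 1 := by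
  apply Units.ext
  have h := S.UU_pow p
  rw [S.hp0, zero_mul, add_zero, mul_one, mul_pow] at h
  have h' : (UU uU σ p : PowerSeries k) ^ n = 1 := by
    have hX : (X : PowerSeries k) ^ n ≠ 0 := pow_ne_zero n X_ne_zero
    apply mul_left_cancel₀ hX
    rw [h, mul_one]
  apply root_unique S.hnk (S.UU_const p) (by simp)
  rw [h', Units.val_one, one_pow]

lemma dvd_UU (S : Setup p n u uU σ) (l : ℕ) : X ^ n ∣ (UU uU σ l : PowerSeries k) - 1 := by
  induction l with
  | zero => rw [UU_zero, Units.val_one, sub_self]; exact dvd_zero _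
  | succ l ih => rw [UU_succ_val]; exact dvd_mul' S.dvd_uU (S.dvd_σ ih)

lemma iterate_Tw_p (S : Setup p n u uU σ) (e : ℤ) (h : PowerSeries k) :
    (Tw uU σ e)^[p] h = σ^[p] h := by
  rw [iterate_Tw, S.UU_p, one_zpow, Units.val_one, one_mul]

/-- for `p ∣ e` there is a `Tw e`-invariant unit with constant coefficient `1` -/
lemma exists_invariant (S : Setup p n u uU σ) (e : ℤ) (he : (p : ℤ) ∣ e) :
    ∃ ψ : PowerSeries k, constantCoeff ψ = 1 ∧ Tw uU σ e ψ = ψ := by
  set vU : (PowerSeries k)ˣ := ∏ l ∈ Finset.range p, UU uU σ l with hv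
  have hCU : uU ^ p * Units.map (σ : PowerSeries k →* PowerSeries k) vU = vU := by
    have h1 : uU ^ p * Units.map (σ : PowerSeries k →* PowerSeries k) vU
        = ∏ l ∈ Finset.range p, UU uU σ (l + 1) := by
      rw [hv, map_prod]
      have : uU ^ p = ∏ _l ∈ Finset.range p, uU := by
        rw [Finset.prod_const, Finset.card_range]
      rw [this, ← Finset.prod_mul_distrib]
      exact Finset.prod_congr rfl (fun l _ => (UU_succ l).symm)
    have h2 := Finset.prod_range_succ' (UU uU σ) p
    have h3 := Finset.prod_range_succ (UU uU σ) p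
    rw [h2, UU_zero, S.UU_p, mul_one, mul_one] at h3
    rw [h1, h3]
  have Qv : X ^ n ∣ (vU : PowerSeries k) - 1 := by
    rw [hv]
    refine Finset.prod_induction (s := Finset.range p) (UU uU σ)
      (fun w : (PowerSeries k)ˣ => X ^ n ∣ (w : PowerSeries k) - 1) ?_ ?_ (fun l _ => S.dvd_UU l)
    · intro a b ha hb
      rw [Units.val_mul]
      exact dvd_mul' ha hb
    · rw [Units.val_one, sub_self]; exact dvd_zero _
  obtain ⟨J, hJ⟩ := he
  refine ⟨((vU ^ J : (PowerSeries k)ˣ) : PowerSeries k), ?_, ?_⟩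
  · have hq : X ∣ ((vU ^ J : (PowerSeries k)ˣ) : PowerSeries k) - 1 :=
      (dvd_pow_self X S.hn.ne').trans (dvd_zpow' vU J Qv)
    rw [X_dvd_iff, map_sub, map_one, sub_eq_zero] at hq
    exact hq
  · have hW : uU ^ e * Units.map (σ : PowerSeries k →* PowerSeries k) (vU ^ J) = vU ^ J := by
      rw [hJ, zpow_mul, zpow_natCast, map_zpow, ← mul_zpow, hCU]
    have := congrArg Units.val hW
    rwa [Units.val_mul, Units.coe_map] at this

/-- the classes `c m` are independent modulo the image of `Tw a - 1` -/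
theorem indep (S : Setup p n u uU σ) (a : ℤ) (c : ℕ → PowerSeries k)
    (hc : ∀ m : ℕ, 1 ≤ m → m ≤ n →
      X ^ m * c m = ((uU ^ (a - m) : (PowerSeries k)ˣ) : PowerSeries k) - 1)
    (coef : ℕ → k) (h : PowerSeries k)
    (hh : Tw uU σ a h - h = ∑ m ∈ Mset p n a, coef m • c m) :
    ∀ m ∈ Mset p n a, coef m = 0 := by
  classical
  intro m hm
  by_contra hne
  set M := Mset p n a with hM
  set T := M.filter (fun m => coef m ≠ 0) with hT
  have hTne : T.Nonempty := ⟨m, Finset.mem_filter.mpr ⟨hm, hne⟩⟩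
  set m₀ := T.max' hTne with hm₀
  have hm₀T : m₀ ∈ T := Finset.max'_mem T hTne
  have hm₀M : m₀ ∈ M := (Finset.mem_filter.mp hm₀T).1
  have hm₀c : coef m₀ ≠ 0 := (Finset.mem_filter.mp hm₀T).2
  obtain ⟨hm₀I, hm₀p⟩ := Finset.mem_filter.mp hm₀M
  obtain ⟨hm₀1, hm₀n⟩ := Finset.mem_Icc.mp hm₀I
  have hle : ∀ m ∈ T, m ≤ m₀ := fun m hm => Finset.le_max' T m hm
  have hsum : ∑ m ∈ M, coef m • c m = ∑ m ∈ T, C (coef m) * c m := by
    rw [hT, Finset.sum_filter (fun m => coef m ≠ 0) (fun m => C (coef m) * c m)]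
    apply Finset.sum_congr rfl
    intro m _
    by_cases h0 : coef m = 0
    · simp [h0]
    · simp [h0, smul_eq_C_mul]
  set G : PowerSeries k := ∑ m ∈ T, C (coef m) * X ^ (m₀ - m) - X ^ m₀ * h with hG
  have hGeq : Tw uU σ (a - m₀) G - G = 0 := by
    have t1 : ∀ m ∈ T, Tw uU σ (a - m₀) (C (coef m) * X ^ (m₀ - m)) - C (coef m) * X ^ (m₀ - m)
        = X ^ m₀ * (C (coef m) * c m) := by
      intro m hmT
      have hmle := hle m hmT
      have hmM := (Finset.mem_filter.mp hmT).1
      obtain ⟨hmI, _⟩ := Finset.mem_filter.mp hmM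
      obtain ⟨hm1, hmn⟩ := Finset.mem_Icc.mp hmI
      have hexp : (a - (m₀ : ℤ) + ((m₀ - m : ℕ) : ℤ)) = a - m := by
        push_cast [Nat.cast_sub hmle]; ring
      have hX : (X : PowerSeries k) ^ m₀ = X ^ (m₀ - m) * X ^ m := by
        rw [← pow_add]; congr 1; omega
      have := S.Tw_X_pow_mul (a - m₀) (m₀ - m) (1 : PowerSeries k)
      rw [mul_one, hexp, Tw_one] at this
      rw [S.Tw_C_mul, this, hX]
      linear_combination (C (coef m) * X ^ (m₀ - m)) * (hc m hm1 hmn).symm
    have t2 : Tw uU σ (a - m₀) (X ^ m₀ * h) = X ^ m₀ * Tw uU σ a h := by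
      rw [S.Tw_X_pow_mul, sub_add_cancel]
    rw [hG, Tw_sub, Tw_sum, t2]
    have : ∑ m ∈ T, Tw uU σ (a - m₀) (C (coef m) * X ^ (m₀ - m)) - X ^ m₀ * Tw uU σ a h
        - (∑ m ∈ T, C (coef m) * X ^ (m₀ - m) - X ^ m₀ * h)
        = ∑ m ∈ T, (Tw uU σ (a - m₀) (C (coef m) * X ^ (m₀ - m)) - C (coef m) * X ^ (m₀ - m))
          - X ^ m₀ * (Tw uU σ a h - h) := by
      rw [Finset.sum_sub_distrib]; ring
    rw [this, Finset.sum_congr rfl t1, hh, hsum, ← Finset.mul_sum, sub_self]
  have hG0 : constantCoeff G = coef m₀ := by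
    rw [hG, map_sub, map_sum, map_mul, map_pow, constantCoeff_X, zero_pow (by omega), zero_mul,
      sub_zero]
    rw [Finset.sum_eq_single m₀]
    · simp
    · intro m hmT hmne
      have : m₀ - m ≠ 0 := by have := hle m hmT; omega
      simp [this]
    · intro h; exact absurd hm₀T h
  have := S.const_eq_zero (a - m₀) hm₀p G (by rw [hGeq, map_zero])
  rw [hG0] at this
  exact hm₀c this

/-- the reduction step: solutions of the twisted equation in a larger module can be pushed down -/
theorem reduce (S : Setup p n u uU σ) (a : ℤ) (c : ℕ → PowerSeries k)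
    (hc : ∀ m : ℕ, 1 ≤ m → m ≤ n →
      X ^ m * c m = ((uU ^ (a - m) : (PowerSeries k)ˣ) : PowerSeries k) - 1) :
    ∀ (j : ℕ) (f w : PowerSeries k), Tw uU σ (a - j) f - f = X ^ j * w →
      ∃ (h : PowerSeries k) (coef : ℕ → k),
        w = Tw uU σ a h - h + ∑ m ∈ Mset p n a, coef m • c m := by
  classical
  intro j
  induction j with
  | zero =>
    intro f w hfw
    refine ⟨f, fun _ => 0, ?_⟩
    rw [Nat.cast_zero, sub_zero, pow_zero, one_mul] at hfw
    simp [hfw]
  | succ j ih =>
    intro f w hfw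
    set e : ℤ := a - ((j + 1 : ℕ) : ℤ) with he
    have he1 : e + 1 = a - j := by rw [he]; push_cast; ring
    -- the step
    have step : ∀ f' w' : PowerSeries k, constantCoeff f' = 0 →
        Tw uU σ e f' - f' = X ^ (j + 1) * w' →
        ∃ (h : PowerSeries k) (coef : ℕ → k),
          w' = Tw uU σ a h - h + ∑ m ∈ Mset p n a, coef m • c m := by
      intro f' w' hf' hfw'
      obtain ⟨f1, rfl⟩ := X_dvd_iff.mpr hf'
      have h1 := S.Tw_X_pow_mul e 1 f1
      rw [pow_one, Nat.cast_one, he1] at h1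
      rw [h1, pow_succ', mul_assoc, ← mul_sub] at hfw'
      exact ih f1 w' (mul_left_cancel₀ X_ne_zero hfw')
    by_cases hpe : (p : ℤ) ∣ e
    · obtain ⟨ψ, hψ1, hψ⟩ := S.exists_invariant e hpe
      refine step (f - C (constantCoeff f) * ψ) w ?_ ?_
      · rw [map_sub, map_mul, hψ1]; simp
      · rw [Tw_sub, S.Tw_C_mul, hψ, ← hfw]; ring
    · by_cases hjn : j + 1 ≤ n
      · have hcj := hc (j + 1) (by omega) hjn
        rw [← he] at hcj
        obtain ⟨h, coef, hw⟩ := step (f - C (constantCoeff f)) (w - C (constantCoeff f) * c (j + 1))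
          (by simp) (by
            have h1 : Tw uU σ e (C (constantCoeff f))
                = C (constantCoeff f) * ((uU ^ e : (PowerSeries k)ˣ) : PowerSeries k) := by
              have := S.Tw_C_mul e (constantCoeff f) 1
              rwa [mul_one, Tw_one] at this
            rw [Tw_sub, h1]
            linear_combination hfw + C (constantCoeff f) * hcj)
        have hmem : j + 1 ∈ Mset p n a := by
          rw [Mset, Finset.mem_filter, Finset.mem_Icc]
          exact ⟨⟨by omega, hjn⟩, hpe⟩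
        refine ⟨h, fun m => coef m + if m = j + 1 then constantCoeff f else 0, ?_⟩
        have hs : ∑ m ∈ Mset p n a,
            (coef m + if m = j + 1 then constantCoeff f else 0) • c m
            = ∑ m ∈ Mset p n a, coef m • c m + C (constantCoeff f) * c (j + 1) := by
          simp only [add_smul, Finset.sum_add_distrib, ite_smul, zero_smul]
          rw [Finset.sum_ite_eq' (Mset p n a) (j + 1) (fun m => constantCoeff f • c m), if_pos hmem,
            smul_eq_C_mul]
        rw [hs]
        linear_combination hw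
      · have hz : coeff n (Tw uU σ e f - f) = 0 := by
          rw [hfw, coeff_X_pow_mul', if_neg hjn]
        have hf0 := S.const_eq_zero e hpe f hz
        exact step f w hf0 hfw

end Setup

end Groth.Agent.Lib.helper13.ASCov
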