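import Groth.Agent.Lib.helper13.ASCov3

/-!
# The order-`p` automorphism `t ↦ t·u`: additive Hilbert 90 and the cocycles `c m` (helper13)
-/

set_option autoImplicit false
universe u

namespace Groth.Agent.Lib.helper13.ASCov

open PowerSeries

variable {k : Type u} [Field k]

lemma sum_shift {M : Type*} [AddCommGroup M] (τ : ℕ → M) (p : ℕ) (h : τ p = τ 0) :
    ∑ l ∈ Finset.range p, τ (l + 1) = ∑ l ∈ Finset.range p, τ l := by
  have h2 := Finset.sum_range_succ' τ p
  have h3 := Finset.sum_range_succ τ p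
  rw [h2, h] at h3
  exact add_right_cancel h3

section general

variable {uU : (PowerSeries k)ˣ} {σ : PowerSeries k →+* PowerSeries k}

lemma iterate_Tw_sub (e : ℤ) (l : ℕ) (x y : PowerSeries k) :
    (Tw uU σ e)^[l] (x - y) = (Tw uU σ e)^[l] x - (Tw uU σ e)^[l] y := by
  induction l generalizing x y with
  | zero => rfl
  | succ l ih => rw [Function.iterate_succ_apply, Tw_sub, ih, ← Function.iterate_succ_apply,
      ← Function.iterate_succ_apply]

end general

namespace Setup

variable {p n : ℕ} {u : PowerSeries k} {uU : (PowerSeries k)ˣ}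
  {σ : PowerSeries k →+* PowerSeries k}

/-- the iterates of `σ` on `X` are distinct for `l < p` -/
lemma iterate_σ_injective (S : Setup p n u uU σ) {l l' : ℕ} (hl : l < p) (hl' : l' < p)
    (h : σ^[l] X = σ^[l'] X) : l = l' := by
  haveI := S.hchar
  rw [S.iterate_σ_X, S.iterate_σ_X] at h
  have hU : (UU uU σ l : PowerSeries k) = UU uU σ l' := mul_left_cancel₀ X_ne_zero h
  have h1 := S.UU_pow l
  have h2 := S.UU_pow l'
  rw [hU] at h1
  have hne : (X * (UU uU σ l' : PowerSeries k)) ^ n ≠ 0 :=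
    pow_ne_zero _ (mul_ne_zero X_ne_zero (Units.ne_zero _))
  have h3 : (1 + (l : PowerSeries k) * X ^ n) = 1 + (l' : PowerSeries k) * X ^ n :=
    mul_left_cancel₀ hne (h1.trans h2.symm)
  have h4 : (l : PowerSeries k) = l' :=
    mul_right_cancel₀ (pow_ne_zero n X_ne_zero) (add_left_cancel h3)
  have h5 : (l : k) = l' := by
    have := congrArg constantCoeff h4
    simpa using this
  have := (CharP.natCast_eq_natCast k p).mp h5
  exact Nat.ModEq.eq_of_lt_of_lt this hl hl'

lemma exists_trace_ne_zero (S : Setup p n u uU σ) :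
    ∃ θ : PowerSeries k, ∑ l ∈ Finset.range p, σ^[l] θ ≠ 0 := by
  by_contra hcon
  push Not at hcon
  have hli := linearIndependent_monoidHom (PowerSeries k) (PowerSeries k)
  let F : Fin p → (PowerSeries k →* PowerSeries k) := fun l =>
    ((σ ^ (l : ℕ) : PowerSeries k →+* PowerSeries k) : PowerSeries k →* PowerSeries k)
  have hFapp : ∀ (l : Fin p) (x : PowerSeries k), F l x = σ^[(l : ℕ)] x := by
    intro l x
    show (σ ^ (l : ℕ)) x = _
    rw [RingHom.coe_pow]
  have hF : Function.Injective F := by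
    intro l l' h
    apply Fin.ext
    apply S.iterate_σ_injective l.2 l'.2
    have := DFunLike.congr_fun h X
    rwa [hFapp, hFapp] at this
  have hli' := hli.comp F hF
  rw [Fintype.linearIndependent_iff] at hli'
  have := hli' (fun _ => 1) (by
    funext θ
    have h0 := hcon θ
    rw [Finset.sum_range] at h0
    simp only [Finset.sum_apply, Function.comp_apply, one_smul, Pi.zero_apply]
    rw [← h0]
    exact Finset.sum_congr rfl (fun l _ => hFapp l θ)) ⟨0, S.hp.pos⟩
  exact one_ne_zero this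

/-- additive Hilbert 90, in shifted form -/
theorem h90 (S : Setup p n u uU σ) (a : ℤ) (hσp : ∀ h, σ^[p] h = h) (w : PowerSeries k)
    (hw : ∑ l ∈ Finset.range p, (Tw uU σ a)^[l] w = 0) :
    ∃ (j : ℕ) (f : PowerSeries k), Tw uU σ (a - j) f - f = X ^ j * w := by
  obtain ⟨θ, hθ⟩ := S.exists_trace_ne_zero
  set τ : ℕ → PowerSeries k := fun l => σ^[l] θ with hτ
  set Θ := ∑ l ∈ Finset.range p, τ l with hΘ
  have hτs : ∀ l, σ (τ l) = τ (l + 1) := fun l => (Function.iterate_succ_apply' σ l θ).symm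
  have hτp : τ p = τ 0 := hσp θ
  have hσΘ : σ Θ = Θ := by
    rw [hΘ, map_sum]
    simp only [hτs]
    exact sum_shift τ p hτp
  -- partial sums
  set Sl : ℕ → PowerSeries k := fun l => ∑ r ∈ Finset.range l, (Tw uU σ a)^[r] w with hSl
  have hSl0 : Sl 0 = 0 := by simp [hSl]
  have hSlp : Sl p = 0 := hw
  have hSls : ∀ l, Tw uU σ a (Sl l) = Sl (l + 1) - w := by
    intro l
    simp only [hSl]
    rw [Tw_sum, Finset.sum_range_succ' (fun r => (Tw uU σ a)^[r] w) l]
    simp only [Function.iterate_succ_apply', Function.iterate_zero, id_eq]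
    ring
  set f0 := ∑ l ∈ Finset.range p, Sl l * τ l with hf0
  have hTf0 : Tw uU σ a f0 = f0 - w * Θ := by
    have e1 : ∀ l, Tw uU σ a (Sl l * τ l) = (Sl (l + 1) - w) * τ (l + 1) := by
      intro l
      have := Tw_mul (uU := uU) (σ := σ) a 0 (Sl l) (τ l)
      rw [add_zero] at this
      rw [this, hSls, Tw_zero_exp, hτs]
    rw [hf0, Tw_sum]
    simp only [e1, sub_mul]
    rw [Finset.sum_sub_distrib, ← Finset.mul_sum, sum_shift τ p hτp,
      sum_shift (fun l => Sl l * τ l) p (by simp only [hSlp, hSl0, zero_mul])]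
  -- write Θ = X^j ε
  set j := Θ.order.toNat with hj
  set ε := divXPowOrder Θ with hε
  have hΘε : X ^ j * ε = Θ := X_pow_order_mul_divXPowOrder
  have hεu : IsUnit ε := by
    rw [PowerSeries.isUnit_iff_constantCoeff, isUnit_iff_ne_zero]
    intro h0
    exact hθ (constantCoeff_divXPowOrder_eq_zero_iff.mp h0)
  set εU : (PowerSeries k)ˣ := hεu.unit with hεU
  have hεUv : (εU : PowerSeries k) = ε := hεu.unit_spec
  have hinvε : ((uU ^ (j : ℤ) : (PowerSeries k)ˣ) : PowerSeries k) * σ ε = ε := by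
    have h1 : σ Θ = X ^ j * (u ^ j * σ ε) := by
      rw [← hΘε, map_mul, map_pow, S.hσX, mul_pow]; ring
    rw [hσΘ, ← hΘε] at h1
    have h2 := mul_left_cancel₀ (pow_ne_zero j X_ne_zero) h1
    rw [zpow_natCast, Units.val_pow_eq_pow_val, S.huU]
    exact h2.symm
  have hinvU : uU ^ (j : ℤ) * Units.map (σ : PowerSeries k →* PowerSeries k) εU = εU := by
    apply Units.ext
    rw [Units.val_mul, Units.coe_map, hεUv]
    exact hinvε
  have hinvU' : uU ^ (-(j : ℤ)) * Units.map (σ : PowerSeries k →* PowerSeries k) εU⁻¹ = εU⁻¹ := by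
    rw [zpow_neg, map_inv, ← mul_inv, hinvU]
  have hinvε' : Tw uU σ (-(j : ℤ)) ((εU⁻¹ : (PowerSeries k)ˣ) : PowerSeries k)
      = ((εU⁻¹ : (PowerSeries k)ˣ) : PowerSeries k) := by
    have := congrArg Units.val hinvU'
    rwa [Units.val_mul, Units.coe_map] at this
  refine ⟨j, -(((εU⁻¹ : (PowerSeries k)ˣ) : PowerSeries k) * f0), ?_⟩
  have hexp : a - (j : ℤ) = -(j : ℤ) + a := by ring
  rw [hexp, Tw_neg, Tw_mul, hinvε', hTf0, ← hΘε]
  have hmul : ((εU⁻¹ : (PowerSeries k)ˣ) : PowerSeries k) * ε = 1 := by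
    rw [← hεUv]; exact εU.inv_mul
  linear_combination (X ^ j * w) * hmul

/-- the elements `c m` are killed by the norm -/
theorem c_mem_ker (S : Setup p n u uU σ) (a : ℤ) (m : ℕ) (cm : PowerSeries k)
    (hcm : X ^ m * cm = ((uU ^ (a - m) : (PowerSeries k)ˣ) : PowerSeries k) - 1) :
    ∑ l ∈ Finset.range p, (Tw uU σ a)^[l] cm = 0 := by
  have hint : ∀ (l : ℕ) (h : PowerSeries k),
      X ^ m * (Tw uU σ a)^[l] h = (Tw uU σ (a - m))^[l] (X ^ m * h) := by
    intro l
    induction l with
    | zero => intro h; rfl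
    | succ l ih =>
      intro h
      rw [Function.iterate_succ_apply', Function.iterate_succ_apply', ← ih, S.Tw_X_pow_mul,
        sub_add_cancel]
  have hσ1 : σ^[p] (1 : PowerSeries k) = 1 := Function.iterate_fixed (map_one σ) p
  apply mul_left_cancel₀ (pow_ne_zero m (X_ne_zero (R := k)))
  rw [mul_zero, Finset.mul_sum]
  simp only [hint, hcm]
  have e1 : ∀ l, (Tw uU σ (a - m))^[l]
      (((uU ^ (a - m) : (PowerSeries k)ˣ) : PowerSeries k) - 1)
      = (Tw uU σ (a - m))^[l + 1] 1 - (Tw uU σ (a - m))^[l] 1 := by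
    intro l
    rw [iterate_Tw_sub, ← Tw_one (uU := uU) (σ := σ) (a - m), ← Function.iterate_succ_apply]
  simp only [e1]
  rw [Finset.sum_range_sub (fun l => (Tw uU σ (a - m))^[l] 1) p, S.iterate_Tw_p, hσ1]
  simp

end Setup

end Groth.Agent.Lib.helper13.ASCov
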