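import Mathlib

/-!
# Cocycles of a finite cyclic group and the image of a map on `H¹` (helper13)
-/

set_option autoImplicit false
universe u
open CategoryTheory groupCohomology

namespace Groth.Agent.Lib.helper13.ASCov

section cyc

variable {k : Type u} [Field k] {G : Type u} [Group G]
  {V : Type u} [AddCommGroup V] [Module k V]

/-- partial norm sums -/
def pS (g : G) (ρ : Representation k G V) (w : V) (l : ℕ) : V :=
  ∑ r ∈ Finset.range l, (ρ g ^ r) w

variable (g : G) (ρ : Representation k G V)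

lemma pS_zero (w : V) : pS g ρ w 0 = 0 := by simp [pS]

lemma pS_one (w : V) : pS g ρ w 1 = w := by simp [pS]

lemma pS_succ (w : V) (l : ℕ) : pS g ρ w (l + 1) = pS g ρ w l + (ρ g ^ l) w := by
  simp [pS, Finset.sum_range_succ]

lemma pS_add (w : V) (a b : ℕ) :
    pS g ρ w (a + b) = pS g ρ w a + (ρ g ^ a) (pS g ρ w b) := by
  simp only [pS]
  rw [Finset.sum_range_add, map_sum]
  congr 1
  apply Finset.sum_congr rfl
  intro r _
  rw [pow_add, Module.End.mul_apply]

lemma pS_add_mul {N : ℕ} (w : V) (hN : pS g ρ w N = 0) (a t : ℕ) :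
    pS g ρ w (a + N * t) = pS g ρ w a := by
  induction t with
  | zero => simp
  | succ t ih =>
    rw [Nat.mul_succ, ← add_assoc, pS_add, hN, map_zero, add_zero, ih]

lemma pS_modEq {N : ℕ} (w : V) (hN : pS g ρ w N = 0) {a b : ℕ} (h : a ≡ b [MOD N]) :
    pS g ρ w a = pS g ρ w b := by
  have ha : a = a % N + N * (a / N) := (Nat.mod_add_div a N).symm
  have hb : b = b % N + N * (b / N) := (Nat.mod_add_div b N).symm
  rw [ha, hb, pS_add_mul g ρ w hN, pS_add_mul g ρ w hN, h]

lemma pS_sub (v : V) (l : ℕ) : pS g ρ (ρ g v - v) l = (ρ g ^ l) v - v := by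
  induction l with
  | zero => simp [pS_zero]
  | succ l ih =>
    rw [pS_succ, ih, map_sub, pow_succ, Module.End.mul_apply]
    abel

lemma pS_smul (c : k) (w : V) (l : ℕ) : pS g ρ (c • w) l = c • pS g ρ w l := by
  simp [pS, Finset.smul_sum]

lemma cocycle_pow (x : cocycles₁ (Rep.of ρ)) (l : ℕ) : x (g ^ l) = pS g ρ (x g) l := by
  induction l with
  | zero => simp [pS_zero]
  | succ l ih =>
    rw [pow_succ, (mem_cocycles₁_iff x).1 x.2 (g ^ l) g, ih, pS_succ, add_comm]
    congr 1
    show ρ (g ^ l) (x g) = _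
    rw [map_pow]

variable [Finite G] (hg : ∀ x : G, x ∈ Subgroup.zpowers g)

include hg in
lemma exists_pow_eq (h : G) : ∃ l : ℕ, g ^ l = h := by
  have := (mem_powers_iff_mem_zpowers (x := g) (y := h)).mpr (hg h)
  exact Submonoid.mem_powers_iff _ _ |>.mp this

lemma cocycle_norm (x : cocycles₁ (Rep.of ρ)) : pS g ρ (x g) (Nat.card G) = 0 := by
  rw [← cocycle_pow, pow_card_eq_one', cocycles₁_map_one]

include hg in
/-- a cocycle whose value at the generator is a coboundary value is a coboundary -/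
lemma cocycle_coboundary_of_apply (x : cocycles₁ (Rep.of ρ)) (v : V) (hx : x g = ρ g v - v) :
    H1π (Rep.of ρ) x = 0 := by
  rw [H1π_eq_zero_iff]
  refine ⟨v, ?_⟩
  funext h
  obtain ⟨l, rfl⟩ := exists_pow_eq g hg h
  rw [cocycle_pow, hx, pS_sub]
  show ρ (g ^ l) v - v = _
  rw [map_pow]

lemma apply_of_coboundary (x : cocycles₁ (Rep.of ρ)) (hx : H1π (Rep.of ρ) x = 0) :
    ∃ v : V, x g = ρ g v - v := by
  rw [H1π_eq_zero_iff] at hx
  obtain ⟨v, hv⟩ := hx
  refine ⟨v, ?_⟩
  have := congrFun hv g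
  rw [← this]
  rfl

include hg in
/-- every element of the kernel of the norm is the value at the generator of a cocycle -/
lemma exists_cocycle (w : V) (hw : pS g ρ w (Nat.card G) = 0) :
    ∃ x : cocycles₁ (Rep.of ρ), x g = w := by
  classical
  have hord : orderOf g = Nat.card G := orderOf_eq_card_of_forall_mem_zpowers hg
  let e : G → ℕ := fun h => Classical.choose (exists_pow_eq g hg h)
  have he : ∀ h, g ^ e h = h := fun h => Classical.choose_spec (exists_pow_eq g hg h)
  have hval : ∀ (h : G) (l : ℕ), g ^ l = h → pS g ρ w l = pS g ρ w (e h) := by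
    intro h l hl
    apply pS_modEq g ρ w hw
    rw [← hord, ← pow_eq_pow_iff_modEq, hl, he]
  refine ⟨⟨fun h => pS g ρ w (e h), ?_⟩, ?_⟩
  · rw [mem_cocycles₁_iff]
    intro h h'
    have h1 : g ^ (e h + e h') = h * h' := by rw [pow_add, he, he]
    rw [← hval (h * h') _ h1, pS_add, add_comm]
    congr 1
    show _ = ρ h (pS g ρ w (e h'))
    rw [← map_pow, he]
  · show pS g ρ w (e g) = w
    rw [← hval g 1 (pow_one g), pS_one]

end cyc

section rangeBasis

variable {k : Type u} [Field k] {G : Type u} [Group G] [Finite G]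
  {V W : Type u} [AddCommGroup V] [Module k V] [AddCommGroup W] [Module k W]

/-- the map on `H¹` as a linear map between the `H1` types -/
noncomputable def H1map {ρ₀ : Representation k G V} {ρ₁ : Representation k G W}
    (φ : Rep.of ρ₀ ⟶ Rep.of ρ₁) :
    groupCohomology.H1 (Rep.of ρ₀) →ₗ[k] groupCohomology.H1 (Rep.of ρ₁) :=
  ((groupCohomology.functor k G 1).map φ).hom

set_option backward.isDefEq.respectTransparency false in
lemma map_H1π (ρ₀ : Representation k G V) (ρ₁ : Representation k G W)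
    (φ : Rep.of ρ₀ ⟶ Rep.of ρ₁) (x : cocycles₁ (Rep.of ρ₀)) :
    ∃ y : cocycles₁ (Rep.of ρ₁), (∀ h : G, y h = φ.hom (x h)) ∧
      H1map φ (H1π (Rep.of ρ₀) x) = H1π (Rep.of ρ₁) y := by
  refine ⟨mapCocycles₁ (MonoidHom.id G) φ x, fun h => rfl, ?_⟩
  exact H1π_comp_map_apply (A := Rep.of ρ₀) (B := Rep.of ρ₁) (MonoidHom.id G) φ x

theorem cyclic_range_basis (g : G) (hg : ∀ x : G, x ∈ Subgroup.zpowers g)
    (ρ₀ : Representation k G V) (ρ₁ : Representation k G W) (φ : Rep.of ρ₀ ⟶ Rep.of ρ₁)
    {ι : Type} [Fintype ι] (w : ι → V) (hw : ∀ i, pS g ρ₀ (w i) (Nat.card G) = 0)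
    (h_ind : ∀ (lam : ι → k) (v : W), ρ₁ g v - v = ∑ i, lam i • φ.hom (w i) → ∀ i, lam i = 0)
    (h_span : ∀ v : V, pS g ρ₀ v (Nat.card G) = 0 →
      ∃ (v' : W) (lam : ι → k), φ.hom v = ρ₁ g v' - v' + ∑ i, lam i • φ.hom (w i)) :
    Module.Finite k (LinearMap.range ((groupCohomology.functor k G 1).map φ).hom) ∧
      Module.finrank k (LinearMap.range ((groupCohomology.functor k G 1).map φ).hom)
        = Fintype.card ι := by
  classical
  show Module.Finite k (LinearMap.range (H1map φ)) ∧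
    Module.finrank k (LinearMap.range (H1map φ)) = Fintype.card ι
  set Φ := H1map φ with hΦ
  let evg : cocycles₁ (Rep.of ρ₀) →ₗ[k] V :=
    (LinearMap.proj g) ∘ₗ (Submodule.subtype (cocycles₁ (Rep.of ρ₀)))
  have hevg : ∀ x : cocycles₁ (Rep.of ρ₀), evg x = x g := fun _ => rfl
  have hxi : ∀ i, ∃ x : cocycles₁ (Rep.of ρ₀), x g = w i := fun i => exists_cocycle g ρ₀ hg _ (hw i)
  choose xs hxs using hxi
  let b : ι → groupCohomology.H1 (Rep.of ρ₁) := fun i => Φ (H1π (Rep.of ρ₀) (xs i))
  -- the class of a combination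
  have hcomb : ∀ (x : cocycles₁ (Rep.of ρ₀)) (lam : ι → k),
      ∃ y : cocycles₁ (Rep.of ρ₁), y g = φ.hom (x g) - ∑ i, lam i • φ.hom (w i) ∧
        Φ (H1π (Rep.of ρ₀) x) - ∑ i, lam i • b i = H1π (Rep.of ρ₁) y := by
    intro x lam
    obtain ⟨y, hy1, hy2⟩ := map_H1π ρ₀ ρ₁ φ (x - ∑ i, lam i • xs i)
    refine ⟨y, ?_, ?_⟩
    · rw [hy1]
      have : (x - ∑ i, lam i • xs i) g = x g - ∑ i, lam i • w i := by
        rw [← hevg, map_sub, map_sum, hevg]
        congr 1
        apply Finset.sum_congr rfl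
        intro i _
        rw [map_smul, hevg, hxs]
      rw [this, map_sub, map_sum]
      congr 1
      apply Finset.sum_congr rfl
      intro i _
      rw [map_smul]
    · rw [← hy2, map_sub, map_sub, map_sum, map_sum]
      congr 1
      apply Finset.sum_congr rfl
      intro i _
      rw [map_smul, map_smul]
  have hli : LinearIndependent k b := by
    rw [Fintype.linearIndependent_iff]
    intro lam hsum i
    obtain ⟨y, hy1, hy2⟩ := hcomb 0 (fun i => - lam i)
    have hy0 : H1π (Rep.of ρ₁) y = 0 := by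
      rw [← hy2, map_zero, map_zero]
      simp only [neg_smul, Finset.sum_neg_distrib, sub_neg_eq_add, zero_add]
      exact hsum
    obtain ⟨v, hv⟩ := apply_of_coboundary g ρ₁ y hy0
    refine h_ind lam v ?_ i
    rw [← hv, hy1]
    have : (0 : cocycles₁ (Rep.of ρ₀)) g = 0 := rfl
    rw [this, map_zero]
    simp
  have hrange : LinearMap.range Φ = Submodule.span k (Set.range b) := by
    apply le_antisymm
    · rintro _ ⟨z, rfl⟩
      induction z using H1_induction_on with
      | h x =>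
        obtain ⟨v', lam, hv⟩ := h_span (x g) (cocycle_norm g ρ₀ x)
        obtain ⟨y, hy1, hy2⟩ := hcomb x lam
        have hy0 : H1π (Rep.of ρ₁) y = 0 := by
          apply cocycle_coboundary_of_apply g ρ₁ hg y v'
          rw [hy1, hv]
          abel
        rw [hy0, sub_eq_zero] at hy2
        rw [hy2]
        exact Submodule.sum_mem _ fun i _ =>
          Submodule.smul_mem _ _ (Submodule.subset_span ⟨i, rfl⟩)
    · rw [Submodule.span_le]
      rintro _ ⟨i, rfl⟩
      exact ⟨_, rfl⟩
  rw [hrange]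
  exact ⟨FiniteDimensional.span_of_finite k (Set.finite_range b), finrank_span_eq_card hli⟩

end rangeBasis

end Groth.Agent.Lib.helper13.ASCov
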