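import Groth.Agent.Lib.helper13.ASCov4

/-!
# The order-`p` automorphism `t ↦ t·u`: coboundaries and derivatives (helper13)
-/

set_option autoImplicit false
universe u

namespace Groth.Agent.Lib.helper13.ASCov

open PowerSeries

variable {k : Type u} [Field k]

namespace Setup

variable {p n : ℕ} {u : PowerSeries k} {uU : (PowerSeries k)ˣ}
  {σ : PowerSeries k →+* PowerSeries k}

/-- for `p ∣ e` there is a `Tw e`-invariant series congruent to `1` modulo `X^n` -/
lemma exists_invariant' (S : Setup p n u uU σ) (e : ℤ) (he : (p : ℤ) ∣ e) :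
    ∃ ψ : PowerSeries k, X ^ n ∣ ψ - 1 ∧ Tw uU σ e ψ = ψ := by
  set vU : (PowerSeries k)ˣ := ∏ l ∈ Finset.range p, UU uU σ l with hv
  have hCU : uU ^ p * Units.map (σ : PowerSeries k →* PowerSeries k) vU = vU := by
    have h1 : uU ^ p * Units.map (σ : PowerSeries k →* PowerSeries k) vU
        = ∏ l ∈ Finset.range p, UU uU σ (l + 1) := by
      rw [hv, map_prod]
      have : uU ^ p = ∏ _l ∈ Finset.range p, uU := by
        rw [Finset.prod_const, Finset.card_range]
      rw [this, ← Finset.prod_mul_distrib]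
      exact Finset.prod_congr rfl (fun l _ => (UU_succ l).symm)
    have h2 := Finset.prod_range_succ' (UU uU σ) p
    have h3 := Finset.prod_range_succ (UU uU σ) p
    rw [h2, UU_zero, S.UU_p, mul_one, mul_one] at h3
    rw [h1, h3]
  have Qv : X ^ n ∣ (vU : PowerSeries k) - 1 := by
    rw [hv]
    refine Finset.prod_induction (s := Finset.range p) (UU uU σ)
      (fun w : (PowerSeries k)ˣ => X ^ n ∣ (w : PowerSeries k) - 1) ?_ ?_ (fun l _ => S.dvd_UU l)
    · intro a b ha hb
      rw [Units.val_mul]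
      exact dvd_mul' ha hb
    · rw [Units.val_one, sub_self]; exact dvd_zero _
  obtain ⟨J, hJ⟩ := he
  refine ⟨((vU ^ J : (PowerSeries k)ˣ) : PowerSeries k), dvd_zpow' vU J Qv, ?_⟩
  have hW : uU ^ e * Units.map (σ : PowerSeries k →* PowerSeries k) (vU ^ J) = vU ^ J := by
    rw [hJ, zpow_mul, zpow_natCast, map_zpow, ← mul_zpow, hCU]
  have := congrArg Units.val hW
  rwa [Units.val_mul, Units.coe_map] at this

/-- when `p ∣ a - m` the element `c m` is a coboundary -/
theorem exists_coboundary (S : Setup p n u uU σ) (a : ℤ) (m : ℕ) (hmn : m ≤ n)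
    (hdvd : (p : ℤ) ∣ a - m) (cm : PowerSeries k)
    (hcm : X ^ m * cm = ((uU ^ (a - m) : (PowerSeries k)ˣ) : PowerSeries k) - 1) :
    ∃ h : PowerSeries k, Tw uU σ a h - h = cm := by
  obtain ⟨ψ, hψ1, hψ⟩ := S.exists_invariant' (a - m) hdvd
  obtain ⟨h0, hh0⟩ := (pow_dvd_pow X hmn).trans hψ1
  refine ⟨-h0, ?_⟩
  apply mul_left_cancel₀ (pow_ne_zero m (X_ne_zero (R := k)))
  have h1 := S.Tw_X_pow_mul (a - m) m (-h0)
  rw [sub_add_cancel] at h1
  have h2 : X ^ m * -h0 = 1 - ψ := by rw [mul_neg, ← hh0]; ring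
  rw [mul_sub, ← h1, h2, Tw_sub, Tw_one, hψ, hcm]
  ring

/-- `X · u' = - X^n · u^(n+1)` -/
lemma dU (S : Setup p n u uU σ) :
    X * derivative k u = - X ^ n * u ^ (n + 1) := by
  have h := congrArg (derivative k) S.hun
  rw [Derivation.leibniz, derivative_pow, map_add, derivative_one, derivative_pow, derivative_X]
    at h
  simp only [smul_eq_mul, zero_add, mul_one] at h
  have hn1 : n - 1 + 1 = n := Nat.sub_add_cancel S.hn
  have hu : u ^ n = u ^ (n - 1) * u := by rw [← pow_succ, hn1]
  have hX : (X : PowerSeries k) ^ n = X ^ (n - 1) * X := by rw [← pow_succ, hn1]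
  have hnu : IsUnit ((n : ℕ) : PowerSeries k) := by
    rw [← map_natCast (C : k →+* PowerSeries k)]
    exact (isUnit_iff_ne_zero.mpr S.hnk).map C
  have key : ((n : ℕ) : PowerSeries k) * (X * derivative k u + X ^ n * u ^ (n + 1)) = 0 := by
    have hun := S.hun
    rw [pow_succ u n]
    linear_combination (X * u) * h + ((n : PowerSeries k) * u * u ^ n) * hX
      - ((n : PowerSeries k) * X * derivative k u) * hun
      + ((n : PowerSeries k) * (1 + X ^ n) * X * derivative k u) * hu
  have := (hnu.mul_right_eq_zero).mp key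
  linear_combination this

/-- `X · (u^e)' = - e · X^n · u^(e+n)` for all integers `e` -/
lemma dW (S : Setup p n u uU σ) (e : ℤ) :
    X * derivative k ((uU ^ e : (PowerSeries k)ˣ) : PowerSeries k)
      = - (e : PowerSeries k) * X ^ n * ((uU ^ (e + n) : (PowerSeries k)ˣ) : PowerSeries k) := by
  have hnat : ∀ r : ℕ, X * derivative k (u ^ r)
      = - (r : PowerSeries k) * X ^ n * u ^ (r + n) := by
    intro r
    rcases Nat.eq_zero_or_pos r with rfl | hr
    · simp
    · rw [derivative_pow]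
      have hu : u ^ (r + n) = u ^ (r - 1) * u ^ (n + 1) := by
        rw [← pow_add]; congr 1; omega
      rw [hu]
      linear_combination ((r : PowerSeries k) * u ^ (r - 1)) * S.dU
  obtain ⟨r, rfl | rfl⟩ := Int.eq_nat_or_neg e
  · rw [zpow_natCast, Units.val_pow_eq_pow_val, S.huU, hnat, ← Nat.cast_add, zpow_natCast,
      Units.val_pow_eq_pow_val, S.huU]
    simp
  · have h1 := hnat r
    set winv : PowerSeries k := (((uU ^ r)⁻¹ : (PowerSeries k)ˣ) : PowerSeries k) with hwinv
    have e1 : ((uU ^ (-(r : ℤ)) : (PowerSeries k)ˣ) : PowerSeries k) = winv := by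
      rw [zpow_neg, zpow_natCast]
    have h2 : ((uU ^ (-(r : ℤ) + n) : (PowerSeries k)ˣ) : PowerSeries k)
        = winv ^ 2 * u ^ (r + n) := by
      have : uU ^ (-(r : ℤ) + n) = (uU ^ r)⁻¹ ^ 2 * uU ^ (r + n) := by
        rw [← zpow_natCast uU r, ← zpow_natCast uU (r + n), ← zpow_neg, ← zpow_natCast _ 2,
          ← zpow_mul, ← zpow_add]
        congr 1
        push_cast
        ring
      rw [this, Units.val_mul, Units.val_pow_eq_pow_val, Units.val_pow_eq_pow_val, S.huU]
    have hD : derivative k winv = - winv ^ 2 * derivative k (u ^ r) := by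
      rw [hwinv, derivative_inv, Units.val_pow_eq_pow_val, S.huU]
    rw [e1, h2, hD]
    push_cast
    linear_combination (- winv ^ 2) * h1

/-- the derivative of `c⁰_m` is `- m · c¹_(m+1)` -/
lemma dC (S : Setup p n u uU σ) (m : ℕ) (c0 c1 : PowerSeries k)
    (hc0 : X ^ m * c0 = ((uU ^ ((0 : ℤ) - m) : (PowerSeries k)ˣ) : PowerSeries k) - 1)
    (hc1 : X ^ (m + 1) * c1
      = ((uU ^ (((n + 1 : ℕ) : ℤ) - ((m + 1 : ℕ) : ℤ)) : (PowerSeries k)ˣ) : PowerSeries k) - 1) :
    derivative k c0 = - (m : PowerSeries k) * c1 := by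
  have h := congrArg (derivative k) hc0
  rw [Derivation.leibniz, derivative_pow, derivative_X, map_sub, derivative_one, sub_zero,
    mul_one] at h
  simp only [smul_eq_mul] at h
  have hW := S.dW ((0 : ℤ) - m)
  have hexp : (((n + 1 : ℕ) : ℤ) - ((m + 1 : ℕ) : ℤ)) = (0 : ℤ) - m + n := by push_cast; ring
  rw [hexp] at hc1
  have hsplit : ((uU ^ ((0 : ℤ) - m + n) : (PowerSeries k)ˣ) : PowerSeries k)
      = ((uU ^ ((0 : ℤ) - m) : (PowerSeries k)ˣ) : PowerSeries k) * u ^ n := by
    rw [zpow_add, Units.val_mul, zpow_natCast, Units.val_pow_eq_pow_val, S.huU]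
  apply mul_left_cancel₀ (pow_ne_zero (m + 1) (X_ne_zero (R := k)))
  have hXm : (X : PowerSeries k) * ((m : PowerSeries k) * X ^ (m - 1)) = (m : PowerSeries k) * X ^ m := by
    rcases Nat.eq_zero_or_pos m with rfl | hm
    · simp
    · have : X ^ m = (X : PowerSeries k) ^ (m - 1) * X := by
        rw [← pow_succ, Nat.sub_add_cancel hm]
      rw [this]; ring
  rw [hsplit] at hW hc1
  have hun := S.hun
  push_cast at hW
  rw [pow_succ]
  linear_combination X * h - c0 * hXm + hW - (m : PowerSeries k) * hc0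
    + (m : PowerSeries k) * hc1
    + ((m : PowerSeries k) * ((uU ^ ((0 : ℤ) - m) : (PowerSeries k)ˣ) : PowerSeries k)) * hun

end Setup

end Groth.Agent.Lib.helper13.ASCov
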