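import Mathlib

/-!
# Newton polynomials over ℚ

`NR a b` is the Newton relation between sequences `a i = e_{i+1}` (or `λ^{i+1}`) and
`b j = p_{j+1}` (or `ψ^{j+1}`).  `epsP n` expresses `a n` through the `b`'s (over ℚ) and `nuP n`
expresses `b n` through the `a`'s.  (helper13's helper library.)
-/

set_option autoImplicit false

namespace Groth.Agent.Lib.helper13.Newton

open MvPolynomial Finset

universe u

/-- Newton relation: `(n+1) a_n = (-1)^n b_n + Σ_{i<n} (-1)^(n-1-i) a_i b_(n-1-i)`. -/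
def NR {R : Type u} [CommRing R] (a b : ℕ → R) : Prop :=
  ∀ n : ℕ, ((n : R) + 1) * a n =
    (-1) ^ n * b n + ∑ i ∈ range n, (-1) ^ (n - 1 - i) * (a i * b (n - 1 - i))

/-- `a n` as a polynomial in the `b`'s. -/
noncomputable def epsP : ℕ → MvPolynomial ℕ ℚ
  | n => C (1 / ((n : ℚ) + 1)) *
      ((-1 : MvPolynomial ℕ ℚ) ^ n * X n +
        ∑ i : Fin n, (-1 : MvPolynomial ℕ ℚ) ^ (n - 1 - (i : ℕ)) * (epsP (i : ℕ) * X (n - 1 - (i : ℕ))))
decreasing_by exact i.isLt

/-- `b n` as a polynomial in the `a`'s. -/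
noncomputable def nuP : ℕ → MvPolynomial ℕ ℚ
  | n => (-1 : MvPolynomial ℕ ℚ) ^ n *
      (C ((n : ℚ) + 1) * X n -
        ∑ i : Fin n, (-1 : MvPolynomial ℕ ℚ) ^ (n - 1 - (i : ℕ)) * (X (i : ℕ) * nuP (n - 1 - (i : ℕ))))
decreasing_by
  have := i.isLt
  omega

theorem epsP_eq (n : ℕ) : epsP n = C (1 / ((n : ℚ) + 1)) *
    ((-1) ^ n * X n + ∑ i ∈ range n, (-1) ^ (n - 1 - i) * (epsP i * X (n - 1 - i))) := by
  rw [epsP, Finset.sum_range (fun i => (-1 : MvPolynomial ℕ ℚ) ^ (n - 1 - i) * (epsP i * X (n - 1 - i)))]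

theorem nuP_eq (n : ℕ) : nuP n = (-1) ^ n *
    (C ((n : ℚ) + 1) * X n - ∑ i ∈ range n, (-1) ^ (n - 1 - i) * (X i * nuP (n - 1 - i))) := by
  rw [nuP, Finset.sum_range (fun i => (-1 : MvPolynomial ℕ ℚ) ^ (n - 1 - i) * (X i * nuP (n - 1 - i)))]

section Eval

variable {R : Type u} [CommRing R] [Algebra ℚ R]

theorem algebraMap_inv_mul (n : ℕ) : algebraMap ℚ R (1 / ((n : ℚ) + 1)) * ((n : R) + 1) = 1 := by
  have h' : ((n : R) + 1) = algebraMap ℚ R ((n : ℚ) + 1) := by simp
  rw [h', ← map_mul, one_div, inv_mul_cancel₀ (by positivity), map_one]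

theorem eq_aeval_epsP {a b : ℕ → R} (h : NR a b) : ∀ n, a n = aeval b (epsP n) := by
  intro n
  induction n using Nat.strong_induction_on with
  | _ n ih =>
    rw [epsP_eq, map_mul, aeval_C, map_add, map_mul, map_pow, map_neg, map_one, aeval_X, map_sum]
    have hs : ∀ i ∈ range n, aeval b ((-1 : MvPolynomial ℕ ℚ) ^ (n - 1 - i) * (epsP i * X (n - 1 - i))) =
        (-1) ^ (n - 1 - i) * (a i * b (n - 1 - i)) := by
      intro i hi
      rw [map_mul, map_pow, map_neg, map_one, map_mul, aeval_X, ← ih i (Finset.mem_range.mp hi)]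
    rw [Finset.sum_congr rfl hs, ← h n, ← mul_assoc, algebraMap_inv_mul, one_mul]

theorem eq_aeval_nuP {a b : ℕ → R} (h : NR a b) : ∀ n, b n = aeval a (nuP n) := by
  intro n
  induction n using Nat.strong_induction_on with
  | _ n ih =>
    rw [nuP_eq, map_mul, map_pow, map_neg, map_one, map_sub, map_mul, aeval_C, aeval_X, map_sum]
    have hs : ∀ i ∈ range n, aeval a ((-1 : MvPolynomial ℕ ℚ) ^ (n - 1 - i) * (X i * nuP (n - 1 - i))) =
        (-1) ^ (n - 1 - i) * (a i * b (n - 1 - i)) := by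
      intro i hi
      have hlt : n - 1 - i < n := by
        have := Finset.mem_range.mp hi
        omega
      rw [map_mul, map_pow, map_neg, map_one, map_mul, aeval_X, ← ih _ hlt]
    rw [Finset.sum_congr rfl hs]
    have h1 : algebraMap ℚ R ((n : ℚ) + 1) = (n : R) + 1 := by simp
    rw [h1, h n, add_sub_cancel_right, ← mul_assoc, ← pow_add, ← two_mul, pow_mul]
    simp

theorem aeval_epsP_congr {b b' : ℕ → R} : ∀ n, (∀ j, j ≤ n → b j = b' j) →
    aeval b (epsP n) = aeval b' (epsP n) := by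
  intro n
  induction n using Nat.strong_induction_on with
  | _ n ih =>
    intro hb
    rw [epsP_eq]
    simp only [map_mul, aeval_C, map_add, map_pow, map_neg, map_one, aeval_X, map_sum]
    rw [hb n le_rfl]
    congr 2
    apply Finset.sum_congr rfl
    intro i hi
    have hi' := Finset.mem_range.mp hi
    rw [ih i hi' (fun j hj => hb j (by omega)), hb (n - 1 - i) (by omega)]

theorem aeval_nuP_congr {a a' : ℕ → R} : ∀ n, (∀ j, j ≤ n → a j = a' j) →
    aeval a (nuP n) = aeval a' (nuP n) := by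
  intro n
  induction n using Nat.strong_induction_on with
  | _ n ih =>
    intro ha
    rw [nuP_eq]
    simp only [map_mul, aeval_C, map_sub, map_pow, map_neg, map_one, aeval_X, map_sum]
    rw [ha n le_rfl]
    congr 2
    apply Finset.sum_congr rfl
    intro i hi
    have hi' := Finset.mem_range.mp hi
    rw [ih (n - 1 - i) (by omega) (fun j hj => ha j (by omega)), ha i (by omega)]

end Eval

section Symm

variable (σ : Type*) [Fintype σ] (R : Type u) [CommRing R]

theorem neg_one_pow_shift {A : Type*} [Ring A] (n i : ℕ) (hi : i < n) :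
    (-1 : A) ^ (n + i + 1) = (-1) ^ (n - 1 - i) := by
  have : n + i + 1 = (n - 1 - i) + 2 * (i + 1) := by omega
  rw [this, pow_add, pow_mul]
  simp

/-- Newton's identities in the form `NR`. -/
theorem NR_esymm_psum : NR (fun i => esymm σ R (i + 1)) (fun j => psum σ R (j + 1)) := by
  intro n
  have h := mul_esymm_eq_sum σ R (n + 1)
  have hsum : (∑ a ∈ antidiagonal (n + 1) with a.1 < n + 1,
      (-1 : MvPolynomial σ R) ^ a.1 * esymm σ R a.1 * psum σ R a.2) =
      ∑ i ∈ range (n + 1), (-1 : MvPolynomial σ R) ^ i * esymm σ R i * psum σ R (n + 1 - i) := by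
    rw [Finset.sum_filter, Finset.Nat.sum_antidiagonal_eq_sum_range_succ_mk, Finset.sum_range_succ]
    simp only [lt_self_iff_false, if_false, add_zero]
    apply Finset.sum_congr rfl
    intro i hi
    rw [if_pos (Finset.mem_range.mp hi)]
  rw [hsum, Finset.sum_range_succ'] at h
  have hcast : ((n + 1 : ℕ) : MvPolynomial σ R) = (n : MvPolynomial σ R) + 1 := by push_cast; rfl
  change ((n : MvPolynomial σ R) + 1) * esymm σ R (n + 1) = (-1) ^ n * psum σ R (n + 1) +
    ∑ i ∈ range n, (-1) ^ (n - 1 - i) * (esymm σ R (i + 1) * psum σ R (n - 1 - i + 1))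
  rw [← hcast, h, mul_add, Finset.mul_sum, add_comm]
  congr 1
  · simp only [pow_zero, esymm_zero, mul_one, one_mul, Nat.sub_zero]
    rw [show n + 1 + 1 = n + 2 * 1 from rfl, pow_add, pow_mul]
    simp
  · apply Finset.sum_congr rfl
    intro i hi
    have hi' := Finset.mem_range.mp hi
    have h1 : n + 1 - (i + 1) = n - 1 - i + 1 := by omega
    have hsign : (-1 : MvPolynomial σ R) ^ (n + 1 + 1) * (-1) ^ (i + 1) = (-1) ^ (n - 1 - i) := by
      rw [← pow_add]
      have : n + 1 + 1 + (i + 1) = (n - 1 - i) + 2 * (i + 2) := by omega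
      rw [this, pow_add, pow_mul]
      simp
    rw [h1, ← hsign]
    ring

end Symm

end Groth.Agent.Lib.helper13.Newton
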