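import Groth.Agent.Lib.helper13.LogDeriv
import Groth.Agent.Lib.helper13.Newton

/-!
Newton relation between λ-operations and Adams operations in a pre-λ-ring (helper13).
-/

set_option autoImplicit false
universe u

namespace Groth.Agent.Lib.helper13.NewtonLambda

open LambdaRing PowerSeries Finset
open Groth.Agent.Lib.helper13.Lam Groth.Agent.Lib.helper13.LogDeriv Groth.Agent.Lib.helper13.Newton

variable {K : Type u} [CommRing K] [LambdaOps K]

/-- Newton's relation between `λ^{i+1}` and `ψ^{j+1}`. -/
theorem NR_lam_adams (x : K) :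
    NR (fun i => LambdaOps.lam (i + 1) x) (fun j => adamsOp (j + 1) x) := by
  intro n
  have h := congrArg (coeff n) (derivative_lamSeries x)
  rw [coeff_derivative, coeff_mul, Finset.Nat.sum_antidiagonal_eq_sum_range_succ_mk,
    Finset.sum_range_succ'] at h
  simp only [coeff_lamSeries, coeff_logDerivSeries, LambdaOps.lam_zero, Nat.sub_zero, one_mul] at h
  change ((n : K) + 1) * LambdaOps.lam (n + 1) x = (-1) ^ n * adamsOp (n + 1) x +
    ∑ i ∈ range n, (-1) ^ (n - 1 - i) * (LambdaOps.lam (i + 1) x * adamsOp (n - 1 - i + 1) x)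
  rw [mul_comm, h, add_comm]
  congr 1
  apply Finset.sum_congr rfl
  intro i hi
  have hi' := Finset.mem_range.mp hi
  have h1 : n - (i + 1) = n - 1 - i := by omega
  rw [h1]
  ring

theorem logDerivSeries_add (x y : K) :
    logDerivSeries (x + y) = logDerivSeries x + logDerivSeries y := by
  apply logDerivSeries_eq_of_derivative
  rw [lamSeries_add, Derivation.leibniz, derivative_lamSeries, derivative_lamSeries]
  simp only [smul_eq_mul]
  ring

theorem adamsOp_add (k : ℕ) (x y : K) : adamsOp k (x + y) = adamsOp k x + adamsOp k y := by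
  rcases k with _ | k
  · simp [adamsOp]
  · rw [adamsOp_succ, adamsOp_succ, adamsOp_succ, logDerivSeries_add, map_add, mul_add]

end Groth.Agent.Lib.helper13.NewtonLambda
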