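import Mathlib

/-!
Injectivity of the substitution of elementary symmetric polynomials, for one and for two
families of variables (helper13's helper library).
-/

set_option autoImplicit false

namespace Groth.Agent.Lib.helper13.SymmUniv

open MvPolynomial

universe u

variable (R : Type u) [CommRing R] (n : ℕ)

/-- Substitution `X_i ↦ e_{i+1}` in `n` variables is injective. -/
theorem aeval_esymm_injective :
    Function.Injective (aeval (fun i : Fin n => esymm (Fin n) R ((i : ℕ) + 1)) :
      MvPolynomial (Fin n) R → MvPolynomial (Fin n) R) := by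
  intro p q h
  apply esymmAlgHom_fin_injective R (le_refl n)
  apply Subtype.ext
  rw [esymmAlgHom_apply, esymmAlgHom_apply]
  exact h

/-- The two-family substitution. -/
noncomputable def subst₂ : MvPolynomial (Fin n ⊕ Fin n) R →ₐ[R] MvPolynomial (Fin n ⊕ Fin n) R :=
  aeval (Sum.elim (fun k : Fin n => rename Sum.inl (esymm (Fin n) R ((k : ℕ) + 1)))
    (fun k : Fin n => rename Sum.inr (esymm (Fin n) R ((k : ℕ) + 1))))

theorem subst₂_injective : Function.Injective (subst₂ R n) := by
  classical
  let R' := MvPolynomial (Fin n) R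
  let E := sumAlgEquiv R (Fin n) (Fin n)
  let Ψ : R' →ₐ[R] R' := aeval (fun k : Fin n => esymm (Fin n) R ((k : ℕ) + 1))
  have hΨ : Function.Injective Ψ := aeval_esymm_injective R n
  let M : MvPolynomial (Fin n) R' →+* MvPolynomial (Fin n) R' := MvPolynomial.map (Ψ : R' →+* R')
  have hM : Function.Injective M := MvPolynomial.map_injective _ hΨ
  let Θ : MvPolynomial (Fin n) R' →ₐ[R'] MvPolynomial (Fin n) R' :=
    aeval (fun k : Fin n => esymm (Fin n) R' ((k : ℕ) + 1))
  have hΘ : Function.Injective Θ := aeval_esymm_injective R' n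
  have key : ((E : MvPolynomial (Fin n ⊕ Fin n) R →+* MvPolynomial (Fin n) R').comp
      (subst₂ R n : MvPolynomial (Fin n ⊕ Fin n) R →+* MvPolynomial (Fin n ⊕ Fin n) R)) =
      ((Θ : MvPolynomial (Fin n) R' →+* MvPolynomial (Fin n) R').comp M).comp
        (E : MvPolynomial (Fin n ⊕ Fin n) R →+* MvPolynomial (Fin n) R') := by
    apply MvPolynomial.ringHom_ext
    · intro r
      simp [E, M, Θ, subst₂, R']
    · intro i
      rcases i with k | k
      · have h1 : (sumAlgEquiv R (Fin n) (Fin n)) ((rename Sum.inl) (esymm (Fin n) R ((k : ℕ) + 1))) =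
            (mapAlgHom (Algebra.ofId R (MvPolynomial (Fin n) R))) (esymm (Fin n) R ((k : ℕ) + 1)) :=
          DFunLike.congr_fun (sumAlgEquiv_comp_rename_inl (R := R) (S₁ := Fin n) (S₂ := Fin n))
            (esymm (Fin n) R ((k : ℕ) + 1))
        simp only [RingHom.coe_comp, Function.comp_apply, RingHom.coe_coe, subst₂, aeval_X,
          Sum.elim_inl, E, sumAlgEquiv_X_inl, M, map_X, Θ]
        rw [h1, mapAlgHom_apply, map_esymm]
      · have h1 : (sumAlgEquiv R (Fin n) (Fin n)) ((rename Sum.inr) (esymm (Fin n) R ((k : ℕ) + 1))) =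
            (IsScalarTower.toAlgHom R (MvPolynomial (Fin n) R)
              (MvPolynomial (Fin n) (MvPolynomial (Fin n) R))) (esymm (Fin n) R ((k : ℕ) + 1)) :=
          DFunLike.congr_fun (sumAlgEquiv_comp_rename_inr (R := R) (S₁ := Fin n) (S₂ := Fin n))
            (esymm (Fin n) R ((k : ℕ) + 1))
        simp only [RingHom.coe_comp, Function.comp_apply, RingHom.coe_coe, subst₂, aeval_X,
          Sum.elim_inr, E, sumAlgEquiv_X_inr, M, map_C, Θ]
        rw [h1]
        simp [Ψ, R']
  intro p q hpq
  have h1 := DFunLike.congr_fun key p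
  have h2 := DFunLike.congr_fun key q
  simp only [RingHom.coe_comp, Function.comp_apply, RingHom.coe_coe] at h1 h2
  rw [hpq, h2] at h1
  exact E.injective (hM (hΘ h1)).symm

end Groth.Agent.Lib.helper13.SymmUniv
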