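import Groth.Prelude.Def_LambdaSp
import Groth.Agent.Lib.helper13.Newton
import Groth.Agent.Lib.helper13.SymmUniv

/-!
Universal identities for the polynomials `P_n` (`IsMulPoly`) and `Q_{i,j}` (`IsCompPoly`) over ℚ,
expressed through Newton polynomials (helper13's helper library).
-/

set_option autoImplicit false

namespace Groth.Agent.Lib.helper13.UnivIdent

open MvPolynomial Finset
open Groth.Agent.Lib.helper13.Newton Groth.Agent.Lib.helper13.SymmUniv

universe u

/-- Base change ℤ → ℚ commutes with `aeval`. -/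
theorem map_aeval_int {σ τ : Type*} (g : σ → MvPolynomial τ ℤ) (P : MvPolynomial σ ℤ) :
    map (Int.castRingHom ℚ) (aeval g P) =
      aeval (fun i => map (Int.castRingHom ℚ) (g i)) (map (Int.castRingHom ℚ) P) := by
  induction P using MvPolynomial.induction_on with
  | C a => simp
  | add p q hp hq => simp only [map_add, hp, hq]
  | mul_X p i hp => simp only [map_mul, aeval_X, map_X, hp]

theorem esymm_eq_zero_of_lt (R : Type*) [CommSemiring R] (N k : ℕ) (h : N < k) :
    esymm (Fin N) R k = 0 := by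
  rw [esymm, powersetCard_eq_empty.mpr (by simpa using h), sum_empty]

theorem aeval_esymm_nuP (σ : Type*) [Fintype σ] (j : ℕ) :
    aeval (fun i => esymm σ ℚ (i + 1)) (nuP j) = psum σ ℚ (j + 1) :=
  (eq_aeval_nuP (NR_esymm_psum σ ℚ) j).symm

theorem aeval_psum_epsP (σ : Type*) [Fintype σ] (m : ℕ) :
    aeval (fun j => psum σ ℚ (j + 1)) (epsP m) = esymm σ ℚ (m + 1) :=
  (eq_aeval_epsP (NR_esymm_psum σ ℚ) m).symm

section TwoFamilies

variable (n : ℕ)

/-- Truncated left variables. -/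
noncomputable def tvL (i : ℕ) : MvPolynomial (Fin n ⊕ Fin n) ℚ :=
  if h : i < n then X (Sum.inl ⟨i, h⟩) else 0

/-- Truncated right variables. -/
noncomputable def tvR (i : ℕ) : MvPolynomial (Fin n ⊕ Fin n) ℚ :=
  if h : i < n then X (Sum.inr ⟨i, h⟩) else 0

theorem subst₂_tvL (i : ℕ) :
    subst₂ ℚ n (tvL n i) = rename Sum.inl (esymm (Fin n) ℚ (i + 1)) := by
  unfold tvL
  split_ifs with h
  · simp [subst₂]
  · rw [map_zero, esymm_eq_zero_of_lt ℚ n (i + 1) (by omega), map_zero]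

theorem subst₂_tvR (i : ℕ) :
    subst₂ ℚ n (tvR n i) = rename Sum.inr (esymm (Fin n) ℚ (i + 1)) := by
  unfold tvR
  split_ifs with h
  · simp [subst₂]
  · rw [map_zero, esymm_eq_zero_of_lt ℚ n (i + 1) (by omega), map_zero]

theorem subst₂_aeval_tvL_nuP (j : ℕ) :
    subst₂ ℚ n (aeval (tvL n) (nuP j)) = rename Sum.inl (psum (Fin n) ℚ (j + 1)) := by
  rw [comp_aeval_apply]
  simp only [subst₂_tvL]
  rw [← aeval_esymm_nuP (Fin n) j, comp_aeval_apply]

theorem subst₂_aeval_tvR_nuP (j : ℕ) :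
    subst₂ ℚ n (aeval (tvR n) (nuP j)) = rename Sum.inr (psum (Fin n) ℚ (j + 1)) := by
  rw [comp_aeval_apply]
  simp only [subst₂_tvR]
  rw [← aeval_esymm_nuP (Fin n) j, comp_aeval_apply]

/-- The products `T_a U_b`. -/
noncomputable def TU (R : Type*) [CommRing R] (ab : Fin n × Fin n) : MvPolynomial (Fin n ⊕ Fin n) R :=
  X (Sum.inl ab.1) * X (Sum.inr ab.2)

theorem mulGen_eq (k : ℕ) :
    LambdaRing.mulGen n k = aeval (TU n ℤ) (esymm (Fin n × Fin n) ℤ k) := by
  rw [aeval_esymm_eq_multiset_esymm]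
  rfl

theorem map_mulGen (k : ℕ) :
    map (Int.castRingHom ℚ) (LambdaRing.mulGen n k) = aeval (TU n ℚ) (esymm (Fin n × Fin n) ℚ k) := by
  rw [mulGen_eq, map_aeval_int, map_esymm]
  congr 2
  funext ab
  simp [TU]

theorem aeval_TU_psum (k : ℕ) :
    aeval (TU n ℚ) (psum (Fin n × Fin n) ℚ k) =
      rename Sum.inl (psum (Fin n) ℚ k) * rename Sum.inr (psum (Fin n) ℚ k) := by
  simp only [psum, map_sum, map_pow, aeval_X, rename_X, TU]
  rw [Finset.sum_mul_sum, ← Finset.sum_product']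
  apply Finset.sum_congr rfl
  intro ab _
  rw [mul_pow]

/-- The universal identity for `P_n` over ℚ, `n = m + 1`. -/
theorem UI₂ (m : ℕ) (P : MvPolynomial (Fin (m + 1) ⊕ Fin (m + 1)) ℤ)
    (hP : subst₂ ℤ (m + 1) P = LambdaRing.mulGen (m + 1) (m + 1)) :
    map (Int.castRingHom ℚ) P =
      aeval (fun j => aeval (tvL (m + 1)) (nuP j) * aeval (tvR (m + 1)) (nuP j)) (epsP m) := by
  apply subst₂_injective ℚ (m + 1)
  have h1 : subst₂ ℚ (m + 1) (map (Int.castRingHom ℚ) P) =
      map (Int.castRingHom ℚ) (subst₂ ℤ (m + 1) P) := by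
    unfold subst₂
    rw [map_aeval_int]
    congr 2
    funext i
    rcases i with k | k <;> simp [map_rename, map_esymm]
  rw [h1, hP, map_mulGen, comp_aeval_apply]
  simp only [map_mul, subst₂_aeval_tvL_nuP, subst₂_aeval_tvR_nuP]
  rw [← aeval_psum_epsP (Fin (m + 1) × Fin (m + 1)) m, comp_aeval_apply]
  simp only [aeval_TU_psum]

end TwoFamilies

section OneFamily

variable (N : ℕ)

/-- Truncated variables. -/
noncomputable def tv (i : ℕ) : MvPolynomial (Fin N) ℚ :=
  if h : i < N then X ⟨i, h⟩ else 0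

theorem aeval_esymm_tv (i : ℕ) :
    aeval (fun k : Fin N => esymm (Fin N) ℚ ((k : ℕ) + 1)) (tv N i) = esymm (Fin N) ℚ (i + 1) := by
  unfold tv
  split_ifs with h
  · simp
  · rw [map_zero, esymm_eq_zero_of_lt ℚ N (i + 1) (by omega)]

theorem aeval_esymm_aeval_tv_nuP (q : ℕ) :
    aeval (fun k : Fin N => esymm (Fin N) ℚ ((k : ℕ) + 1)) (aeval (tv N) (nuP q)) =
      psum (Fin N) ℚ (q + 1) := by
  rw [comp_aeval_apply]
  simp only [aeval_esymm_tv]
  exact aeval_esymm_nuP (Fin N) q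

/-- Products over `i`-element subsets. -/
noncomputable def PI (R : Type*) [CommRing R] (i : ℕ)
    (s : ↥(powersetCard i (univ : Finset (Fin N)))) : MvPolynomial (Fin N) R :=
  ∏ a ∈ s.1, X a

theorem compGen_eq (i j : ℕ) :
    LambdaRing.compGen N i j =
      aeval (PI N ℤ i) (esymm (↥(powersetCard i (univ : Finset (Fin N)))) ℤ j) := by
  rw [aeval_esymm_eq_multiset_esymm]
  unfold LambdaRing.compGen
  congr 1
  rw [Finset.univ_eq_attach, Finset.attach_val]
  exact (Multiset.attach_map_val' _ _).symm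

theorem map_compGen (i j : ℕ) :
    map (Int.castRingHom ℚ) (LambdaRing.compGen N i j) =
      aeval (PI N ℚ i) (esymm (↥(powersetCard i (univ : Finset (Fin N)))) ℚ j) := by
  rw [compGen_eq, map_aeval_int, map_esymm]
  congr 2
  funext s
  simp [PI]

theorem aeval_PI_psum (i k : ℕ) :
    aeval (PI N ℚ i) (psum (↥(powersetCard i (univ : Finset (Fin N)))) ℚ k) =
      aeval (fun a : Fin N => (X a : MvPolynomial (Fin N) ℚ) ^ k) (esymm (Fin N) ℚ i) := by
  simp only [psum, esymm, map_sum, map_pow, aeval_X, PI, map_prod]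
  simp only [← Finset.prod_pow]
  exact Finset.sum_coe_sort (powersetCard i (univ : Finset (Fin N)))
    (fun t => ∏ a ∈ t, (X a : MvPolynomial (Fin N) ℚ) ^ k)

theorem aeval_pow_psum (k l : ℕ) :
    aeval (fun a : Fin N => (X a : MvPolynomial (Fin N) ℚ) ^ k) (psum (Fin N) ℚ l) =
      psum (Fin N) ℚ (k * l) := by
  simp only [psum, map_sum, map_pow, aeval_X, pow_mul]

end OneFamily

/-- The universal identity for `Q_{i,j}` over ℚ, `i = i' + 1`, `j = j' + 1`. -/
theorem UI₁ (i' j' : ℕ) (Q : MvPolynomial (Fin ((i' + 1) * (j' + 1))) ℤ)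
    (hQ : aeval (fun k : Fin ((i' + 1) * (j' + 1)) =>
        esymm (Fin ((i' + 1) * (j' + 1))) ℤ ((k : ℕ) + 1)) Q =
      LambdaRing.compGen ((i' + 1) * (j' + 1)) (i' + 1) (j' + 1)) :
    map (Int.castRingHom ℚ) Q =
      aeval (fun m => aeval (fun l => aeval (tv ((i' + 1) * (j' + 1)))
        (nuP ((m + 1) * (l + 1) - 1))) (epsP i')) (epsP j') := by
  generalize hN : (i' + 1) * (j' + 1) = N at Q hQ ⊢
  apply aeval_esymm_injective ℚ N
  have h1 : aeval (fun k : Fin N => esymm (Fin N) ℚ ((k : ℕ) + 1)) (map (Int.castRingHom ℚ) Q) =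
      map (Int.castRingHom ℚ) (aeval (fun k : Fin N => esymm (Fin N) ℤ ((k : ℕ) + 1)) Q) := by
    rw [map_aeval_int]
    congr 2
    funext k
    rw [map_esymm]
  rw [h1, hQ, map_compGen, comp_aeval_apply]
  have h2 : ∀ m : ℕ, aeval (fun k : Fin N => esymm (Fin N) ℚ ((k : ℕ) + 1))
      (aeval (fun l => aeval (tv N) (nuP ((m + 1) * (l + 1) - 1))) (epsP i')) =
      aeval (fun l => psum (Fin N) ℚ ((m + 1) * (l + 1))) (epsP i') := by
    intro m
    rw [comp_aeval_apply]
    congr 2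
    funext l
    rw [aeval_esymm_aeval_tv_nuP, Nat.sub_add_cancel (Nat.mul_pos (Nat.succ_pos m) (Nat.succ_pos l))]
  simp only [h2]
  rw [← aeval_psum_epsP (↥(powersetCard (i' + 1) (univ : Finset (Fin N)))) j', comp_aeval_apply]
  congr 2
  funext m
  rw [aeval_PI_psum, ← aeval_psum_epsP (Fin N) i', comp_aeval_apply]
  simp only [aeval_pow_psum]

section Eval

variable {K : Type u} [CommRing K] [Algebra ℚ K]

/-- Evaluated form of the universal identity for `P_n`: if `a, b`, `a', b'` and `c, b * b'`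
satisfy Newton's relations, then `P_{m+1}(a; a') = c m`. -/
theorem mul_eval {a a' b b' c : ℕ → K} (hab : NR a b) (hab' : NR a' b')
    (hc : NR c (fun j => b j * b' j)) (m : ℕ)
    (P : MvPolynomial (Fin (m + 1) ⊕ Fin (m + 1)) ℤ)
    (hP : subst₂ ℤ (m + 1) P = LambdaRing.mulGen (m + 1) (m + 1)) :
    aeval (Sum.elim (fun k : Fin (m + 1) => a (k : ℕ)) (fun k : Fin (m + 1) => a' (k : ℕ))) P =
      c m := by
  have h0 : aeval (Sum.elim (fun k : Fin (m + 1) => a (k : ℕ)) (fun k : Fin (m + 1) => a' (k : ℕ))) P =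
      aeval (Sum.elim (fun k : Fin (m + 1) => a (k : ℕ)) (fun k : Fin (m + 1) => a' (k : ℕ)))
        (map (algebraMap ℤ ℚ) P) := (aeval_map_algebraMap ℚ _ P).symm
  rw [h0, algebraMap_int_eq, UI₂ m P hP, comp_aeval_apply, eq_aeval_epsP hc m]
  apply aeval_epsP_congr
  intro j hj
  rw [map_mul, comp_aeval_apply, comp_aeval_apply, eq_aeval_nuP hab j, eq_aeval_nuP hab' j]
  congr 1
  · apply aeval_nuP_congr
    intro i hi
    have hi' : i < m + 1 := by omega
    simp [tvL, hi']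
  · apply aeval_nuP_congr
    intro i hi
    have hi' : i < m + 1 := by omega
    simp [tvR, hi']

/-- Evaluated form of the universal identity for `Q_{i,j}`. -/
theorem comp_eval {a b : ℕ → K} (hab : NR a b) (i' j' : ℕ)
    (Q : MvPolynomial (Fin ((i' + 1) * (j' + 1))) ℤ)
    (hQ : aeval (fun k : Fin ((i' + 1) * (j' + 1)) =>
        esymm (Fin ((i' + 1) * (j' + 1))) ℤ ((k : ℕ) + 1)) Q =
      LambdaRing.compGen ((i' + 1) * (j' + 1)) (i' + 1) (j' + 1)) :
    aeval (fun k : Fin ((i' + 1) * (j' + 1)) => a (k : ℕ)) Q =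
      aeval (fun m => aeval (fun l => b ((m + 1) * (l + 1) - 1)) (epsP i')) (epsP j') := by
  have h0 : aeval (fun k : Fin ((i' + 1) * (j' + 1)) => a (k : ℕ)) Q =
      aeval (fun k : Fin ((i' + 1) * (j' + 1)) => a (k : ℕ)) (map (algebraMap ℤ ℚ) Q) :=
    (aeval_map_algebraMap ℚ _ Q).symm
  rw [h0, algebraMap_int_eq, UI₁ i' j' Q hQ, comp_aeval_apply]
  apply aeval_epsP_congr
  intro m hm
  rw [comp_aeval_apply]
  apply aeval_epsP_congr
  intro l hl
  rw [comp_aeval_apply, eq_aeval_nuP hab]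
  apply aeval_nuP_congr
  intro q hq
  have h1 : (m + 1) * (l + 1) ≤ (i' + 1) * (j' + 1) := by
    rw [mul_comm (i' + 1)]
    exact Nat.mul_le_mul (by omega) (by omega)
  have h2 : 0 < (m + 1) * (l + 1) := Nat.mul_pos (Nat.succ_pos m) (Nat.succ_pos l)
  have hq' : q < (i' + 1) * (j' + 1) := by omega
  simp [tv, hq']

end Eval

end Groth.Agent.Lib.helper13.UnivIdent
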