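import Groth.Agent.Lib.helper13.NewtonZ
import Groth.Agent.Lib.helper13.UnivIdent
import Groth.Agent.Lib.helper13.NewtonLambda

/-!
Adams operations of a special λ-ring are multiplicative and compose multiplicatively
(helper13's helper library).
-/

set_option autoImplicit false

namespace Groth.Agent.Lib.helper13.AdamsSpecial

open LambdaRing MvPolynomial Finset
open Groth.Agent.Lib.helper13.Newton Groth.Agent.Lib.helper13.NewtonLambda
  Groth.Agent.Lib.helper13.SymmUniv Groth.Agent.Lib.helper13.UnivIdent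

universe u

section Mul

variable (P : ∀ n : ℕ, MvPolynomial (Fin n ⊕ Fin n) ℤ)

/-- The sequence `m ↦ P_{m+1}(a; a')`. -/
noncomputable def cP {S : Type*} [CommRing S] (a a' : ℕ → S) (m : ℕ) : S :=
  aeval (Sum.elim (fun k : Fin (m + 1) => a (k : ℕ)) (fun k : Fin (m + 1) => a' (k : ℕ))) (P (m + 1))

theorem map_cP {S S' : Type*} [CommRing S] [CommRing S'] (φ : S →+* S') (a a' : ℕ → S) (m : ℕ) :
    φ (cP P a a' m) = cP P (fun i => φ (a i)) (fun i => φ (a' i)) m := by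
  unfold cP
  rw [ringHom_aeval]
  congr 2
  funext i
  rcases i with k | k <;> rfl

variable (hP : ∀ n, IsMulPoly n (P n))

include hP in
theorem NR_cP {S : Type u} [CommRing S] [Algebra ℚ S] (a a' : ℕ → S) :
    NR (cP P a a') (fun j => aeval a (nuZ j) * aeval a' (nuZ j)) := by
  have hc := NR_aeval_epsP (fun j => aeval a (nuZ j) * aeval a' (nuZ j))
  have e : cP P a a' =
      fun n => aeval (fun j => aeval a (nuZ j) * aeval a' (nuZ j)) (epsP n) := by
    funext m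
    exact mul_eval (NR_aeval_nuZ a) (NR_aeval_nuZ a') hc m (P (m + 1)) (hP (m + 1)).1
  rw [e]
  exact hc

include hP in
theorem aeval_cP_nuZ_univ (j : ℕ) :
    aeval (cP P (fun i => (X (Sum.inl i) : MvPolynomial (ℕ ⊕ ℕ) ℤ)) (fun i => X (Sum.inr i))) (nuZ j) =
      aeval (fun i => (X (Sum.inl i) : MvPolynomial (ℕ ⊕ ℕ) ℤ)) (nuZ j) *
        aeval (fun i => (X (Sum.inr i) : MvPolynomial (ℕ ⊕ ℕ) ℤ)) (nuZ j) := by
  apply MvPolynomial.map_injective (Int.castRingHom ℚ) Int.cast_injective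
  rw [map_mul, ringHom_aeval, ringHom_aeval, ringHom_aeval]
  simp only [map_cP, map_X]
  exact (eq_aeval_nuZ (NR_cP P hP _ _) j).symm

include hP in
theorem aeval_cP_nuZ {S : Type*} [CommRing S] (a a' : ℕ → S) (j : ℕ) :
    aeval (cP P a a') (nuZ j) = aeval a (nuZ j) * aeval a' (nuZ j) := by
  have h := congrArg ((aeval (Sum.elim a a') : MvPolynomial (ℕ ⊕ ℕ) ℤ →ₐ[ℤ] S) :
    MvPolynomial (ℕ ⊕ ℕ) ℤ →+* S) (aeval_cP_nuZ_univ P hP j)
  rw [map_mul, ringHom_aeval, ringHom_aeval, ringHom_aeval] at h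
  simp only [map_cP, RingHom.coe_coe, aeval_X, Sum.elim_inl, Sum.elim_inr] at h
  exact h

include hP in
theorem adamsOp_mul_aux {K : Type u} [CommRing K] [LambdaOps K] (hK : IsSpecial K) (j : ℕ) (x y : K) :
    adamsOp (j + 1) (x * y) = adamsOp (j + 1) x * adamsOp (j + 1) y := by
  have e1 : adamsOp (j + 1) (x * y) = aeval (fun m => LambdaOps.lam (m + 1) (x * y)) (nuZ j) :=
    eq_aeval_nuZ (NR_lam_adams (x * y)) j
  have e2 : (fun m => LambdaOps.lam (m + 1) (x * y)) =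
      cP P (fun i => LambdaOps.lam (i + 1) x) (fun i => LambdaOps.lam (i + 1) y) := by
    funext m
    exact hK.lam_mul (m + 1) (P (m + 1)) (hP (m + 1)) x y
  have e3 : adamsOp (j + 1) x = aeval (fun m => LambdaOps.lam (m + 1) x) (nuZ j) :=
    eq_aeval_nuZ (NR_lam_adams x) j
  have e4 : adamsOp (j + 1) y = aeval (fun m => LambdaOps.lam (m + 1) y) (nuZ j) :=
    eq_aeval_nuZ (NR_lam_adams y) j
  rw [e1, e2, aeval_cP_nuZ P hP, e3, e4]

end Mul

/-- In a special λ-ring the Adams operations are multiplicative. -/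
theorem adamsOp_mul {K : Type u} [CommRing K] [LambdaOps K] (hK : IsSpecial K)
    (hP : ∀ n : ℕ, ∃ P : MvPolynomial (Fin n ⊕ Fin n) ℤ, IsMulPoly n P)
    (k : ℕ) (hk : 1 ≤ k) (x y : K) : adamsOp k (x * y) = adamsOp k x * adamsOp k y := by
  choose P hP' using hP
  obtain ⟨j, rfl⟩ : ∃ j, k = j + 1 := ⟨k - 1, by omega⟩
  exact adamsOp_mul_aux P hP' hK j x y

section Comp

variable (Q : ∀ i j : ℕ, MvPolynomial (Fin (i * j)) ℤ)

/-- The double sequence `(i', j') ↦ Q_{i'+1,j'+1}(a)`. -/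
noncomputable def cQ {S : Type*} [CommRing S] (a : ℕ → S) (i' j' : ℕ) : S :=
  aeval (fun k : Fin ((i' + 1) * (j' + 1)) => a (k : ℕ)) (Q (i' + 1) (j' + 1))

theorem map_cQ {S S' : Type*} [CommRing S] [CommRing S'] (φ : S →+* S') (a : ℕ → S) (i' j' : ℕ) :
    φ (cQ Q a i' j') = cQ Q (fun i => φ (a i)) i' j' := by
  unfold cQ
  rw [ringHom_aeval]

variable (hQ : ∀ i j, IsCompPoly i j (Q i j))

include hQ in
theorem NR_cQ {S : Type u} [CommRing S] [Algebra ℚ S] (a : ℕ → S) (i' : ℕ) :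
    NR (fun j' => cQ Q a i' j')
      (fun m => aeval (fun l => aeval a (nuZ ((m + 1) * (l + 1) - 1))) (epsP i')) := by
  have hc := NR_aeval_epsP
    (fun m => aeval (fun l => aeval a (nuZ ((m + 1) * (l + 1) - 1))) (epsP i'))
  have e : (fun j' => cQ Q a i' j') = fun n => aeval
      (fun m => aeval (fun l => aeval a (nuZ ((m + 1) * (l + 1) - 1))) (epsP i')) (epsP n) := by
    funext j'
    exact comp_eval (NR_aeval_nuZ a) i' j' (Q (i' + 1) (j' + 1)) (hQ _ _).1
  rw [e]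
  exact hc

include hQ in
theorem aeval_cQ_nuZ_rat {S : Type u} [CommRing S] [Algebra ℚ S] (a : ℕ → S) (m l : ℕ) :
    aeval (fun i' => aeval (fun j' => cQ Q a i' j') (nuZ m)) (nuZ l) =
      aeval a (nuZ ((m + 1) * (l + 1) - 1)) := by
  have e : (fun i' => aeval (fun j' => cQ Q a i' j') (nuZ m)) =
      fun i' => aeval (fun l => aeval a (nuZ ((m + 1) * (l + 1) - 1))) (epsP i') := by
    funext i'
    exact (eq_aeval_nuZ (NR_cQ Q hQ a i') m).symm
  rw [e]
  exact (eq_aeval_nuZ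
    (NR_aeval_epsP (fun l => aeval a (nuZ ((m + 1) * (l + 1) - 1)))) l).symm

include hQ in
theorem aeval_cQ_nuZ_univ (m l : ℕ) :
    aeval (fun i' => aeval (fun j' => cQ Q (fun i => (X i : MvPolynomial ℕ ℤ)) i' j') (nuZ m)) (nuZ l) =
      aeval (fun i => (X i : MvPolynomial ℕ ℤ)) (nuZ ((m + 1) * (l + 1) - 1)) := by
  apply MvPolynomial.map_injective (Int.castRingHom ℚ) Int.cast_injective
  rw [ringHom_aeval, ringHom_aeval]
  simp only [ringHom_aeval, map_cQ, map_X]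
  exact aeval_cQ_nuZ_rat Q hQ _ m l

include hQ in
theorem aeval_cQ_nuZ {S : Type*} [CommRing S] (a : ℕ → S) (m l : ℕ) :
    aeval (fun i' => aeval (fun j' => cQ Q a i' j') (nuZ m)) (nuZ l) =
      aeval a (nuZ ((m + 1) * (l + 1) - 1)) := by
  have h := congrArg ((aeval a : MvPolynomial ℕ ℤ →ₐ[ℤ] S) : MvPolynomial ℕ ℤ →+* S)
    (aeval_cQ_nuZ_univ Q hQ m l)
  rw [ringHom_aeval, ringHom_aeval] at h
  simp only [ringHom_aeval, map_cQ, RingHom.coe_coe, aeval_X] at h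
  exact h

end Comp

/-- The Adams operation of a special λ-ring as a ring homomorphism. -/
noncomputable def adamsRingHom {K : Type u} [CommRing K] [LambdaOps K] (k : ℕ)
    (h1 : adamsOp k (1 : K) = 1)
    (hmul : ∀ x y : K, adamsOp k (x * y) = adamsOp k x * adamsOp k y) : K →+* K where
  toFun := adamsOp k
  map_one' := h1
  map_mul' := hmul
  map_zero' := by
    have h := adamsOp_add k (0 : K) 0
    rw [add_zero] at h
    exact left_eq_add.mp h
  map_add' := adamsOp_add k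

/-- In a special λ-ring `ψ^k ψ^k' = ψ^(k k')`; `h1` is `ψ^k(1) = 1`. -/
theorem adamsOp_adamsOp {K : Type u} [CommRing K] [LambdaOps K] (hK : IsSpecial K)
    (h1 : ∀ k : ℕ, 1 ≤ k → adamsOp k (1 : K) = 1)
    (hP : ∀ n : ℕ, ∃ P : MvPolynomial (Fin n ⊕ Fin n) ℤ, IsMulPoly n P)
    (hQ : ∀ i j : ℕ, ∃ Q : MvPolynomial (Fin (i * j)) ℤ, IsCompPoly i j Q)
    (k k' : ℕ) (hk : 1 ≤ k) (hk' : 1 ≤ k') (x : K) :
    adamsOp k (adamsOp k' x) = adamsOp (k * k') x := by
  choose Q hQ' using hQ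
  obtain ⟨m, rfl⟩ : ∃ m, k = m + 1 := ⟨k - 1, by omega⟩
  obtain ⟨l, rfl⟩ : ∃ l, k' = l + 1 := ⟨k' - 1, by omega⟩
  have key := aeval_cQ_nuZ Q hQ' (fun i => LambdaOps.lam (i + 1) x) m l
  have e1 : ∀ i' j' : ℕ, cQ Q (fun i => LambdaOps.lam (i + 1) x) i' j' =
      LambdaOps.lam (j' + 1) (LambdaOps.lam (i' + 1) x) := by
    intro i' j'
    exact (hK.lam_lam (i' + 1) (j' + 1) (Q _ _) (hQ' _ _) x).symm
  simp only [e1] at key
  have e2 : ∀ i' : ℕ, aeval (fun j' => LambdaOps.lam (j' + 1) (LambdaOps.lam (i' + 1) x)) (nuZ m) =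
      adamsOp (m + 1) (LambdaOps.lam (i' + 1) x) := by
    intro i'
    exact (eq_aeval_nuZ (NR_lam_adams (LambdaOps.lam (i' + 1) x)) m).symm
  simp only [e2] at key
  have e3 : aeval (fun i => LambdaOps.lam (i + 1) x) (nuZ ((m + 1) * (l + 1) - 1)) =
      adamsOp ((m + 1) * (l + 1)) x := by
    have h := (eq_aeval_nuZ (NR_lam_adams x) ((m + 1) * (l + 1) - 1)).symm
    rwa [Nat.sub_add_cancel (Nat.mul_pos (Nat.succ_pos m) (Nat.succ_pos l))] at h
  rw [e3] at key
  rw [← key]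
  have e4 : adamsOp (l + 1) x = aeval (fun i => LambdaOps.lam (i + 1) x) (nuZ l) :=
    eq_aeval_nuZ (NR_lam_adams x) l
  rw [e4]
  exact ringHom_aeval (adamsRingHom (m + 1) (h1 (m + 1) (by omega))
    (adamsOp_mul hK hP (m + 1) (by omega))) _ _

end Groth.Agent.Lib.helper13.AdamsSpecial
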