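import Mathlib

/-!
# `AdjoinRoot h` over a domain: rank and integrality after localisation
-/

namespace Groth.Agent.Lib.helper13.AdjRootLoc

open Polynomial

variable {R : Type*} [CommRing R] [IsDomain R] (h : R[X])

/-- Pseudo-division by a polynomial of degree two. -/
theorem pseudo (hdeg : h.natDegree = 2) (p : R[X]) :
    ∃ k : ℕ, ∃ a b : R,
      AdjoinRoot.mk h (C (h.leadingCoeff ^ k) * p) = AdjoinRoot.mk h (C a + C b * X) := by
  induction' hn : p.natDegree using Nat.strong_induction_on with d ih generalizing p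
  by_cases hd : d < 2
  · refine ⟨0, p.coeff 0, p.coeff 1, ?_⟩
    have hp := Polynomial.eq_X_add_C_of_natDegree_le_one (p := p) (by omega)
    rw [pow_zero, C_1, one_mul]
    conv_lhs => rw [hp]
    rw [add_comm]
  · push Not at hd
    obtain ⟨q, hq⟩ : ∃ q, q = C h.leadingCoeff * p - C p.leadingCoeff * X ^ (d - 2) * h :=
      ⟨_, rfl⟩
    have hqdeg : q.natDegree ≤ d - 1 := by
      rw [Polynomial.natDegree_le_iff_coeff_eq_zero]
      intro N hN
      rw [hq, coeff_sub, coeff_C_mul, mul_assoc, coeff_C_mul, coeff_X_pow_mul']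
      rw [if_pos (by omega)]
      by_cases hNd : N = d
      · subst hNd
        have e1 : N - (N - 2) = h.natDegree := by omega
        rw [e1, coeff_natDegree, ← hn, coeff_natDegree]
        ring
      · have e1 : h.natDegree < N - (d - 2) := by omega
        rw [coeff_eq_zero_of_natDegree_lt e1, coeff_eq_zero_of_natDegree_lt (by omega)]
        ring
    obtain ⟨k, a, b, hk⟩ := ih q.natDegree (by omega) q rfl
    refine ⟨k + 1, a, b, ?_⟩
    rw [← hk]
    have e2 : C (h.leadingCoeff ^ (k + 1)) * p
        = C (h.leadingCoeff ^ k) * q + C (h.leadingCoeff ^ k) * C p.leadingCoeff * X ^ (d - 2) * h := by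
      rw [hq, pow_succ, C_mul]
      ring
    rw [e2, map_add, map_mul _ _ h, AdjoinRoot.mk_self, mul_zero, add_zero]

/-- Over a domain, `R[z]/(h)` with `deg h = 2` has rank two. -/
theorem finrank_eq_two (hdeg : h.natDegree = 2) : Module.finrank R (AdjoinRoot h) = 2 := by
  have hne0 : h ≠ 0 := by
    intro h0
    rw [h0] at hdeg
    simp at hdeg
  have hmk : ∀ s t : R, s • (1 : AdjoinRoot h) + t • AdjoinRoot.root h
      = AdjoinRoot.mk h (C s + C t * X) := by
    intro s t
    rw [map_add, map_mul, AdjoinRoot.mk_C, AdjoinRoot.mk_C, AdjoinRoot.mk_X, Algebra.smul_def,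
      Algebra.smul_def, mul_one, AdjoinRoot.algebraMap_eq]
  have hli : LinearIndependent R ![(1 : AdjoinRoot h), AdjoinRoot.root h] := by
    rw [LinearIndependent.pair_iff]
    intro s t hst
    rw [hmk, AdjoinRoot.mk_eq_zero] at hst
    by_contra hne
    have hne' : C s + C t * X ≠ 0 := by
      intro h0
      apply hne
      have h1 := congrArg (fun q => q.coeff 0) h0
      have h2 := congrArg (fun q => q.coeff 1) h0
      simp at h1 h2
      exact ⟨h1, h2⟩
    have h3 := Polynomial.natDegree_le_of_dvd hst hne'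
    have h4 : (C s + C t * X).natDegree ≤ 1 := by
      rw [add_comm]
      exact Polynomial.natDegree_linear_le
    omega
  have hlow : (2 : Cardinal) ≤ Module.rank R (AdjoinRoot h) := by
    have := hli.cardinal_lift_le_rank
    simpa using this
  obtain ⟨N, hN⟩ : ∃ N : Submodule R (AdjoinRoot h),
      N = Submodule.span R ((({1, AdjoinRoot.root h} : Finset (AdjoinRoot h))) : Set (AdjoinRoot h)) :=
    ⟨_, rfl⟩
  have hq : Module.rank R (AdjoinRoot h ⧸ N) = 0 := by
    rw [rank_eq_zero_iff]
    intro x
    obtain ⟨a, rfl⟩ := Submodule.Quotient.mk_surjective N x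
    obtain ⟨p, rfl⟩ := AdjoinRoot.mk_surjective a
    obtain ⟨k, a, b, hk⟩ := pseudo h hdeg p
    refine ⟨h.leadingCoeff ^ k, pow_ne_zero _ (leadingCoeff_ne_zero.mpr hne0), ?_⟩
    rw [← Submodule.Quotient.mk_smul, Submodule.Quotient.mk_eq_zero]
    have e1 : h.leadingCoeff ^ k • AdjoinRoot.mk h p = AdjoinRoot.mk h (C (h.leadingCoeff ^ k) * p) := by
      rw [map_mul, AdjoinRoot.mk_C, Algebra.smul_def, AdjoinRoot.algebraMap_eq]
    rw [e1, hk, ← hmk, hN]
    refine Submodule.add_mem _ (Submodule.smul_mem _ _ (Submodule.subset_span ?_))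
      (Submodule.smul_mem _ _ (Submodule.subset_span ?_))
    · simp
    · simp
  have hNle : Module.rank R N ≤ 2 := by
    rw [hN]
    refine (rank_span_finset_le _).trans ?_
    have : ({1, AdjoinRoot.root h} : Finset (AdjoinRoot h)).card ≤ 2 := Finset.card_le_two
    exact_mod_cast this
  have hsum := rank_quotient_add_rank_of_isDomain N
  rw [hq, zero_add] at hsum
  have hrank : Module.rank R (AdjoinRoot h) = ((2 : ℕ) : Cardinal) := by
    rw [Nat.cast_ofNat]
    exact le_antisymm (hsum ▸ hNle) hlow
  exact Module.finrank_eq_of_rank_eq hrank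

/-- base change to the fraction field has dimension two. -/
theorem finrank_tensor_eq_two (hdeg : h.natDegree = 2) :
    Module.finrank (FractionRing R) (TensorProduct R (FractionRing R) (AdjoinRoot h)) = 2 := by
  rw [(TensorProduct.isBaseChange R (AdjoinRoot h) (FractionRing R)).finrank_eq]
  exact finrank_eq_two h hdeg

section Integral

variable (S : Submonoid R)

local notation "AS" => Localization (Algebra.algebraMapSubmonoid (AdjoinRoot h) S)
local notation "RS" => Localization S

theorem isUnit_of_isIntegral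
    (hint : Algebra.IsIntegral (Localization S)
      (Localization (Algebra.algebraMapSubmonoid (AdjoinRoot h) S))) :
    IsUnit (algebraMap R (Localization S) h.leadingCoeff) := by
  by_cases h0 : (0 : R) ∈ S
  · haveI : Subsingleton (Localization S) := IsLocalization.subsingleton (M := S) h0
    exact isUnit_of_subsingleton _
  have hS : S ≤ nonZeroDivisors R := le_nonZeroDivisors_of_noZeroDivisors h0
  haveI : IsDomain (Localization S) := IsLocalization.isDomain_of_le_nonZeroDivisors _ hS
  have hinj : Function.Injective (algebraMap R (Localization S)) := IsLocalization.injective _ hS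
  obtain ⟨zS, hzS⟩ : ∃ zS : AS, zS = algebraMap (AdjoinRoot h) AS (AdjoinRoot.root h) := ⟨_, rfl⟩
  obtain ⟨g, hg, hgz⟩ := hint.isIntegral zS
  have hG0 : aeval zS (IsLocalization.integerNormalization S g) = 0 :=
    IsLocalization.integerNormalization_aeval_eq_zero S g (by rw [aeval_def]; exact hgz)
  obtain ⟨G, hG⟩ : ∃ G, G = IsLocalization.integerNormalization S g := ⟨_, rfl⟩
  rw [← hG] at hG0
  have h1 : algebraMap (AdjoinRoot h) AS (AdjoinRoot.mk h G) = 0 := by
    rw [← AdjoinRoot.aeval_eq, ← Polynomial.aeval_algebraMap_apply, ← hzS]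
    exact hG0
  obtain ⟨m, hm⟩ := (IsLocalization.map_eq_zero_iff
    (Algebra.algebraMapSubmonoid (AdjoinRoot h) S) AS _).mp h1
  obtain ⟨t, ht, htm⟩ := m.2
  have h2 : h ∣ C t * G := by
    rw [← AdjoinRoot.mk_eq_zero, map_mul, AdjoinRoot.mk_C, ← AdjoinRoot.algebraMap_eq, htm]
    exact hm
  obtain ⟨b, hb⟩ := IsLocalization.integerNormalization_map_to_map S g
  rw [← hG] at hb
  have h3 : h.map (algebraMap R RS) ∣ C (algebraMap R RS t) * ((b : R) • g) := by
    have := Polynomial.map_dvd (algebraMap R RS) h2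
    rwa [Polynomial.map_mul, map_C, hb] at this
  have h4 : ((b : R) • g) = C (algebraMap R RS b) * g := by
    rw [← Polynomial.smul_eq_C_mul, algebraMap_smul]
  have hut : IsUnit (algebraMap R RS t) := IsLocalization.map_units _ ⟨t, ht⟩
  have hub : IsUnit (algebraMap R RS b) := IsLocalization.map_units _ b
  have h5 : h.map (algebraMap R RS) ∣ g := by
    have hu : IsUnit (C (algebraMap R RS t) * C (algebraMap R RS b)) :=
      (Polynomial.isUnit_C.mpr hut).mul (Polynomial.isUnit_C.mpr hub)
    rw [h4, ← mul_assoc] at h3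
    exact (hu.dvd_mul_left).mp h3
  have := hg.isUnit_leadingCoeff_of_dvd h5
  rwa [Polynomial.leadingCoeff_map_of_injective hinj] at this

theorem isIntegral_of_isUnit
    (hu : IsUnit (algebraMap R (Localization S) h.leadingCoeff)) :
    Algebra.IsIntegral (Localization S)
      (Localization (Algebra.algebraMapSubmonoid (AdjoinRoot h) S)) := by
  obtain ⟨zS, hzS⟩ : ∃ zS : AS, zS = algebraMap (AdjoinRoot h) AS (AdjoinRoot.root h) := ⟨_, rfl⟩
  -- the root is integral
  have hz0 : aeval zS h = 0 := by
    rw [hzS, Polynomial.aeval_algebraMap_apply, AdjoinRoot.aeval_eq, AdjoinRoot.mk_self, map_zero]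
  have hz1 : IsIntegral RS (h.leadingCoeff • zS) :=
    (isIntegral_leadingCoeff_smul h zS hz0).tower_top
  obtain ⟨u', hu'⟩ := isUnit_iff_exists_inv'.1 hu
  have hz : IsIntegral RS zS := by
    have e : zS = algebraMap RS AS u' * (h.leadingCoeff • zS) := by
      rw [Algebra.smul_def, ← mul_assoc, IsScalarTower.algebraMap_apply R RS AS, ← map_mul, hu',
        map_one, one_mul]
    rw [e]
    exact isIntegral_algebraMap.mul hz1
  -- image of `AdjoinRoot h` is integral
  have hA : ∀ a : AdjoinRoot h, IsIntegral RS (algebraMap (AdjoinRoot h) AS a) := by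
    intro a
    obtain ⟨p, rfl⟩ := AdjoinRoot.mk_surjective a
    rw [← AdjoinRoot.aeval_eq, ← Polynomial.aeval_algebraMap_apply, ← hzS,
      Polynomial.aeval_eq_sum_range]
    refine IsIntegral.sum _ fun i _ => ?_
    rw [Algebra.smul_def, IsScalarTower.algebraMap_apply R RS AS]
    exact isIntegral_algebraMap.mul (hz.pow i)
  refine ⟨fun x => ?_⟩
  obtain ⟨a, m, rfl⟩ := IsLocalization.exists_mk'_eq
    (Algebra.algebraMapSubmonoid (AdjoinRoot h) S) x
  obtain ⟨s, hs, hsm⟩ := m.2
  have e : IsLocalization.mk' AS a m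
      = algebraMap (AdjoinRoot h) AS a * algebraMap RS AS (IsLocalization.mk' RS 1 ⟨s, hs⟩) := by
    rw [IsLocalization.mk'_eq_iff_eq_mul, mul_assoc]
    have e2 : algebraMap RS AS (IsLocalization.mk' RS 1 ⟨s, hs⟩) * algebraMap (AdjoinRoot h) AS m
        = 1 := by
      rw [← hsm, ← IsScalarTower.algebraMap_apply R (AdjoinRoot h) AS,
        IsScalarTower.algebraMap_apply R RS AS, ← map_mul]
      have := IsLocalization.mk'_spec RS (1 : R) ⟨s, hs⟩
      rw [this, map_one, map_one]
    rw [e2, mul_one]
  rw [e]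
  exact (hA a).mul isIntegral_algebraMap

theorem isIntegral_iff :
    Algebra.IsIntegral (Localization S)
      (Localization (Algebra.algebraMapSubmonoid (AdjoinRoot h) S)) ↔
    IsUnit (algebraMap R (Localization S) h.leadingCoeff) :=
  ⟨isUnit_of_isIntegral h S, isIntegral_of_isUnit h S⟩

end Integral

end Groth.Agent.Lib.helper13.AdjRootLoc
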