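import Mathlib

/-!
# The determinant of an antisymmetric matrix is a square (helper13)

Over a field with `2 ≠ 0`, and over integrally closed domains with `2 ≠ 0`.
-/

set_option autoImplicit false
open Matrix

namespace Groth.Agent.Lib.helper13.AntisymmDet

/-- `2 × 2` case. -/
lemma two_case {K : Type*} [Field K] {m : Type} [Fintype m] [DecidableEq m]
    (hm : Fintype.card m = 2) (A : Matrix m m K) (hA : Aᵀ = -A) (hd : ∀ k, A k k = 0) :
    ∃ c : K, A.det = c * c ∧ (c = 0 → A = 0) := by
  let e : Fin 2 ≃ m := (Fintype.equivFinOfCardEq hm).symm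
  have hanti : ∀ a b, A a b = - A b a := by
    intro a b
    have := congrFun (congrFun hA b) a
    simpa using this
  refine ⟨A (e 0) (e 1), ?_, ?_⟩
  · rw [← Matrix.det_submatrix_equiv_self e A, Matrix.det_fin_two]
    simp only [Matrix.submatrix_apply]
    rw [hd, hd, hanti (e 1) (e 0)]
    ring
  · intro hc
    ext a b
    obtain ⟨x, rfl⟩ := e.surjective a
    obtain ⟨y, rfl⟩ := e.surjective b
    fin_cases x <;> fin_cases y
    · exact hd _
    · exact hc
    · show A (e 1) (e 0) = 0
      rw [hanti, hc, neg_zero]
    · exact hd _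

/-- Field case. -/
theorem isSquare_det_field {K : Type*} [Field K] (h2 : (2 : K) ≠ 0) :
    ∀ (N : ℕ) {n : Type} [Fintype n] [DecidableEq n] (S : Matrix n n K),
      Fintype.card n = N → Sᵀ = -S → IsSquare S.det := by
  intro N
  induction N using Nat.strong_induction_on with
  | _ N ih =>
  intro n _ _ S hcard hS
  have hanti : ∀ a b, S a b = - S b a := by
    intro a b
    have := congrFun (congrFun hS b) a
    simpa using this
  have hdiag : ∀ k, S k k = 0 := by
    intro k
    have h := hanti k k
    have h' : (2 : K) * S k k = 0 := by linear_combination h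
    rcases mul_eq_zero.mp h' with h'' | h''
    · exact absurd h'' h2
    · exact h''
  by_cases hS0 : S = 0
  · subst hS0
    rcases isEmpty_or_nonempty n with hn | hn
    · rw [Matrix.det_isEmpty]; exact ⟨1, by ring⟩
    · haveI := hn
      rw [Matrix.det_zero]; exact ⟨0, by ring⟩
  · obtain ⟨i, j, hij⟩ : ∃ i j, S i j ≠ 0 := by
      by_contra hcon
      push Not at hcon
      exact hS0 (by ext a b; exact hcon a b)
    have hne : i ≠ j := by
      rintro rfl
      exact hij (hdiag i)
    let p : n → Prop := fun k => k = i ∨ k = j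
    let e : {k // p k} ⊕ {k // ¬ p k} ≃ n := Equiv.sumCompl p
    let A : Matrix {k // p k} {k // p k} K := fun a b => S a.1 b.1
    let B : Matrix {k // p k} {k // ¬ p k} K := fun a b => S a.1 b.1
    let C : Matrix {k // ¬ p k} {k // p k} K := fun a b => S a.1 b.1
    let D : Matrix {k // ¬ p k} {k // ¬ p k} K := fun a b => S a.1 b.1
    have hblocks : S.submatrix e e = Matrix.fromBlocks A B C D := by
      ext (a | a) (b | b) <;> rfl
    have hdet : S.det = (Matrix.fromBlocks A B C D).det := by
      rw [← hblocks, Matrix.det_submatrix_equiv_self]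
    have hAt : Aᵀ = -A := by
      ext a b
      exact hanti _ _
    have hDt : Dᵀ = -D := by
      ext a b
      exact hanti _ _
    have hBt : Bᵀ = -C := by
      ext a b
      exact hanti _ _
    have hCt : Cᵀ = -B := by
      ext a b
      exact hanti _ _
    have hcardp : Fintype.card {k // p k} = 2 := by
      rw [Fintype.card_subtype]
      have : (Finset.univ.filter fun k => p k) = {i, j} := by
        ext k
        simp [p]
      rw [this, Finset.card_pair hne]
    have hcardq : Fintype.card {k // ¬ p k} = N - 2 := by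
      have := Fintype.card_subtype_compl p
      rw [this, hcardp, hcard]
    have hN2 : 2 ≤ N := by
      rw [← hcard, ← hcardp]
      exact Fintype.card_subtype_le _
    obtain ⟨c, hc, hc0⟩ := two_case hcardp A hAt (fun k => hdiag _)
    have hAne : A ≠ 0 := by
      intro h
      have := congrFun (congrFun h ⟨i, Or.inl rfl⟩) ⟨j, Or.inr rfl⟩
      exact hij this
    have hcne : c ≠ 0 := fun h => hAne (hc0 h)
    have hu : IsUnit A.det := by
      rw [hc]
      exact isUnit_iff_ne_zero.mpr (mul_ne_zero hcne hcne)
    letI : Invertible A := Matrix.invertibleOfIsUnitDet A hu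
    have hSchur : (D - C * ⅟A * B)ᵀ = -(D - C * ⅟A * B) := by
      have hinv : (⅟A)ᵀ = -⅟A := by
        have hneg : (-A)⁻¹ = -A⁻¹ :=
          Matrix.inv_eq_right_inv (by rw [neg_mul_neg, Matrix.mul_nonsing_inv A hu])
        rw [Matrix.invOf_eq_nonsing_inv, Matrix.transpose_nonsing_inv, hAt, hneg]
      rw [Matrix.transpose_sub, Matrix.transpose_mul, Matrix.transpose_mul, hDt, hBt, hCt, hinv]
      simp only [Matrix.neg_mul, Matrix.mul_neg, neg_neg]
      rw [Matrix.mul_assoc]
      abel
    have hsq : IsSquare (D - C * ⅟A * B).det :=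
      ih (N - 2) (by omega) (D - C * ⅟A * B) hcardq hSchur
    rw [hdet, Matrix.det_fromBlocks₁₁, hc]
    exact (IsSquare.mul_self c).mul hsq

/-- Integrally closed domain case. -/
theorem isSquare_det_domain {R : Type*} [CommRing R] [IsDomain R] [IsIntegrallyClosed R]
    (h2 : (2 : R) ≠ 0) {n : Type} [Fintype n] [DecidableEq n] (S : Matrix n n R)
    (hS : Sᵀ = -S) : IsSquare S.det := by
  let K := FractionRing R
  let f : R →+* K := algebraMap R K
  have hinj : Function.Injective f := IsFractionRing.injective R K
  have h2K : (2 : K) ≠ 0 := by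
    have : (2 : K) = f 2 := (map_ofNat f 2).symm
    rw [this]
    exact (map_ne_zero_iff f hinj).mpr h2
  have hSK : (S.map f)ᵀ = -(S.map f) := by
    rw [← Matrix.transpose_map, hS]
    ext a b
    simp
  obtain ⟨y, hy⟩ := isSquare_det_field h2K (Fintype.card n) (S.map f) rfl hSK
  have hdet : (S.map f).det = f S.det := by
    rw [RingHom.map_det]
    rfl
  have hint : IsIntegral R (y ^ 2) := by
    rw [pow_two, ← hy, hdet]
    exact isIntegral_algebraMap
  obtain ⟨r, hr⟩ := IsIntegrallyClosed.exists_algebraMap_eq_of_isIntegral_pow (R := R)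
    (K := K) (by norm_num : 0 < 2) hint
  refine ⟨r, hinj ?_⟩
  rw [map_mul]
  show f S.det = f r * f r
  rw [← hdet, hy]
  show y * y = algebraMap R K r * algebraMap R K r
  rw [hr]

end Groth.Agent.Lib.helper13.AntisymmDet
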