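import Mathlib

/-!
# Boundary forms on `ℤ^r` (helper13), part 1: a basis adapted to a vector
-/

set_option autoImplicit false

namespace Groth.Agent.Lib.helper13.BForms

open Module

/-- a basis vector of `ℤ^r` has coprime coordinates -/
lemma gcd_basis_vector {r : ℕ} (F : Basis (Fin r) ℤ (Fin r → ℤ)) (i₀ : Fin r) :
    Finset.univ.gcd (F i₀) = 1 := by
  have h1 : (F.coord i₀) (F i₀) = 1 := by
    rw [Basis.coord_apply, Basis.repr_self, Finsupp.single_eq_same]
  have h2 : F i₀ = ∑ j, (F i₀ j) • (Pi.basisFun ℤ (Fin r)) j := by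
    funext x
    simp [Finset.sum_apply, Pi.single_apply]
  have h3 : Finset.univ.gcd (F i₀) ∣ (F.coord i₀) (F i₀) := by
    conv_rhs => rw [h2]
    rw [map_sum]
    apply Finset.dvd_sum
    intro j _
    rw [map_smul, smul_eq_mul]
    exact Dvd.dvd.mul_right (Finset.gcd_dvd (Finset.mem_univ j)) _
  rw [h1] at h3
  have h4 : IsUnit (Finset.univ.gcd (F i₀)) := isUnit_of_dvd_one h3
  have h5 := Finset.normalize_gcd (s := Finset.univ) (f := F i₀)
  rw [← h5]
  exact normalize_eq_one.mpr h4

/-- **Adapted basis**: every vector of `ℤ^(r'+1)` is its gcd times a basis vector. -/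
lemma exists_adapted_basis (r' : ℕ) (d : Fin (r' + 1) → ℤ) :
    ∃ (F : Basis (Fin (r' + 1)) ℤ (Fin (r' + 1) → ℤ)) (i₀ : Fin (r' + 1)),
      d = (Finset.univ.gcd d) • F i₀ := by
  classical
  by_cases hd0 : d = 0
  · refine ⟨Pi.basisFun ℤ (Fin (r' + 1)), 0, ?_⟩
    have : Finset.univ.gcd d = 0 := by
      rw [Finset.gcd_eq_zero_iff]
      intro x _
      rw [hd0]; rfl
    rw [this, zero_smul, hd0]
  · set N : Submodule ℤ (Fin (r' + 1) → ℤ) := Submodule.span ℤ {d} with hN
    obtain ⟨n, snf⟩ := N.smithNormalForm (Pi.basisFun ℤ (Fin (r' + 1)))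
    have hn : n = 1 := by
      have h1 : Module.finrank ℤ N = n := by
        rw [Module.finrank_eq_card_basis snf.bN, Fintype.card_fin]
      have h2 : Module.finrank ℤ N = 1 := by
        rw [← (LinearEquiv.toSpanNonzeroSingleton ℤ (Fin (r' + 1) → ℤ) d hd0).finrank_eq]
        exact Module.finrank_self ℤ
      omega
    subst hn
    have hdN : d ∈ N := Submodule.mem_span_singleton_self d
    obtain ⟨e, he⟩ := Submodule.mem_span_singleton.mp (snf.bN 0).2
    have hsum := snf.bN.sum_repr ⟨d, hdN⟩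
    rw [Fin.sum_univ_one] at hsum
    have hsum' : (snf.bN.repr ⟨d, hdN⟩ 0) • ((snf.bN 0 : N) : Fin (r' + 1) → ℤ) = d := by
      have := congrArg Subtype.val hsum
      simpa using this
    set c := snf.bN.repr ⟨d, hdN⟩ 0 with hc
    have hce : c * e = 1 := by
      rw [← he, smul_smul] at hsum'
      have h1 : (c * e - 1) • d = 0 := by rw [sub_smul, one_smul, hsum', sub_self]
      rcases smul_eq_zero.mp h1 with h | h
      · linarith
      · exact absurd h hd0
    have hcunit : c = 1 ∨ c = -1 := Int.isUnit_iff.mp (IsUnit.of_mul_eq_one _ hce)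
    set i₀ := snf.f 0 with hi₀
    set D' : ℤ := c * snf.a 0 with hD'
    have hdD' : d = D' • snf.bM i₀ := by
      rw [← hsum', snf.snf 0, smul_smul]
    have hgcd : Finset.univ.gcd d = |D'| := by
      have h1 : (d : Fin (r' + 1) → ℤ) = fun j => D' * (snf.bM i₀) j := by
        rw [hdD']
        funext j
        rw [Pi.smul_apply, smul_eq_mul]
      rw [h1, Finset.gcd_mul_left, gcd_basis_vector, mul_one, Int.abs_eq_normalize]
    by_cases hpos : 0 ≤ D'
    · refine ⟨snf.bM, i₀, ?_⟩
      rw [hgcd, abs_of_nonneg hpos]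
      exact hdD'
    · push Not at hpos
      refine ⟨snf.bM.unitsSMul (fun i => if i = i₀ then -1 else 1), i₀, ?_⟩
      rw [hgcd, abs_of_neg hpos, Basis.unitsSMul_apply, if_pos rfl, Units.smul_def, smul_smul]
      rw [hdD']
      congr 1
      simp

end Groth.Agent.Lib.helper13.BForms
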