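import Groth.Agent.Lib.helper13.BForms1

/-!
# Boundary forms on `ℤ^r` (helper13), part 2: the subgroup of boundary forms
-/

set_option autoImplicit false

namespace Groth.Agent.Lib.helper13.BForms

open Module

variable {r' : ℕ}

local notation "V" => (Fin (r' + 1) → ℤ)

/-- the set of boundary forms -/
def bset (δ : ℕ) (g : ℤ) (d : Fin (r' + 1) → ℤ) : Set ((Fin (r' + 1) → ℤ) →+ ZMod δ) :=
  {φ | ∃ b : LinearMap.BilinForm ℤ (Fin (r' + 1) → ℤ), b.IsSymm ∧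
      ∀ x, φ x = ((b d x + (1 - g) * b x x : ℤ) : ZMod δ)}

/-- the additive map attached to a symmetric bilinear form -/
noncomputable def chi (δ : ℕ) (g : ℤ) (hδ : (δ : ℤ) ∣ 2 * (g - 1)) (d : Fin (r' + 1) → ℤ)
    (b : LinearMap.BilinForm ℤ (Fin (r' + 1) → ℤ)) (hb : b.IsSymm) :
    (Fin (r' + 1) → ℤ) →+ ZMod δ where
  toFun x := ((b d x + (1 - g) * b x x : ℤ) : ZMod δ)
  map_zero' := by simp
  map_add' x y := by
    rw [← Int.cast_add, ← sub_eq_zero, ← Int.cast_sub, ZMod.intCast_zmod_eq_zero_iff_dvd]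
    have hxy : b y x = b x y := hb.eq y x
    have : b d (x + y) + (1 - g) * b (x + y) (x + y) -
        (b d x + (1 - g) * b x x + (b d y + (1 - g) * b y y)) = - (2 * (g - 1)) * b x y := by
      simp only [map_add, LinearMap.add_apply, hxy]
      ring
    rw [this]
    exact Dvd.dvd.mul_right (Dvd.dvd.neg_right hδ) _

lemma chi_apply (δ : ℕ) (g : ℤ) (hδ : (δ : ℤ) ∣ 2 * (g - 1)) (d : Fin (r' + 1) → ℤ)
    (b : LinearMap.BilinForm ℤ (Fin (r' + 1) → ℤ)) (hb : b.IsSymm) (x : Fin (r' + 1) → ℤ) :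
    chi δ g hδ d b hb x = ((b d x + (1 - g) * b x x : ℤ) : ZMod δ) := rfl

/-- additive maps agreeing on a basis agree -/
lemma addHom_ext_basis {A : Type*} [AddCommGroup A] (F : Basis (Fin (r' + 1)) ℤ (Fin (r' + 1) → ℤ))
    (φ ψ : (Fin (r' + 1) → ℤ) →+ A) (h : ∀ i, φ (F i) = ψ (F i)) : φ = ψ := by
  apply AddMonoidHom.toIntLinearMap_injective
  apply F.ext
  intro i
  exact h i

lemma toBilin_basis (F : Basis (Fin (r' + 1)) ℤ (Fin (r' + 1) → ℤ))
    (B : Matrix (Fin (r' + 1)) (Fin (r' + 1)) ℤ) (i j : Fin (r' + 1)) :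
    Matrix.toBilin F B (F i) (F j) = B i j := by
  rw [← LinearMap.BilinForm.toMatrix_apply F, LinearMap.BilinForm.toMatrix_toBilin]

section main

variable (δ : ℕ) (g : ℤ) (hδ : (δ : ℤ) ∣ 2 * (g - 1)) (d : Fin (r' + 1) → ℤ)
  (F : Basis (Fin (r' + 1)) ℤ (Fin (r' + 1) → ℤ)) (i₀ : Fin (r' + 1)) (D : ℤ)
  (hd : d = D • F i₀)

/-- first modulus -/
abbrev g1 (δ : ℕ) (g D : ℤ) : ℕ := Int.gcd δ (D + 1 - g)
/-- second modulus -/
abbrev g2 (δ : ℕ) (g D : ℤ) : ℕ := Int.gcd δ (Int.gcd (g - 1) D)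

lemma g1_dvd (δ : ℕ) (g D : ℤ) : g1 δ g D ∣ δ :=
  Int.natCast_dvd_natCast.mp (Int.gcd_dvd_left _ _)

lemma g2_dvd (δ : ℕ) (g D : ℤ) : g2 δ g D ∣ δ :=
  Int.natCast_dvd_natCast.mp (Int.gcd_dvd_left _ _)

lemma g1_dvd' (δ : ℕ) (g D : ℤ) : (g1 δ g D : ℤ) ∣ D + 1 - g := Int.gcd_dvd_right _ _

lemma g2_dvd_D (δ : ℕ) (g D : ℤ) : (g2 δ g D : ℤ) ∣ D :=
  (Int.gcd_dvd_right _ _).trans (Int.gcd_dvd_right _ _)

lemma g2_dvd_g (δ : ℕ) (g D : ℤ) : (g2 δ g D : ℤ) ∣ g - 1 :=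
  (Int.gcd_dvd_right _ _).trans (Int.gcd_dvd_left _ _)

/-- the comparison map -/
noncomputable def Psi : ((Fin (r' + 1) → ℤ) →+ ZMod δ) →+
    (ZMod (g1 δ g D) × (Fin r' → ZMod (g2 δ g D))) :=
  AddMonoidHom.prod
    ((ZMod.castHom (g1_dvd δ g D) (ZMod (g1 δ g D))).toAddMonoidHom.comp
      (AddMonoidHom.eval (F i₀)))
    (AddMonoidHom.pi fun j =>
      (ZMod.castHom (g2_dvd δ g D) (ZMod (g2 δ g D))).toAddMonoidHom.comp
        (AddMonoidHom.eval (F (i₀.succAbove j))))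

lemma Psi_fst (φ : (Fin (r' + 1) → ℤ) →+ ZMod δ) :
    (Psi δ g F i₀ D φ).1 = ZMod.castHom (g1_dvd δ g D) (ZMod (g1 δ g D)) (φ (F i₀)) := rfl

lemma Psi_snd (φ : (Fin (r' + 1) → ℤ) →+ ZMod δ) (j : Fin r') :
    (Psi δ g F i₀ D φ).2 j =
      ZMod.castHom (g2_dvd δ g D) (ZMod (g2 δ g D)) (φ (F (i₀.succAbove j))) := rfl

lemma castHom_eq_zero_iff {n : ℕ} (h : n ∣ δ) (x : ZMod δ) :
    ZMod.castHom h (ZMod n) x = 0 ↔ ∃ m : ℤ, x = ((n * m : ℤ) : ZMod δ) := by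
  constructor
  · intro hx
    rw [← ZMod.intCast_zmod_cast x, map_intCast, ZMod.intCast_zmod_eq_zero_iff_dvd] at hx
    obtain ⟨m, hm⟩ := hx
    exact ⟨m, by rw [← hm, ZMod.intCast_zmod_cast]⟩
  · rintro ⟨m, rfl⟩
    rw [map_intCast, ZMod.intCast_zmod_eq_zero_iff_dvd]
    exact Dvd.intro _ rfl

include hd in
lemma bset_le_ker (φ : (Fin (r' + 1) → ℤ) →+ ZMod δ) (hφ : φ ∈ bset δ g d) :
    Psi δ g F i₀ D φ = 0 := by
  obtain ⟨b, hb, hφb⟩ := hφ
  have hbd : ∀ x, b d x = D * b (F i₀) x := by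
    intro x
    rw [hd, map_smul, LinearMap.smul_apply, smul_eq_mul]
  refine Prod.ext ?_ (funext fun j => ?_)
  · rw [Psi_fst, hφb, map_intCast, Prod.fst_zero, ZMod.intCast_zmod_eq_zero_iff_dvd, hbd]
    have : D * b (F i₀) (F i₀) + (1 - g) * b (F i₀) (F i₀) = (D + 1 - g) * b (F i₀) (F i₀) := by
      ring
    rw [this]
    exact Dvd.dvd.mul_right (g1_dvd' δ g D) _
  · rw [Psi_snd, hφb, map_intCast, Prod.snd_zero, Pi.zero_apply,
      ZMod.intCast_zmod_eq_zero_iff_dvd, hbd]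
    apply dvd_add
    · exact Dvd.dvd.mul_right (g2_dvd_D δ g D) _
    · apply Dvd.dvd.mul_right
      have := g2_dvd_g δ g D
      have h2 : (1 - g) = - (g - 1) := by ring
      rw [h2]
      exact Dvd.dvd.neg_right this

include hδ hd in
lemma ker_le_bset (φ : (Fin (r' + 1) → ℤ) →+ ZMod δ) (hφ : Psi δ g F i₀ D φ = 0) :
    φ ∈ bset δ g d := by
  classical
  have h1 : ZMod.castHom (g1_dvd δ g D) (ZMod (g1 δ g D)) (φ (F i₀)) = 0 := by
    rw [← Psi_fst, hφ]; rfl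
  have h2 : ∀ j, ZMod.castHom (g2_dvd δ g D) (ZMod (g2 δ g D)) (φ (F (i₀.succAbove j))) = 0 := by
    intro j
    rw [← Psi_snd, hφ]; rfl
  obtain ⟨m₀, hm₀⟩ := (castHom_eq_zero_iff δ (g1_dvd δ g D) _).mp h1
  choose m hm using fun j => (castHom_eq_zero_iff δ (g2_dvd δ g D) _).mp (h2 j)
  -- Bezout coefficients
  set x₁ := Int.gcdA δ (D + 1 - g) with hx₁
  set y₁ := Int.gcdB δ (D + 1 - g) with hy₁
  have hbez1 : (g1 δ g D : ℤ) = δ * x₁ + (D + 1 - g) * y₁ := Int.gcd_eq_gcd_ab _ _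
  set G : ℕ := Int.gcd (g - 1) D with hG
  set x₂ := Int.gcdA δ G with hx₂
  set y₂ := Int.gcdB δ G with hy₂
  have hbez2 : (g2 δ g D : ℤ) = δ * x₂ + G * y₂ := Int.gcd_eq_gcd_ab _ _
  set x₃ := Int.gcdA (g - 1) D with hx₃
  set y₃ := Int.gcdB (g - 1) D with hy₃
  have hbez3 : (G : ℤ) = (g - 1) * x₃ + D * y₃ := Int.gcd_eq_gcd_ab _ _
  -- the matrix
  let β₀ : ℤ := y₁ * m₀
  let γ : Fin (r' + 1) → ℤ := Fin.insertNth i₀ (0 : ℤ) (fun j => y₃ * y₂ * m j)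
  let ε : Fin (r' + 1) → ℤ := Fin.insertNth i₀ (0 : ℤ) (fun j => - x₃ * y₂ * m j)
  let B : Matrix (Fin (r' + 1)) (Fin (r' + 1)) ℤ := fun i l =>
    if i = l then (if i = i₀ then β₀ else ε i)
    else if i = i₀ then γ l else if l = i₀ then γ i else 0
  have hBsymm : ∀ i l, B i l = B l i := by
    intro i l
    simp only [B]
    by_cases h : i = l
    · subst h; rfl
    · rw [if_neg h, if_neg (Ne.symm h)]
      by_cases hi : i = i₀
      · rw [if_pos hi]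
        have hl : l ≠ i₀ := fun hl => h (hi.trans hl.symm)
        rw [if_neg hl, if_pos hi]
      · rw [if_neg hi]
        by_cases hl : l = i₀
        · rw [if_pos hl, if_pos hl]
        · rw [if_neg hl, if_neg hl, if_neg hi]
  let b : LinearMap.BilinForm ℤ (Fin (r' + 1) → ℤ) := Matrix.toBilin F B
  have hb : b.IsSymm := by
    rw [LinearMap.BilinForm.isSymm_iff_basis F]
    intro i j
    rw [toBilin_basis, toBilin_basis, hBsymm]
  refine ⟨b, hb, ?_⟩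
  have hbd : ∀ x, b d x = D * b (F i₀) x := by
    intro x
    rw [hd, map_smul, LinearMap.smul_apply, smul_eq_mul]
  have hEq : φ = chi δ g hδ d b hb := by
    apply addHom_ext_basis F
    intro l
    rw [chi_apply, hbd, toBilin_basis, toBilin_basis]
    rcases Fin.eq_self_or_eq_succAbove i₀ l with rfl | ⟨j, rfl⟩
    · have hB : B l l = β₀ := by simp [B]
      rw [hB, hm₀, ← sub_eq_zero, ← Int.cast_sub, ZMod.intCast_zmod_eq_zero_iff_dvd]
      refine ⟨x₁ * m₀, ?_⟩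
      rw [hbez1]
      simp only [β₀]
      ring
    · have hne : i₀.succAbove j ≠ i₀ := Fin.succAbove_ne i₀ j
      have hB1 : B i₀ (i₀.succAbove j) = y₃ * y₂ * m j := by
        simp [B, γ, Ne.symm hne, Fin.insertNth_apply_succAbove]
      have hB2 : B (i₀.succAbove j) (i₀.succAbove j) = - x₃ * y₂ * m j := by
        simp [B, ε, hne, Fin.insertNth_apply_succAbove]
      rw [hB1, hB2, hm j, ← sub_eq_zero, ← Int.cast_sub, ZMod.intCast_zmod_eq_zero_iff_dvd]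
      refine ⟨x₂ * m j, ?_⟩
      rw [hbez2, hbez3]
      ring
  intro x
  rw [hEq, chi_apply]

include hδ hd in
lemma closure_bset_eq_ker :
    AddSubgroup.closure (bset δ g d) = (Psi δ g F i₀ D).ker := by
  have : bset δ g d = ((Psi δ g F i₀ D).ker : Set _) := by
    ext φ
    constructor
    · intro h
      exact bset_le_ker δ g d F i₀ D hd φ h
    · intro h
      exact ker_le_bset δ g hδ d F i₀ D hd φ h
  rw [this, AddSubgroup.closure_eq]

lemma Psi_surjective : Function.Surjective (Psi δ g F i₀ D) := by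
  rintro ⟨α, β⟩
  let c : Fin (r' + 1) → ZMod δ :=
    Fin.insertNth i₀ (((ZMod.cast α : ℤ) : ZMod δ)) (fun j => ((ZMod.cast (β j) : ℤ) : ZMod δ))
  let φ : (Fin (r' + 1) → ℤ) →+ ZMod δ := (F.constr ℤ c).toAddMonoidHom
  have hφ : ∀ i, φ (F i) = c i := by
    intro i
    show F.constr ℤ c (F i) = c i
    rw [Basis.constr_basis]
  refine ⟨φ, Prod.ext ?_ (funext fun j => ?_)⟩
  · rw [Psi_fst, hφ]
    simp only [c]
    rw [Fin.insertNth_apply_same, map_intCast, ZMod.intCast_zmod_cast]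
  · rw [Psi_snd, hφ]
    simp only [c]
    rw [Fin.insertNth_apply_succAbove, map_intCast, ZMod.intCast_zmod_cast]

include hδ hd in
/-- the quotient by the boundary forms -/
theorem quot_equiv :
    Nonempty ((((Fin (r' + 1) → ℤ) →+ ZMod δ) ⧸ AddSubgroup.closure (bset δ g d)) ≃+
      (ZMod (g1 δ g D) × (Fin r' → ZMod (g2 δ g D)))) :=
  ⟨(QuotientAddGroup.quotientAddEquivOfEq (closure_bset_eq_ker δ g hδ d F i₀ D hd)).trans
    (QuotientAddGroup.quotientKerEquivOfSurjective _ (Psi_surjective δ g F i₀ D))⟩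

end main

end Groth.Agent.Lib.helper13.BForms
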