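import Groth.Agent.Lib.helper13.BForms2

/-!
# Boundary forms on `ℤ^r` (helper13), part 3: the structure of the subgroup of boundary forms
-/

set_option autoImplicit false

namespace Groth.Agent.Lib.helper13.BForms

open Module

variable {r' : ℕ}

/-- multiplication by `n`, as a map `ℤ/(δ/n) → ℤ/δ` -/
noncomputable def iota (δ n : ℕ) (h : n ∣ δ) : ZMod (δ / n) →+ ZMod δ :=
  ZMod.lift (δ / n) ⟨(AddMonoidHom.mulLeft (n : ZMod δ)).comp (Int.castAddHom (ZMod δ)), by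
    show (n : ZMod δ) * (((δ / n : ℕ) : ℤ) : ZMod δ) = 0
    rw [Int.cast_natCast, ← Nat.cast_mul, Nat.mul_div_cancel' h, ZMod.natCast_self]⟩

lemma iota_intCast (δ n : ℕ) (h : n ∣ δ) (k : ℤ) :
    iota δ n h (k : ZMod (δ / n)) = ((n * k : ℤ) : ZMod δ) := by
  rw [iota, ZMod.lift_coe]
  show (n : ZMod δ) * (k : ZMod δ) = _
  push_cast
  rfl

lemma iota_injective (δ n : ℕ) (hδ0 : 0 < δ) (h : n ∣ δ) :
    Function.Injective (iota δ n h) := by
  rw [iota, ZMod.lift_injective]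
  intro m hm
  have hm' : (((n : ℤ) * m : ℤ) : ZMod δ) = 0 := by
    push_cast
    exact hm
  rw [ZMod.intCast_zmod_eq_zero_iff_dvd] at hm' ⊢
  obtain ⟨q, rfl⟩ := h
  have hn : 0 < n := Nat.pos_of_mul_pos_right hδ0
  rw [Nat.mul_div_cancel_left q hn]
  push_cast at hm'
  exact (mul_dvd_mul_iff_left (by exact_mod_cast hn.ne')).mp hm'

lemma range_iota (δ n : ℕ) (h : n ∣ δ) (x : ZMod δ) :
    ZMod.castHom h (ZMod n) x = 0 ↔ ∃ y, iota δ n h y = x := by
  rw [castHom_eq_zero_iff]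
  constructor
  · rintro ⟨m, rfl⟩
    exact ⟨(m : ZMod (δ / n)), iota_intCast δ n h m⟩
  · rintro ⟨y, rfl⟩
    refine ⟨(ZMod.cast y : ℤ), ?_⟩
    rw [← iota_intCast, ZMod.intCast_zmod_cast]

section main

variable (δ : ℕ) (hδ0 : 0 < δ) (g : ℤ) (hδ : (δ : ℤ) ∣ 2 * (g - 1)) (d : Fin (r' + 1) → ℤ)
  (F : Basis (Fin (r' + 1)) ℤ (Fin (r' + 1) → ℤ)) (i₀ : Fin (r' + 1)) (D : ℤ)
  (hd : d = D • F i₀)

/-- the coordinates of `Theta` -/
noncomputable def thetaVec (x : ZMod (δ / g1 δ g D) × (Fin r' → ZMod (δ / g2 δ g D))) :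
    Fin (r' + 1) → ZMod δ :=
  Fin.insertNth i₀ (iota δ _ (g1_dvd δ g D) x.1) (fun j => iota δ _ (g2_dvd δ g D) (x.2 j))

lemma thetaVec_same (x : ZMod (δ / g1 δ g D) × (Fin r' → ZMod (δ / g2 δ g D))) :
    thetaVec δ g i₀ D x i₀ = iota δ _ (g1_dvd δ g D) x.1 := by
  rw [thetaVec, Fin.insertNth_apply_same]

lemma thetaVec_succAbove (x : ZMod (δ / g1 δ g D) × (Fin r' → ZMod (δ / g2 δ g D)))
    (j : Fin r') :
    thetaVec δ g i₀ D x (i₀.succAbove j) = iota δ _ (g2_dvd δ g D) (x.2 j) := by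
  rw [thetaVec, Fin.insertNth_apply_succAbove]

lemma thetaVec_zero : thetaVec δ g i₀ D 0 = 0 := by
  funext i
  rcases Fin.eq_self_or_eq_succAbove i₀ i with rfl | ⟨j, rfl⟩
  · rw [thetaVec_same]; simp
  · rw [thetaVec_succAbove]; simp

lemma thetaVec_add (x y : ZMod (δ / g1 δ g D) × (Fin r' → ZMod (δ / g2 δ g D))) :
    thetaVec δ g i₀ D (x + y) = thetaVec δ g i₀ D x + thetaVec δ g i₀ D y := by
  funext i
  rw [Pi.add_apply]
  rcases Fin.eq_self_or_eq_succAbove i₀ i with rfl | ⟨j, rfl⟩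
  · rw [thetaVec_same, thetaVec_same, thetaVec_same]; simp
  · rw [thetaVec_succAbove, thetaVec_succAbove, thetaVec_succAbove]; simp

/-- the parametrisation of the kernel of `Psi` -/
noncomputable def Theta : (ZMod (δ / g1 δ g D) × (Fin r' → ZMod (δ / g2 δ g D))) →+
    ((Fin (r' + 1) → ℤ) →+ ZMod δ) where
  toFun x := (F.constr ℤ (thetaVec δ g i₀ D x)).toAddMonoidHom
  map_zero' := by
    rw [thetaVec_zero, map_zero]
    rfl
  map_add' x y := by
    rw [thetaVec_add, map_add]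
    rfl

lemma Theta_basis (x : ZMod (δ / g1 δ g D) × (Fin r' → ZMod (δ / g2 δ g D)))
    (i : Fin (r' + 1)) :
    Theta δ g F i₀ D x (F i) = thetaVec δ g i₀ D x i := by
  show F.constr ℤ _ (F i) = _
  rw [Basis.constr_basis]

include hδ0 in
lemma Theta_injective : Function.Injective (Theta δ g F i₀ D) := by
  intro x y hxy
  refine Prod.ext ?_ (funext fun j => ?_)
  · apply iota_injective δ _ hδ0 (g1_dvd δ g D)
    rw [← thetaVec_same, ← thetaVec_same, ← Theta_basis δ g F, ← Theta_basis δ g F, hxy]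
  · apply iota_injective δ _ hδ0 (g2_dvd δ g D)
    rw [← thetaVec_succAbove, ← thetaVec_succAbove, ← Theta_basis δ g F, ← Theta_basis δ g F, hxy]

lemma range_Theta : (Theta δ g F i₀ D).range = (Psi δ g F i₀ D).ker := by
  ext φ
  rw [AddMonoidHom.mem_range, AddMonoidHom.mem_ker]
  constructor
  · rintro ⟨x, rfl⟩
    refine Prod.ext ?_ (funext fun j => ?_)
    · rw [Psi_fst, Theta_basis, thetaVec_same, Prod.fst_zero, range_iota]
      exact ⟨_, rfl⟩
    · rw [Psi_snd, Theta_basis, thetaVec_succAbove, Prod.snd_zero, Pi.zero_apply, range_iota]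
      exact ⟨_, rfl⟩
  · intro hφ
    have h1 : ZMod.castHom (g1_dvd δ g D) (ZMod (g1 δ g D)) (φ (F i₀)) = 0 := by
      rw [← Psi_fst, hφ]; rfl
    have h2 : ∀ j, ZMod.castHom (g2_dvd δ g D) (ZMod (g2 δ g D)) (φ (F (i₀.succAbove j))) = 0 := by
      intro j
      rw [← Psi_snd, hφ]; rfl
    obtain ⟨a, ha⟩ := (range_iota δ _ (g1_dvd δ g D) _).mp h1
    choose b hb using fun j => (range_iota δ _ (g2_dvd δ g D) _).mp (h2 j)
    refine ⟨(a, b), ?_⟩
    apply addHom_ext_basis F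
    intro i
    rw [Theta_basis]
    rcases Fin.eq_self_or_eq_succAbove i₀ i with rfl | ⟨j, rfl⟩
    · rw [thetaVec_same, ha]
    · rw [thetaVec_succAbove, hb]

include hδ0 hδ hd in
/-- the structure of the group of boundary forms -/
theorem closure_equiv :
    Nonempty (AddSubgroup.closure (bset δ g d) ≃+
      (ZMod (δ / g1 δ g D) × (Fin r' → ZMod (δ / g2 δ g D)))) := by
  have h : (Theta δ g F i₀ D).range = AddSubgroup.closure (bset δ g d) := by
    rw [range_Theta, closure_bset_eq_ker δ g hδ d F i₀ D hd]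
  exact ⟨((AddMonoidHom.ofInjective (Theta_injective δ hδ0 g F i₀ D)).trans
    (AddEquiv.addSubgroupCongr h)).symm⟩

end main

end Groth.Agent.Lib.helper13.BForms
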