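import Groth.Agent.Lib.helper13.BIPullback

/-!
# Strictly balanced multidegrees and nested extremal twists (helper13)
-/

set_option autoImplicit false
open LabGraph Relation

namespace Groth.Agent.Lib.helper13.BINested

open Groth.Agent.Lib.helper13.BIPullback

universe u
variable {V E : Type u} [Fintype V] [Fintype E] [DecidableEq V] [DecidableEq E]

/-- a nontrivial vertex set of a connected graph has a cut edge -/
lemma cut_pos (ends : E → V × V) (hconn : LabGraph.Connected ends) (Z : Finset V)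
    (hne : Z.Nonempty) (hproper : Z ≠ Finset.univ) : 0 < LabGraph.cut ends Z := by
  rw [cut_eq, Finset.card_pos]
  by_contra hempty
  rw [Finset.not_nonempty_iff_eq_empty] at hempty
  have hno : ∀ e, ¬ (((ends e).1 ∈ Z ∧ (ends e).2 ∉ Z) ∨ ((ends e).1 ∉ Z ∧ (ends e).2 ∈ Z)) := by
    intro e he
    have : e ∈ cutset ends Z := (mem_cutset ends Z e).mpr he
    rw [hempty] at this
    exact absurd this (Finset.notMem_empty _)
  obtain ⟨a, ha⟩ := hne
  obtain ⟨b, hb⟩ : ∃ b, b ∉ Z := by
    by_contra h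
    push Not at h
    exact hproper (Finset.eq_univ_iff_forall.mpr h)
  have hclosed : ∀ x y, ReflTransGen (LabGraph.Adj ends) x y → x ∈ Z → y ∈ Z := by
    intro x y hxy
    induction hxy with
    | refl => exact id
    | tail _ hcb ih =>
      intro hx
      have hc := ih hx
      obtain ⟨e, he⟩ := hcb
      by_contra hbZ
      rcases he with he | he
      · exact hno e (Or.inl ⟨by rw [he]; exact hc, by rw [he]; exact hbZ⟩)
      · exact hno e (Or.inr ⟨by rw [he]; exact hbZ, by rw [he]; exact hc⟩)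
  exact hb (hclosed a b (hconn.2 a b) ha)

lemma twist_const (ends : E → V × V) (c : ℤ) (v : V) : twist ends (fun _ => c) v = 0 := by
  unfold twist
  simp

/-- the twist of an indicator is nonpositive on the set -/
lemma twist_indicator_nonpos (ends : E → V × V) (Z : Finset V) (x : V) (hx : x ∈ Z) :
    twist ends (fun u => if u ∈ Z then (1 : ℤ) else 0) x ≤ 0 := by
  unfold twist
  refine Finset.sum_nonpos fun e _ => ?_
  have h1 : (if (ends e).1 = x then (if (ends e).2 ∈ Z then (1 : ℤ) else 0)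
      - (if (ends e).1 ∈ Z then (1 : ℤ) else 0) else 0) ≤ 0 := by
    split_ifs with h1 h2 h3 <;> simp_all
  have h2 : (if (ends e).2 = x then (if (ends e).1 ∈ Z then (1 : ℤ) else 0)
      - (if (ends e).2 ∈ Z then (1 : ℤ) else 0) else 0) ≤ 0 := by
    split_ifs with h1 h2 h3 <;> simp_all
  linarith

/-- with a cut edge at `x ∈ Z` it is at most `-1` -/
lemma twist_indicator_le_neg_one (ends : E → V × V) (Z : Finset V) (x : V) (hx : x ∈ Z)
    (e₀ : E) (he₀ : ((ends e₀).1 = x ∧ (ends e₀).2 ∉ Z) ∨ ((ends e₀).2 = x ∧ (ends e₀).1 ∉ Z)) :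
    twist ends (fun u => if u ∈ Z then (1 : ℤ) else 0) x ≤ -1 := by
  unfold twist
  have hterm : ∀ e : E, ((if (ends e).1 = x then (if (ends e).2 ∈ Z then (1 : ℤ) else 0)
      - (if (ends e).1 ∈ Z then (1 : ℤ) else 0) else 0) +
      (if (ends e).2 = x then (if (ends e).1 ∈ Z then (1 : ℤ) else 0)
      - (if (ends e).2 ∈ Z then (1 : ℤ) else 0) else 0)) ≤ 0 := by
    intro e
    have h1 : (if (ends e).1 = x then (if (ends e).2 ∈ Z then (1 : ℤ) else 0)
        - (if (ends e).1 ∈ Z then (1 : ℤ) else 0) else 0) ≤ 0 := by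
      split_ifs with h1 h2 h3 <;> simp_all
    have h2 : (if (ends e).2 = x then (if (ends e).1 ∈ Z then (1 : ℤ) else 0)
        - (if (ends e).2 ∈ Z then (1 : ℤ) else 0) else 0) ≤ 0 := by
      split_ifs with h1 h2 h3 <;> simp_all
    linarith
  have hterm₀ : ((if (ends e₀).1 = x then (if (ends e₀).2 ∈ Z then (1 : ℤ) else 0)
      - (if (ends e₀).1 ∈ Z then (1 : ℤ) else 0) else 0) +
      (if (ends e₀).2 = x then (if (ends e₀).1 ∈ Z then (1 : ℤ) else 0)
      - (if (ends e₀).2 ∈ Z then (1 : ℤ) else 0) else 0)) ≤ -1 := by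
    rcases he₀ with ⟨h1, h2⟩ | ⟨h1, h2⟩
    · have h3 : (ends e₀).1 ∈ Z := h1 ▸ hx
      have h4 : (ends e₀).2 ≠ x := fun h => h2 (h ▸ hx)
      simp [h1, h2, h3, h4, hx]
    · have h3 : (ends e₀).2 ∈ Z := h1 ▸ hx
      have h4 : (ends e₀).1 ≠ x := fun h => h2 (h ▸ hx)
      simp [h1, h2, h3, h4, hx]
  rw [← Finset.add_sum_erase Finset.univ _ (Finset.mem_univ e₀)]
  have := Finset.sum_nonpos (s := Finset.univ.erase e₀) (fun e _ => hterm e)
  linarith

/-- the counting inequality -/
lemma card_le_two_mul (ends : E → V × V) (X : Finset V) (s : Finset E)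
    (hX : ∀ v ∈ X, LabGraph.cut ends {v} ≤ 2)
    (hs : ∀ e ∈ s, ((ends e).1 ∈ X ∧ (ends e).2 ∉ X) ∨ ((ends e).1 ∉ X ∧ (ends e).2 ∈ X)) :
    s.card ≤ 2 * X.card := by
  classical
  let g : E → V := fun e => if (ends e).1 ∈ X then (ends e).1 else (ends e).2
  have hg : ∀ e ∈ s, g e ∈ X := by
    intro e he
    rcases hs e he with ⟨h1, _⟩ | ⟨h1, h2⟩
    · simp only [g, if_pos h1]; exact h1
    · simp only [g, if_neg h1]; exact h2
  have himg : (s.image g).card ≤ X.card := by
    refine Finset.card_le_card ?_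
    intro v hv
    obtain ⟨e, he, rfl⟩ := Finset.mem_image.mp hv
    exact hg e he
  refine le_trans (Finset.card_le_mul_card_image s 2 ?_) (Nat.mul_le_mul_left 2 himg)
  intro v hv
  obtain ⟨e', he', rfl⟩ := Finset.mem_image.mp hv
  refine le_trans (Finset.card_le_card ?_) (hX (g e') (hg e' he'))
  intro e he
  rw [Finset.mem_filter] at he
  rw [Finset.mem_filter]
  refine ⟨Finset.mem_univ _, ?_⟩
  simp only [Finset.mem_singleton]
  have hge := hg e he.1
  rcases hs e he.1 with ⟨h1, h2⟩ | ⟨h1, h2⟩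
  · have : g e = (ends e).1 := by simp only [g, if_pos h1]
    left
    refine ⟨by rw [← he.2, this], fun h => h2 ?_⟩
    rw [h, ← he.2]; exact hge
  · have : g e = (ends e).2 := by simp only [g, if_neg h1]
    right
    refine ⟨fun h => h1 ?_, by rw [← he.2, this]⟩
    rw [h, ← he.2]; exact hge

end Groth.Agent.Lib.helper13.BINested
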