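import Groth.Agent.Lib.helper13.BINested

/-!
# Strictly balanced multidegrees and nested extremal twists: main theorem (helper13)
-/

set_option autoImplicit false
open LabGraph Relation

namespace Groth.Agent.Lib.helper13.BINested

open Groth.Agent.Lib.helper13.BIPullback

universe u
variable {V E : Type u} [Fintype V] [Fintype E] [DecidableEq V] [DecidableEq E]

theorem main (ends : E → V × V) (w : V → ℕ) (hX : IsQuasistableGraph ends w)
    (hg : 2 ≤ genus ends w) (d d' : V → ℤ)
    (hBI : SatisfiesBI ends w d)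
    (hone : ∀ v : V, IsExceptional ends w v → d v = 1) (hone' : ∀ v : V, IsExceptional ends w v → d' v = 1)
    (hstrict : ∀ Y : Finset V, Y.Nonempty → Y ≠ Finset.univ →
      2 * (canDeg ends w Finset.univ * (∑ v ∈ Y, d v) - (∑ v, d v) * canDeg ends w Y)
          = (cut ends Y : ℤ) * canDeg ends w Finset.univ →
      ∀ e : E, (((ends e).1 ∈ Y ∧ (ends e).2 ∉ Y) ∨ ((ends e).1 ∉ Y ∧ (ends e).2 ∈ Y)) →
        (IsExceptional ends w (ends e).1 ∨ IsExceptional ends w (ends e).2))
    (m : ℕ) (Z : Fin m → Finset V) (hmono : ∀ i j : Fin m, i ≤ j → Z i ⊆ Z j)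
    (hext : ∀ i : Fin m, 2 * (canDeg ends w Finset.univ * (∑ v ∈ Z i, d v) - (∑ v, d v) * canDeg ends w (Z i))
          = (cut ends (Z i) : ℤ) * canDeg ends w Finset.univ)
    (hsum : ∀ v : V, d' v = d v + ∑ i : Fin m, twist ends (fun u => if u ∈ Z i then (1 : ℤ) else 0) v) :
    d = d' := by
  classical
  have hconn : LabGraph.Connected ends := hX.1.1
  have hK : canDeg ends w Finset.univ = 2 * (genus ends w - 1) := canDeg_univ ends w
  have hKpos : 0 < canDeg ends w Finset.univ := by rw [hK]; linarith
  by_cases hall : ∀ i, Z i = ∅ ∨ Z i = Finset.univ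
  · funext v
    rw [hsum v]
    have h0 : ∀ i, twist ends (fun u => if u ∈ Z i then (1 : ℤ) else 0) v = 0 := by
      intro i
      rcases hall i with h | h
      · rw [h]
        simp only [Finset.notMem_empty, if_false]
        exact twist_const ends 0 v
      · rw [h]
        simp only [Finset.mem_univ, if_true]
        exact twist_const ends 1 v
    rw [Finset.sum_congr rfl (fun i _ => h0 i)]
    simp
  · exfalso
    push Not at hall
    obtain ⟨i₀, hi₀⟩ := hall
    obtain ⟨k, hkmem, hkmin⟩ := (Finset.univ.filter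
      (fun i : Fin m => Z i ≠ ∅ ∧ Z i ≠ Finset.univ)).exists_min_image id
        ⟨i₀, Finset.mem_filter.mpr ⟨Finset.mem_univ _, Finset.nonempty_iff_ne_empty.mp hi₀.1, hi₀.2⟩⟩
    have hk := (Finset.mem_filter.mp hkmem).2
    have hmin : ∀ i : Fin m, i < k → Z i = ∅ := by
      intro i hik
      by_contra hne
      by_cases hu : Z i = Finset.univ
      · apply hk.2
        rw [Finset.eq_univ_iff_forall]
        intro y
        exact hmono i k hik.le (hu ▸ Finset.mem_univ y)
      · have := hkmin i (Finset.mem_filter.mpr ⟨Finset.mem_univ _, hne, hu⟩)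
        exact absurd hik (not_lt.mpr this)
    have hZne : (Z k).Nonempty := Finset.nonempty_iff_ne_empty.mpr hk.1
    have hcutpos := cut_pos ends hconn (Z k) hZne hk.2
    -- exceptional endpoints of cut edges lie outside
    have h3 : ∀ (e : E) (x : V), IsExceptional ends w x → x ∈ Z k →
        (((ends e).1 = x ∧ (ends e).2 ∉ Z k) ∨ ((ends e).2 = x ∧ (ends e).1 ∉ Z k)) → False := by
      intro e x hx hxZ he
      have hs := hsum x
      rw [hone x hx, hone' x hx] at hs
      have hsum0 : ∑ i, twist ends (fun u => if u ∈ Z i then (1 : ℤ) else 0) x = 0 := by linarith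
      have hle : ∑ i, twist ends (fun u => if u ∈ Z i then (1 : ℤ) else 0) x
          ≤ ∑ i : Fin m, (if i = k then (-1 : ℤ) else 0) := by
        refine Finset.sum_le_sum fun i _ => ?_
        by_cases hik : i = k
        · subst hik
          rw [if_pos rfl]
          exact twist_indicator_le_neg_one ends _ x hxZ e he
        · rw [if_neg hik]
          rcases lt_or_gt_of_ne hik with hlt | hgt
          · rw [hmin i hlt]
            simp only [Finset.notMem_empty, if_false]
            rw [twist_const]
          · exact twist_indicator_nonpos ends _ x (hmono k i hgt.le hxZ)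
      rw [Finset.sum_ite_eq' Finset.univ k (fun _ => (-1 : ℤ))] at hle
      simp only [Finset.mem_univ, if_true] at hle
      linarith
    set X : Finset V := Finset.univ.filter (fun v => v ∉ Z k ∧ IsExceptional ends w v ∧
      ∃ e, ((ends e).1 = v ∧ (ends e).2 ∈ Z k) ∨ ((ends e).2 = v ∧ (ends e).1 ∈ Z k)) with hXdef
    have hXexc : ∀ v ∈ X, IsExceptional ends w v := fun v hv => (Finset.mem_filter.mp hv).2.2.1
    have hXZ : Disjoint (Z k) X := by
      rw [Finset.disjoint_left]
      intro a ha hX
      exact (Finset.mem_filter.mp hX).2.1 ha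
    have hF1 : ∀ e, e ∈ cutset ends (Z k) →
        (((ends e).1 ∈ Z k ∧ (ends e).2 ∈ X) ∨ ((ends e).1 ∈ X ∧ (ends e).2 ∈ Z k)) := by
      intro e he
      have hc := (mem_cutset ends (Z k) e).mp he
      have hexc := hstrict (Z k) hZne hk.2 (hext k) e hc
      rcases hc with ⟨h1, h2⟩ | ⟨h1, h2⟩
      · left
        refine ⟨h1, ?_⟩
        have hex2 : IsExceptional ends w (ends e).2 := by
          rcases hexc with h | h
          · exact (h3 e _ h h1 (Or.inl ⟨rfl, h2⟩)).elim
          · exact h
        exact Finset.mem_filter.mpr ⟨Finset.mem_univ _, h2, hex2, e, Or.inr ⟨rfl, h1⟩⟩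
      · right
        refine ⟨?_, h2⟩
        have hex1 : IsExceptional ends w (ends e).1 := by
          rcases hexc with h | h
          · exact h
          · exact (h3 e _ h h2 (Or.inr ⟨rfl, h1⟩)).elim
        exact Finset.mem_filter.mpr ⟨Finset.mem_univ _, h1, hex1, e, Or.inl ⟨rfl, h2⟩⟩
    set Y := Z k ∪ X with hYdef
    have hF2 : ∑ v ∈ Y, d v = ∑ v ∈ Z k, d v + (X.card : ℤ) := by
      rw [hYdef, Finset.sum_union hXZ, Finset.sum_congr rfl (fun v hv => hone v (hXexc v hv))]
      simp
    have hF3 : canDeg ends w Y = canDeg ends w (Z k) :=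
      canDeg_eq_of_agree ends w X (Z k) Y hXexc Finset.subset_union_left
        (fun a haY haZ => (Finset.mem_union.mp haY).resolve_left haZ)
    have hnotX : ∀ a, a ∈ Z k → a ∉ X := fun a ha => Finset.disjoint_left.mp hXZ ha
    have hF4 : LabGraph.cut ends Y + LabGraph.cut ends (Z k) ≤ 2 * X.card := by
      have hdisj : Disjoint (cutset ends Y) (cutset ends (Z k)) := by
        rw [Finset.disjoint_left]
        intro e heY heZ
        have hcY := (mem_cutset ends Y e).mp heY
        rcases hF1 e heZ with ⟨h1, h2⟩ | ⟨h1, h2⟩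
        · have a1 : (ends e).1 ∈ Y := Finset.mem_union_left _ h1
          have a2 : (ends e).2 ∈ Y := Finset.mem_union_right _ h2
          tauto
        · have a1 : (ends e).1 ∈ Y := Finset.mem_union_right _ h1
          have a2 : (ends e).2 ∈ Y := Finset.mem_union_left _ h2
          tauto
      rw [cut_eq, cut_eq, ← Finset.card_union_of_disjoint hdisj]
      refine card_le_two_mul ends X _ (fun v hv => (hXexc v hv).2.2.le) ?_
      intro e he
      rcases Finset.mem_union.mp he with heY | heZ
      · have hcY := (mem_cutset ends Y e).mp heY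
        rcases hcY with ⟨h1, h2⟩ | ⟨h1, h2⟩
        · have h2X : (ends e).2 ∉ X := fun h => h2 (Finset.mem_union_right _ h)
          have h2Z : (ends e).2 ∉ Z k := fun h => h2 (Finset.mem_union_left _ h)
          rcases Finset.mem_union.mp h1 with h1Z | h1X
          · exfalso
            have : e ∈ cutset ends (Z k) := (mem_cutset ends (Z k) e).mpr (Or.inl ⟨h1Z, h2Z⟩)
            rcases hF1 e this with ⟨_, h⟩ | ⟨_, h⟩
            · exact h2X h
            · exact h2Z h
          · exact Or.inl ⟨h1X, h2X⟩
        · have h1X : (ends e).1 ∉ X := fun h => h1 (Finset.mem_union_right _ h)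
          have h1Z : (ends e).1 ∉ Z k := fun h => h1 (Finset.mem_union_left _ h)
          rcases Finset.mem_union.mp h2 with h2Z | h2X
          · exfalso
            have : e ∈ cutset ends (Z k) := (mem_cutset ends (Z k) e).mpr (Or.inr ⟨h1Z, h2Z⟩)
            rcases hF1 e this with ⟨h, _⟩ | ⟨h, _⟩
            · exact h1Z h
            · exact h1X h
          · exact Or.inr ⟨h1X, h2X⟩
      · rcases hF1 e heZ with ⟨h1, h2⟩ | ⟨h1, h2⟩
        · exact Or.inr ⟨hnotX _ h1, h2⟩
        · exact Or.inl ⟨h1, hnotX _ h2⟩
    -- arithmetic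
    have hb := hBI Y
    rw [hF2, hF3] at hb
    have hek := hext k
    have h5 : 2 * (canDeg ends w Finset.univ * (∑ v ∈ Z k, d v + (X.card : ℤ))
        - (∑ v, d v) * canDeg ends w (Z k)) ≤ (cut ends Y : ℤ) * canDeg ends w Finset.univ :=
      le_trans (by
        have := le_abs_self (canDeg ends w Finset.univ * (∑ v ∈ Z k, d v + (X.card : ℤ))
          - (∑ v, d v) * canDeg ends w (Z k))
        linarith) hb
    have h6 : ((cut ends (Z k) : ℤ) + 2 * (X.card : ℤ)) * canDeg ends w Finset.univ
        ≤ (cut ends Y : ℤ) * canDeg ends w Finset.univ := by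
      have e1 : 2 * (canDeg ends w Finset.univ * (∑ v ∈ Z k, d v + (X.card : ℤ))
          - (∑ v, d v) * canDeg ends w (Z k))
          = 2 * (canDeg ends w Finset.univ * (∑ v ∈ Z k, d v) - (∑ v, d v) * canDeg ends w (Z k))
            + 2 * (X.card : ℤ) * canDeg ends w Finset.univ := by ring
      rw [e1, hek] at h5
      linarith
    have h7 : (cut ends (Z k) : ℤ) + 2 * (X.card : ℤ) ≤ (cut ends Y : ℤ) :=
      le_of_mul_le_mul_right h6 hKpos
    have h8 : (cut ends Y : ℤ) + (cut ends (Z k) : ℤ) ≤ 2 * (X.card : ℤ) := by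
      exact_mod_cast hF4
    have h9 : (0 : ℤ) < (cut ends (Z k) : ℤ) := by exact_mod_cast hcutpos
    linarith

end Groth.Agent.Lib.helper13.BINested
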