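import Mathlib
import Groth.Prelude.Def_W4c4cptpiccptjacBI

/-!
# Basic Inequality for pull-backs along contractions of exceptional vertices (helper13)
-/

set_option autoImplicit false
open LabGraph

namespace Groth.Agent.Lib.helper13.BIPullback

universe u
variable {V E : Type u} [Fintype V] [Fintype E] [DecidableEq V] [DecidableEq E]

/-- the set of cut edges -/
def cutset (ends : E → V × V) (S : Finset V) : Finset E :=
  Finset.univ.filter (fun e : E =>
    ((ends e).1 ∈ S ∧ (ends e).2 ∉ S) ∨ ((ends e).1 ∉ S ∧ (ends e).2 ∈ S))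

lemma cut_eq (ends : E → V × V) (S : Finset V) : LabGraph.cut ends S = (cutset ends S).card := rfl

lemma mem_cutset (ends : E → V × V) (S : Finset V) (e : E) :
    e ∈ cutset ends S ↔
      (((ends e).1 ∈ S ∧ (ends e).2 ∉ S) ∨ ((ends e).1 ∉ S ∧ (ends e).2 ∈ S)) := by
  simp [cutset]

/-- the `S`-endpoint of an edge, if any -/
def sEnd (ends : E → V × V) (S : Finset V) (e : E) : Option V :=
  if (ends e).1 ∈ S then some (ends e).1 else if (ends e).2 ∈ S then some (ends e).2 else none

lemma sEnd_none {ends : E → V × V} {S : Finset V} {e : E} (h : sEnd ends S e = none) :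
    (ends e).1 ∉ S ∧ (ends e).2 ∉ S := by
  unfold sEnd at h
  split_ifs at h with h1 h2
  exact ⟨h1, h2⟩

lemma sEnd_some {ends : E → V × V} {S : Finset V}
    (hS1 : ∀ e, ¬((ends e).1 ∈ S ∧ (ends e).2 ∈ S)) {e : E} {v : V}
    (h : sEnd ends S e = some v) :
    v ∈ S ∧ (((ends e).1 = v ∧ (ends e).2 ∉ S) ∨ ((ends e).2 = v ∧ (ends e).1 ∉ S)) := by
  unfold sEnd at h
  split_ifs at h with h1 h2
  · have hv : (ends e).1 = v := Option.some.inj h
    exact ⟨hv ▸ h1, Or.inl ⟨hv, fun h2 => hS1 e ⟨h1, h2⟩⟩⟩
  · have hv : (ends e).2 = v := Option.some.inj h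
    exact ⟨hv ▸ h2, Or.inr ⟨hv, h1⟩⟩

lemma sEnd_eq_of_fst {ends : E → V × V} {S : Finset V} {e : E} {v : V} (hv : v ∈ S)
    (h : (ends e).1 = v) : sEnd ends S e = some v := by
  unfold sEnd
  rw [if_pos (h ▸ hv), h]

lemma sEnd_eq_of_snd {ends : E → V × V} {S : Finset V}
    (hS1 : ∀ e, ¬((ends e).1 ∈ S ∧ (ends e).2 ∈ S)) {e : E} {v : V} (hv : v ∈ S)
    (h : (ends e).2 = v) : sEnd ends S e = some v := by
  unfold sEnd
  have h2 : (ends e).2 ∈ S := h ▸ hv
  have h1 : (ends e).1 ∉ S := fun h1 => hS1 e ⟨h1, h2⟩
  rw [if_neg h1, if_pos h2, h]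

/-- the main cut comparison -/
theorem cut_le (ends : E → V × V) (S W Y What : Finset V)
    (hS1 : ∀ e, ¬((ends e).1 ∈ S ∧ (ends e).2 ∈ S))
    (hS2 : ∀ v ∈ S, LabGraph.cut ends {v} ≤ 2)
    (hY : ∀ a, a ∉ S → (a ∈ Y ↔ a ∈ W))
    (hW1 : ∀ a, a ∉ S → (a ∈ What ↔ a ∈ W))
    (hW2 : ∀ v ∈ S, (v ∈ What ↔
      ∀ e, ((ends e).1 = v → (ends e).2 ∈ W) ∧ ((ends e).2 = v → (ends e).1 ∈ W))) :
    LabGraph.cut ends What ≤ LabGraph.cut ends Y := by
  rw [cut_eq, cut_eq,
    Finset.card_eq_sum_card_fiberwise (f := sEnd ends S) (s := cutset ends What)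
      (t := Finset.univ) (fun x _ => Finset.mem_univ _),
    Finset.card_eq_sum_card_fiberwise (f := sEnd ends S) (s := cutset ends Y)
      (t := Finset.univ) (fun x _ => Finset.mem_univ _)]
  refine Finset.sum_le_sum fun o _ => ?_
  rcases o with _ | v
  · -- no endpoint in S
    refine Finset.card_le_card ?_
    intro e he
    rw [Finset.mem_filter] at he ⊢
    obtain ⟨h1, h2⟩ := sEnd_none he.2
    refine ⟨?_, he.2⟩
    have hc := (mem_cutset ends What e).mp he.1
    rw [mem_cutset, hY _ h1, hY _ h2]
    rw [hW1 _ h1, hW1 _ h2] at hc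
    exact hc
  · by_cases hv : v ∈ S
    swap
    · -- empty fibre
      have : (cutset ends What).filter (fun e => sEnd ends S e = some v) = ∅ := by
        rw [Finset.filter_eq_empty_iff]
        intro e _ he
        exact hv (sEnd_some hS1 he).1
      rw [this]
      exact Nat.zero_le _
    · by_cases hvW : v ∈ What
      · -- v ∈ What: no cut edges at v
        have : (cutset ends What).filter (fun e => sEnd ends S e = some v) = ∅ := by
          rw [Finset.filter_eq_empty_iff]
          intro e he hse
          have hall := (hW2 v hv).mp hvW e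
          have hc := (mem_cutset ends What e).mp he
          rcases (sEnd_some hS1 hse).2 with ⟨h1, h2⟩ | ⟨h1, h2⟩
          · have h3 : (ends e).2 ∈ What := (hW1 _ h2).mpr (hall.1 h1)
            have h4 : (ends e).1 ∈ What := h1 ▸ hvW
            tauto
          · have h3 : (ends e).1 ∈ What := (hW1 _ h2).mpr (hall.2 h1)
            have h4 : (ends e).2 ∈ What := h1 ▸ hvW
            tauto
        rw [this]
        exact Nat.zero_le _
      · -- v ∉ What
        have hex : ¬ ∀ e, ((ends e).1 = v → (ends e).2 ∈ W) ∧ ((ends e).2 = v → (ends e).1 ∈ W) :=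
          fun h => hvW ((hW2 v hv).mpr h)
        push Not at hex
        obtain ⟨e₀, he₀⟩ := hex
        -- e₀ has endpoint v and other endpoint outside W
        have he₀' : ((ends e₀).1 = v ∧ (ends e₀).2 ∉ W) ∨ ((ends e₀).2 = v ∧ (ends e₀).1 ∉ W) := by
          by_cases h : (ends e₀).1 = v ∧ (ends e₀).2 ∉ W
          · exact Or.inl h
          · right
            apply he₀
            intro h1
            by_contra h2
            exact h ⟨h1, h2⟩
        have hse₀ : sEnd ends S e₀ = some v := by
          rcases he₀' with ⟨h1, _⟩ | ⟨h1, _⟩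
          · exact sEnd_eq_of_fst hv h1
          · exact sEnd_eq_of_snd hS1 hv h1
        have hother₀ := (sEnd_some hS1 hse₀).2
        by_cases hvY : v ∈ Y
        · -- |A| ≤ 1 ≤ |B|
          have hB : e₀ ∈ (cutset ends Y).filter (fun e => sEnd ends S e = some v) := by
            rw [Finset.mem_filter, mem_cutset]
            refine ⟨?_, hse₀⟩
            rcases he₀' with ⟨h1, h2⟩ | ⟨h1, h2⟩
            · have h3 : (ends e₀).2 ∉ S := by
                rcases hother₀ with ⟨_, h⟩ | ⟨h, h'⟩
                · exact h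
                · exact fun _ => h' (h1 ▸ hv)
              left
              exact ⟨h1 ▸ hvY, fun h => h2 ((hY _ h3).mp h)⟩
            · have h3 : (ends e₀).1 ∉ S := by
                rcases hother₀ with ⟨h, h'⟩ | ⟨_, h⟩
                · exact fun _ => h' (h1 ▸ hv)
                · exact h
              right
              exact ⟨fun h => h2 ((hY _ h3).mp h), h1 ▸ hvY⟩
          have hBpos : 1 ≤ ((cutset ends Y).filter (fun e => sEnd ends S e = some v)).card :=
            Finset.card_pos.mpr ⟨e₀, hB⟩
          refine le_trans ?_ hBpos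
          -- A ⊆ F_v.erase e₀ and |F_v| ≤ 2
          have hF : (Finset.univ.filter (fun e => sEnd ends S e = some v)).card ≤ 2 := by
            refine le_trans (Finset.card_le_card ?_) (hS2 v hv)
            intro e he
            rw [Finset.mem_filter] at he ⊢
            refine ⟨Finset.mem_univ _, ?_⟩
            simp only [Finset.mem_singleton]
            rcases (sEnd_some hS1 he.2).2 with ⟨h1, h2⟩ | ⟨h1, h2⟩
            · left
              exact ⟨h1, fun h => h2 (h ▸ hv)⟩
            · right
              exact ⟨fun h => h2 (h ▸ hv), h1⟩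
          have hA : (cutset ends What).filter (fun e => sEnd ends S e = some v)
              ⊆ (Finset.univ.filter (fun e => sEnd ends S e = some v)).erase e₀ := by
            intro e he
            rw [Finset.mem_filter] at he
            rw [Finset.mem_erase, Finset.mem_filter]
            refine ⟨?_, Finset.mem_univ _, he.2⟩
            rintro rfl
            have hc := (mem_cutset ends What e).mp he.1
            rcases he₀' with ⟨h1, h2⟩ | ⟨h1, h2⟩
            · have h3 : (ends e).2 ∉ S := by
                rcases hother₀ with ⟨_, h⟩ | ⟨h, h'⟩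
                · exact h
                · exact fun _ => h' (h1 ▸ hv)
              have h4 : (ends e).2 ∉ What := fun h => h2 ((hW1 _ h3).mp h)
              have h5 : (ends e).1 ∉ What := h1 ▸ hvW
              tauto
            · have h3 : (ends e).1 ∉ S := by
                rcases hother₀ with ⟨h, h'⟩ | ⟨_, h⟩
                · exact fun _ => h' (h1 ▸ hv)
                · exact h
              have h4 : (ends e).1 ∉ What := fun h => h2 ((hW1 _ h3).mp h)
              have h5 : (ends e).2 ∉ What := h1 ▸ hvW
              tauto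
          have he₀F : e₀ ∈ Finset.univ.filter (fun e => sEnd ends S e = some v) :=
            Finset.mem_filter.mpr ⟨Finset.mem_univ _, hse₀⟩
          have := Finset.card_le_card hA
          rw [Finset.card_erase_of_mem he₀F] at this
          omega
        · -- A ⊆ B
          refine Finset.card_le_card ?_
          intro e he
          rw [Finset.mem_filter] at he ⊢
          refine ⟨?_, he.2⟩
          have hc := (mem_cutset ends What e).mp he.1
          rw [mem_cutset]
          rcases (sEnd_some hS1 he.2).2 with ⟨h1, h2⟩ | ⟨h1, h2⟩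
          · have h5 : (ends e).1 ∉ What := h1 ▸ hvW
            have h6 : (ends e).1 ∉ Y := h1 ▸ hvY
            have h7 : (ends e).2 ∈ What := by tauto
            have h8 : (ends e).2 ∈ Y := (hY _ h2).mpr ((hW1 _ h2).mp h7)
            exact Or.inr ⟨h6, h8⟩
          · have h5 : (ends e).2 ∉ What := h1 ▸ hvW
            have h6 : (ends e).2 ∉ Y := h1 ▸ hvY
            have h7 : (ends e).1 ∈ What := by tauto
            have h8 : (ends e).1 ∈ Y := (hY _ h2).mpr ((hW1 _ h2).mp h7)
            exact Or.inl ⟨h8, h6⟩

/-- handshake lemma -/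
lemma sum_endCount (ends : E → V × V) :
    ∑ v : V, endCount ends Finset.univ v = 2 * Fintype.card E := by
  unfold endCount
  rw [Finset.sum_comm]
  have : ∀ e : E, ∑ v : V, ((if (ends e).1 = v then 1 else 0) + (if (ends e).2 = v then 1 else 0)) = 2 := by
    intro e
    rw [Finset.sum_add_distrib, Finset.sum_ite_eq, Finset.sum_ite_eq]
    simp
  rw [Finset.sum_congr rfl fun e _ => this e]
  simp [mul_comm]

lemma canDeg_univ (ends : E → V × V) (w : V → ℕ) :
    canDeg ends w Finset.univ = 2 * (genus ends w - 1) := by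
  unfold canDeg genus
  have h := sum_endCount ends
  have h' : ∑ v : V, (endCount ends Finset.univ v : ℤ) = 2 * (Fintype.card E : ℤ) := by
    exact_mod_cast h
  rw [Finset.sum_add_distrib, Finset.sum_sub_distrib, h', ← Finset.mul_sum]
  simp only [Finset.sum_const, Finset.card_univ, nsmul_eq_mul]
  ring

lemma endCount_of_exceptional (ends : E → V × V) (w : V → ℕ) (v : V)
    (hv : IsExceptional ends w v) : endCount ends Finset.univ v = 2 := by
  obtain ⟨_, hloop, hcut⟩ := hv
  rw [← hcut]
  unfold endCount LabGraph.cut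
  rw [Finset.card_filter]
  refine Finset.sum_congr rfl fun e _ => ?_
  simp only [Finset.mem_singleton]
  by_cases h1 : (ends e).1 = v <;> by_cases h2 : (ends e).2 = v
  · exact absurd (Prod.ext h1 h2 : ends e = (v, v)) (hloop e)
  · simp [h1, h2]
  · simp [h1, h2]
  · simp [h1, h2]

lemma canDeg_eq_of_agree (ends : E → V × V) (w : V → ℕ) (S W Z : Finset V)
    (hS : ∀ v ∈ S, IsExceptional ends w v) (hWZ : W ⊆ Z) (hZ : ∀ a ∈ Z, a ∉ W → a ∈ S) :
    canDeg ends w Z = canDeg ends w W := by
  unfold canDeg
  symm
  refine Finset.sum_subset hWZ ?_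
  intro a haZ haW
  have hexc := hS a (hZ a haZ haW)
  rw [endCount_of_exceptional ends w a hexc, hexc.1]
  simp

end Groth.Agent.Lib.helper13.BIPullback
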