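import Mathlib

/-!
# Binary forms: dimensions of graded pieces, linear factors of cubics, and the pencil argument
for trisecant lines of a rational quintic (helper13)
-/

set_option autoImplicit false

namespace Groth.Agent.Lib.helper13.BinForms

open MvPolynomial

variable {K : Type*} [Field K]

/-- the exponent vector `x^i y^(n-i)` -/
noncomputable def dd (n i : ℕ) : Fin 2 →₀ ℕ := Finsupp.single 0 i + Finsupp.single 1 (n - i)

@[simp] lemma dd_zero (n i : ℕ) : dd n i 0 = i := by simp [dd]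
@[simp] lemma dd_one (n i : ℕ) : dd n i 1 = n - i := by simp [dd]

lemma dd_degree {n i : ℕ} (h : i ≤ n) : (dd n i).degree = n := by
  rw [Finsupp.degree_eq_sum, Fin.sum_univ_two, dd_zero, dd_one]; omega

lemma eq_dd {n : ℕ} {m : Fin 2 →₀ ℕ} (h : m.degree = n) : m = dd n (m 0) := by
  rw [Finsupp.degree_eq_sum, Fin.sum_univ_two] at h
  ext j; fin_cases j
  · simp
  · simp; omega

lemma dd_injective (n : ℕ) : Function.Injective (dd n) := fun i j h => by
  have := congrArg (fun m => m 0) h; simpa using this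

/-- coefficient vector -/
noncomputable def Psi (n : ℕ) : MvPolynomial (Fin 2) K →ₗ[K] (Fin (n+1) → K) :=
  LinearMap.pi (fun i => lcoeff K (dd n i))

lemma Psi_apply (n : ℕ) (g : MvPolynomial (Fin 2) K) (i : Fin (n+1)) :
    Psi n g i = coeff (dd n i) g := rfl

lemma Psi_injOn (n : ℕ) {g : MvPolynomial (Fin 2) K}
    (hg : g ∈ homogeneousSubmodule (Fin 2) K n) (h : Psi n g = 0) : g = 0 := by
  ext m
  rw [coeff_zero]
  by_cases hm : m.degree = n
  · rw [eq_dd hm]
    have hlt : m 0 < n + 1 := by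
      rw [Finsupp.degree_eq_sum, Fin.sum_univ_two] at hm; omega
    exact congrFun h ⟨m 0, hlt⟩
  · exact IsHomogeneous.coeff_eq_zero hg hm

/-- form with given coefficient vector -/
noncomputable def Phi (n : ℕ) (c : Fin (n+1) → K) : MvPolynomial (Fin 2) K :=
  ∑ i : Fin (n+1), monomial (dd n i) (c i)

lemma Phi_mem (n : ℕ) (c : Fin (n+1) → K) : Phi n c ∈ homogeneousSubmodule (Fin 2) K n := by
  refine Submodule.sum_mem _ fun i _ => ?_
  exact isHomogeneous_monomial _ (dd_degree (by omega))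

lemma Psi_Phi (n : ℕ) (c : Fin (n+1) → K) : Psi n (Phi n c) = c := by
  classical
  ext j
  rw [Psi_apply, Phi, coeff_sum]
  simp only [coeff_monomial]
  rw [Finset.sum_eq_single j]
  · simp
  · intro i _ hij; rw [if_neg]; intro h; exact hij (Fin.ext (dd_injective n h))
  · simp

lemma Phi_Psi (n : ℕ) {g : MvPolynomial (Fin 2) K}
    (hg : g ∈ homogeneousSubmodule (Fin 2) K n) : Phi n (Psi n g) = g := by
  have h1 : g - Phi n (Psi n g) ∈ homogeneousSubmodule (Fin 2) K n :=
    Submodule.sub_mem _ hg (Phi_mem n _)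
  have h2 : Psi n (g - Phi n (Psi n g)) = 0 := by rw [map_sub, Psi_Phi, sub_self]
  have := Psi_injOn n h1 h2
  exact (sub_eq_zero.mp this).symm

instance instFin (n : ℕ) : Module.Finite K ↥(homogeneousSubmodule (Fin 2) K n) :=
  Module.Finite.iff_fg.mpr (homogeneousSubmodule_fg (Fin 2) K n)

theorem finrank_S (n : ℕ) : Module.finrank K ↥(homogeneousSubmodule (Fin 2) K n) = n + 1 := by
  have hb : Function.Bijective ((Psi (K := K) n).domRestrict (homogeneousSubmodule (Fin 2) K n)) := by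
    constructor
    · rw [← LinearMap.ker_eq_bot, LinearMap.ker_eq_bot']
      intro g hg; exact Subtype.ext (Psi_injOn n g.2 hg)
    · intro c; exact ⟨⟨Phi n c, Phi_mem n c⟩, Psi_Phi n c⟩
  rw [(LinearEquiv.ofBijective _ hb).finrank_eq, Module.finrank_fin_fun]

lemma monomial_dd (n i : ℕ) (a : K) :
    monomial (dd n i) a = C a * X 0 ^ i * X 1 ^ (n - i) := by
  rw [dd, monomial_add_single, ← C_mul_X_pow_eq_monomial]

/-- two functionals cutting out a codimension two subspace -/
theorem exists_functionals {E : Type*} [AddCommGroup E] [Module K E] (V W : Submodule K E)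
    (hVW : V ≤ W) [FiniteDimensional K W]
    (h : Module.finrank K W = Module.finrank K V + 2) :
    ∃ φ₁ φ₂ : E →ₗ[K] K, ∀ x ∈ W, (x ∈ V ↔ φ₁ x = 0 ∧ φ₂ x = 0) := by
  set V' : Submodule K W := V.comap W.subtype with hV'def
  have hV' : Module.finrank K V' = Module.finrank K V :=
    (Submodule.comapSubtypeEquivOfLe hVW).finrank_eq
  have hQ : Module.finrank K (W ⧸ V') = 2 := by
    have := Submodule.finrank_quotient_add_finrank V'
    omega
  let b : Module.Basis (Fin 2) K (W ⧸ V') := Module.finBasisOfFinrankEq K _ hQ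
  obtain ⟨φ₁, h₁⟩ := LinearMap.exists_extend ((b.coord 0).comp V'.mkQ)
  obtain ⟨φ₂, h₂⟩ := LinearMap.exists_extend ((b.coord 1).comp V'.mkQ)
  refine ⟨φ₁, φ₂, fun x hx => ?_⟩
  have e₁ : φ₁ x = b.coord 0 (V'.mkQ ⟨x, hx⟩) := by
    have := LinearMap.congr_fun h₁ ⟨x, hx⟩; simpa using this
  have e₂ : φ₂ x = b.coord 1 (V'.mkQ ⟨x, hx⟩) := by
    have := LinearMap.congr_fun h₂ ⟨x, hx⟩; simpa using this
  have h3 : x ∈ V ↔ V'.mkQ ⟨x, hx⟩ = 0 := by
    rw [Submodule.mkQ_apply, Submodule.Quotient.mk_eq_zero]; rfl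
  rw [h3, e₁, e₂, ← b.forall_coord_eq_zero_iff, Fin.forall_fin_two]

/-- a cubic annihilated (after multiplication by quadrics) by a given functional -/
theorem exists_g (φ : MvPolynomial (Fin 2) K →ₗ[K] K) :
    ∃ g ∈ homogeneousSubmodule (Fin 2) K 3, g ≠ 0 ∧
      ∀ e ∈ homogeneousSubmodule (Fin 2) K 2, φ (g * e) = 0 := by
  let B : MvPolynomial (Fin 2) K →ₗ[K] MvPolynomial (Fin 2) K →ₗ[K] K :=
    (LinearMap.mul K _).compr₂ φ
  let T := B.domRestrict₁₂ (homogeneousSubmodule (Fin 2) K 3) (homogeneousSubmodule (Fin 2) K 2)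
  have hlt : Module.finrank K (↥(homogeneousSubmodule (Fin 2) K 2) →ₗ[K] K) <
      Module.finrank K ↥(homogeneousSubmodule (Fin 2) K 3) := by
    have h2 := Subspace.dual_finrank_eq (K := K) (V := ↥(homogeneousSubmodule (Fin 2) K 2))
    change Module.finrank K (Module.Dual K ↥(homogeneousSubmodule (Fin 2) K 2)) < _
    rw [h2, finrank_S, finrank_S]; omega
  have hker := LinearMap.ker_ne_bot_of_finrank_lt (f := T) hlt
  obtain ⟨g, hg, hg0⟩ := Submodule.exists_mem_ne_zero_of_ne_bot hker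
  refine ⟨g.1, g.2, fun h => hg0 (Subtype.ext h), fun e he => ?_⟩
  have := LinearMap.congr_fun (LinearMap.mem_ker.mp hg) ⟨e, he⟩
  simpa [T, B, LinearMap.domRestrict₁₂_apply] using this

lemma mulLeft_inj' {g : MvPolynomial (Fin 2) K} (hg0 : g ≠ 0) :
    Function.Injective (LinearMap.mulLeft K g) := fun x y h =>
  mul_right_injective₀ hg0 (by simpa using h)

theorem finrank_inf_ge (V : Submodule K (MvPolynomial (Fin 2) K))
    (φ₁ φ₂ : MvPolynomial (Fin 2) K →ₗ[K] K)
    (hV : ∀ x ∈ homogeneousSubmodule (Fin 2) K 5, (x ∈ V ↔ φ₁ x = 0 ∧ φ₂ x = 0))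
    [FiniteDimensional K V]
    (t : K) {g : MvPolynomial (Fin 2) K} (hg : g ∈ homogeneousSubmodule (Fin 2) K 3) (hg0 : g ≠ 0)
    (hker : ∀ e ∈ homogeneousSubmodule (Fin 2) K 2, (φ₁ + t • φ₂) (g * e) = 0) :
    2 ≤ Module.finrank K
      ↥(V ⊓ (homogeneousSubmodule (Fin 2) K 2).map (LinearMap.mulLeft K g)) := by
  let lam : ↥(homogeneousSubmodule (Fin 2) K 2) →ₗ[K] K :=
    (φ₂.comp (LinearMap.mulLeft K g)).domRestrict (homogeneousSubmodule (Fin 2) K 2)
  have h1 : 2 ≤ Module.finrank K (LinearMap.ker lam) := by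
    have := LinearMap.finrank_range_add_finrank_ker lam
    rw [finrank_S] at this
    have h2 : Module.finrank K (LinearMap.range lam) ≤ 1 := by
      have := Submodule.finrank_le (LinearMap.range lam)
      rwa [Module.finrank_self] at this
    omega
  let j : ↥(LinearMap.ker lam) →ₗ[K] MvPolynomial (Fin 2) K :=
    (LinearMap.mulLeft K g).comp
      ((homogeneousSubmodule (Fin 2) K 2).subtype.comp (LinearMap.ker lam).subtype)
  have hj : Function.Injective j :=
    (mulLeft_inj' hg0).comp ((Submodule.injective_subtype _).comp (Submodule.injective_subtype _))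
  have hr : LinearMap.range j ≤
      V ⊓ (homogeneousSubmodule (Fin 2) K 2).map (LinearMap.mulLeft K g) := by
    rintro _ ⟨e, rfl⟩
    have he2 : φ₂ (g * e.1.1) = 0 := LinearMap.mem_ker.mp e.2
    have he1 := hker e.1.1 e.1.2
    simp only [LinearMap.add_apply, LinearMap.smul_apply, smul_eq_mul, he2, mul_zero,
      add_zero] at he1
    refine ⟨(hV _ (IsHomogeneous.mul hg e.1.2)).mpr ⟨he1, he2⟩,
      Submodule.mem_map.mpr ⟨e.1.1, e.1.2, rfl⟩⟩
  calc 2 ≤ Module.finrank K (LinearMap.ker lam) := h1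
    _ = Module.finrank K (LinearMap.range j) := (LinearMap.finrank_range_of_inj hj).symm
    _ ≤ _ := Submodule.finrank_mono hr

end Groth.Agent.Lib.helper13.BinForms
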