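import Groth.Agent.Lib.helper13.BinForms

/-!
# Binary cubics have linear factors; the trisecant pencil argument (helper13)
-/

set_option autoImplicit false

namespace Groth.Agent.Lib.helper13.BinForms

open MvPolynomial

variable {K : Type*} [Field K]

lemma Phi_one (c : Fin 2 → K) :
    Phi 1 c = C (c 0) * X 1 + C (c 1) * X 0 := by
  rw [Phi, Fin.sum_univ_two]
  simp only [monomial_dd, Fin.val_zero, Fin.val_one]
  simp

lemma Phi_two (c : Fin 3 → K) :
    Phi 2 c = C (c 0) * X 1 ^ 2 + C (c 1) * X 0 * X 1 + C (c 2) * X 0 ^ 2 := by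
  rw [Phi, Fin.sum_univ_three]
  simp only [monomial_dd, Fin.val_zero, Fin.val_one, Fin.val_two]
  simp

lemma Phi_three (c : Fin 4 → K) :
    Phi 3 c = C (c 0) * X 1 ^ 3 + C (c 1) * X 0 * X 1 ^ 2 + C (c 2) * X 0 ^ 2 * X 1
      + C (c 3) * X 0 ^ 3 := by
  rw [Phi, Fin.sum_univ_four]
  simp only [monomial_dd, Fin.val_zero, Fin.val_one, Fin.val_two]
  have : ((3 : Fin 4) : ℕ) = 3 := rfl
  rw [this]
  simp

theorem exists_factor [IsAlgClosed K] {g : MvPolynomial (Fin 2) K}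
    (hg : g ∈ homogeneousSubmodule (Fin 2) K 3) :
    ∃ l ∈ homogeneousSubmodule (Fin 2) K 1, ∃ e ∈ homogeneousSubmodule (Fin 2) K 2,
      g = l * e := by
  rw [← Phi_Psi 3 hg]
  set c := Psi 3 g with hc
  by_cases h3 : c 3 = 0
  · refine ⟨Phi 1 ![1, 0], Phi_mem _ _, Phi 2 ![c 0, c 1, c 2], Phi_mem _ _, ?_⟩
    rw [Phi_one, Phi_two, Phi_three, h3]
    simp
    ring
  · have hdeg : (Polynomial.C (c 3) * Polynomial.X ^ 3 + Polynomial.C (c 2) * Polynomial.X ^ 2
        + Polynomial.C (c 1) * Polynomial.X + Polynomial.C (c 0)).degree ≠ 0 := by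
      rw [Polynomial.degree_cubic h3]; decide
    obtain ⟨r, hr⟩ := IsAlgClosed.exists_root _ hdeg
    simp only [Polynomial.IsRoot.def, Polynomial.eval_add, Polynomial.eval_mul, Polynomial.eval_C,
      Polynomial.eval_pow, Polynomial.eval_X] at hr
    have h0 : c 0 = -(c 3 * r ^ 3 + c 2 * r ^ 2 + c 1 * r) := by linear_combination hr
    refine ⟨Phi 1 ![-r, 1], Phi_mem _ _,
      Phi 2 ![c 1 + c 2 * r + c 3 * r ^ 2, c 2 + c 3 * r, c 3], Phi_mem _ _, ?_⟩
    rw [Phi_one, Phi_two, Phi_three, h0]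
    simp only [Matrix.cons_val_zero, Matrix.cons_val_one, Matrix.cons_val_two, Matrix.head_cons,
      Matrix.tail_cons, map_neg, map_add, map_mul, map_pow, map_one]
    ring

theorem no_g [IsAlgClosed K] (V : Submodule K (MvPolynomial (Fin 2) K))
    (hdim : Module.finrank K ↥V = 4)
    (hsep : ∀ e ∈ homogeneousSubmodule (Fin 2) K 2, e ≠ 0 →
      ∀ F ∈ homogeneousSubmodule (Fin 2) K 5, ∃ v ∈ V,
        ∃ h ∈ homogeneousSubmodule (Fin 2) K 3, F = v + e * h)
    {g : MvPolynomial (Fin 2) K} (hg : g ∈ homogeneousSubmodule (Fin 2) K 3) (hg0 : g ≠ 0) :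
    ¬ (homogeneousSubmodule (Fin 2) K 2).map (LinearMap.mulLeft K g) ≤ V := by
  intro hle
  have : FiniteDimensional K V := Module.finite_of_finrank_pos (by omega)
  obtain ⟨l, hl, e, he, rfl⟩ := exists_factor hg
  have he0 : e ≠ 0 := right_ne_zero_of_mul hg0
  have h1 : (homogeneousSubmodule (Fin 2) K 2).map (LinearMap.mulLeft K (l * e)) ≤
      V ⊓ (homogeneousSubmodule (Fin 2) K 3).map (LinearMap.mulLeft K e) := by
    refine le_inf hle ?_
    rintro _ ⟨a, ha, rfl⟩
    refine ⟨l * a, IsHomogeneous.mul hl ha, ?_⟩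
    simp only [LinearMap.mulLeft_apply]; ring
  have h2 : Module.finrank K
      ↥((homogeneousSubmodule (Fin 2) K 2).map (LinearMap.mulLeft K (l * e))) = 3 := by
    rw [← (Submodule.equivMapOfInjective _ (mulLeft_inj' hg0) _).finrank_eq, finrank_S]
  have h3 : Module.finrank K
      ↥((homogeneousSubmodule (Fin 2) K 3).map (LinearMap.mulLeft K e)) = 4 := by
    rw [← (Submodule.equivMapOfInjective _ (mulLeft_inj' he0) _).finrank_eq, finrank_S]
  have h4 : homogeneousSubmodule (Fin 2) K 5 ≤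
      V ⊔ (homogeneousSubmodule (Fin 2) K 3).map (LinearMap.mulLeft K e) := by
    intro F hF
    obtain ⟨v, hv, h, hh, rfl⟩ := hsep e he he0 F hF
    exact Submodule.add_mem_sup hv ⟨h, hh, rfl⟩
  have h5 := Submodule.finrank_sup_add_finrank_inf_eq V
    ((homogeneousSubmodule (Fin 2) K 3).map (LinearMap.mulLeft K e))
  have h6 : 6 ≤ Module.finrank K
      ↥(V ⊔ (homogeneousSubmodule (Fin 2) K 3).map (LinearMap.mulLeft K e)) := by
    have h8 := Submodule.finrank_mono h4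
    rw [finrank_S (K := K) 5] at h8; exact h8
  have h7 := Submodule.finrank_mono h1
  omega

theorem main [IsAlgClosed K] (V : Submodule K (MvPolynomial (Fin 2) K))
    (hV : V ≤ homogeneousSubmodule (Fin 2) K 5) (hdim : Module.finrank K ↥V = 4)
    (hsep : ∀ e ∈ homogeneousSubmodule (Fin 2) K 2, e ≠ 0 →
      ∀ F ∈ homogeneousSubmodule (Fin 2) K 5, ∃ v ∈ V,
        ∃ h ∈ homogeneousSubmodule (Fin 2) K 3, F = v + e * h)
    (F : Finset (MvPolynomial (Fin 2) K)) :
    ∃ g ∈ homogeneousSubmodule (Fin 2) K 3, g ≠ 0 ∧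
      2 ≤ Module.finrank K
        ↥(V ⊓ (homogeneousSubmodule (Fin 2) K 2).map (LinearMap.mulLeft K g)) ∧
      ∀ g' ∈ F, ∀ c : K, g ≠ c • g' := by
  have : FiniteDimensional K V := Module.finite_of_finrank_pos (by omega)
  have : Infinite K := IsAlgClosed.instInfinite
  obtain ⟨φ₁, φ₂, hφ⟩ := exists_functionals V (homogeneousSubmodule (Fin 2) K 5) hV
    (by rw [finrank_S, hdim])
  choose G hG3 hG0 hGk using fun t : K => exists_g (φ₁ + t • φ₂)
  have huniq : ∀ t t' : K, ∀ g ∈ homogeneousSubmodule (Fin 2) K 3, g ≠ 0 →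
      (∀ e ∈ homogeneousSubmodule (Fin 2) K 2, (φ₁ + t • φ₂) (g * e) = 0) →
      (∀ e ∈ homogeneousSubmodule (Fin 2) K 2, (φ₁ + t' • φ₂) (g * e) = 0) → t = t' := by
    intro t t' g hg hg0 h1 h2
    by_contra hne
    refine no_g V hdim hsep hg hg0 ?_
    rintro _ ⟨e, he, rfl⟩
    have a1 := h1 e he
    have a2 := h2 e he
    simp only [LinearMap.add_apply, LinearMap.smul_apply, smul_eq_mul] at a1 a2
    have h3 : (t - t') * φ₂ (g * e) = 0 := by linear_combination a1 - a2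
    have h4 : φ₂ (g * e) = 0 := by
      rcases mul_eq_zero.mp h3 with h | h
      · exact absurd (sub_eq_zero.mp h) hne
      · exact h
    have h5 : φ₁ (g * e) = 0 := by rw [h4, mul_zero, add_zero] at a1; exact a1
    exact (hφ _ (IsHomogeneous.mul hg he)).mpr ⟨h5, h4⟩
  have hbad : ∀ g' ∈ F, {t : K | ∃ c : K, G t = c • g'}.Subsingleton := by
    rintro g' - t ⟨c, hc⟩ t' ⟨c', hc'⟩
    have hc0' : c' ≠ 0 := by rintro rfl; exact hG0 t' (by rw [hc', zero_smul])
    refine huniq t t' (G t) (hG3 t) (hG0 t) (hGk t) ?_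
    intro e he
    have : G t = (c * c'⁻¹) • G t' := by
      rw [hc', smul_smul, mul_assoc, inv_mul_cancel₀ hc0', mul_one, hc]
    rw [this, smul_mul_assoc, map_smul, hGk t' e he, smul_zero]
  have hfin : (⋃ g' ∈ F, {t : K | ∃ c : K, G t = c • g'}).Finite :=
    Set.Finite.biUnion F.finite_toSet (fun g' hg' => (hbad g' hg').finite)
  obtain ⟨t, ht⟩ := hfin.infinite_compl.nonempty
  refine ⟨G t, hG3 t, hG0 t, finrank_inf_ge V φ₁ φ₂ hφ t (hG3 t) (hG0 t) (hGk t),
    fun g' hg' c hc => ht ?_⟩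
  simp only [Set.mem_iUnion]
  exact ⟨g', hg', c, hc⟩

end Groth.Agent.Lib.helper13.BinForms
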