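import Mathlib

/-!
The polynomial `h(W) = ∑_l C(i,l) C(j,n-l) W^(n-l)` satisfies the hypergeometric differential
equation `W(1-W) h'' + (γ - δ W) h' - n j h = 0`, hence has no multiple roots except at `0, 1`.
-/

set_option autoImplicit false

namespace Groth.Agent.Lib.helper13.BinomODE

open Polynomial

variable (k : Type*) [Field k] [CharZero k] (i j n : ℕ)

/-- the polynomial -/
noncomputable def h : k[X] :=
  ∑ l ∈ Finset.range (n + 1), C (((i.choose l) * (j.choose (n - l)) : ℕ) : k) * X ^ (n - l)

/-- its coefficients -/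
def cf (s : ℕ) : k := if s ≤ n then (((i.choose (n - s)) * (j.choose s) : ℕ) : k) else 0

theorem coeff_h (s : ℕ) : (h k i j n).coeff s = cf k i j n s := by
  unfold h cf
  simp only [finsetSum_coeff, coeff_C_mul, coeff_X_pow]
  split_ifs with hs
  · rw [Finset.sum_eq_single (n - s)]
    · simp [Nat.sub_sub_self hs]
    · intro l hl hne
      have hl' := Finset.mem_range.mp hl
      have : s ≠ n - l := by
        intro h
        apply hne
        omega
      simp [this]
    · intro h
      exfalso
      apply h
      rw [Finset.mem_range]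
      omega
  · apply Finset.sum_eq_zero
    intro l _
    have : s ≠ n - l := by omega
    simp [this]

theorem choose_cast (a s : ℕ) :
    ((s : k) + 1) * ((a.choose (s + 1) : ℕ) : k) = ((a : k) - s) * ((a.choose s : ℕ) : k) := by
  have h1 := Nat.choose_succ_right_eq a s
  by_cases hs : s ≤ a
  · have h2 : ((a.choose (s + 1) * (s + 1) : ℕ) : k) = ((a.choose s * (a - s) : ℕ) : k) := by
      rw [h1]
    push_cast [Nat.cast_sub hs] at h2
    linear_combination h2
  · have h3 : a.choose s = 0 := Nat.choose_eq_zero_of_lt (by omega)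
    have h4 : a.choose (s + 1) = 0 := Nat.choose_eq_zero_of_lt (by omega)
    rw [h3, h4]
    simp

theorem rec_cf (s : ℕ) :
    ((s : k) + 1) * ((s : k) + ((i : k) - n + 1)) * cf k i j n (s + 1) =
      ((s : k) - n) * ((s : k) - j) * cf k i j n s := by
  unfold cf
  by_cases h1 : s + 1 ≤ n
  · have h2 : s ≤ n := by omega
    rw [if_pos h1, if_pos h2]
    have e1 := choose_cast k j s
    have e2 := choose_cast k i (n - (s + 1))
    have h3 : n - (s + 1) + 1 = n - s := by omega
    rw [h3] at e2
    have h4 : ((n - (s + 1) : ℕ) : k) = (n : k) - s - 1 := by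
      rw [Nat.cast_sub h1]
      push_cast
      ring
    rw [h4] at e2
    push_cast
    linear_combination (((i : k) - ((n : k) - s - 1)) * ((i.choose (n - (s + 1)) : ℕ) : k)) * e1 -
      (((j : k) - s) * ((j.choose s : ℕ) : k)) * e2
  · rw [if_neg h1]
    by_cases h2 : s ≤ n
    · have h3 : s = n := by omega
      rw [h3]
      ring
    · rw [if_neg h2]
      ring

/-- The hypergeometric differential equation. -/
theorem ode : (X - X ^ 2) * derivative (derivative (h k i j n)) +
    (C ((i : k) - n + 1) - C (1 - (n : k) - j) * X) * derivative (h k i j n) -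
    C ((n : k) * j) * h k i j n = 0 := by
  have e : (X - X ^ 2) * derivative (derivative (h k i j n)) +
      (C ((i : k) - n + 1) - C (1 - (n : k) - j) * X) * derivative (h k i j n) -
      C ((n : k) * j) * h k i j n =
      derivative (derivative (h k i j n)) * X ^ 1 - derivative (derivative (h k i j n)) * X ^ 2 +
      C ((i : k) - n + 1) * derivative (h k i j n) -
      C (1 - (n : k) - j) * (derivative (h k i j n) * X ^ 1) -
      C ((n : k) * j) * h k i j n := by ring
  rw [e]
  ext s
  simp only [coeff_sub, coeff_add, coeff_C_mul, coeff_mul_X_pow', coeff_derivative, coeff_h,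
    coeff_zero]
  have hr := rec_cf k i j n s
  rcases s with _ | _ | s
  · simp only [Nat.cast_zero, zero_add] at hr ⊢
    simp only [show ¬ (1 ≤ 0) by norm_num, show ¬ (2 ≤ 0) by norm_num, if_false]
    linear_combination hr
  · simp only [Nat.cast_one, zero_add] at hr ⊢
    simp only [show (1 ≤ 1) by norm_num, show ¬ (2 ≤ 1) by norm_num, if_false, if_true,
      Nat.sub_self, Nat.cast_zero, zero_add]
    norm_num at hr ⊢
    linear_combination hr
  · simp only [show (1 ≤ s + 1 + 1) by omega, show (2 ≤ s + 1 + 1) by omega, if_true,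
      show s + 1 + 1 - 1 = s + 1 by omega, show s + 1 + 1 - 2 = s by omega]
    push_cast at hr ⊢
    linear_combination hr

theorem eval_eq_zero_of_ode (H g A B D : k[X]) (c : k) (m : ℕ)
    (hfac : H = (X - C c) ^ (m + 2) * g)
    (hode : A * derivative (derivative H) + B * derivative H - D * H = 0) :
    eval c A * eval c g = 0 := by
  subst hfac
  have hY : derivative (X - C c : k[X]) = 1 := by simp
  have h1 : derivative ((X - C c) ^ (m + 2) * g) =
      C ((m + 2 : ℕ) : k) * (X - C c) ^ (m + 1) * g + (X - C c) ^ (m + 2) * derivative g := by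
    rw [derivative_mul, derivative_pow, hY]
    simp
  have h1a : derivative ((X - C c : k[X]) ^ (m + 1)) =
      C ((m + 1 : ℕ) : k) * (X - C c) ^ m := by
    rw [derivative_pow, hY]
    simp
  have h1b : derivative ((X - C c : k[X]) ^ (m + 2)) =
      C ((m + 2 : ℕ) : k) * (X - C c) ^ (m + 1) := by
    rw [derivative_pow, hY]
    simp
  have h2 : derivative (derivative ((X - C c) ^ (m + 2) * g)) =
      C ((m + 2 : ℕ) : k) * C ((m + 1 : ℕ) : k) * (X - C c) ^ m * g +
      (C ((m + 2 : ℕ) : k) + C ((m + 2 : ℕ) : k)) * (X - C c) ^ (m + 1) * derivative g +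
      (X - C c) ^ (m + 2) * derivative (derivative g) := by
    rw [h1]
    rw [derivative_add, derivative_mul, derivative_mul, derivative_mul, derivative_C, h1a, h1b]
    ring
  rw [h2, h1] at hode
  have hfact : (X - C c) ^ m *
      (A * (C ((m + 2 : ℕ) : k) * C ((m + 1 : ℕ) : k)) * g +
        (X - C c) * (A * ((C ((m + 2 : ℕ) : k) + C ((m + 2 : ℕ) : k)) * derivative g) +
          B * (C ((m + 2 : ℕ) : k) * g)) +
        (X - C c) ^ 2 * (A * derivative (derivative g) +
          B * derivative g - D * g)) = 0 := by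
    rw [← hode]
    ring
  rcases mul_eq_zero.mp hfact with h3 | h3
  · exact absurd h3 (pow_ne_zero m (X_sub_C_ne_zero c))
  · have h4 := congrArg (eval c) h3
    simp only [eval_add, eval_mul, eval_sub, eval_X, eval_pow, eval_C, sub_self, zero_mul,
      add_zero, eval_zero, ne_eq, OfNat.ofNat_ne_zero, not_false_eq_true, zero_pow] at h4
    have h6 : ((m + 2 : ℕ) : k) ≠ 0 := Nat.cast_ne_zero.mpr (by omega)
    have h7 : ((m + 1 : ℕ) : k) ≠ 0 := Nat.cast_ne_zero.mpr (by omega)
    have h8 : eval c A * eval c g * (((m + 2 : ℕ) : k) * ((m + 1 : ℕ) : k)) = 0 := by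
      rw [← h4]; ring
    rcases mul_eq_zero.mp h8 with h9 | h9
    · exact h9
    · exact absurd h9 (mul_ne_zero h6 h7)

theorem rootMultiplicity_le_one (c : k) (hc0 : c ≠ 0) (hc1 : c ≠ 1) :
    rootMultiplicity c (h k i j n) ≤ 1 := by
  by_contra hcon
  push Not at hcon
  have hne : h k i j n ≠ 0 := by
    intro h0
    rw [h0, rootMultiplicity_zero] at hcon
    omega
  obtain ⟨g, hfac, hg⟩ := exists_eq_pow_rootMultiplicity_mul_and_not_dvd (h k i j n) hne c
  obtain ⟨m, hm⟩ : ∃ m, rootMultiplicity c (h k i j n) = m + 2 :=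
    ⟨_, (Nat.sub_add_cancel hcon).symm⟩
  rw [hm] at hfac
  have h4 := eval_eq_zero_of_ode k (h k i j n) g _ _ _ c m hfac (ode k i j n)
  have hgc : eval c g ≠ 0 := by
    intro h0
    exact hg (dvd_iff_isRoot.mpr h0)
  have h5 : (c - c ^ 2) ≠ 0 := by
    have : c - c ^ 2 = c * (1 - c) := by ring
    rw [this]
    exact mul_ne_zero hc0 (sub_ne_zero.mpr (Ne.symm hc1))
  simp only [eval_sub, eval_X, eval_pow] at h4
  exact absurd h4 (mul_ne_zero h5 hgc)

end Groth.Agent.Lib.helper13.BinomODE
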