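import Groth.Agent.Lib.helper13.SpecialOfAdams

/-!
Binomial rings with their binomial λ-structure are special (helper13's helper library).
-/

set_option autoImplicit false
set_option linter.style.haveILetI false
set_option warn.classDefReducibility false

namespace Groth.Agent.Lib.helper13.BinomialSpecial

open LambdaRing
open Groth.Agent.Lib.helper13.Lam Groth.Agent.Lib.helper13.LogDeriv
  Groth.Agent.Lib.helper13.SpecialOfAdams

universe u v

open MvPolynomial in
/-- Specialness descends along an injective λ-homomorphism. -/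
theorem isSpecial_of_injective {K : Type u} {K' : Type v} [CommRing K] [LambdaOps K]
    [CommRing K'] [LambdaOps K'] (f : K →+* K') (hf : Function.Injective f)
    (hlam : ∀ (n : ℕ) (x : K), f (LambdaOps.lam n x) = LambdaOps.lam n (f x))
    (h : IsSpecial K') : IsSpecial K where
  lam_one_eq_zero n hn := hf (by rw [hlam, map_one, h.lam_one_eq_zero n hn, map_zero])
  lam_mul n P hP x y := hf (by
    rw [hlam, map_mul, h.lam_mul n P hP]
    have e : f (aeval (Sum.elim (fun k : Fin n => LambdaOps.lam ((k : ℕ) + 1) x)
        (fun k : Fin n => LambdaOps.lam ((k : ℕ) + 1) y)) P) =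
        aeval (fun i => f (Sum.elim (fun k : Fin n => LambdaOps.lam ((k : ℕ) + 1) x)
          (fun k : Fin n => LambdaOps.lam ((k : ℕ) + 1) y) i)) P :=
      comp_aeval_apply _ f.toIntAlgHom P
    rw [e]
    congr 2
    funext i
    rcases i with k | k
    · exact (hlam _ _).symm
    · exact (hlam _ _).symm)
  lam_lam i j Q hQ x := hf (by
    rw [hlam, hlam, h.lam_lam i j Q hQ]
    have e : f (aeval (fun k : Fin (i * j) => LambdaOps.lam ((k : ℕ) + 1) x) Q) =
        aeval (fun k : Fin (i * j) => f (LambdaOps.lam ((k : ℕ) + 1) x)) Q :=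
      comp_aeval_apply _ f.toIntAlgHom Q
    rw [e]
    congr 2
    funext k
    exact (hlam _ _).symm)

section Binom

variable {K : Type u} [CommRing K] [LambdaOps K] [BinomialRing K]

theorem succ_mul_lam_succ (hKb : IsBinomial K) (x : K) (n : ℕ) :
    ((n : K) + 1) * LambdaOps.lam (n + 1) x = LambdaOps.lam n x * (x - n) := by
  have h := Ring.choose_smul_choose x (Nat.le_succ n)
  rw [Nat.choose_succ_self_right, Nat.succ_sub (le_refl n), Nat.sub_self, Ring.choose_one_right,
    nsmul_eq_mul] at h
  rw [hKb, hKb]
  push_cast at h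
  exact h

open PowerSeries in
theorem one_add_X_mul_logDerivSeries (hKb : IsBinomial K) (x : K) :
    (1 + X) * logDerivSeries x = C x := by
  have h1 : (1 + X) * d⁄dX K (lamSeries x) = C x * lamSeries x := by
    ext n
    rw [add_mul, one_mul, map_add, coeff_C_mul, coeff_lamSeries, coeff_derivative, coeff_lamSeries]
    rcases n with _ | n
    · rw [coeff_zero_X_mul, LambdaOps.lam_zero, LambdaOps.lam_one]
      simp
    · rw [coeff_succ_X_mul, coeff_derivative, coeff_lamSeries]
      have h := succ_mul_lam_succ hKb x (n + 1)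
      push_cast at h ⊢
      linear_combination h
  rw [derivative_lamSeries, ← mul_assoc, mul_comm (1 + X), mul_assoc] at h1
  have h2 := congrArg (fun s => (lamSeries x).invOfUnit 1 * s) h1
  rw [← mul_assoc, mul_comm _ (lamSeries x), lamSeries_mul_invOfUnit, one_mul, mul_comm (C x),
    ← mul_assoc, mul_comm _ (lamSeries x), lamSeries_mul_invOfUnit, one_mul] at h2
  exact h2

open PowerSeries in
theorem coeff_logDerivSeries_binom (hKb : IsBinomial K) (x : K) (n : ℕ) :
    coeff n (logDerivSeries x) = (-1) ^ n * x := by
  have h := one_add_X_mul_logDerivSeries hKb x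
  induction n with
  | zero =>
    have h0 := congrArg (coeff 0) h
    rw [add_mul, one_mul, map_add, coeff_zero_X_mul, add_zero, coeff_zero_C] at h0
    simpa using h0
  | succ n ih =>
    have h0 := congrArg (coeff (n + 1)) h
    rw [add_mul, one_mul, map_add, coeff_succ_X_mul, ih, coeff_C, if_neg (Nat.succ_ne_zero n)] at h0
    rw [pow_succ]
    linear_combination h0

theorem adamsOp_binom (hKb : IsBinomial K) (k : ℕ) (hk : 1 ≤ k) (x : K) : adamsOp k x = x := by
  obtain ⟨m, rfl⟩ : ∃ m, k = m + 1 := ⟨k - 1, by omega⟩
  rw [adamsOp_succ, coeff_logDerivSeries_binom hKb, ← mul_assoc, ← pow_add, ← two_mul, pow_mul]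
  simp

/-- A binomial ring that is a ℚ-algebra, with the binomial λ-structure, is special. -/
theorem isSpecial_of_isBinomial_ratAlgebra [Algebra ℚ K] (hKb : IsBinomial K) : IsSpecial K :=
  isSpecial (fun k hk => adamsOp_binom hKb k hk 1)
    (fun k hk x y => by rw [adamsOp_binom hKb k hk, adamsOp_binom hKb k hk, adamsOp_binom hKb k hk])
    (fun k k' hk hk' x => by
      rw [adamsOp_binom hKb k hk, adamsOp_binom hKb k' hk',
        adamsOp_binom hKb (k * k') (Nat.mul_pos hk hk')])

end Binom

section Frac

/-- A ℚ-algebra is a binomial ring. -/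
noncomputable def binomialRingOfRatAlgebra (A : Type*) [CommRing A] [Algebra ℚ A] : BinomialRing A :=
  letI : Module ℚ≥0 A := Module.compHom A NNRat.coeHom
  inferInstance

variable (K : Type u) [CommRing K] [BinomialRing K]

attribute [local instance] BinomialRing.toIsAddTorsionFree

theorem natCast_mem_nonZeroDivisors {n : ℕ} (hn : n ≠ 0) : (n : K) ∈ nonZeroDivisors K := by
  rw [mem_nonZeroDivisors_iff_right]
  intro x hx
  rw [mul_comm, ← nsmul_eq_mul] at hx
  exact nsmul_right_injective hn (by simpa using hx)

theorem isUnit_natCast_frac {n : ℕ} (hn : n ≠ 0) : IsUnit ((n : ℕ) : FractionRing K) := by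
  have h := IsLocalization.map_units (FractionRing K)
    (⟨(n : K), natCast_mem_nonZeroDivisors K hn⟩ : nonZeroDivisors K)
  simpa using h

theorem isUnit_intCast_frac {y : ℤ} (hy : y ≠ 0) : IsUnit ((y : ℤ) : FractionRing K) := by
  obtain ⟨n, rfl | rfl⟩ := Int.eq_nat_or_neg y
  · have hn : n ≠ 0 := by
      rintro rfl
      simp at hy
    simpa using isUnit_natCast_frac K hn
  · have hn : n ≠ 0 := by
      rintro rfl
      simp at hy
    simpa using (isUnit_natCast_frac K hn).neg

/-- The total ring of fractions of a binomial ring is a ℚ-algebra. -/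
noncomputable def ratAlgebraFrac : Algebra ℚ (FractionRing K) :=
  RingHom.toAlgebra (IsLocalization.lift (M := nonZeroDivisors ℤ) (S := ℚ)
    (g := Int.castRingHom (FractionRing K))
    (fun y => isUnit_intCast_frac K (nonZeroDivisors.ne_zero y.2)))

/-- A binomial ring with its binomial λ-structure is special. -/
theorem isSpecial_of_isBinomial [LambdaOps K] (hKb : IsBinomial K) : IsSpecial K := by
  letI : Algebra ℚ (FractionRing K) := ratAlgebraFrac K
  letI : BinomialRing (FractionRing K) := binomialRingOfRatAlgebra _
  letI : LambdaOps (FractionRing K) := binomialLambdaOps _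
  have hb' : IsBinomial (FractionRing K) := fun n x => rfl
  refine isSpecial_of_injective (algebraMap K (FractionRing K)) (IsFractionRing.injective K _) ?_
    (isSpecial_of_isBinomial_ratAlgebra hb')
  intro n x
  rw [hKb]
  exact Ring.map_choose _ x n

end Frac

end Groth.Agent.Lib.helper13.BinomialSpecial
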