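import Mathlib

/-!
# Birkhoff factorisation over `k[T, T⁻¹]`
-/

namespace Groth.Agent.Lib.helper13.Birkhoff

open Polynomial LaurentPolynomial Matrix

variable {k : Type*} [Field k]

/-- the ring hom `k[X] → k[T,T⁻¹]`, `X ↦ T⁻¹` -/
noncomputable def φ (k : Type*) [Field k] : k[X] →+* LaurentPolynomial k :=
  ((LaurentPolynomial.invert : LaurentPolynomial k ≃ₐ[k] LaurentPolynomial k) :
    LaurentPolynomial k →+* LaurentPolynomial k).comp (toLaurent : k[X] →+* LaurentPolynomial k)

theorem φ_apply (p : k[X]) : φ k p = LaurentPolynomial.invert (toLaurent p) := rfl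

theorem φ_C_mul_X_pow (c : k) (e : ℕ) :
    φ k (Polynomial.C c * X ^ e) = LaurentPolynomial.C c * T (-(e : ℤ)) := by
  rw [φ_apply, map_mul, Polynomial.toLaurent_C, Polynomial.toLaurent_X_pow, map_mul,
    LaurentPolynomial.invert_C, LaurentPolynomial.invert_T]

/-- a polynomial which becomes a unit in the Laurent ring and is not a unit is divisible by `X` -/
theorem X_dvd_of_isUnit_toLaurent (p : k[X]) (hu : IsUnit (toLaurent p : LaurentPolynomial k))
    (hnu : ¬ IsUnit p) : X ∣ p := by
  obtain ⟨v, hv⟩ := hu.exists_right_inv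
  obtain ⟨N, q, hq⟩ := LaurentPolynomial.exists_T_pow v
  have h1 : toLaurent (p * q) = toLaurent (X ^ N : k[X]) := by
    rw [map_mul, hq, ← mul_assoc, hv, one_mul, Polynomial.toLaurent_X_pow]
  have h2 : p * q = X ^ N := Polynomial.toLaurent_injective h1
  have h3 : p ∣ X ^ N := ⟨q, h2.symm⟩
  obtain ⟨i, -, hi⟩ := (dvd_prime_pow Polynomial.prime_X N).mp h3
  rcases Nat.eq_zero_or_pos i with h0 | hpos
  · rw [h0, pow_zero] at hi
    exact absurd (associated_one_iff_isUnit.mp hi) hnu
  · exact (hi.symm.dvd_iff_dvd_right).mp (dvd_pow_self X (by omega))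


/-- the basic relation -/
def Rel {n : ℕ} (A : Matrix (Fin n) (Fin n) (LaurentPolynomial k))
    (U C : Matrix (Fin n) (Fin n) k[X]) (d : Fin n → ℤ) : Prop :=
  A * C.map (φ k) = U.map (toLaurent : k[X] →+* LaurentPolynomial k) *
    Matrix.diagonal (fun i => (T (d i) : LaurentPolynomial k))

/-- determinant of a column replaced by a combination of the columns -/
theorem det_updateCol_mulVec {n : ℕ} {R : Type*} [CommRing R] (U : Matrix (Fin n) (Fin n) R)
    (b : Fin n → R) (j : Fin n) : (U.updateCol j (U *ᵥ b)).det = U.det * b j := by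
  rw [← Matrix.cramer_apply, Matrix.cramer_eq_adjugate_mulVec, Matrix.mulVec_mulVec,
    Matrix.adjugate_mul, Matrix.smul_mulVec, Matrix.one_mulVec]
  simp

/-- the reduction step -/
theorem reduction_step {n : ℕ} (A : Matrix (Fin n) (Fin n) (LaurentPolynomial k))
    (U C : Matrix (Fin n) (Fin n) k[X]) (d : Fin n → ℤ) (hR : Rel A U C d) (hC : IsUnit C)
    (hX : X ∣ U.det) :
    ∃ (U' C' : Matrix (Fin n) (Fin n) k[X]) (d' : Fin n → ℤ) (a : k), a ≠ 0 ∧
      Rel A U' C' d' ∧ IsUnit C' ∧ X * U'.det = U.det * Polynomial.C a := by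
  classical
  -- the constant-coefficient matrix is singular
  have hdet0 : (U.map (Polynomial.constantCoeff : k[X] →+* k)).det = 0 := by
    have := RingHom.map_det (Polynomial.constantCoeff : k[X] →+* k) U
    rw [RingHom.mapMatrix_apply] at this
    rw [← this, Polynomial.constantCoeff_apply]
    exact Polynomial.X_dvd_iff.mp hX
  obtain ⟨c, hc0, hc⟩ := (Matrix.exists_mulVec_eq_zero_iff).mpr hdet0
  -- the combination of columns
  set w : Fin n → k[X] := U *ᵥ (fun l => Polynomial.C (c l)) with hw
  have hwX : ∀ r, w r = X * Polynomial.divX (w r) := by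
    intro r
    have h0 : (w r).coeff 0 = 0 := by
      have := congrFun hc r
      simp only [Matrix.mulVec, dotProduct, Matrix.map_apply, Pi.zero_apply,
        Polynomial.constantCoeff_apply] at this
      rw [hw]
      simp only [Matrix.mulVec, dotProduct, Polynomial.finsetSum_coeff, Polynomial.mul_coeff_zero,
        Polynomial.coeff_C_zero]
      exact this
    have := Polynomial.X_mul_divX_add (w r)
    rw [h0, map_zero, add_zero] at this
    exact this.symm
  -- pick the index
  have hsupp : (Finset.univ.filter (fun l => c l ≠ 0)).Nonempty := by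
    by_contra hne
    rw [Finset.not_nonempty_iff_eq_empty] at hne
    apply hc0
    funext l
    show c l = 0
    by_contra hl
    have : l ∈ Finset.univ.filter (fun l => c l ≠ 0) := by simp [hl]
    rw [hne] at this
    simp at this
  obtain ⟨j, hj, hjmin⟩ := Finset.exists_min_image _ d hsupp
  have hcj : c j ≠ 0 := (Finset.mem_filter.mp hj).2
  have hmin : ∀ l, c l ≠ 0 → d j ≤ d l := fun l hl => hjmin l (by simp [hl])
  set e : Fin n → ℕ := fun l => (d l - d j).toNat with he
  have hecast : ∀ l, c l ≠ 0 → ((e l : ℕ) : ℤ) = d l - d j := by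
    intro l hl
    rw [he]
    exact Int.toNat_of_nonneg (by linarith [hmin l hl])
  set v : Fin n → k[X] := fun i => Polynomial.C (c i) * X ^ (e i) with hv
  set E : Matrix (Fin n) (Fin n) k[X] := (1 : Matrix (Fin n) (Fin n) k[X]).updateCol j v with hE
  set u' : Fin n → k[X] := fun r => Polynomial.divX (w r) with hu'
  refine ⟨U.updateCol j u', C * E, Function.update d j (d j + 1), c j, hcj, ?_, ?_, ?_⟩
  · -- the relation
    unfold Rel at hR ⊢
    rw [Matrix.map_mul, ← Matrix.mul_assoc, hR]
    refine Matrix.ext (fun r l => ?_)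
    rw [Matrix.mul_apply, Matrix.mul_diagonal]
    simp only [Matrix.mul_diagonal, Matrix.map_apply]
    by_cases hl : l = j
    · subst hl
      rw [Matrix.updateCol_self, Function.update_self]
      have hterm : ∀ i, (toLaurent (U r i) * T (d i)) * φ k (E i l) =
          toLaurent (U r i * Polynomial.C (c i)) * T (d l) := by
        intro i
        rw [hE, Matrix.updateCol_self, hv]
        dsimp only
        rw [φ_C_mul_X_pow]
        by_cases hci : c i = 0
        · simp [hci]
        · have h1 : d i + -((e i : ℕ) : ℤ) = d l := by rw [hecast i hci]; ring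
          rw [map_mul, Polynomial.toLaurent_C]
          calc toLaurent (U r i) * T (d i) * (LaurentPolynomial.C (c i) * T (-((e i : ℕ) : ℤ)))
              = toLaurent (U r i) * LaurentPolynomial.C (c i) *
                  (T (d i) * T (-((e i : ℕ) : ℤ))) := by ring
            _ = toLaurent (U r i) * LaurentPolynomial.C (c i) * T (d l) := by
                rw [← LaurentPolynomial.T_add, h1]
      rw [Finset.sum_congr rfl (fun i _ => hterm i), ← Finset.sum_mul, ← map_sum]
      have hsum : (∑ i, U r i * Polynomial.C (c i)) = w r := by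
        rw [hw]; simp [Matrix.mulVec, dotProduct]
      have hu'r : u' r = (w r).divX := rfl
      rw [hsum, hwX r, map_mul, Polynomial.toLaurent_X, LaurentPolynomial.T_add, hu'r]
      ring
    · rw [Matrix.updateCol_ne hl, Function.update_of_ne hl]
      have hterm : ∀ i, (toLaurent (U r i) * T (d i)) * φ k (E i l) =
          if i = l then toLaurent (U r l) * T (d l) else 0 := by
        intro i
        rw [hE, Matrix.updateCol_ne hl]
        by_cases hil : i = l
        · subst hil
          simp
        · simp [hil, Matrix.one_apply_ne hil]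
      rw [Finset.sum_congr rfl (fun i _ => hterm i)]
      simp
  · -- C * E is a unit
    rw [Matrix.isUnit_iff_isUnit_det] at hC ⊢
    rw [Matrix.det_mul]
    refine hC.mul ?_
    have hdetE : E.det = Polynomial.C (c j) := by
      have h1 : E.det = v j := by
        rw [hE, ← Matrix.cramer_apply, Matrix.cramer_one]; rfl
      have : e j = 0 := by rw [he]; simp
      rw [h1, hv]
      dsimp only
      rw [this, pow_zero, mul_one]
    rw [hdetE]
    exact Polynomial.isUnit_C.mpr (isUnit_iff_ne_zero.mpr hcj)
  · -- determinant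
    have h1 : (X : k[X]) * (U.updateCol j u').det = (U.updateCol j ((X : k[X]) • u')).det := by
      rw [Matrix.det_updateCol_smul]
    have h2 : ((X : k[X]) • u' : Fin n → k[X]) = w := by
      funext r
      rw [Pi.smul_apply, smul_eq_mul, hu']
      exact (hwX r).symm
    rw [h1, h2, hw, det_updateCol_mulVec]


theorem isUnit_toLaurent_det_of_rel {n : ℕ} (A : Matrix (Fin n) (Fin n) (LaurentPolynomial k))
    (hA : IsUnit A) (U C : Matrix (Fin n) (Fin n) k[X]) (d : Fin n → ℤ) (hR : Rel A U C d)
    (hC : IsUnit C) : IsUnit (toLaurent U.det : LaurentPolynomial k) := by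
  unfold Rel at hR
  have h1 := congrArg Matrix.det hR
  rw [Matrix.det_mul, Matrix.det_mul] at h1
  have h2 : (C.map (φ k)).det = φ k C.det := by
    have := RingHom.map_det (φ k) C
    rw [RingHom.mapMatrix_apply] at this
    exact this.symm
  have h3 : (U.map (toLaurent : k[X] →+* LaurentPolynomial k)).det = toLaurent U.det := by
    have := RingHom.map_det (toLaurent : k[X] →+* LaurentPolynomial k) U
    rw [RingHom.mapMatrix_apply] at this
    exact this.symm
  rw [h2, h3] at h1
  have hAu : IsUnit A.det := (Matrix.isUnit_iff_isUnit_det A).mp hA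
  have hCu : IsUnit (φ k C.det) := ((Matrix.isUnit_iff_isUnit_det C).mp hC).map (φ k)
  have hl : IsUnit (A.det * φ k C.det) := hAu.mul hCu
  rw [h1] at hl
  exact isUnit_of_mul_isUnit_left hl

theorem exists_unit_rel {n : ℕ} (A : Matrix (Fin n) (Fin n) (LaurentPolynomial k))
    (hA : IsUnit A) :
    ∀ (m : ℕ) (U C : Matrix (Fin n) (Fin n) k[X]) (d : Fin n → ℤ), Rel A U C d → IsUnit C →
      U.det.natDegree = m →
      ∃ (U' C' : Matrix (Fin n) (Fin n) k[X]) (d' : Fin n → ℤ),
        Rel A U' C' d' ∧ IsUnit C' ∧ IsUnit U' := by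
  intro m
  induction m using Nat.strong_induction_on with
  | _ m ih =>
    intro U C d hR hC hm
    by_cases hu : IsUnit U.det
    · exact ⟨U, C, d, hR, hC, (Matrix.isUnit_iff_isUnit_det U).mpr hu⟩
    · have hL := isUnit_toLaurent_det_of_rel A hA U C d hR hC
      have hX : X ∣ U.det := X_dvd_of_isUnit_toLaurent _ hL hu
      have hne : U.det ≠ 0 := by
        intro h0
        rw [h0, map_zero] at hL
        exact not_isUnit_zero hL
      obtain ⟨U', C', d', a, ha, hR', hC', hdet⟩ := reduction_step A U C d hR hC hX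
      have hne' : U'.det ≠ 0 := by
        intro h0
        rw [h0, mul_zero] at hdet
        have : U.det * Polynomial.C a ≠ 0 := mul_ne_zero hne (by simpa using ha)
        exact this hdet.symm
      have hdeg : U'.det.natDegree + 1 = U.det.natDegree := by
        have := congrArg Polynomial.natDegree hdet
        rw [Polynomial.natDegree_X_mul hne', Polynomial.natDegree_mul_C ha] at this
        exact this
      exact ih U'.det.natDegree (by omega) U' C' d' hR' hC' rfl


theorem exists_initial {n : ℕ} (A : Matrix (Fin n) (Fin n) (LaurentPolynomial k)) :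
    ∃ (U : Matrix (Fin n) (Fin n) k[X]) (d : Fin n → ℤ), Rel A U 1 d := by
  classical
  have h : ∀ i l, ∃ (m : ℕ) (f : k[X]), toLaurent f = A i l * T (m : ℤ) :=
    fun i l => LaurentPolynomial.exists_T_pow (A i l)
  choose nn ff hff using h
  set N : ℕ := ∑ i, ∑ l, nn i l with hN
  have hle : ∀ i l, nn i l ≤ N := by
    intro i l
    calc nn i l ≤ ∑ l', nn i l' :=
          Finset.single_le_sum (f := fun l' => nn i l') (fun _ _ => Nat.zero_le _)
            (Finset.mem_univ l)
      _ ≤ N := Finset.single_le_sum (f := fun i' => ∑ l', nn i' l') (fun _ _ => Nat.zero_le _)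
            (Finset.mem_univ i)
  refine ⟨Matrix.of (fun i l => ff i l * X ^ (N - nn i l)), fun _ => -(N : ℤ), ?_⟩
  unfold Rel
  rw [Matrix.map_one _ (map_zero _) (map_one _), Matrix.mul_one]
  refine Matrix.ext (fun i l => ?_)
  rw [Matrix.mul_diagonal, Matrix.map_apply, Matrix.of_apply, map_mul, hff,
    Polynomial.toLaurent_X_pow, mul_assoc, mul_assoc, ← LaurentPolynomial.T_add,
    ← LaurentPolynomial.T_add]
  have : ((nn i l : ℕ) : ℤ) + (((N - nn i l : ℕ) : ℤ) + -(N : ℤ)) = 0 := by
    have := hle i l
    omega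
  rw [this, LaurentPolynomial.T_zero, mul_one]


theorem map_map_invert {n : ℕ} (Q : Matrix (Fin n) (Fin n) k[X]) :
    (Q.map (Polynomial.toLaurent : k[X] → LaurentPolynomial k)).map
      (LaurentPolynomial.invert : LaurentPolynomial k → LaurentPolynomial k) = Q.map (φ k) := by
  refine Matrix.ext (fun i l => ?_)
  rfl

theorem birkhoff {n : ℕ} (A : Matrix (Fin n) (Fin n) (LaurentPolynomial k)) (hA : IsUnit A) :
    ∃ (P Q : Matrix (Fin n) (Fin n) k[X]) (d : Fin n → ℤ),
      IsUnit P ∧ IsUnit Q ∧ Antitone d ∧
        A = P.map Polynomial.toLaurent * Matrix.diagonal (fun i => LaurentPolynomial.T (d i)) *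
          (Q.map Polynomial.toLaurent).map LaurentPolynomial.invert := by
  classical
  obtain ⟨U0, d0, hR0⟩ := exists_initial A
  obtain ⟨U, C, d, hR, hC, hU⟩ := exists_unit_rel A hA _ U0 1 d0 hR0 isUnit_one rfl
  have hCdet : IsUnit C.det := (Matrix.isUnit_iff_isUnit_det C).mp hC
  have hCC : C * C⁻¹ = 1 := Matrix.mul_nonsing_inv C hCdet
  have hA1 : A = U.map (toLaurent : k[X] →+* LaurentPolynomial k) *
      Matrix.diagonal (fun i => (T (d i) : LaurentPolynomial k)) * (C⁻¹).map (φ k) := by
    unfold Rel at hR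
    rw [← hR, Matrix.mul_assoc, ← Matrix.map_mul, hCC, Matrix.map_one _ (map_zero _) (map_one _),
      Matrix.mul_one]
  set σ : Equiv.Perm (Fin n) := Tuple.sort (fun i => - d i) with hσ
  have hmono : Monotone ((fun i => - d i) ∘ σ) := Tuple.monotone_sort _
  refine ⟨U.submatrix (Equiv.refl _) σ, (C⁻¹).submatrix σ (Equiv.refl _), d ∘ σ, ?_, ?_, ?_, ?_⟩
  · exact (Matrix.isUnit_submatrix_equiv (Equiv.refl _) σ).mpr hU
  · exact (Matrix.isUnit_submatrix_equiv σ (Equiv.refl _)).mpr
      (Matrix.isUnit_nonsing_inv_iff.mpr hC)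
  · intro a b hab
    have := hmono hab
    simp only [Function.comp_apply] at this ⊢
    linarith
  · rw [map_map_invert]
    have h1 : (U.submatrix (Equiv.refl _) σ).map (toLaurent : k[X] → LaurentPolynomial k) =
        (U.map (toLaurent : k[X] →+* LaurentPolynomial k)).submatrix (Equiv.refl _) σ := rfl
    have h2 : ((C⁻¹).submatrix σ (Equiv.refl _)).map (φ k) =
        ((C⁻¹).map (φ k)).submatrix σ (Equiv.refl _) := rfl
    have h3 : Matrix.diagonal (fun i => (T ((d ∘ σ) i) : LaurentPolynomial k)) =
        (Matrix.diagonal (fun i => (T (d i) : LaurentPolynomial k))).submatrix σ σ := by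
      rw [Matrix.submatrix_diagonal_equiv]
      rfl
    rw [h1, h2, h3, Matrix.submatrix_mul_equiv, Matrix.submatrix_mul_equiv, ← hA1]
    rfl

end Groth.Agent.Lib.helper13.Birkhoff
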