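import Mathlib

/-!
# Cayley–Bacharach sets of points in projective 3-space (helper13)

Elementary argument behind `S18041`: restriction of the Cayley–Bacharach property to the
complement of a plane, the lower bound `n + 2` and collinearity for at most `2n + 1` points.
-/

set_option autoImplicit false

namespace Groth.Agent.Lib.helper13.CayBach

open MvPolynomial Module

variable {k : Type*} [Field k]

/-- the linear form with coefficient vector `c` -/
noncomputable def lf (c : Fin 4 → k) : MvPolynomial (Fin 4) k := ∑ i, C (c i) * X i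

theorem eval_lf (c x : Fin 4 → k) : eval x (lf c) = c ⬝ᵥ x := by
  simp [lf, dotProduct]

theorem lf_isHomogeneous (c : Fin 4 → k) : (lf c).IsHomogeneous 1 := by
  unfold lf
  refine IsHomogeneous.sum _ _ _ fun i _ => ?_
  exact (isHomogeneous_X k i).C_mul (c i)

/-- separation of a vector from a subspace by a linear form -/
theorem exists_sep (W : Submodule k (Fin 4 → k)) {x : Fin 4 → k} (hx : x ∉ W) :
    ∃ c : Fin 4 → k, (∀ w ∈ W, c ⬝ᵥ w = 0) ∧ c ⬝ᵥ x ≠ 0 := by
  obtain ⟨f, hfx, hf⟩ := Submodule.exists_dual_map_eq_bot_of_notMem hx inferInstance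
  have key : ∀ y : Fin 4 → k,
      (fun i => f (fun j => if i = j then (1 : k) else 0)) ⬝ᵥ y = f y := by
    intro y
    rw [LinearMap.pi_apply_eq_sum_univ f y]
    simp only [dotProduct, smul_eq_mul]
    refine Finset.sum_congr rfl fun i _ => ?_
    rw [mul_comm]
  refine ⟨fun i => f (fun j => if i = j then (1 : k) else 0), fun w hw => ?_, ?_⟩
  · rw [key]
    exact (Submodule.eq_bot_iff _).mp hf (f w) (Submodule.mem_map_of_mem hw)
  · rw [key]
    exact hfx

/-- the Cayley–Bacharach property in degree `n` -/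
def CB (Z : Finset (Projectivization k (Fin 4 → k))) (n : ℕ) : Prop :=
  ∀ z ∈ Z, ∀ p : MvPolynomial (Fin 4) k, p.IsHomogeneous n →
    (∀ z' ∈ Z, z' ≠ z → eval z'.rep p = 0) → eval z.rep p = 0

theorem CB.restrict {Z : Finset (Projectivization k (Fin 4 → k))} {n : ℕ} (h : CB Z (n + 1))
    (c : Fin 4 → k) (Z' : Finset (Projectivization k (Fin 4 → k)))
    (hZ' : ∀ z, z ∈ Z' ↔ z ∈ Z ∧ c ⬝ᵥ z.rep ≠ 0) : CB Z' n := by
  intro z hz p hp hvan
  rw [hZ'] at hz
  have := h z hz.1 (p * lf c) (hp.mul (lf_isHomogeneous c)) (fun z' hz' hne => by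
    rw [map_mul, eval_lf]
    by_cases hc : c ⬝ᵥ z'.rep = 0
    · rw [hc, mul_zero]
    · rw [hvan z' ((hZ' z').mpr ⟨hz', hc⟩) hne, zero_mul])
  rw [map_mul, eval_lf] at this
  exact (mul_eq_zero.mp this).resolve_right hz.2

theorem CB.two_points {Z : Finset (Projectivization k (Fin 4 → k))} {n : ℕ} (h : CB Z n)
    (hne : Z.Nonempty) : ∃ z₁ ∈ Z, ∃ z₂ ∈ Z, z₁ ≠ z₂ := by
  obtain ⟨z, hz⟩ := hne
  by_contra hcon
  push Not at hcon
  obtain ⟨c, -, hc⟩ := exists_sep (⊥ : Submodule k (Fin 4 → k)) (x := z.rep)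
    (by simpa using z.rep_nonzero)
  have hhom : ((lf c) ^ n).IsHomogeneous n := by
    have := (lf_isHomogeneous c).pow n
    rwa [one_mul] at this
  have := h z hz ((lf c) ^ n) hhom (fun z' hz' hne => absurd (hcon z' hz' z hz) hne)
  rw [map_pow, eval_lf] at this
  exact pow_ne_zero n hc this

theorem rep_notMem_span {z₁ z₂ : Projectivization k (Fin 4 → k)} (h12 : z₁ ≠ z₂) :
    z₂.rep ∉ Submodule.span k {z₁.rep} := by
  intro hmem
  obtain ⟨a, ha⟩ := Submodule.mem_span_singleton.mp hmem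
  apply h12
  rw [← z₁.mk_rep, ← z₂.mk_rep]
  exact ((Projectivization.mk_eq_mk_iff' k _ _ z₂.rep_nonzero z₁.rep_nonzero).mpr ⟨a, ha⟩).symm

theorem CB.card_ge : ∀ (n : ℕ) (Z : Finset (Projectivization k (Fin 4 → k))), CB Z n →
    Z.Nonempty → n + 2 ≤ Z.card := by
  intro n
  induction n with
  | zero =>
    intro Z h hne
    obtain ⟨z₁, h₁, z₂, h₂, h12⟩ := h.two_points hne
    have := Finset.one_lt_card.mpr ⟨z₁, h₁, z₂, h₂, h12⟩
    omega
  | succ n ih =>
    intro Z h hne
    obtain ⟨z₁, h₁, z₂, h₂, h12⟩ := h.two_points hne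
    obtain ⟨c, hc0, hc⟩ := exists_sep _ (rep_notMem_span h12)
    classical
    have hCB' : CB (Z.filter (fun z => c ⬝ᵥ z.rep ≠ 0)) n :=
      h.restrict c _ (fun z => by rw [Finset.mem_filter])
    have hne' : (Z.filter (fun z => c ⬝ᵥ z.rep ≠ 0)).Nonempty :=
      ⟨z₂, Finset.mem_filter.mpr ⟨h₂, hc⟩⟩
    have h1 := ih _ hCB' hne'
    have hsub : Z.filter (fun z => c ⬝ᵥ z.rep ≠ 0) ⊆ Z.erase z₁ := by
      intro z hz
      rw [Finset.mem_filter] at hz
      rw [Finset.mem_erase]
      refine ⟨?_, hz.1⟩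
      rintro rfl
      exact hz.2 (hc0 _ (Submodule.mem_span_singleton_self _))
    have h2 := Finset.card_le_card hsub
    rw [Finset.card_erase_of_mem h₁] at h2
    have : 1 ≤ Z.card := Finset.card_pos.mpr ⟨z₁, h₁⟩
    omega

theorem finrank_span_pair {z₁ z₂ : Projectivization k (Fin 4 → k)} (h12 : z₁ ≠ z₂) :
    finrank k (Submodule.span k (Set.range ![z₁.rep, z₂.rep])) = 2 := by
  have hli : LinearIndependent k ![z₁.rep, z₂.rep] := by
    rw [LinearIndependent.pair_iff]
    intro s t hst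
    have ht : t = 0 := by
      by_contra ht
      apply rep_notMem_span h12
      rw [Submodule.mem_span_singleton]
      refine ⟨-(s / t), ?_⟩
      have h2 : t • z₂.rep = -(s • z₁.rep) := eq_neg_of_add_eq_zero_right hst
      have h3 : z₂.rep = t⁻¹ • (t • z₂.rep) := by rw [smul_smul, inv_mul_cancel₀ ht, one_smul]
      rw [h3, h2, smul_neg, smul_smul, neg_smul]
      congr 2
      field_simp
    refine ⟨?_, ht⟩
    rw [ht, zero_smul, add_zero] at hst
    exact (smul_eq_zero.mp hst).resolve_right z₁.rep_nonzero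
  have := finrank_span_eq_card hli
  simpa using this

theorem CB.collinear : ∀ (n : ℕ) (Z : Finset (Projectivization k (Fin 4 → k))), CB Z n →
    Z.Nonempty → Z.card ≤ 2 * n + 1 →
    ∃ W : Submodule k (Fin 4 → k), finrank k W = 2 ∧ ∀ z ∈ Z, z.rep ∈ W := by
  intro n
  induction n with
  | zero =>
    intro Z h hne hcard
    have := CB.card_ge 0 Z h hne
    omega
  | succ n ih =>
    intro Z h hne hcard
    obtain ⟨z₁, h₁, z₂, h₂, h12⟩ := h.two_points hne
    by_cases hall : ∀ z ∈ Z, z.rep ∈ Submodule.span k (Set.range ![z₁.rep, z₂.rep])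
    · exact ⟨_, finrank_span_pair h12, hall⟩
    · push Not at hall
      obtain ⟨z₃, h₃, hz₃⟩ := hall
      obtain ⟨c, hc0, hc⟩ := exists_sep _ hz₃
      classical
      have hCB' : CB (Z.filter (fun z => c ⬝ᵥ z.rep ≠ 0)) n :=
        h.restrict c _ (fun z => by rw [Finset.mem_filter])
      have hne' : (Z.filter (fun z => c ⬝ᵥ z.rep ≠ 0)).Nonempty :=
        ⟨z₃, Finset.mem_filter.mpr ⟨h₃, hc⟩⟩
      have hge' := CB.card_ge n _ hCB' hne'
      have hsub : Z.filter (fun z => c ⬝ᵥ z.rep ≠ 0) ⊆ (Z.erase z₁).erase z₂ := by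
        intro z hz
        rw [Finset.mem_filter] at hz
        rw [Finset.mem_erase, Finset.mem_erase]
        refine ⟨?_, ?_, hz.1⟩
        · rintro rfl
          exact hz.2 (hc0 _ (Submodule.subset_span ⟨1, rfl⟩))
        · rintro rfl
          exact hz.2 (hc0 _ (Submodule.subset_span ⟨0, rfl⟩))
      have h2 := Finset.card_le_card hsub
      rw [Finset.card_erase_of_mem (Finset.mem_erase.mpr ⟨h12.symm, h₂⟩),
        Finset.card_erase_of_mem h₁] at h2
      have hcard2 : 2 ≤ Z.card := by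
        have := Finset.one_lt_card.mpr ⟨z₁, h₁, z₂, h₂, h12⟩
        omega
      obtain ⟨W', hW', hZ'W'⟩ := ih _ hCB' hne' (by omega)
      refine ⟨W', hW', fun z hz => ?_⟩
      by_contra hzW
      obtain ⟨c'', hc0'', hc''⟩ := exists_sep W' hzW
      have hCB'' : CB (Z.filter (fun z => c'' ⬝ᵥ z.rep ≠ 0)) n :=
        h.restrict c'' _ (fun z => by rw [Finset.mem_filter])
      have hne'' : (Z.filter (fun z => c'' ⬝ᵥ z.rep ≠ 0)).Nonempty :=
        ⟨z, Finset.mem_filter.mpr ⟨hz, hc''⟩⟩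
      have hge'' := CB.card_ge n _ hCB'' hne''
      have hdisj : Disjoint (Z.filter (fun z => c ⬝ᵥ z.rep ≠ 0))
          (Z.filter (fun z => c'' ⬝ᵥ z.rep ≠ 0)) := by
        rw [Finset.disjoint_left]
        intro y hy hy'
        rw [Finset.mem_filter] at hy'
        exact hy'.2 (hc0'' _ (hZ'W' y hy))
      have hunion : (Z.filter (fun z => c ⬝ᵥ z.rep ≠ 0) ∪
          Z.filter (fun z => c'' ⬝ᵥ z.rep ≠ 0)) ⊆ Z :=
        Finset.union_subset (Finset.filter_subset _ _) (Finset.filter_subset _ _)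
      have h3 := Finset.card_le_card hunion
      rw [Finset.card_union_of_disjoint hdisj] at h3
      omega

end Groth.Agent.Lib.helper13.CayBach
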