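import Mathlib

/-!
# Cayley–Bacharach sets: the rank inequality (helper13)

Argument behind `S18040`: a Cayley–Bacharach set in degree `n` carries a relation with all
coefficients nonzero on the values of forms of degree `n`; this makes the evaluation of forms of
degree `m` orthogonal to a twisted copy of the forms of degree `n - m`.
-/

set_option autoImplicit false

namespace Groth.Agent.Lib.helper13.CayBach2

open MvPolynomial Module

variable {k : Type*} [Field k]

/-- evaluation of polynomials at the chosen representatives of the points of `Z` -/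
noncomputable def evZ (Z : Finset (Projectivization k (Fin 4 → k))) :
    MvPolynomial (Fin 4) k →ₗ[k] (↥Z → k) :=
  LinearMap.pi fun z : ↥Z => (MvPolynomial.aeval (R := k) z.1.rep).toLinearMap

theorem evZ_apply (Z : Finset (Projectivization k (Fin 4 → k))) (p : MvPolynomial (Fin 4) k)
    (z : ↥Z) : evZ Z p z = eval z.1.rep p := by
  rfl

theorem main [Infinite k] (Z : Finset (Projectivization k (Fin 4 → k))) (n m : ℕ) (hm : m ≤ n)
    (hCB : ∀ z ∈ Z, ∀ p : MvPolynomial (Fin 4) k, p.IsHomogeneous n →
      (∀ z' ∈ Z, z' ≠ z → eval z'.rep p = 0) → eval z.rep p = 0)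
    (hinj : ∀ s : MvPolynomial (Fin 4) k, s.IsHomogeneous (n - m) →
      (∀ z ∈ Z, eval z.rep s = 0) → s = 0) :
    finrank k (LinearMap.range (evZ Z ∘ₗ (homogeneousSubmodule (Fin 4) k m).subtype)) +
      finrank k ↥(homogeneousSubmodule (Fin 4) k (n - m)) ≤ Z.card := by
  classical
  obtain ⟨I, hI⟩ : ∃ I : Submodule k (↥Z → k),
      I = LinearMap.range (evZ Z ∘ₗ (homogeneousSubmodule (Fin 4) k n).subtype) := ⟨_, rfl⟩
  have hnot : ∀ z : ↥Z, (Pi.single z 1 : ↥Z → k) ∉ I := by
    intro z hz
    rw [hI] at hz
    obtain ⟨⟨p, hp⟩, hpz⟩ := hz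
    rw [LinearMap.comp_apply, Submodule.subtype_apply] at hpz
    have h1 : eval z.1.rep p = 1 := by
      have := congrFun hpz z
      rw [evZ_apply, Pi.single_eq_same] at this
      exact this
    have h0 : ∀ z' ∈ Z, z' ≠ z.1 → eval z'.rep p = 0 := by
      intro z' hz' hne
      have := congrFun hpz ⟨z', hz'⟩
      rw [evZ_apply, Pi.single_apply, if_neg] at this
      · exact this
      · intro h
        exact hne (congrArg Subtype.val h)
    have := hCB z.1 z.2 p hp h0
    rw [h1] at this
    exact one_ne_zero this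
  obtain ⟨φ, hφA, hφ⟩ := Module.Dual.exists_forall_mem_ne_zero_of_forall_exists I.dualAnnihilator
    (fun z : ↥Z => Module.Dual.eval k (↥Z → k) (Pi.single z 1)) (fun z => by
      obtain ⟨f, hfx, hf⟩ := Submodule.exists_dual_map_eq_bot_of_notMem (hnot z) inferInstance
      refine ⟨f, ?_, hfx⟩
      rw [Submodule.mem_dualAnnihilator]
      intro w hw
      exact (Submodule.eq_bot_iff _).mp hf (f w) (Submodule.mem_map_of_mem hw))
  have hφ' : ∀ z : ↥Z, φ (Pi.single z 1) ≠ 0 := hφ
  let Ψ : ↥(homogeneousSubmodule (Fin 4) k (n - m)) →ₗ[k] Module.Dual k (↥Z → k) :=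
    LinearMap.mk₂ k (fun g w => φ (fun z => eval z.1.rep g.1 * w z))
      (fun g₁ g₂ w => by
        rw [← map_add]
        congr 1
        funext z
        simp only [Submodule.coe_add, map_add, Pi.add_apply]
        ring)
      (fun c g w => by
        rw [← map_smul]
        congr 1
        funext z
        simp only [Submodule.coe_smul, smul_eval, Pi.smul_apply, smul_eq_mul]
        ring)
      (fun g w₁ w₂ => by
        rw [← map_add]
        congr 1
        funext z
        simp only [Pi.add_apply]
        ring)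
      (fun c g w => by
        rw [← map_smul]
        congr 1
        funext z
        simp only [Pi.smul_apply, smul_eq_mul]
        ring)
  have hΨ : ∀ g w, Ψ g w = φ (fun z => eval z.1.rep g.1 * w z) := fun g w => rfl
  have hΨinj : Function.Injective Ψ := by
    rw [← LinearMap.ker_eq_bot, LinearMap.ker_eq_bot']
    intro g hg
    have hvan : ∀ z ∈ Z, eval z.rep g.1 = 0 := by
      intro z hz
      have h1 := LinearMap.congr_fun hg (Pi.single (⟨z, hz⟩ : ↥Z) (1 : k) : ↥Z → k)
      rw [hΨ, LinearMap.zero_apply] at h1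
      have e : (fun z' : ↥Z => eval z'.1.rep g.1 * (Pi.single (⟨z, hz⟩ : ↥Z) (1 : k) : ↥Z → k) z') =
          eval z.rep g.1 • (Pi.single (⟨z, hz⟩ : ↥Z) (1 : k) : ↥Z → k) := by
        funext z'
        by_cases h : z' = ⟨z, hz⟩
        · subst h
          simp
        · simp [Pi.single_apply, h]
      rw [e, map_smul, smul_eq_mul] at h1
      exact (mul_eq_zero.mp h1).resolve_right (hφ' ⟨z, hz⟩)
    exact Subtype.ext (hinj g.1 g.2 hvan)
  have hΨrange : LinearMap.range Ψ ≤
      (LinearMap.range (evZ Z ∘ₗ (homogeneousSubmodule (Fin 4) k m).subtype)).dualAnnihilator := by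
    rintro _ ⟨g, rfl⟩
    rw [Submodule.mem_dualAnnihilator]
    rintro _ ⟨f, rfl⟩
    rw [hΨ]
    have hmem : (fun z : ↥Z => eval z.1.rep g.1 *
        (evZ Z ∘ₗ (homogeneousSubmodule (Fin 4) k m).subtype) f z) ∈ I := by
      rw [hI]
      have hgf : (g.1 * f.1).IsHomogeneous n := by
        have h1 : g.1.IsHomogeneous (n - m) := g.2
        have h2 : f.1.IsHomogeneous m := f.2
        have := h1.mul h2
        rwa [Nat.sub_add_cancel hm] at this
      refine ⟨⟨g.1 * f.1, hgf⟩, ?_⟩
      funext z
      rw [LinearMap.comp_apply, Submodule.subtype_apply, evZ_apply, LinearMap.comp_apply,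
        Submodule.subtype_apply, evZ_apply, map_mul]
    exact (Submodule.mem_dualAnnihilator φ).mp hφA _ hmem
  have h1 := Subspace.finrank_add_finrank_dualAnnihilator_eq
    (LinearMap.range (evZ Z ∘ₗ (homogeneousSubmodule (Fin 4) k m).subtype))
  have h2 : finrank k (LinearMap.range Ψ) = finrank k ↥(homogeneousSubmodule (Fin 4) k (n - m)) :=
    LinearMap.finrank_range_of_inj hΨinj
  have h3 := Submodule.finrank_mono hΨrange
  have h4 : finrank k (↥Z → k) = Z.card := by
    rw [Module.finrank_fintype_fun_eq_card, Fintype.card_coe]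
  omega

end Groth.Agent.Lib.helper13.CayBach2
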