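import Mathlib
import Groth.Agent.Lib.helper13.CayBach

/-!
# Cayley–Bacharach sets in projective 3-space: incidence lemmas (helper13)
-/

set_option autoImplicit false

namespace Groth.Agent.Lib.helper13.CayBach

open Module

variable {k : Type*} [Field k]

/-- a subspace of dimension at most three lies in a plane -/
theorem exists_plane_of_finrank_le (W : Submodule k (Fin 4 → k)) (h : finrank k W ≤ 3) :
    ∃ c : Fin 4 → k, c ≠ 0 ∧ ∀ w ∈ W, c ⬝ᵥ w = 0 := by
  have hne : W ≠ ⊤ := by
    rintro rfl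
    rw [finrank_top, Module.finrank_fin_fun] at h
    omega
  obtain ⟨x, hx⟩ : ∃ x, x ∉ W := by
    by_contra hc
    push Not at hc
    exact hne (eq_top_iff.mpr fun x _ => hc x)
  obtain ⟨c, hc0, hc⟩ := exists_sep W hx
  refine ⟨c, ?_, hc0⟩
  rintro rfl
  exact hc (by simp)

theorem finrank_sup_span_le (L : Submodule k (Fin 4 → k)) (hL : finrank k L = 2)
    (x : Fin 4 → k) : finrank k ↥(L ⊔ Submodule.span k {x}) ≤ 3 := by
  have h1 := Submodule.finrank_add_le_finrank_add_finrank L (Submodule.span k {x})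
  have h2 : finrank k (Submodule.span k {x}) ≤ 1 := by
    have := finrank_span_finset_le_card (R := k) ({x} : Finset (Fin 4 → k))
    rw [Set.finrank, Finset.coe_singleton, Finset.card_singleton] at this
    exact this
  omega

theorem finrank_sup_le_of_inf_ne_bot (L₁ L₂ : Submodule k (Fin 4 → k)) (h₁ : finrank k L₁ = 2)
    (h₂ : finrank k L₂ = 2) (h : L₁ ⊓ L₂ ≠ ⊥) : finrank k ↥(L₁ ⊔ L₂) ≤ 3 := by
  have h1 := Submodule.finrank_sup_add_finrank_inf_eq L₁ L₂
  have h2 : 1 ≤ finrank k ↥(L₁ ⊓ L₂) := by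
    rw [Nat.one_le_iff_ne_zero, Ne, Submodule.finrank_eq_zero]
    exact h
  omega

/-- two lines sharing two distinct points coincide -/
theorem line_unique {N₁ N₂ : Submodule k (Fin 4 → k)} (h₁ : finrank k N₁ = 2)
    (h₂ : finrank k N₂ = 2) {z z' : Projectivization k (Fin 4 → k)} (hne : z ≠ z')
    (hz1 : z.rep ∈ N₁) (hz'1 : z'.rep ∈ N₁) (hz2 : z.rep ∈ N₂) (hz'2 : z'.rep ∈ N₂) :
    N₁ = N₂ := by
  have hs := finrank_span_pair hne
  have hle1 : Submodule.span k (Set.range ![z.rep, z'.rep]) ≤ N₁ := by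
    rw [Submodule.span_le]
    rintro _ ⟨i, rfl⟩
    fin_cases i
    · exact hz1
    · exact hz'1
  have hle2 : Submodule.span k (Set.range ![z.rep, z'.rep]) ≤ N₂ := by
    rw [Submodule.span_le]
    rintro _ ⟨i, rfl⟩
    fin_cases i
    · exact hz2
    · exact hz'2
  have e1 := Submodule.eq_of_le_of_finrank_eq hle1 (by rw [hs, h₁])
  have e2 := Submodule.eq_of_le_of_finrank_eq hle2 (by rw [hs, h₂])
  rw [← e1, ← e2]

/-- symmetry of "not in the same plane through `L`" -/
theorem notMem_sup_symm {L : Submodule k (Fin 4 → k)} {x y : Fin 4 → k} (hx : x ∉ L)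
    (hy : y ∉ L ⊔ Submodule.span k {x}) : x ∉ L ⊔ Submodule.span k {y} := by
  intro hmem
  rw [Submodule.mem_sup] at hmem
  obtain ⟨l, hl, s, hs, hls⟩ := hmem
  obtain ⟨t, rfl⟩ := Submodule.mem_span_singleton.mp hs
  by_cases ht : t = 0
  · rw [ht, zero_smul, add_zero] at hls
    exact hx (hls ▸ hl)
  · apply hy
    have e : y = t⁻¹ • (-l) + t⁻¹ • x := by
      rw [← hls, smul_add, smul_neg, smul_smul, inv_mul_cancel₀ ht, one_smul]
      abel
    rw [e]
    refine Submodule.add_mem _ ?_ ?_
    · exact Submodule.mem_sup_left (L.smul_mem _ (L.neg_mem hl))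
    · exact Submodule.mem_sup_right (Submodule.smul_mem _ _ (Submodule.mem_span_singleton_self x))

/-- the dot product with `c` as a linear functional -/
def dotL (c : Fin 4 → k) : (Fin 4 → k) →ₗ[k] k where
  toFun w := c ⬝ᵥ w
  map_add' := dotProduct_add c
  map_smul' a w := by simp [dotProduct_smul]

theorem finrank_ker_dotL {c : Fin 4 → k} (hc : c ≠ 0) : finrank k (LinearMap.ker (dotL c)) = 3 := by
  have hsurj : LinearMap.range (dotL c) = ⊤ := by
    rw [LinearMap.range_eq_top]
    obtain ⟨i, hi⟩ : ∃ i, c i ≠ 0 := by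
      by_contra h
      push Not at h
      exact hc (funext h)
    intro t
    refine ⟨Pi.single i (t / c i), ?_⟩
    show c ⬝ᵥ Pi.single i (t / c i) = t
    rw [dotProduct_single]
    field_simp
  have := LinearMap.finrank_range_add_finrank_ker (dotL c)
  rw [hsurj, finrank_top, Module.finrank_self, Module.finrank_fin_fun] at this
  omega

end Groth.Agent.Lib.helper13.CayBach
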