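import Mathlib
import Groth.Agent.Lib.helper13.CayBach3

/-!
# Cayley–Bacharach sets with at most `3n + 1` points in projective 3-space (helper13)

Such a set is coplanar or lies on two skew lines (argument behind `S18042`).
-/

set_option autoImplicit false

namespace Groth.Agent.Lib.helper13.CayBach

open Module
open scoped Classical

variable {k : Type*} [Field k]

/-- points of `Z` on the plane `c` -/
noncomputable def onP (Z : Finset (Projectivization k (Fin 4 → k))) (c : Fin 4 → k) :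
    Finset (Projectivization k (Fin 4 → k)) := Z.filter (fun z => c ⬝ᵥ z.rep = 0)

/-- points of `Z` off the plane `c` -/
noncomputable def offP (Z : Finset (Projectivization k (Fin 4 → k))) (c : Fin 4 → k) :
    Finset (Projectivization k (Fin 4 → k)) := Z.filter (fun z => ¬ c ⬝ᵥ z.rep = 0)

/-- points of `Z` in the subspace `W` -/
noncomputable def inL (Z : Finset (Projectivization k (Fin 4 → k)))
    (W : Submodule k (Fin 4 → k)) : Finset (Projectivization k (Fin 4 → k)) :=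
  Z.filter (fun z => z.rep ∈ W)

/-- points of `Z` outside the subspace `W` -/
noncomputable def outL (Z : Finset (Projectivization k (Fin 4 → k)))
    (W : Submodule k (Fin 4 → k)) : Finset (Projectivization k (Fin 4 → k)) :=
  Z.filter (fun z => ¬ z.rep ∈ W)

theorem card_on_add_off (Z : Finset (Projectivization k (Fin 4 → k))) (c : Fin 4 → k) :
    (onP Z c).card + (offP Z c).card = Z.card :=
  Finset.card_filter_add_card_filter_not _

theorem card_in_add_out (Z : Finset (Projectivization k (Fin 4 → k)))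
    (W : Submodule k (Fin 4 → k)) : (inL Z W).card + (outL Z W).card = Z.card :=
  Finset.card_filter_add_card_filter_not _

theorem mem_onP {Z : Finset (Projectivization k (Fin 4 → k))} {c : Fin 4 → k}
    {z : Projectivization k (Fin 4 → k)} : z ∈ onP Z c ↔ z ∈ Z ∧ c ⬝ᵥ z.rep = 0 :=
  Finset.mem_filter

theorem mem_offP {Z : Finset (Projectivization k (Fin 4 → k))} {c : Fin 4 → k}
    {z : Projectivization k (Fin 4 → k)} : z ∈ offP Z c ↔ z ∈ Z ∧ c ⬝ᵥ z.rep ≠ 0 :=
  Finset.mem_filter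

theorem mem_inL {Z : Finset (Projectivization k (Fin 4 → k))} {W : Submodule k (Fin 4 → k)}
    {z : Projectivization k (Fin 4 → k)} : z ∈ inL Z W ↔ z ∈ Z ∧ z.rep ∈ W :=
  Finset.mem_filter

theorem mem_outL {Z : Finset (Projectivization k (Fin 4 → k))} {W : Submodule k (Fin 4 → k)}
    {z : Projectivization k (Fin 4 → k)} : z ∈ outL Z W ↔ z ∈ Z ∧ z.rep ∉ W :=
  Finset.mem_filter

/-- `Z` lies in a plane -/
def Coplanar (Z : Finset (Projectivization k (Fin 4 → k))) : Prop :=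
  ∃ c : Fin 4 → k, c ≠ 0 ∧ ∀ z ∈ Z, c ⬝ᵥ z.rep = 0

/-- `Z` lies on two skew lines with many points on each -/
def TwoLines (Z : Finset (Projectivization k (Fin 4 → k))) (n : ℕ) : Prop :=
  ∃ W₁ W₂ : Submodule k (Fin 4 → k), finrank k W₁ = 2 ∧ finrank k W₂ = 2 ∧ W₁ ⊓ W₂ = ⊥ ∧
    (∀ z ∈ Z, z.rep ∈ W₁ ∨ z.rep ∈ W₂) ∧ n + 1 ≤ (inL Z W₁).card ∧ n + 1 ≤ (inL Z W₂).card ∧
    2 * n + 3 ≤ Z.card

theorem coplanar_of_subset {Z : Finset (Projectivization k (Fin 4 → k))}
    (W : Submodule k (Fin 4 → k)) (hW : finrank k W ≤ 3) (h : ∀ z ∈ Z, z.rep ∈ W) :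
    Coplanar Z := by
  obtain ⟨c, hc0, hc⟩ := exists_plane_of_finrank_le W hW
  exact ⟨c, hc0, fun z hz => hc _ (h z hz)⟩

theorem CB.off {Z : Finset (Projectivization k (Fin 4 → k))} {n : ℕ} (h : CB Z (n + 1))
    (c : Fin 4 → k) : CB (offP Z c) n :=
  h.restrict c _ (fun _ => mem_offP)

theorem exists_max_plane (Z : Finset (Projectivization k (Fin 4 → k))) :
    ∃ c : Fin 4 → k, c ≠ 0 ∧ ∀ c' : Fin 4 → k, c' ≠ 0 → (onP Z c').card ≤ (onP Z c).card := by
  let S : Set ℕ := {j | ∃ c : Fin 4 → k, c ≠ 0 ∧ (onP Z c).card = j}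
  have hne : S.Nonempty := by
    refine ⟨_, Pi.single 0 1, ?_, rfl⟩
    intro h
    have := congrFun h 0
    simp at this
  have hbdd : BddAbove S := by
    refine ⟨Z.card, ?_⟩
    rintro j ⟨c, -, rfl⟩
    exact Finset.card_filter_le _ _
  obtain ⟨c, hc0, hc⟩ := Nat.sSup_mem hne hbdd
  refine ⟨c, hc0, fun c' hc' => ?_⟩
  rw [hc]
  exact le_csSup hbdd ⟨c', hc', rfl⟩

theorem coplanar_of_card_le {Z : Finset (Projectivization k (Fin 4 → k))}
    (T : Finset (Projectivization k (Fin 4 → k))) (hT : T.card ≤ 3) :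
    ∃ c : Fin 4 → k, c ≠ 0 ∧ ∀ z ∈ T, c ⬝ᵥ z.rep = 0 := by
  have h1 : finrank k (Submodule.span k ((T.image Projectivization.rep : Finset (Fin 4 → k)) :
      Set (Fin 4 → k))) ≤ 3 := by
    have := finrank_span_finset_le_card (R := k) (T.image Projectivization.rep)
    rw [Set.finrank] at this
    exact le_trans this (le_trans Finset.card_image_le hT)
  obtain ⟨c, hc0, hc⟩ := exists_plane_of_finrank_le _ h1
  refine ⟨c, hc0, fun z hz => hc _ (Submodule.subset_span ?_)⟩
  exact Finset.mem_coe.mpr (Finset.mem_image_of_mem _ hz)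

theorem three_on_plane (Z : Finset (Projectivization k (Fin 4 → k))) (hZ : 3 ≤ Z.card) :
    ∃ c : Fin 4 → k, c ≠ 0 ∧ 3 ≤ (onP Z c).card := by
  obtain ⟨T, hTZ, hT⟩ := Finset.exists_subset_card_eq hZ
  obtain ⟨c, hc0, hc⟩ := coplanar_of_card_le (Z := Z) T (le_of_eq hT)
  refine ⟨c, hc0, ?_⟩
  rw [← hT]
  refine Finset.card_le_card fun z hz => ?_
  exact mem_onP.mpr ⟨hTZ hz, hc z hz⟩

/-- a line with many points together with a point off it gives a plane with many points -/
theorem big_plane {Z Y : Finset (Projectivization k (Fin 4 → k))} (hYZ : Y ⊆ Z)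
    {W₁ W₂ : Submodule k (Fin 4 → k)} (hW₁ : finrank k W₁ = 2) (hinf : W₁ ⊓ W₂ = ⊥)
    (h2 : 1 ≤ (inL Y W₂).card) :
    ∃ c' : Fin 4 → k, c' ≠ 0 ∧ (inL Y W₁).card + 1 ≤ (onP Z c').card := by
  obtain ⟨y, hy⟩ := Finset.card_pos.mp h2
  rw [mem_inL] at hy
  have hy1 : y.rep ∉ W₁ := by
    intro h
    have : y.rep ∈ W₁ ⊓ W₂ := ⟨h, hy.2⟩
    rw [hinf, Submodule.mem_bot] at this
    exact y.rep_nonzero this
  obtain ⟨c', hc'0, hc'⟩ := exists_plane_of_finrank_le _ (finrank_sup_span_le W₁ hW₁ y.rep)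
  refine ⟨c', hc'0, ?_⟩
  have hynot : y ∉ inL Y W₁ := fun h => hy1 (mem_inL.mp h).2
  rw [← Finset.card_insert_of_notMem hynot]
  refine Finset.card_le_card fun z hz => ?_
  rw [Finset.mem_insert] at hz
  rcases hz with rfl | hz
  · exact mem_onP.mpr ⟨hYZ hy.1, hc' _ (Submodule.mem_sup_right
      (Submodule.mem_span_singleton_self _))⟩
  · rw [mem_inL] at hz
    exact mem_onP.mpr ⟨hYZ hz.1, hc' _ (Submodule.mem_sup_left hz.2)⟩

/-- the case where the complement of a maximal plane is collinear -/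
theorem case_one {Z : Finset (Projectivization k (Fin 4 → k))} {n : ℕ} (h : CB Z (n + 1))
    (hcard : Z.card ≤ 3 * n + 4) (hcop : ¬ Coplanar Z) (L : Submodule k (Fin 4 → k))
    (hL : finrank k L = 2) (hLcard : n + 2 ≤ (inL Z L).card) : TwoLines Z (n + 1) := by
  have hsum := card_in_add_out Z L
  -- key claim
  have K : ∀ c' : Fin 4 → k, c' ≠ 0 → (∀ w ∈ L, c' ⬝ᵥ w = 0) →
      (∃ r₀ ∈ outL Z L, c' ⬝ᵥ r₀.rep = 0) →
      offP Z c' ⊆ outL Z L ∧ n + 2 ≤ (offP Z c').card ∧
        ∃ N : Submodule k (Fin 4 → k), finrank k N = 2 ∧ ∀ z ∈ offP Z c', z.rep ∈ N := by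
    intro c' hc'0 hc'L hr₀
    obtain ⟨r₀, hr₀R, hr₀c⟩ := hr₀
    have hsub : offP Z c' ⊆ outL Z L := by
      intro z hz
      rw [mem_offP] at hz
      exact mem_outL.mpr ⟨hz.1, fun hzL => hz.2 (hc'L _ hzL)⟩
    have hsub' : offP Z c' ⊆ (outL Z L).erase r₀ := by
      intro z hz
      rw [Finset.mem_erase]
      refine ⟨?_, hsub hz⟩
      rintro rfl
      exact (mem_offP.mp hz).2 hr₀c
    have hle := Finset.card_le_card hsub'
    rw [Finset.card_erase_of_mem hr₀R] at hle
    have hne : (offP Z c').Nonempty := by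
      by_contra hemp
      rw [Finset.not_nonempty_iff_eq_empty] at hemp
      apply hcop
      refine ⟨c', hc'0, fun z hz => ?_⟩
      by_contra hz0
      have : z ∈ offP Z c' := mem_offP.mpr ⟨hz, hz0⟩
      rw [hemp] at this
      exact absurd this (Finset.notMem_empty z)
    have hCB := h.off c'
    have hge := CB.card_ge n _ hCB hne
    have hRpos : 1 ≤ (outL Z L).card := Finset.card_pos.mpr ⟨r₀, hr₀R⟩
    obtain ⟨N, hN, hNmem⟩ := CB.collinear n _ hCB hne (by omega)
    exact ⟨hsub, hge, N, hN, hNmem⟩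
  -- R nonempty
  have hRne : (outL Z L).Nonempty := by
    by_contra hemp
    rw [Finset.not_nonempty_iff_eq_empty] at hemp
    apply hcop
    refine coplanar_of_subset L (by omega) fun z hz => ?_
    by_contra hzL
    have : z ∈ outL Z L := mem_outL.mpr ⟨hz, hzL⟩
    rw [hemp] at this
    exact absurd this (Finset.notMem_empty z)
  obtain ⟨r₁, hr₁⟩ := hRne
  obtain ⟨c₁, hc₁0, hc₁⟩ := exists_plane_of_finrank_le _ (finrank_sup_span_le L hL r₁.rep)
  have hr₁c : c₁ ⬝ᵥ r₁.rep = 0 :=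
    hc₁ _ (Submodule.mem_sup_right (Submodule.mem_span_singleton_self _))
  obtain ⟨hsub₁, hge₁, N, hN, hN₁⟩ := K c₁ hc₁0 (fun w hw => hc₁ _ (Submodule.mem_sup_left hw))
    ⟨r₁, hr₁, hr₁c⟩
  -- R has at least n + 3 points
  have hRcard : n + 3 ≤ (outL Z L).card := by
    have hnot : r₁ ∉ offP Z c₁ := fun hh => (mem_offP.mp hh).2 hr₁c
    have hins : insert r₁ (offP Z c₁) ⊆ outL Z L := by
      intro z hz
      rw [Finset.mem_insert] at hz
      rcases hz with rfl | hz
      · exact hr₁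
      · exact hsub₁ hz
    have := Finset.card_le_card hins
    rw [Finset.card_insert_of_notMem hnot] at this
    omega
  have Kuniq : ∀ c' : Fin 4 → k, c' ≠ 0 → (∀ w ∈ L, c' ⬝ᵥ w = 0) →
      (∃ r₀ ∈ outL Z L, c' ⬝ᵥ r₀.rep = 0) → ∀ z ∈ offP Z c', z.rep ∈ N := by
    intro c' hc'0 hc'L hr₀
    obtain ⟨hsub', hge', N', hN', hN'mem⟩ := K c' hc'0 hc'L hr₀
    have h2 : 2 ≤ (offP Z c₁ ∩ offP Z c').card := by
      have h3 := Finset.card_union_add_card_inter (offP Z c₁) (offP Z c')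
      have hun : (offP Z c₁ ∪ offP Z c').card ≤ (outL Z L).card :=
        Finset.card_le_card (Finset.union_subset hsub₁ hsub')
      omega
    obtain ⟨z, hz, z', hz', hne⟩ := Finset.one_lt_card.mp (by omega : 1 < (offP Z c₁ ∩ offP Z c').card)
    have hNN : N' = N := line_unique hN' hN hne (hN'mem z (Finset.mem_of_mem_inter_right hz))
      (hN'mem z' (Finset.mem_of_mem_inter_right hz')) (hN₁ z (Finset.mem_of_mem_inter_left hz))
      (hN₁ z' (Finset.mem_of_mem_inter_left hz'))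
    intro y hy
    rw [← hNN]
    exact hN'mem y hy
  have hRN : ∀ r ∈ outL Z L, r.rep ∈ N := by
    intro r hr
    have hrL : r.rep ∉ L := (mem_outL.mp hr).2
    have hex : ∃ r₀ ∈ outL Z L, r.rep ∉ L ⊔ Submodule.span k {r₀.rep} := by
      by_contra hall
      push Not at hall
      apply hcop
      refine coplanar_of_subset (L ⊔ Submodule.span k {r.rep}) (finrank_sup_span_le L hL r.rep)
        (fun z hz => ?_)
      by_cases hzL : z.rep ∈ L
      · exact Submodule.mem_sup_left hzL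
      · have hzR : z ∈ outL Z L := mem_outL.mpr ⟨hz, hzL⟩
        by_contra hnot
        exact notMem_sup_symm hrL hnot (hall z hzR)
    obtain ⟨r₀, hr₀, hnot⟩ := hex
    obtain ⟨c', hc'0, hc'⟩ := exists_sep _ hnot
    have hc'ne : c' ≠ 0 := by
      rintro rfl
      exact hc' (by simp)
    have := Kuniq c' hc'ne (fun w hw => hc'0 _ (Submodule.mem_sup_left hw))
      ⟨r₀, hr₀, hc'0 _ (Submodule.mem_sup_right (Submodule.mem_span_singleton_self _))⟩
    exact this r (mem_offP.mpr ⟨(mem_outL.mp hr).1, hc'⟩)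
  refine ⟨L, N, hL, hN, ?_, ?_, by omega, ?_, by omega⟩
  · by_contra hne
    apply hcop
    refine coplanar_of_subset (L ⊔ N) (finrank_sup_le_of_inf_ne_bot L N hL hN hne) (fun z hz => ?_)
    by_cases hzL : z.rep ∈ L
    · exact Submodule.mem_sup_left hzL
    · exact Submodule.mem_sup_right (hRN z (mem_outL.mpr ⟨hz, hzL⟩))
  · intro z hz
    by_cases hzL : z.rep ∈ L
    · exact Or.inl hzL
    · exact Or.inr (hRN z (mem_outL.mpr ⟨hz, hzL⟩))
  · have hsubN : outL Z L ⊆ inL Z N := by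
      intro z hz
      exact mem_inL.mpr ⟨(mem_outL.mp hz).1, hRN z hz⟩
    have := Finset.card_le_card hsubN
    omega

end Groth.Agent.Lib.helper13.CayBach
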