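import Mathlib
import Groth.Agent.Lib.helper13.CayBach4

/-!
# Cayley–Bacharach sets with at most `3n + 1` points: the induction (helper13)
-/

set_option autoImplicit false

namespace Groth.Agent.Lib.helper13.CayBach

open Module
open scoped Classical

variable {k : Type*} [Field k]

theorem main : ∀ (n : ℕ) (Z : Finset (Projectivization k (Fin 4 → k))), CB Z n →
    Z.card ≤ 3 * n + 1 → Coplanar Z ∨ TwoLines Z n := by
  intro n
  induction n with
  | zero =>
    intro Z h hcard
    left
    by_cases hne : Z.Nonempty
    · have := CB.card_ge 0 Z h hne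
      omega
    · rw [Finset.not_nonempty_iff_eq_empty] at hne
      subst hne
      obtain ⟨c, hc0, hc⟩ := coplanar_of_card_le (Z := (∅ : Finset (Projectivization k (Fin 4 → k))))
        ∅ (by simp)
      exact ⟨c, hc0, hc⟩
  | succ n ih =>
    intro Z h hcard
    by_cases hcop : Coplanar Z
    · exact Or.inl hcop
    right
    have h3 : 3 ≤ Z.card := by
      by_contra hlt
      apply hcop
      obtain ⟨c, hc0, hc⟩ := coplanar_of_card_le (Z := Z) Z (by omega)
      exact ⟨c, hc0, hc⟩
    obtain ⟨c, hc0, hmax⟩ := exists_max_plane Z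
    obtain ⟨c₀, hc₀, h3'⟩ := three_on_plane Z h3
    have hh : 3 ≤ (onP Z c).card := le_trans h3' (hmax c₀ hc₀)
    have hoffne : (offP Z c).Nonempty := by
      by_contra hemp
      rw [Finset.not_nonempty_iff_eq_empty] at hemp
      apply hcop
      refine ⟨c, hc0, fun z hz => ?_⟩
      by_contra hz0
      have : z ∈ offP Z c := mem_offP.mpr ⟨hz, hz0⟩
      rw [hemp] at this
      exact absurd this (Finset.notMem_empty z)
    have hCBoff : CB (offP Z c) n := h.off c
    have hoffge : n + 2 ≤ (offP Z c).card := CB.card_ge n _ hCBoff hoffne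
    have hsum := card_on_add_off Z c
    have hoffZ : offP Z c ⊆ Z := Finset.filter_subset _ _
    by_cases hcase : (offP Z c).card ≤ 2 * n + 1
    · obtain ⟨L, hL, hoffL⟩ := CB.collinear n _ hCBoff hoffne hcase
      have hLcard : n + 2 ≤ (inL Z L).card := by
        refine le_trans hoffge (Finset.card_le_card fun z hz => ?_)
        exact mem_inL.mpr ⟨hoffZ hz, hoffL z hz⟩
      exact case_one h (by omega) hcop L hL hLcard
    · push Not at hcase
      exfalso
      rcases ih (offP Z c) hCBoff (by omega) with hcop' | htl
      · obtain ⟨c', hc'0, hc'⟩ := hcop'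
        have hsub : offP Z c ⊆ onP Z c' := fun z hz => mem_onP.mpr ⟨hoffZ hz, hc' z hz⟩
        have h1 := Finset.card_le_card hsub
        have h2 := hmax c' hc'0
        omega
      · obtain ⟨W₁, W₂, hW₁, hW₂, hinf, hcov, hc1, hc2, htot⟩ := htl
        have hle : (offP Z c).card ≤ (inL (offP Z c) W₁).card + (inL (offP Z c) W₂).card := by
          have hsub : offP Z c ⊆ inL (offP Z c) W₁ ∪ inL (offP Z c) W₂ := by
            intro z hz
            rw [Finset.mem_union]
            rcases hcov z hz with h' | h'
            · exact Or.inl (mem_inL.mpr ⟨hz, h'⟩)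
            · exact Or.inr (mem_inL.mpr ⟨hz, h'⟩)
          exact le_trans (Finset.card_le_card hsub) (Finset.card_union_le _ _)
        rcases (by omega : n + 2 ≤ (inL (offP Z c) W₁).card ∨ n + 2 ≤ (inL (offP Z c) W₂).card)
          with hbig | hbig
        · obtain ⟨c', hc'0, hc'⟩ := big_plane hoffZ hW₁ hinf (by omega : 1 ≤ (inL (offP Z c) W₂).card)
          have := hmax c' hc'0
          omega
        · obtain ⟨c', hc'0, hc'⟩ := big_plane hoffZ hW₂ (by rw [inf_comm]; exact hinf)
            (by omega : 1 ≤ (inL (offP Z c) W₁).card)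
          have := hmax c' hc'0
          omega

end Groth.Agent.Lib.helper13.CayBach
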