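import Mathlib

/-!
# A chain inequality (supporting chord argument)
-/

namespace Groth.Agent.Lib.helper13.ChainIneq

open Finset

/-- the extremal abscissae -/
noncomputable def X (n g : ℕ) (i : ℕ) : ℝ := (i : ℝ) + (if i ≤ n - g then 0 else (g : ℝ))

theorem X_le {n g i : ℕ} (h : i ≤ n - g) : X n g i = i := by simp [X, h]

theorem X_gt {n g i : ℕ} (h : n - g < i) : X n g i = (i : ℝ) + g := by
  simp [X, Nat.not_le.mpr h]

theorem sum_X (n g : ℕ) (hgn : g ≤ n) :
    ∑ i ∈ range (n + 1), X n g i = (n : ℝ) * (n + 1) / 2 + (g : ℝ) ^ 2 := by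
  unfold X
  rw [sum_add_distrib]
  have h1 : ∑ i ∈ range (n + 1), (i : ℝ) = (n : ℝ) * (n + 1) / 2 := by
    have := Finset.sum_range_id_mul_two (n + 1)
    have h2 : ((∑ i ∈ range (n + 1), i : ℕ) : ℝ) * 2 = ((n + 1 : ℕ) : ℝ) * ((n + 1 - 1 : ℕ) : ℝ) := by
      exact_mod_cast this
    rw [Nat.cast_sum] at h2
    simp only [Nat.add_sub_cancel] at h2
    push_cast at h2
    linarith
  have h2 : ∑ i ∈ range (n + 1), (if i ≤ n - g then (0 : ℝ) else (g : ℝ)) = (g : ℝ) ^ 2 := by
    rw [sum_ite, sum_const_zero, zero_add, sum_const, nsmul_eq_mul]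
    have hcard : (filter (fun i => ¬ i ≤ n - g) (range (n + 1))).card = g := by
      have : filter (fun i => ¬ i ≤ n - g) (range (n + 1)) = Ioc (n - g) n := by
        ext i
        simp only [mem_filter, mem_range, mem_Ioc, not_le]
        omega
      rw [this, Nat.card_Ioc]
      omega
    rw [hcard]
    ring
  rw [h1, h2]

/-- telescoping over a chain -/
theorem sum_fin_telescope (μ : ℕ) (f : Fin (μ + 1) → ℝ) :
    ∑ j : Fin μ, (f j.succ - f j.castSucc) = f (Fin.last μ) - f 0 := by
  induction μ with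
  | zero => simp
  | succ k ih =>
    rw [Fin.sum_univ_castSucc]
    have := ih (fun j => f j.castSucc)
    simp only [Fin.succ_castSucc] at this ⊢
    rw [this]
    simp only [Fin.succ_last]
    have h0 : (Fin.castSucc (0 : Fin (k + 1)) : Fin (k + 2)) = 0 := rfl
    have h1 : (Fin.last k).castSucc.castSucc = (Fin.last k).castSucc.castSucc := rfl
    rw [h0]
    ring


/-- The core estimate: there is a pair `a ≤ n - g < b` and a potential `G` dominating the
steps of the chain `0,1,…,a,b,b+1,…,n`, with `G n < G 0`. -/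
theorem core (n g : ℕ) (hg : 1 ≤ g) (hn : 2 * g ≤ n) (E R : ℕ → ℝ)
    (hE0 : E 0 = 0) (hEn : E n = (n : ℝ) + g)
    (hEX : ∀ i, i ≤ n → E i ≤ X n g i)
    (hR : ∀ i j, i ≤ j → j ≤ n → R j ≤ R i)
    (hsum : ∑ i ∈ range (n + 1), R i = 0) (hne : ∃ i, i ≤ n ∧ R i ≠ 0) :
    ∃ (a b : ℕ) (G : ℕ → ℝ) (w : ℝ), a ≤ n - g ∧ n - g < b ∧ b ≤ n ∧ 0 < w ∧ G n - G 0 < 0 ∧
      (∀ u, u < a → w * ((E (u + 1) - E u) * (R (u + 1) + R u)) ≤ G (u + 1) - G u) ∧
      (w * ((E b - E a) * (R b + R a)) ≤ G b - G a) ∧
      (∀ u, b ≤ u → u < n →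
        w * ((E (u + 1) - E u) * (R (u + 1) + R u)) ≤ G (u + 1) - G u) := by
  classical
  set N := n - g with hN
  have hNg : N + g = n := by omega
  have hNn : N < n := by omega
  have hgr : (1 : ℝ) ≤ g := by exact_mod_cast hg
  have hnr : 2 * (g : ℝ) ≤ n := by exact_mod_cast hn
  have hNr : (N : ℝ) + g = n := by exact_mod_cast hNg
  set t₀ : ℝ := (N : ℝ) + 1 / 2 with ht₀
  set P : Finset (ℕ × ℕ) := (range (N + 1)) ×ˢ (Ioc N n) with hP
  have hPne : P.Nonempty := ⟨(0, n), by simp [hP, hNn]⟩
  set h : ℕ × ℕ → ℝ := fun p =>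
    (R p.1 * (X n g p.2 - t₀) + R p.2 * (t₀ - X n g p.1)) / (X n g p.2 - X n g p.1) with hh
  obtain ⟨⟨a, b⟩, hab, hmin⟩ := exists_min_image P h hPne
  simp only [hP, mem_product, mem_range, mem_Ioc] at hab
  obtain ⟨haN, hbN, hbn⟩ := hab
  have haN' : a ≤ N := by omega
  have hXa : X n g a = a := X_le haN'
  have hXb : X n g b = (b : ℝ) + g := X_gt hbN
  set A := X n g a with hA
  set B := X n g b with hB
  have hAt : A < t₀ := by
    rw [hXa, ht₀]
    have : (a : ℝ) ≤ N := by exact_mod_cast haN'
    linarith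
  have htB : t₀ < B := by
    rw [hXb, ht₀]
    have : (N : ℝ) + 1 ≤ b := by exact_mod_cast hbN
    linarith
  set w := B - A with hw
  have hwpos : 0 < w := by linarith
  set κ := R a * B - R b * A with hκ
  set s := R b - R a with hs
  have hs0 : s ≤ 0 := by
    have := hR a b (by omega) hbn
    linarith
  -- supporting line
  have hsupp : ∀ i, i ≤ n → κ + s * X n g i ≤ w * R i := by
    intro i hi
    by_cases hiN : i ≤ N
    · have hmem : (i, b) ∈ P := by simp [hP]; omega
      have hle := hmin (i, b) hmem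
      simp only [hh] at hle
      have hXi : X n g i = i := X_le hiN
      have hIt : X n g i < t₀ := by
        rw [hXi, ht₀]
        have : (i : ℝ) ≤ N := by exact_mod_cast hiN
        linarith
      rw [div_le_div_iff₀ (by linarith) (by linarith)] at hle
      have hkey : 0 ≤ (B - t₀) * (w * R i - (κ + s * X n g i)) := by
        have e1 : (B - t₀) * (w * R i - (κ + s * X n g i))
            = (R i * (B - t₀) + R b * (t₀ - X n g i)) * (B - A)
              - (R a * (B - t₀) + R b * (t₀ - A)) * (B - X n g i) := by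
          simp only [hw, hκ, hs]; ring
        rw [e1]; linarith
      have := (mul_nonneg_iff_of_pos_left (by linarith : 0 < B - t₀)).mp hkey
      linarith
    · have hiN' : N < i := by omega
      have hmem : (a, i) ∈ P := by simp [hP]; omega
      have hle := hmin (a, i) hmem
      simp only [hh] at hle
      have hXi : X n g i = (i : ℝ) + g := X_gt hiN'
      have htI : t₀ < X n g i := by
        rw [hXi, ht₀]
        have : (N : ℝ) + 1 ≤ i := by exact_mod_cast hiN'
        linarith
      rw [div_le_div_iff₀ (by linarith) (by linarith)] at hle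
      have hkey : 0 ≤ (t₀ - A) * (w * R i - (κ + s * X n g i)) := by
        have e1 : (t₀ - A) * (w * R i - (κ + s * X n g i))
            = (R a * (X n g i - t₀) + R i * (t₀ - A)) * (B - A)
              - (R a * (B - t₀) + R b * (t₀ - A)) * (X n g i - A) := by
          simp only [hw, hκ, hs]; ring
        rw [e1]; linarith
      have := (mul_nonneg_iff_of_pos_left (by linarith : 0 < t₀ - A)).mp hkey
      linarith
  set δ : ℕ → ℝ := fun i => w * R i - κ - s * X n g i with hδ
  have hδnn : ∀ i, i ≤ n → 0 ≤ δ i := by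
    intro i hi
    have := hsupp i hi
    simp only [hδ]; linarith
  have hδa : δ a = 0 := by simp only [hδ, hw, hκ, hs]; ring
  have hδb : δ b = 0 := by simp only [hδ, hw, hκ, hs]; ring
  set Dp : ℕ → ℝ := fun k => 2 * ∑ i ∈ range k, δ i + δ k with hDp
  set Λ : ℕ → ℝ := fun k => 2 * κ * X n g k + s * (X n g k) ^ 2 with hΛ
  set φ : ℕ → ℝ := fun k => 2 * (X n g k - E k) * R k with hφ
  set G : ℕ → ℝ := fun k => Λ k + Dp k - w * φ k with hG
  -- general step estimate
  have hstep : ∀ u v, u < v → v ≤ n →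
      w * ((E v - E u) * (R v + R u))
        ≤ (Λ v - Λ u) + (X n g v - X n g u) * (δ u + δ v) - w * (φ v - φ u) := by
    intro u v huv hv
    have hRuv : R v ≤ R u := hR u v huv.le hv
    have hΔu : 0 ≤ X n g u - E u := by have := hEX u (by omega); linarith
    have hΔv : 0 ≤ X n g v - E v := by have := hEX v hv; linarith
    have hM : (E v - E u) * (R v + R u)
        ≤ (X n g v - X n g u) * (R v + R u) - (φ v - φ u) := by
      have : (X n g v - X n g u) * (R v + R u) - (φ v - φ u) - (E v - E u) * (R v + R u)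
          = ((X n g v - E v) + (X n g u - E u)) * (R u - R v) := by
        simp only [hφ]; ring
      have h2 : 0 ≤ ((X n g v - E v) + (X n g u - E u)) * (R u - R v) :=
        mul_nonneg (by linarith) (by linarith)
      linarith
    have hL : w * ((X n g v - X n g u) * (R v + R u))
        = (Λ v - Λ u) + (X n g v - X n g u) * (δ u + δ v) := by
      simp only [hΛ, hδ]; ring
    have := mul_le_mul_of_nonneg_left hM hwpos.le
    rw [mul_sub, hL] at this
    exact this
  have hDp_succ : ∀ u, Dp (u + 1) - Dp u = δ u + δ (u + 1) := by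
    intro u
    simp only [hDp, sum_range_succ]; ring
  have hunit : ∀ u, u + 1 ≤ n → X n g (u + 1) - X n g u = 1 →
      w * ((E (u + 1) - E u) * (R (u + 1) + R u)) ≤ G (u + 1) - G u := by
    intro u hu hX1
    have := hstep u (u + 1) (by omega) hu
    rw [hX1, one_mul] at this
    have h2 := hDp_succ u
    simp only [hG]
    linarith
  refine ⟨a, b, G, w, haN', hbN, hbn, hwpos, ?_, ?_, ?_, ?_⟩
  · -- G n - G 0 < 0
    have hX0 : X n g 0 = 0 := by rw [X_le (Nat.zero_le _)]; simp
    have hXn : X n g n = (n : ℝ) + g := X_gt hNn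
    have hφ0 : φ 0 = 0 := by simp only [hφ, hX0, hE0]; ring
    have hφn : φ n = 0 := by simp only [hφ, hXn, hEn]; ring
    set S := ∑ i ∈ range (n + 1), δ i with hS
    have hSnn : 0 ≤ S := sum_nonneg fun i hi => hδnn i (by simp at hi; omega)
    have hSeq : ((n : ℝ) + 1) * κ + s * ((n : ℝ) * (n + 1) / 2 + (g : ℝ) ^ 2) + S = 0 := by
      have h1 : S = w * ∑ i ∈ range (n + 1), R i - ((n : ℝ) + 1) * κ
          - s * ∑ i ∈ range (n + 1), X n g i := by
        simp only [hS, hδ, sum_sub_distrib, ← mul_sum, sum_const, card_range, nsmul_eq_mul]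
        push_cast; ring
      rw [hsum, sum_X n g (by omega)] at h1
      linarith
    have hDn : Dp n - Dp 0 = 2 * S - δ n - δ 0 := by
      simp only [hDp, hS, sum_range_succ, sum_range_zero]; ring
    have hGn : G n - G 0 = 2 * κ * ((n : ℝ) + g) + s * ((n : ℝ) + g) ^ 2 + (2 * S - δ n - δ 0) := by
      simp only [hG]
      rw [hφ0, hφn]
      have : Λ n - Λ 0 = 2 * κ * ((n : ℝ) + g) + s * ((n : ℝ) + g) ^ 2 := by
        simp only [hΛ, hX0, hXn]; ring
      linarith
    have hident : ((n : ℝ) + 1) * (G n - G 0)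
        = s * (((n : ℝ) + g) * g * ((n : ℝ) + 1 - 2 * g)) - 2 * ((g : ℝ) - 1) * S
          - ((n : ℝ) + 1) * (δ 0 + δ n) := by
      rw [hGn]
      linear_combination (2 * ((n : ℝ) + g)) * hSeq
    have hn1 : (0 : ℝ) < (n : ℝ) + 1 := by positivity
    have hcoef : 0 < ((n : ℝ) + g) * g * ((n : ℝ) + 1 - 2 * g) := by
      apply mul_pos (mul_pos (by positivity) (by linarith)) (by linarith)
    have hδ0 := hδnn 0 (Nat.zero_le _)
    have hδn := hδnn n le_rfl
    by_contra hge
    push Not at hge
    have hprod : 0 ≤ ((n : ℝ) + 1) * (G n - G 0) := mul_nonneg hn1.le hge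
    have hT1 : s * (((n : ℝ) + g) * g * ((n : ℝ) + 1 - 2 * g)) ≤ 0 :=
      mul_nonpos_of_nonpos_of_nonneg hs0 hcoef.le
    have hT2 : 0 ≤ 2 * ((g : ℝ) - 1) * S := mul_nonneg (by linarith) hSnn
    have hT3 : 0 ≤ ((n : ℝ) + 1) * (δ 0 + δ n) := mul_nonneg hn1.le (by linarith)
    have hT1' : s * (((n : ℝ) + g) * g * ((n : ℝ) + 1 - 2 * g)) = 0 := by linarith
    have hT3' : ((n : ℝ) + 1) * (δ 0 + δ n) = 0 := by linarith
    have hs_eq : s = 0 := by
      rcases mul_eq_zero.mp hT1' with h | h
      · exact h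
      · exact absurd h hcoef.ne'
    have hδsum : δ 0 + δ n = 0 := by
      rcases mul_eq_zero.mp hT3' with h | h
      · exact absurd h hn1.ne'
      · exact h
    have hδ0' : δ 0 = 0 := by linarith
    have hδn' : δ n = 0 := by linarith
    have hRab : R b = R a := by simp only [hs] at hs_eq; linarith
    have hκw : κ = w * R a := by simp only [hκ, hw, hRab]; ring
    have hR0a : R 0 = R a := by
      have : w * (R 0 - R a) = 0 := by
        have := hδ0'
        simp only [hδ, hs_eq, hκw] at this
        linarith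
      rcases mul_eq_zero.mp this with h | h
      · exact absurd h hwpos.ne'
      · linarith
    have hRna : R n = R a := by
      have : w * (R n - R a) = 0 := by
        have := hδn'
        simp only [hδ, hs_eq, hκw] at this
        linarith
      rcases mul_eq_zero.mp this with h | h
      · exact absurd h hwpos.ne'
      · linarith
    have hall : ∀ i, i ≤ n → R i = R 0 := by
      intro i hi
      have h1 := hR 0 i (Nat.zero_le _) hi
      have h2 := hR i n hi le_rfl
      linarith
    have hR00 : R 0 = 0 := by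
      have : ∑ i ∈ range (n + 1), R i = ((n : ℝ) + 1) * R 0 := by
        rw [sum_congr rfl (fun i hi => hall i (by simp at hi; omega)), sum_const, card_range,
          nsmul_eq_mul]
        push_cast; ring
      rw [hsum] at this
      rcases mul_eq_zero.mp this.symm with h | h
      · exact absurd h hn1.ne'
      · exact h
    obtain ⟨i, hi, hRi⟩ := hne
    exact hRi ((hall i hi).trans hR00)
  · intro u hu
    apply hunit u (by omega)
    rw [X_le (by omega : u + 1 ≤ n - g), X_le (by omega : u ≤ n - g)]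
    push_cast; ring
  · have := hstep a b (by omega) hbn
    rw [hδa, hδb, add_zero, mul_zero, add_zero] at this
    have hDab : 0 ≤ Dp b - Dp a := by
      have hle : a ≤ b := by omega
      have h1 : ∑ i ∈ range b, δ i - ∑ i ∈ range a, δ i = ∑ i ∈ Ico a b, δ i :=
        (sum_Ico_eq_sub _ hle).symm
      have h2 : 0 ≤ ∑ i ∈ Ico a b, δ i :=
        sum_nonneg fun i hi => hδnn i (by simp at hi; omega)
      simp only [hDp, hδa, hδb]
      linarith
    simp only [hG]
    linarith
  · intro u hbu hun
    apply hunit u (by omega)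
    rw [X_gt (by omega : n - g < u + 1), X_gt (by omega : n - g < u)]
    push_cast; ring

end Groth.Agent.Lib.helper13.ChainIneq
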