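import Mathlib

/-!
# Coefficients of characteristic polynomials stabilise a lattice of determinants
-/

namespace Groth.Agent.Lib.helper13.CharCoeffFG

open Polynomial Matrix

section Expand

variable {K : Type*} [CommRing K] {W : Type*} [AddCommGroup W] [Module K W]
  {ι : Type*} [Fintype ι] [DecidableEq ι] (b : Module.Basis ι K W)
  {m : ℕ} (y : Fin m → W)

/-- determinants of tuples taken from `y` -/
noncomputable def d (r : ι → Fin m) : K := b.det (fun i => y (r i))

theorem det_expand (k : ι → Fin m → K) :
    b.det (fun i => ∑ l, k i l • y l) = ∑ r : ι → Fin m, (∏ i, k i (r i)) * d b y r := by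
  have h1 := b.det.toMultilinearMap.map_sum (fun i l => k i l • y l)
  rw [AlternatingMap.coe_multilinearMap] at h1
  rw [h1]
  apply Finset.sum_congr rfl
  intro r _
  have h2 := b.det.toMultilinearMap.map_smul_univ
    (fun i => k i (r i)) (fun i => y (r i))
  rw [AlternatingMap.coe_multilinearMap] at h2
  rw [h2, smul_eq_mul]
  rfl

end Expand

section Poly

variable {A : Type*} [CommRing A] {K : Type*} [CommRing K] [Algebra A K] (F : Submodule A K)

/-- polynomials with coefficients in `F` -/
def Ft : Submodule A K[X] where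
  carrier := {p | ∀ j, p.coeff j ∈ F}
  add_mem' := by
    intro p q hp hq j
    rw [coeff_add]
    exact F.add_mem (hp j) (hq j)
  zero_mem' := by
    intro j
    simp
  smul_mem' := by
    intro a p hp j
    rw [coeff_smul]
    exact F.smul_mem a (hp j)

theorem X_mul_mem {p : K[X]} (hp : p ∈ Ft F) : X * p ∈ Ft F := by
  intro j
  cases j with
  | zero => simp
  | succ j =>
    rw [coeff_X_mul]
    exact hp j

theorem neg_one_mul_mem {p : K[X]} (hp : p ∈ Ft F) : (-1 : K[X]) * p ∈ Ft F := by
  rw [neg_one_mul]
  exact (Ft F).neg_mem hp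

variable {W : Type*} [AddCommGroup W] [Module K W] [Module.Free K W] [Module.Finite K W]
  {ι : Type*} [Fintype ι] [DecidableEq ι] (b : Module.Basis ι K W)

theorem key (V : W →ₗ[K] W) (t : ι → W)
    (hmix : ∀ s : Finset ι, b.det (fun i => if i ∈ s then t i else V (t i)) ∈ F) (j : ℕ) :
    (V.charpoly).coeff j * b.det t ∈ F := by
  classical
  obtain ⟨M, hM⟩ : ∃ M, M = LinearMap.toMatrix b b V := ⟨_, rfl⟩
  obtain ⟨T, hT⟩ : ∃ T, T = b.toMatrix t := ⟨_, rfl⟩
  have hMT : ∀ i l, (M * T) i l = b.repr (V (t l)) i := by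
    intro i l
    have h1 := congrFun (LinearMap.toMatrix_mulVec_repr b b V (t l)) i
    rw [← h1, Matrix.mul_apply, Matrix.mulVec, dotProduct, hM]
    apply Finset.sum_congr rfl
    intro x _
    rw [hT, Module.Basis.toMatrix_apply]
  have hP : (Matrix.charmatrix M * T.map C).det = V.charpoly * C (b.det t) := by
    rw [Matrix.det_mul, ← Matrix.charpoly, hM, LinearMap.charpoly_toMatrix, Module.Basis.det_apply,
      ← hT]
    congr 1
    exact (RingHom.map_det C T).symm
  have hentry : ∀ i l, (Matrix.charmatrix M * T.map C) i l = X * C (T i l) - C ((M * T) i l) := by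
    intro i l
    rw [Matrix.mul_apply, Matrix.mul_apply, map_sum]
    simp_rw [Matrix.charmatrix_apply, sub_mul, Matrix.map_apply, map_mul]
    rw [Finset.sum_sub_distrib]
    congr 1
    rw [Finset.sum_eq_single i]
    · rw [Matrix.diagonal_apply_eq]
    · intro x _ hx
      rw [Matrix.diagonal_apply_ne _ (Ne.symm hx), zero_mul]
    · intro h
      exact absurd (Finset.mem_univ _) h
  -- rows of the transpose
  obtain ⟨m₁, hm₁⟩ : ∃ m₁ : ι → ι → K[X], m₁ = fun l => (X : K[X]) • (fun i => C (T i l)) :=
    ⟨_, rfl⟩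
  obtain ⟨m₂, hm₂⟩ : ∃ m₂ : ι → ι → K[X], m₂ = fun l => (-1 : K[X]) • (fun i => C ((M * T) i l)) :=
    ⟨_, rfl⟩
  have hrows : (Matrix.charmatrix M * T.map C)ᵀ = m₁ + m₂ := by
    funext l i
    rw [Matrix.transpose_apply, hentry, hm₁, hm₂]
    simp only [Pi.add_apply, Pi.smul_apply, smul_eq_mul]
    ring
  have hdet : (Matrix.charmatrix M * T.map C).det
      = ∑ s : Finset ι, Matrix.detRowAlternating (s.piecewise m₁ m₂) := by
    rw [← Matrix.det_transpose, hrows]
    exact (Matrix.detRowAlternating (R := K[X]) (n := ι)).toMultilinearMap.map_add_univ m₁ m₂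
  have hmem : (Matrix.charmatrix M * T.map C).det ∈ Ft F := by
    rw [hdet]
    refine Submodule.sum_mem _ fun s _ => ?_
    -- the mixed tuple
    obtain ⟨T', hT'⟩ : ∃ T', T' = b.toMatrix (fun i => if i ∈ s then t i else V (t i)) := ⟨_, rfl⟩
    have hpw : s.piecewise m₁ m₂
        = fun l => (if l ∈ s then (X : K[X]) else -1) • (fun i => C (T' i l)) := by
      funext l
      by_cases hl : l ∈ s
      · rw [Finset.piecewise_eq_of_mem _ _ _ hl, if_pos hl, hm₁]
        funext i
        simp only [Pi.smul_apply, smul_eq_mul]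
        rw [hT', Module.Basis.toMatrix_apply, if_pos hl, hT, Module.Basis.toMatrix_apply]
      · rw [Finset.piecewise_eq_of_notMem _ _ _ hl, if_neg hl, hm₂]
        funext i
        simp only [Pi.smul_apply, smul_eq_mul]
        rw [hT', Module.Basis.toMatrix_apply, if_neg hl, hMT]
    rw [hpw]
    have h2 := (Matrix.detRowAlternating (R := K[X]) (n := ι)).toMultilinearMap.map_smul_univ
      (fun l => if l ∈ s then (X : K[X]) else -1) (fun l => fun i => C (T' i l))
    rw [AlternatingMap.coe_multilinearMap] at h2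
    rw [h2, smul_eq_mul]
    have h3 : Matrix.detRowAlternating (fun l => fun i => C (T' i l)) = C (T'.det) := by
      have : (fun l => fun i => C (T' i l)) = ((C : K →+* K[X]).mapMatrix T')ᵀ := by
        funext l i
        rfl
      rw [this]
      show Matrix.det _ = _
      rw [Matrix.det_transpose, ← RingHom.map_det]
    rw [h3]
    have h4 : C (T'.det) ∈ Ft F := by
      intro j
      rw [coeff_C]
      split_ifs
      · rw [hT', ← Module.Basis.det_apply]
        exact hmix s
      · exact F.zero_mem
    refine Finset.prod_induction (fun l => if l ∈ s then (X : K[X]) else -1)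
      (fun q => ∀ p ∈ Ft F, q * p ∈ Ft F) ?_ ?_ ?_ _ h4
    · intro a b' ha hb p hp
      rw [mul_assoc]
      exact ha _ (hb _ hp)
    · intro p hp
      rwa [one_mul]
    · intro l _ p hp
      split_ifs
      · exact X_mul_mem F hp
      · exact neg_one_mul_mem F hp
  have := hmem j
  rwa [hP, coeff_mul_C] at this

end Poly

end Groth.Agent.Lib.helper13.CharCoeffFG
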