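import Groth.Agent.Lib.helper13.CharCoeffFG

/-!
# The algebra generated by coefficients of characteristic polynomials is a finite module
-/

namespace Groth.Agent.Lib.helper13.CharCoeffFG

open Polynomial TensorProduct

theorem main (A : Type*) [CommRing A] [IsNoetherianRing A] (K : Type*) [CommRing K] [Algebra A K]
    (E : Type*) [AddCommGroup E] [Module A E] [Module.Finite A E]
    [Module.Free K (TensorProduct A K E)] :
    (Algebra.adjoin A {c : K | ∃ (v : E →ₗ[A] E) (j : ℕ),
        c = ((v.baseChange K).charpoly).coeff j}).toSubmodule.FG := by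
  classical
  rcases subsingleton_or_nontrivial K with hK | hK
  · have : (Algebra.adjoin A {c : K | ∃ (v : E →ₗ[A] E) (j : ℕ),
        c = ((v.baseChange K).charpoly).coeff j}).toSubmodule = ⊥ := by
      apply le_antisymm _ bot_le
      intro x _
      rw [Submodule.mem_bot]
      exact Subsingleton.elim _ _
    rw [this]
    exact Submodule.fg_bot
  obtain ⟨b⟩ : Nonempty (Module.Basis (Module.Free.ChooseBasisIndex K (K ⊗[A] E)) K (K ⊗[A] E)) :=
    ⟨Module.Free.chooseBasis K (K ⊗[A] E)⟩
  haveI : Finite (Module.Free.ChooseBasisIndex K (K ⊗[A] E)) := Module.Finite.finite_basis b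
  haveI : Fintype (Module.Free.ChooseBasisIndex K (K ⊗[A] E)) := Fintype.ofFinite _
  obtain ⟨m, g, hg⟩ := Module.Finite.exists_fin (R := A) (M := E)
  obtain ⟨y, hy⟩ : ∃ y : Fin m → K ⊗[A] E, y = fun l => (1 : K) ⊗ₜ[A] g l := ⟨_, rfl⟩
  obtain ⟨F, hF⟩ : ∃ F : Submodule A K, F = Submodule.span A (Set.range (d b y)) := ⟨_, rfl⟩
  have hFfg : F.FG := by
    rw [hF]
    exact Submodule.fg_span (Set.finite_range _)
  -- elements `1 ⊗ e` in terms of `y`
  have hrep : ∀ e : E, ∃ a : Fin m → A, (1 : K) ⊗ₜ[A] e = ∑ l, (algebraMap A K (a l)) • y l := by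
    intro e
    have he : e ∈ Submodule.span A (Set.range g) := by
      rw [hg]
      trivial
    obtain ⟨a, ha⟩ := (Submodule.mem_span_range_iff_exists_fun A).mp he
    refine ⟨a, ?_⟩
    rw [← ha, TensorProduct.tmul_sum, hy]
    apply Finset.sum_congr rfl
    intro l _
    rw [TensorProduct.tmul_smul, algebraMap_smul]
  have hdetF : ∀ e : Module.Free.ChooseBasisIndex K (K ⊗[A] E) → E,
      b.det (fun i => (1 : K) ⊗ₜ[A] e i) ∈ F := by
    intro e
    choose a ha using fun i => hrep (e i)
    have h1 : (fun i => (1 : K) ⊗ₜ[A] e i) = fun i => ∑ l, (algebraMap A K (a i l)) • y l := by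
      funext i
      exact ha i
    rw [h1, det_expand]
    refine Submodule.sum_mem _ fun r _ => ?_
    rw [← map_prod, ← Algebra.smul_def, hF]
    exact Submodule.smul_mem _ _ (Submodule.subset_span ⟨r, rfl⟩)
  -- `1` is a `K`-combination of the `d r`
  have hspan : Submodule.span K (Set.range y) = ⊤ := by
    rw [eq_top_iff]
    intro w _
    clear * - hrep
    induction w using TensorProduct.induction_on with
    | zero => exact Submodule.zero_mem _
    | tmul k e =>
      obtain ⟨a, ha⟩ := hrep e
      have : k ⊗ₜ[A] e = k • ((1 : K) ⊗ₜ[A] e) := by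
        rw [TensorProduct.smul_tmul', smul_eq_mul, mul_one]
      rw [this, ha]
      refine Submodule.smul_mem _ _ (Submodule.sum_mem _ fun l _ => ?_)
      exact Submodule.smul_mem _ _ (Submodule.subset_span ⟨l, rfl⟩)
    | add w₁ w₂ h₁ h₂ => exact Submodule.add_mem _ h₁ h₂
  have hone : ∃ κ : (Module.Free.ChooseBasisIndex K (K ⊗[A] E) → Fin m) → K,
      ∑ r, κ r * d b y r = 1 := by
    have hb : ∀ i, ∃ k : Fin m → K, ∑ l, k l • y l = b i := by
      intro i
      have : b i ∈ Submodule.span K (Set.range y) := by
        rw [hspan]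
        trivial
      exact (Submodule.mem_span_range_iff_exists_fun K).mp this
    choose k hk using hb
    refine ⟨fun r => ∏ i, k i (r i), ?_⟩
    rw [← det_expand]
    have : (fun i => ∑ l, k i l • y l) = b := by
      funext i
      exact hk i
    rw [this, Module.Basis.det_self]
  obtain ⟨κ, hκ⟩ := hone
  -- the coefficients stabilise `F`
  have hcoef : ∀ (v : E →ₗ[A] E) (j : ℕ) (r : Module.Free.ChooseBasisIndex K (K ⊗[A] E) → Fin m),
      ((v.baseChange K).charpoly).coeff j * d b y r ∈ F := by
    intro v j r
    refine key F b (v.baseChange K) (fun i => y (r i)) ?_ j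
    intro s
    have h1 : (fun i => if i ∈ s then y (r i) else (v.baseChange K) (y (r i)))
        = fun i => (1 : K) ⊗ₜ[A] (if i ∈ s then g (r i) else v (g (r i))) := by
      funext i
      split_ifs
      · rw [hy]
      · rw [hy, LinearMap.baseChange_tmul]
    rw [h1]
    exact hdetF _
  -- the stabiliser subalgebra
  let R' : Subalgebra A K :=
    { carrier := {x | ∀ f ∈ F, x * f ∈ F}
      mul_mem' := by
        intro x x' hx hx' f hf
        rw [mul_assoc]
        exact hx _ (hx' _ hf)
      one_mem' := by
        intro f hf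
        rwa [one_mul]
      add_mem' := by
        intro x x' hx hx' f hf
        rw [add_mul]
        exact F.add_mem (hx _ hf) (hx' _ hf)
      zero_mem' := by
        intro f _
        rw [zero_mul]
        exact F.zero_mem
      algebraMap_mem' := by
        intro a f hf
        rw [← Algebra.smul_def]
        exact F.smul_mem a hf }
  have hle : Algebra.adjoin A {c : K | ∃ (v : E →ₗ[A] E) (j : ℕ),
        c = ((v.baseChange K).charpoly).coeff j} ≤ R' := by
    apply Algebra.adjoin_le
    rintro c ⟨v, j, rfl⟩ f hf
    rw [hF] at hf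
    induction hf using Submodule.span_induction with
    | mem x hx =>
      obtain ⟨r, rfl⟩ := hx
      exact hcoef v j r
    | zero =>
      rw [mul_zero]
      exact F.zero_mem
    | add x x' _ _ hx hx' =>
      rw [mul_add]
      exact F.add_mem hx hx'
    | smul a x _ hx =>
      rw [mul_smul_comm]
      exact F.smul_mem a hx
  haveI : IsNoetherian A F := isNoetherian_of_fg_of_noetherian F hFfg
  let Ψ : R'.toSubmodule →ₗ[A] ((Module.Free.ChooseBasisIndex K (K ⊗[A] E) → Fin m) → F) :=
    { toFun := fun x r => ⟨x.1 * d b y r, x.2 (d b y r) (hF ▸ Submodule.subset_span ⟨r, rfl⟩)⟩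
      map_add' := by
        intro x x'
        funext r
        apply Subtype.ext
        simp [add_mul]
      map_smul' := by
        intro a x
        funext r
        apply Subtype.ext
        simp [smul_mul_assoc] }
  have hΨ : Function.Injective Ψ := by
    rw [← LinearMap.ker_eq_bot, LinearMap.ker_eq_bot']
    intro x hx
    apply Subtype.ext
    have h1 : ∀ r, x.1 * d b y r = 0 := fun r => congrArg Subtype.val (congrFun hx r)
    have h2 : x.1 = x.1 * ∑ r, κ r * d b y r := by rw [hκ, mul_one]
    rw [h2, Finset.mul_sum]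
    apply Finset.sum_eq_zero
    intro r _
    rw [mul_left_comm, h1 r, mul_zero]
  haveI : IsNoetherian A R'.toSubmodule := isNoetherian_of_injective Ψ hΨ
  have hle' : (Algebra.adjoin A {c : K | ∃ (v : E →ₗ[A] E) (j : ℕ),
        c = ((v.baseChange K).charpoly).coeff j}).toSubmodule ≤ R'.toSubmodule := hle
  have h3 := (IsNoetherian.noetherian
    (Submodule.comap R'.toSubmodule.subtype (Algebra.adjoin A {c : K | ∃ (v : E →ₗ[A] E) (j : ℕ),
        c = ((v.baseChange K).charpoly).coeff j}).toSubmodule)).map R'.toSubmodule.subtype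
  rwa [Submodule.map_comap_subtype, inf_eq_right.mpr hle'] at h3

end Groth.Agent.Lib.helper13.CharCoeffFG
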