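import Mathlib

/-!
# Formal exponential and logarithm: `log(exp t) = t`, `exp(log(1+t)) = 1+t`, ODE uniqueness
-/

set_option autoImplicit false

namespace Groth.Agent.Lib.helper13.ExpLog

open PowerSeries Finset

section ODE

variable {A : Type*} [CommRing A] [Algebra ℚ A]

theorem isUnit_natCast_succ (n : ℕ) : IsUnit ((n : A) + 1) := by
  have h : ((n : A) + 1) = algebraMap ℚ A ((n : ℚ) + 1) := by simp
  rw [h]
  exact (IsUnit.mk0 _ (by positivity)).map _

/-- Uniqueness of solutions of `F' = F * P` with prescribed constant coefficient. -/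
theorem ode_unique {F G P : A⟦X⟧}
    (h0 : constantCoeff F = constantCoeff G) (hF : d⁄dX A F = F * P) (hG : d⁄dX A G = G * P) :
    F = G := by
  ext n
  induction n using Nat.strong_induction_on with
  | _ n ih =>
    cases n with
    | zero => simpa using h0
    | succ n =>
      have h1 := congrArg (coeff n) hF
      have h2 := congrArg (coeff n) hG
      rw [coeff_derivative, coeff_mul] at h1 h2
      have hsum : ∑ p ∈ antidiagonal n, coeff p.1 F * coeff p.2 P =
          ∑ p ∈ antidiagonal n, coeff p.1 G * coeff p.2 P := by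
        apply Finset.sum_congr rfl
        intro p hp
        rw [ih p.1 (by have := Finset.HasAntidiagonal.mem_antidiagonal.mp hp; omega)]
      rw [hsum, ← h2] at h1
      exact (isUnit_natCast_succ (A := A) n).mul_left_injective h1

theorem constantCoeff_exp_subst {P : A⟦X⟧} (hP : constantCoeff P = 0) :
    constantCoeff ((exp A).subst P) = 1 := by
  have hs : HasSubst P := HasSubst.of_constantCoeff_zero' hP
  have h1 : exp A = 1 + (exp A - 1) := by ring
  rw [h1, subst_add hs]
  have h2 : constantCoeff (((exp A - 1) : A⟦X⟧).subst P) = 0 :=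
    constantCoeff_subst_eq_zero hP _ (by simp)
  have h3 : (1 : A⟦X⟧).subst P = 1 := by
    have := subst_C (a := P) (1 : A)
    simpa using this
  rw [map_add, h2, h3]
  simp

theorem derivative_exp_subst {P : A⟦X⟧} (hP : constantCoeff P = 0) :
    d⁄dX A ((exp A).subst P) = (exp A).subst P * d⁄dX A P := by
  have hs : HasSubst P := HasSubst.of_constantCoeff_zero' hP
  rw [derivative_subst hs, derivative_exp]

/-- If `F' = F * P'` with `P(0) = 0`, `F(0) = 1`, then `F = exp(P)`. -/
theorem eq_exp_subst {F P : A⟦X⟧} (hP : constantCoeff P = 0) (hF0 : constantCoeff F = 1)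
    (hF : d⁄dX A F = F * d⁄dX A P) : F = (exp A).subst P :=
  ode_unique (by rw [hF0, constantCoeff_exp_subst hP]) hF (derivative_exp_subst hP)

end ODE

section Log

variable {K : Type*} [Field K] [CharZero K]

/-- The series `log (1 + t)`. -/
noncomputable def logSer (K : Type*) [Field K] : K⟦X⟧ :=
  PowerSeries.mk fun m : ℕ => if m = 0 then (0 : K) else (-1) ^ (m + 1) / (m : K)

omit [CharZero K] in
theorem constantCoeff_logSer : constantCoeff (logSer K) = 0 := by
  rw [← coeff_zero_eq_constantCoeff_apply, logSer, coeff_mk]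
  simp

theorem coeff_derivative_logSer (n : ℕ) : coeff n (d⁄dX K (logSer K)) = (-1) ^ n := by
  rw [coeff_derivative, logSer, coeff_mk, if_neg (Nat.succ_ne_zero n)]
  have : ((n : K) + 1) ≠ 0 := Nat.cast_add_one_ne_zero n
  push_cast
  field_simp
  ring

theorem derivative_logSer_mul : d⁄dX K (logSer K) * (1 + X) = 1 := by
  ext n
  rw [mul_add, mul_one, map_add]
  cases n with
  | zero =>
    rw [coeff_zero_mul_X, coeff_derivative_logSer]
    simp
  | succ n =>
    rw [coeff_succ_mul_X, coeff_derivative_logSer, coeff_derivative_logSer, coeff_one,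
      if_neg (Nat.succ_ne_zero n)]
    ring

variable [Algebra ℚ K]

theorem logSer_subst_exp : (logSer K).subst (exp K - 1) = X := by
  have hc : constantCoeff (exp K - 1) = 0 := by simp
  have hs : HasSubst (exp K - 1) := HasSubst.of_constantCoeff_zero' hc
  apply derivative.ext
  · rw [derivative_subst hs]
    have h1 : (d⁄dX K (logSer K)).subst (exp K - 1) * ((1 + X : K⟦X⟧).subst (exp K - 1)) = 1 := by
      rw [← subst_mul hs, derivative_logSer_mul]
      have := subst_C (a := exp K - 1) (1 : K)
      simpa using this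
    have h2 : (1 + X : K⟦X⟧).subst (exp K - 1) = exp K := by
      rw [subst_add hs, subst_X hs]
      have := subst_C (a := exp K - 1) (1 : K)
      rw [map_one] at this
      rw [this]
      simp
    rw [h2] at h1
    have h3 : d⁄dX K (exp K - 1) = exp K := by
      rw [map_sub, derivative_exp]
      simp
    rw [h3, h1]
    simp
  · rw [constantCoeff_X]
    exact constantCoeff_subst_eq_zero hc _ constantCoeff_logSer

theorem exp_subst_logSer : (exp K).subst (logSer K) = 1 + X := by
  symm
  apply eq_exp_subst constantCoeff_logSer (by simp)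
  rw [mul_comm, derivative_logSer_mul]
  simp

end Log

/-! ### The exponential map `E P = exp(P)` on series without constant term -/

section E

variable {A : Type*} [CommRing A] [Algebra ℚ A]

/-- `E P = exp(P)`. -/
noncomputable def E (P : A⟦X⟧) : A⟦X⟧ := (exp A).subst P

theorem constantCoeff_E {P : A⟦X⟧} (hP : constantCoeff P = 0) : constantCoeff (E P) = 1 :=
  constantCoeff_exp_subst hP

theorem derivative_E {P : A⟦X⟧} (hP : constantCoeff P = 0) :
    d⁄dX A (E P) = E P * d⁄dX A P :=
  derivative_exp_subst hP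

theorem eq_E {F P : A⟦X⟧} (hP : constantCoeff P = 0) (hF0 : constantCoeff F = 1)
    (hF : d⁄dX A F = F * d⁄dX A P) : F = E P :=
  eq_exp_subst hP hF0 hF

theorem E_add {P Q : A⟦X⟧} (hP : constantCoeff P = 0) (hQ : constantCoeff Q = 0) :
    E (P + Q) = E P * E Q := by
  symm
  apply eq_E (by simp [hP, hQ]) (by simp [constantCoeff_E hP, constantCoeff_E hQ])
  rw [Derivation.leibniz, derivative_E hP, derivative_E hQ, map_add]
  simp only [smul_eq_mul]
  ring

theorem E_zero : E (0 : A⟦X⟧) = 1 := by
  symm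
  apply eq_E (by simp) (by simp)
  simp

omit [Algebra ℚ A] in
theorem constantCoeff_sum_eq_zero {ι : Type*} (s : Finset ι) (P : ι → A⟦X⟧)
    (h : ∀ i ∈ s, constantCoeff (P i) = 0) : constantCoeff (∑ i ∈ s, P i) = 0 := by
  rw [map_sum]
  exact Finset.sum_eq_zero h

theorem E_sum {ι : Type*} (s : Finset ι) (P : ι → A⟦X⟧)
    (h : ∀ i ∈ s, constantCoeff (P i) = 0) : E (∑ i ∈ s, P i) = ∏ i ∈ s, E (P i) := by
  classical
  induction s using Finset.induction_on with
  | empty => simp [E_zero]
  | insert a s ha ih =>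
    rw [Finset.sum_insert ha, Finset.prod_insert ha,
      E_add (h a (Finset.mem_insert_self _ _))
        (constantCoeff_sum_eq_zero s P (fun i hi => h i (Finset.mem_insert_of_mem hi))),
      ih (fun i hi => h i (Finset.mem_insert_of_mem hi))]

theorem E_nsmul {P : A⟦X⟧} (hP : constantCoeff P = 0) (n : ℕ) : E (n • P) = E P ^ n := by
  induction n with
  | zero => simp [E_zero]
  | succ n ih =>
    rw [succ_nsmul, E_add (by simp [hP]) hP, ih, pow_succ]

theorem E_subst_X_pow {P : A⟦X⟧} (hP : constantCoeff P = 0) {r : ℕ} (hr : r ≠ 0) :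
    (E P).subst (X ^ r : A⟦X⟧) = E (P.subst (X ^ r : A⟦X⟧)) :=
  subst_comp_subst_apply (HasSubst.of_constantCoeff_zero' hP) (HasSubst.X_pow hr) (exp A)

/-- If `P ≡ 0 mod X^(n+1)` then `E P ≡ 1 mod X^(n+1)`. -/
theorem coeff_E_of_coeff_eq_zero {P : A⟦X⟧} (n : ℕ) (h : ∀ m ≤ n, coeff m P = 0) :
    ∀ m ≤ n, coeff m (E P) = coeff m (1 : A⟦X⟧) := by
  have hP : constantCoeff P = 0 := by
    rw [← coeff_zero_eq_constantCoeff_apply]; exact h 0 (Nat.zero_le _)
  intro m hm
  cases m with
  | zero =>
    rw [coeff_zero_eq_constantCoeff_apply, constantCoeff_E hP]; simp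
  | succ m =>
    have h1 := congrArg (coeff m) (derivative_E hP)
    rw [coeff_derivative, coeff_mul] at h1
    have h2 : ∑ p ∈ antidiagonal m, coeff p.1 (E P) * coeff p.2 (d⁄dX A P) = 0 := by
      apply Finset.sum_eq_zero
      intro p hp
      have := Finset.HasAntidiagonal.mem_antidiagonal.mp hp
      rw [coeff_derivative, h (p.2 + 1) (by omega), zero_mul, mul_zero]
    rw [h2] at h1
    have h3 : coeff (m + 1) (E P) = 0 :=
      (isUnit_natCast_succ (A := A) m).mul_left_injective
        (show coeff (m + 1) (E P) * ((m : A) + 1) = 0 * ((m : A) + 1) by rw [h1, zero_mul])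
    rw [h3, coeff_one, if_neg (Nat.succ_ne_zero m)]

end E

section Ell

variable {K : Type*} [Field K] [CharZero K] [Algebra ℚ K]

/-- `ell b = ∑_{m ≥ 1} b^m t^m / m = -log(1 - b t)`. -/
noncomputable def ell (b : K) : K⟦X⟧ := PowerSeries.mk fun m : ℕ => b ^ m / (m : K)

omit [CharZero K] [Algebra ℚ K] in
theorem coeff_ell (b : K) (m : ℕ) : coeff m (ell b) = b ^ m / (m : K) := coeff_mk _ _

omit [CharZero K] [Algebra ℚ K] in
theorem constantCoeff_ell (b : K) : constantCoeff (ell b) = 0 := by
  rw [← coeff_zero_eq_constantCoeff_apply, coeff_ell]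
  simp

omit [Algebra ℚ K] in
theorem coeff_derivative_ell (b : K) (n : ℕ) : coeff n (d⁄dX K (ell b)) = b ^ (n + 1) := by
  rw [coeff_derivative, coeff_ell]
  have : ((n : K) + 1) ≠ 0 := Nat.cast_add_one_ne_zero n
  push_cast
  field_simp

theorem one_sub_eq_E (b : K) : 1 - C b * X = E (-(ell b)) := by
  apply eq_E (by simp [constantCoeff_ell]) (by simp)
  have hd : d⁄dX K (1 - C b * X) = - C b := by
    rw [map_sub, Derivation.map_one_eq_zero, Derivation.leibniz, derivative_C, derivative_X]
    simp
  rw [hd, map_neg, mul_neg, neg_inj]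
  ext n
  rw [sub_mul, one_mul, map_sub, coeff_derivative_ell, mul_assoc, coeff_C_mul]
  cases n with
  | zero =>
    rw [coeff_zero_X_mul]
    simp
  | succ n =>
    rw [coeff_succ_X_mul, coeff_derivative_ell, coeff_C, if_neg (Nat.succ_ne_zero n)]
    ring

theorem one_sub_pow_eq_E (b : K) (n : ℕ) : (1 - C b * X) ^ n = E (n • (-(ell b))) := by
  rw [E_nsmul (by simp [constantCoeff_ell]), one_sub_eq_E]

theorem one_sub_X_pow_eq_E (b : K) {r : ℕ} (hr : r ≠ 0) :
    1 - C b * X ^ r = E ((-(ell b)).subst (X ^ r : K⟦X⟧)) := by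
  rw [← E_subst_X_pow (by simp [constantCoeff_ell]) hr, ← one_sub_eq_E]
  have hs : HasSubst (X ^ r : K⟦X⟧) := HasSubst.X_pow hr
  rw [subst_sub hs, subst_mul hs, subst_X hs]
  have h1 := subst_C (a := (X ^ r : K⟦X⟧)) (1 : K)
  have h2 := subst_C (a := (X ^ r : K⟦X⟧)) b
  simp only [map_one] at h1
  rw [h1, h2]
  rfl

end Ell

end Groth.Agent.Lib.helper13.ExpLog
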