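import Mathlib
import Groth.Agent.Lib.helper13.ExpLog

/-!
# `det (1 - t M) = exp (- ∑ tr(M^m) t^m / m)`

Jacobi-type formula for `charpolyRev` and the exponential trace formula.
-/

set_option autoImplicit false

namespace Groth.Agent.Lib.helper13.CharpolyRevExp

open Polynomial Matrix

section General

variable {S : Type*} [CommRing S] {n : Type*} [Fintype n] [DecidableEq n]

theorem eval_charpolyRev' (M : Matrix n n S) (t : S) :
    M.charpolyRev.eval t = (1 - t • M).det := by
  rw [Matrix.charpolyRev, ← Polynomial.coe_evalRingHom, RingHom.map_det]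
  congr 1
  ext i j
  simp [Matrix.map_apply, Matrix.sub_apply, Matrix.one_apply]
  split_ifs <;> simp <;> ring

theorem charpolyRev_map {T : Type*} [CommRing T] (f : S →+* T) (M : Matrix n n S) :
    (M.map f).charpolyRev = M.charpolyRev.map f := by
  rw [Matrix.charpolyRev, Matrix.charpolyRev, ← Polynomial.coe_mapRingHom, RingHom.map_det]
  congr 1
  ext i j
  simp [Matrix.map_apply, Matrix.sub_apply, Matrix.one_apply]
  split_ifs <;> simp [Polynomial.coeff_one]

/-- Jacobi-type formula: if `B` is a right inverse of `1 - t M`, then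
`(d/dt) det(1 - tM) = - det(1 - tM) * tr(B M)`. -/
theorem eval_derivative_charpolyRev (M B : Matrix n n S) (t : S) (hB : (1 - t • M) * B = 1) :
    (Polynomial.derivative M.charpolyRev).eval t =
      - (M.charpolyRev.eval t) * Matrix.trace (B * M) := by
  have key : Polynomial.taylor t M.charpolyRev =
      Polynomial.C ((1 - t • M).det) * (B * M).charpolyRev := by
    change (Polynomial.taylorAlgHom t) M.charpolyRev = _
    rw [Matrix.charpolyRev, AlgHom.map_det]
    rw [show (Polynomial.C ((1 - t • M).det) : S[X]) = ((1 - t • M).map Polynomial.C).det from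
      (RingHom.map_det _ _)]
    rw [Matrix.charpolyRev, ← Matrix.det_mul]
    congr 1
    have h1 : (1 - t • M) * (B * M) = M := by rw [← Matrix.mul_assoc, hB, Matrix.one_mul]
    have h2 : ((1 - t • M).map (Polynomial.C : S →+* S[X])) * ((B * M).map Polynomial.C) =
        M.map Polynomial.C := by
      rw [← Matrix.map_mul, h1]
    rw [Matrix.mul_sub, Matrix.mul_one, Matrix.mul_smul, h2]
    ext i j
    simp [Matrix.map_apply, Matrix.sub_apply, Matrix.one_apply, Polynomial.taylor_apply]
    split_ifs <;> simp <;> ring
  have := congrArg (fun p => p.coeff 1) key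
  simp only [Polynomial.taylor_coeff_one, Polynomial.coeff_C_mul,
    Matrix.coeff_charpolyRev_eq_neg_trace] at this
  rw [this, eval_charpolyRev']
  ring

end General

section Field

variable {K : Type*} [CommRing K] {n : Type*} [Fintype n] [DecidableEq n]

/-- The geometric series `∑ t^m M^m`, a matrix of power series. -/
noncomputable def geom (M : Matrix n n K) : Matrix n n (PowerSeries K) :=
  fun i j => PowerSeries.mk fun m => (M ^ m) i j

theorem one_sub_mul_geom (M : Matrix n n K) :
    (1 - (PowerSeries.X : PowerSeries K) • M.map PowerSeries.C) * geom M = 1 := by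
  rw [Matrix.sub_mul, Matrix.one_mul, Matrix.smul_mul]
  ext i j m
  rw [Matrix.sub_apply, Matrix.smul_apply, map_sub, smul_eq_mul, Matrix.mul_apply]
  cases m with
  | zero =>
    rw [PowerSeries.coeff_zero_X_mul, sub_zero, geom, PowerSeries.coeff_mk, pow_zero]
    simp [Matrix.one_apply]
  | succ m =>
    rw [PowerSeries.coeff_succ_X_mul, map_sum, geom, PowerSeries.coeff_mk, pow_succ',
      Matrix.mul_apply]
    have : ∀ l, PowerSeries.coeff m ((M.map PowerSeries.C) i l * geom M l j) =
        M i l * (M ^ m) l j := by
      intro l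
      rw [Matrix.map_apply, PowerSeries.coeff_C_mul, geom, PowerSeries.coeff_mk]
    rw [Finset.sum_congr rfl (fun l _ => this l), sub_self]
    simp [Matrix.one_apply]
    split_ifs <;> simp

theorem coeff_trace_geom_mul (M : Matrix n n K) (m : ℕ) :
    PowerSeries.coeff m (Matrix.trace (geom M * M.map PowerSeries.C)) =
      Matrix.trace (M ^ (m + 1)) := by
  rw [Matrix.trace, map_sum, pow_succ, Matrix.trace]
  apply Finset.sum_congr rfl
  intro i _
  rw [Matrix.diag_apply, Matrix.diag_apply, Matrix.mul_apply, Matrix.mul_apply, map_sum]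
  apply Finset.sum_congr rfl
  intro l _
  rw [Matrix.map_apply, mul_comm, PowerSeries.coeff_C_mul, geom, PowerSeries.coeff_mk, mul_comm]

/-- Logarithmic derivative of `det(1 - tM)` as a power series. -/
theorem derivative_charpolyRev (M : Matrix n n K) :
    PowerSeries.derivative K ((M.charpolyRev : Polynomial K) : PowerSeries K) =
      - ((M.charpolyRev : Polynomial K) : PowerSeries K) *
        Matrix.trace (geom M * M.map PowerSeries.C) := by
  have h := eval_derivative_charpolyRev (M.map (PowerSeries.C : K →+* PowerSeries K)) (geom M)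
    PowerSeries.X (one_sub_mul_geom M)
  rw [charpolyRev_map, Polynomial.derivative_map, Polynomial.eval_map, Polynomial.eval_map,
    Polynomial.eval₂_C_X_eq_coe, Polynomial.eval₂_C_X_eq_coe] at h
  rw [PowerSeries.derivative_coe]
  exact h

end Field

section Exp

variable {K : Type*} [Field K] [CharZero K] [Algebra ℚ K] {n : Type*} [Fintype n] [DecidableEq n]

theorem charpolyRev_eq_exp (M : Matrix n n K) :
    ((M.charpolyRev : Polynomial K) : PowerSeries K) =
      PowerSeries.subst (PowerSeries.mk fun m : ℕ => -(Matrix.trace (M ^ m)) / (m : K))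
        (PowerSeries.exp K) := by
  apply Groth.Agent.Lib.helper13.ExpLog.eq_exp_subst
  · rw [← PowerSeries.coeff_zero_eq_constantCoeff_apply, PowerSeries.coeff_mk]
    simp
  · rw [← PowerSeries.coeff_zero_eq_constantCoeff_apply, Polynomial.coeff_coe,
      Polynomial.coeff_zero_eq_eval_zero, Matrix.eval_charpolyRev]
  · rw [derivative_charpolyRev, neg_mul, ← mul_neg]
    congr 1
    ext m
    rw [map_neg, coeff_trace_geom_mul, PowerSeries.coeff_derivative, PowerSeries.coeff_mk]
    have : ((m : K) + 1) ≠ 0 := Nat.cast_add_one_ne_zero m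
    push_cast
    field_simp

end Exp

end Groth.Agent.Lib.helper13.CharpolyRevExp
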