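import Mathlib

/-!
The ℓ-torsion of the cokernel of a "Laplacian-like" symmetric integer matrix is bounded by
`ℓ ^ (1 - n + e)` (`card_torsion_le`), via the incidence matrix of the graph and the cycle space.
-/

set_option autoImplicit false

namespace Groth.Agent.Lib.helper13.CokerTors

open Finset

variable {n : ℕ} (A : Matrix (Fin n) (Fin n) ℤ)

/-- the edges `i < j`, `0 < A i j` -/
abbrev E : Type := {p : Fin n × Fin n // p.1 < p.2 ∧ 0 < A p.1 p.2}

variable (F : Type*) [Field F]

/-- the incidence matrix -/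
def D : Matrix (E A) (Fin n) F :=
  fun p i => if i = p.1.2 then 1 else if i = p.1.1 then -1 else 0

theorem D_mulVec (u : Fin n → F) (p : E A) : (D A F).mulVec u p = u p.1.2 - u p.1.1 := by
  simp only [Matrix.mulVec, dotProduct, D]
  have hne : p.1.1 ≠ p.1.2 := ne_of_lt p.2.1
  have h : ∀ i, (if i = p.1.2 then (1 : F) else if i = p.1.1 then -1 else 0) * u i =
      (if i = p.1.2 then u i else 0) + (if i = p.1.1 then -u i else 0) := by
    intro i
    by_cases h1 : i = p.1.2
    · subst h1
      simp [hne.symm]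
    · by_cases h2 : i = p.1.1
      · subst h2
        simp [h1]
      · simp [h1, h2]
  simp only [h, Finset.sum_add_distrib, Finset.sum_ite_eq', Finset.mem_univ, if_true]
  ring

variable {A}

theorem const_of_edges
    (hconn : ∀ I : Finset (Fin n), I.Nonempty → I ≠ univ → ∃ i ∈ I, ∃ j ∉ I, A i j ≠ 0)
    {α : Type*} (u : Fin n → α) (h : ∀ a b, a ≠ b → A a b ≠ 0 → u a = u b) :
    ∀ i j, u i = u j := by
  classical
  intro i j
  by_contra hij
  let I : Finset (Fin n) := univ.filter (fun k => u k = u i)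
  have hI : I.Nonempty := ⟨i, by simp [I]⟩
  have hI' : I ≠ univ := by
    intro hu
    have hj : j ∈ I := hu ▸ mem_univ j
    simp only [I, mem_filter, mem_univ, true_and] at hj
    exact hij hj.symm
  obtain ⟨a, ha, b, hb, hab⟩ := hconn I hI hI'
  have hne : a ≠ b := fun e => hb (e ▸ ha)
  have hub := h a b hne hab
  simp only [I, mem_filter, mem_univ, true_and] at ha hb
  exact hb (hub ▸ ha)

theorem ker_D_le (hsymm : A.IsSymm) (hA : ∀ i j, i ≠ j → 0 ≤ A i j)
    (hconn : ∀ I : Finset (Fin n), I.Nonempty → I ≠ univ → ∃ i ∈ I, ∃ j ∉ I, A i j ≠ 0) :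
    LinearMap.ker (Matrix.mulVecLin (D A F)) ≤ Submodule.span F {fun _ => (1 : F)} := by
  intro u hu
  rw [LinearMap.mem_ker, Matrix.mulVecLin_apply] at hu
  have hedge : ∀ a b, a ≠ b → A a b ≠ 0 → u a = u b := by
    intro a b hab hAab
    have hpos : 0 < A a b := lt_of_le_of_ne (hA a b hab) (Ne.symm hAab)
    rcases lt_or_gt_of_ne hab with hlt | hgt
    · have h1 := congrFun hu ⟨(a, b), hlt, hpos⟩
      rw [D_mulVec] at h1
      exact (sub_eq_zero.mp h1).symm
    · have hpos' : 0 < A b a := by rw [hsymm.apply a b]; exact hpos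
      have h1 := congrFun hu ⟨(b, a), hgt, hpos'⟩
      rw [D_mulVec] at h1
      exact sub_eq_zero.mp h1
  have hconst := const_of_edges hconn u hedge
  rw [Submodule.mem_span_singleton]
  rcases isEmpty_or_nonempty (Fin n) with hE | ⟨⟨i₀⟩⟩
  · exact ⟨0, by funext i; exact (hE.false i).elim⟩
  · exact ⟨u i₀, by funext i; simp [hconst i i₀]⟩

theorem card_ker_transpose_le [Finite F] (hsymm : A.IsSymm) (hA : ∀ i j, i ≠ j → 0 ≤ A i j)
    (hconn : ∀ I : Finset (Fin n), I.Nonempty → I ≠ univ → ∃ i ∈ I, ∃ j ∉ I, A i j ≠ 0) :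
    Nat.card (LinearMap.ker (Matrix.mulVecLin (D A F).transpose)) ≤
      (Nat.card F) ^ (Fintype.card (E A) + 1 - n) := by
  classical
  rw [Module.natCard_eq_pow_finrank (K := F)]
  refine Nat.pow_le_pow_right Nat.card_pos ?_
  have h1 := LinearMap.finrank_range_add_finrank_ker (Matrix.mulVecLin (D A F).transpose)
  have h2 := LinearMap.finrank_range_add_finrank_ker (Matrix.mulVecLin (D A F))
  have h3 : Module.finrank F (LinearMap.range (Matrix.mulVecLin (D A F).transpose)) =
      Module.finrank F (LinearMap.range (Matrix.mulVecLin (D A F))) := Matrix.rank_transpose (D A F)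
  have h4 : Module.finrank F (LinearMap.ker (Matrix.mulVecLin (D A F))) ≤ 1 := by
    refine le_trans (Submodule.finrank_mono (ker_D_le F hsymm hA hconn)) ?_
    exact (finrank_span_le_card ({fun _ => (1 : F)} : Set (Fin n → F))).trans (by simp)
  rw [Module.finrank_fintype_fun_eq_card] at h1 h2
  rw [Fintype.card_fin] at h2
  omega

end Groth.Agent.Lib.helper13.CokerTors
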