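import Groth.Agent.Lib.helper13.CokerTors

/-!
Second part: the cycle attached to a solution of `A y ≡ 0 mod ℓ`, and the bound for the
ℓ-torsion of the cokernel.
-/

set_option autoImplicit false

namespace Groth.Agent.Lib.helper13.CokerTors

open Finset

variable {n : ℕ} (A : Matrix (Fin n) (Fin n) ℤ) (m : Fin n → ℤ) (ℓ : ℕ) [Fact ℓ.Prime]

/-- `u_y i = y_i / m_i` in `ZMod ℓ` -/
def uOf (y : Fin n → ℤ) (i : Fin n) : ZMod ℓ := (y i : ZMod ℓ) / (m i : ZMod ℓ)

/-- edge weights `A_ab m_a m_b` in `ZMod ℓ` -/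
def cst (a b : Fin n) : ZMod ℓ := (A a b : ZMod ℓ) * (m a : ZMod ℓ) * (m b : ZMod ℓ)

/-- the function on ordered pairs underlying the cycle -/
def Zf (y : Fin n → ℤ) (a b : Fin n) : ZMod ℓ := cst A m ℓ a b * (uOf m ℓ y b - uOf m ℓ y a)

/-- the cycle attached to `y` -/
def zOf (y : Fin n → ℤ) : E A → ZMod ℓ := fun p => Zf A m ℓ y p.1.1 p.1.2

theorem cst_symm (hsymm : A.IsSymm) (a b : Fin n) : cst A m ℓ a b = cst A m ℓ b a := by
  unfold cst
  rw [hsymm.apply b a]
  ring

theorem cst_eq_zero (a b : Fin n) (h : A a b = 0) : cst A m ℓ a b = 0 := by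
  unfold cst
  rw [h]
  simp

/-- The vertex sum of the cycle attached to `y`. -/
theorem transpose_mulVec_zOf (hsymm : A.IsSymm) (hA : ∀ i j, i ≠ j → 0 ≤ A i j)
    (y : Fin n → ℤ) (i : Fin n) :
    (D A (ZMod ℓ)).transpose.mulVec (zOf A m ℓ y) i =
      ∑ j, cst A m ℓ i j * (uOf m ℓ y i - uOf m ℓ y j) := by
  classical
  simp only [Matrix.mulVec, dotProduct, Matrix.transpose_apply]
  -- rewrite each term
  have h1 : ∀ p : E A, D A (ZMod ℓ) p i * zOf A m ℓ y p =
      (fun q : Fin n × Fin n => (if i = q.2 then Zf A m ℓ y q.1 q.2 else 0) +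
        (if i = q.1 then -Zf A m ℓ y q.1 q.2 else 0)) p.1 := by
    intro p
    have hne : p.1.1 ≠ p.1.2 := ne_of_lt p.2.1
    simp only [D, zOf]
    by_cases h1 : i = p.1.2
    · have h2 : i ≠ p.1.1 := by rw [h1]; exact hne.symm
      simp [h1, hne.symm]
    · by_cases h2 : i = p.1.1
      · simp [h2, hne]
      · simp [h1, h2]
  simp only [h1]
  rw [← Finset.sum_subtype (univ.filter fun q : Fin n × Fin n => q.1 < q.2 ∧ 0 < A q.1 q.2)
    (fun q => by simp)
    (fun q : Fin n × Fin n => (if i = q.2 then Zf A m ℓ y q.1 q.2 else 0) +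
        (if i = q.1 then -Zf A m ℓ y q.1 q.2 else 0))]
  rw [Finset.sum_filter, Fintype.sum_prod_type]
  simp only []
  -- split into two sums
  have h2 : ∀ a b : Fin n,
      (if a < b ∧ 0 < A a b then
        (if i = b then Zf A m ℓ y a b else 0) + (if i = a then -Zf A m ℓ y a b else 0) else 0) =
      (if i = b then (if a < b ∧ 0 < A a b then Zf A m ℓ y a b else 0) else 0) +
      (if i = a then (if a < b ∧ 0 < A a b then -Zf A m ℓ y a b else 0) else 0) := by
    intro a b
    by_cases hc : a < b ∧ 0 < A a b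
    · simp [hc]
    · simp [hc]
  have h3 : ∀ x : Fin n,
      (∑ x_1, if i = x then (if x < x_1 ∧ 0 < A x x_1 then -Zf A m ℓ y x x_1 else 0) else 0) =
      if i = x then ∑ x_1, (if x < x_1 ∧ 0 < A x x_1 then -Zf A m ℓ y x x_1 else 0) else 0 := by
    intro x
    split_ifs <;> simp
  simp only [h2, Finset.sum_add_distrib, h3, Finset.sum_ite_eq, Finset.mem_univ, if_true]
  rw [← Finset.sum_add_distrib]
  refine Finset.sum_congr rfl fun j _ => ?_
  -- pointwise comparison
  rcases lt_trichotomy j i with hlt | heq | hgt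
  · have h3 : ¬ (i < j ∧ 0 < A i j) := fun h => absurd h.1 (not_lt_of_gt hlt)
    rw [if_neg h3, add_zero]
    by_cases hpos : 0 < A j i
    · rw [if_pos ⟨hlt, hpos⟩]
      unfold Zf
      rw [cst_symm A m ℓ hsymm j i]
    · rw [if_neg (fun h => hpos h.2)]
      have h0 : A i j = 0 := by
        have := hA j i (ne_of_lt hlt)
        have hs : A j i = A i j := hsymm.apply i j
        omega
      rw [cst_eq_zero A m ℓ i j h0, zero_mul]
  · subst heq
    simp
  · have h3 : ¬ (j < i ∧ 0 < A j i) := fun h => absurd h.1 (not_lt_of_gt hgt)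
    rw [if_neg h3, zero_add]
    by_cases hpos : 0 < A i j
    · rw [if_pos ⟨hgt, hpos⟩]
      unfold Zf
      ring
    · rw [if_neg (fun h => hpos h.2)]
      have h0 : A i j = 0 := by
        have := hA i j (ne_of_lt hgt)
        omega
      rw [cst_eq_zero A m ℓ i j h0, zero_mul]

end Groth.Agent.Lib.helper13.CokerTors
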