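import Groth.Agent.Lib.helper13.CokerTors2

/-!
Third part: the bound for the ℓ-torsion of the cokernel.
-/

set_option autoImplicit false

namespace Groth.Agent.Lib.helper13.CokerTors

open Finset

variable {n : ℕ} (A : Matrix (Fin n) (Fin n) ℤ) (m : Fin n → ℤ) (ℓ : ℕ) [Fact ℓ.Prime]

theorem m_ne_zero (hℓm : ∀ i, ¬ ((ℓ : ℤ) ∣ m i)) (i : Fin n) : (m i : ZMod ℓ) ≠ 0 := by
  rw [Ne, ZMod.intCast_zmod_eq_zero_iff_dvd]
  exact hℓm i

theorem vertex_sum_eq_zero (hℓm : ∀ i, ¬ ((ℓ : ℤ) ∣ m i)) (hAm : A.mulVec m = 0)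
    (y x : Fin n → ℤ) (hy : A.mulVec y = (ℓ : ℤ) • x) (i : Fin n) :
    ∑ j, cst A m ℓ i j * (uOf m ℓ y i - uOf m ℓ y j) = 0 := by
  have hterm : ∀ j, cst A m ℓ i j * (uOf m ℓ y i - uOf m ℓ y j) =
      (y i : ZMod ℓ) * ((A i j : ZMod ℓ) * (m j : ZMod ℓ)) -
        (m i : ZMod ℓ) * ((A i j : ZMod ℓ) * (y j : ZMod ℓ)) := by
    intro j
    have h1 := m_ne_zero m ℓ hℓm i
    have h2 := m_ne_zero m ℓ hℓm j
    unfold cst uOf
    field_simp
  simp only [hterm]
  rw [Finset.sum_sub_distrib, ← Finset.mul_sum, ← Finset.mul_sum]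
  have e1 : ∑ j, (A i j : ZMod ℓ) * (m j : ZMod ℓ) = ((A.mulVec m i : ℤ) : ZMod ℓ) := by
    simp only [Matrix.mulVec, dotProduct]
    push_cast
    rfl
  have e2 : ∑ j, (A i j : ZMod ℓ) * (y j : ZMod ℓ) = ((A.mulVec y i : ℤ) : ZMod ℓ) := by
    simp only [Matrix.mulVec, dotProduct]
    push_cast
    rfl
  rw [e1, e2, hAm, hy]
  simp

theorem cst_ne_zero (hℓA : ∀ i j, A i j ≠ 0 → ¬ ((ℓ : ℤ) ∣ A i j))
    (hℓm : ∀ i, ¬ ((ℓ : ℤ) ∣ m i)) (a b : Fin n) (h : A a b ≠ 0) : cst A m ℓ a b ≠ 0 := by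
  unfold cst
  refine mul_ne_zero (mul_ne_zero ?_ (m_ne_zero m ℓ hℓm a)) (m_ne_zero m ℓ hℓm b)
  rw [Ne, ZMod.intCast_zmod_eq_zero_iff_dvd]
  exact hℓA a b h

theorem card_torsion_le (hsymm : A.IsSymm) (hA : ∀ i j, i ≠ j → 0 ≤ A i j)
    (hAm : A.mulVec m = 0)
    (hconn : ∀ I : Finset (Fin n), I.Nonempty → I ≠ univ → ∃ i ∈ I, ∃ j ∉ I, A i j ≠ 0)
    (hℓA : ∀ i j, A i j ≠ 0 → ¬ ((ℓ : ℤ) ∣ A i j)) (hℓm : ∀ i, ¬ ((ℓ : ℤ) ∣ m i)) :
    Nat.card (Submodule.torsionBy ℤ ((Fin n → ℤ) ⧸ LinearMap.range (Matrix.mulVecLin A)) (ℓ : ℤ))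
      ≤ ℓ ^ ((univ.filter fun p : Fin n × Fin n => p.1 < p.2 ∧ 0 < A p.1 p.2).card + 1 - n) := by
  classical
  have hℓ0 : (ℓ : ℤ) ≠ 0 := by
    have := (Fact.out : ℓ.Prime).pos
    omega
  have hex : ∀ c : Submodule.torsionBy ℤ
      ((Fin n → ℤ) ⧸ LinearMap.range (Matrix.mulVecLin A)) (ℓ : ℤ),
      ∃ x y : Fin n → ℤ, (Submodule.Quotient.mk x : (Fin n → ℤ) ⧸ _) = c.1 ∧
        A.mulVec y = (ℓ : ℤ) • x := by
    intro c
    obtain ⟨x, hx⟩ := Submodule.Quotient.mk_surjective _ c.1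
    have hc := c.2
    rw [Submodule.mem_torsionBy_iff, ← hx, ← Submodule.Quotient.mk_smul,
      Submodule.Quotient.mk_eq_zero] at hc
    obtain ⟨y, hy⟩ := hc
    exact ⟨x, y, hx, by rw [← hy, Matrix.mulVecLin_apply]⟩
  choose X Y hX hY using hex
  -- the map to the cycle space
  let Ψ : Submodule.torsionBy ℤ ((Fin n → ℤ) ⧸ LinearMap.range (Matrix.mulVecLin A)) (ℓ : ℤ) →
      LinearMap.ker (Matrix.mulVecLin (D A (ZMod ℓ)).transpose) := fun c =>
    ⟨zOf A m ℓ (Y c), by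
      rw [LinearMap.mem_ker, Matrix.mulVecLin_apply]
      funext i
      rw [transpose_mulVec_zOf A m ℓ hsymm hA,
        vertex_sum_eq_zero A m ℓ hℓm hAm (Y c) (X c) (hY c)]
      rfl⟩
  have hΨ : Function.Injective Ψ := by
    intro c c' hcc'
    have hz : zOf A m ℓ (Y c) = zOf A m ℓ (Y c') := congrArg Subtype.val hcc'
    apply Subtype.ext
    rw [← hX c, ← hX c']
    rcases isEmpty_or_nonempty (Fin n) with hE | ⟨⟨i₀⟩⟩
    · congr 1
      funext i
      exact (hE.false i).elim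
    · -- the difference of the `u`s is constant on edges
      let Δ : Fin n → ZMod ℓ := fun i => uOf m ℓ (Y c) i - uOf m ℓ (Y c') i
      have hedge' : ∀ a b (hab : a < b) (hpos : 0 < A a b), Δ a = Δ b := by
        intro a b hab hpos
        have h1 := congrFun hz ⟨(a, b), hab, hpos⟩
        simp only [zOf, Zf] at h1
        have h2 := mul_left_cancel₀ (cst_ne_zero A m ℓ hℓA hℓm a b (ne_of_gt hpos)) h1
        simp only [Δ]
        linear_combination -h2
      have hedge : ∀ a b, a ≠ b → A a b ≠ 0 → Δ a = Δ b := by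
        intro a b hab hAab
        have hpos : 0 < A a b := lt_of_le_of_ne (hA a b hab) (Ne.symm hAab)
        rcases lt_or_gt_of_ne hab with hlt | hgt
        · exact hedge' a b hlt hpos
        · have hpos' : 0 < A b a := by rw [hsymm.apply a b]; exact hpos
          exact (hedge' b a hgt hpos').symm
      have hconst := const_of_edges hconn Δ hedge
      obtain ⟨t, ht⟩ := ZMod.intCast_surjective (Δ i₀)
      have hdvd : ∀ i, (ℓ : ℤ) ∣ Y c i - Y c' i - t * m i := by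
        intro i
        rw [← ZMod.intCast_zmod_eq_zero_iff_dvd]
        push_cast
        have h1 : Δ i = (t : ZMod ℓ) := by rw [ht]; exact hconst i i₀
        have h2 := m_ne_zero m ℓ hℓm i
        simp only [Δ, uOf] at h1
        field_simp at h1
        linear_combination h1
      choose z hz' using hdvd
      -- X c - X c' = A z
      rw [Submodule.Quotient.eq]
      refine ⟨z, ?_⟩
      rw [Matrix.mulVecLin_apply]
      have h3 : Y c - Y c' = t • m + (ℓ : ℤ) • z := by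
        funext i
        have := hz' i
        simp only [Pi.sub_apply, Pi.add_apply, Pi.smul_apply, smul_eq_mul]
        linarith
      have h4 : A.mulVec (Y c - Y c') = (ℓ : ℤ) • A.mulVec z := by
        rw [h3, Matrix.mulVec_add, Matrix.mulVec_smul, Matrix.mulVec_smul, hAm, smul_zero, zero_add]
      rw [Matrix.mulVec_sub, hY c, hY c', ← smul_sub] at h4
      funext i
      have := congrFun h4 i
      simp only [Pi.smul_apply, Pi.sub_apply, smul_eq_mul] at this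
      have h5 := mul_left_cancel₀ hℓ0 this
      simp only [Pi.sub_apply]
      exact h5.symm
  have hcard := Nat.card_le_card_of_injective Ψ hΨ
  refine hcard.trans ?_
  have h6 := card_ker_transpose_le (A := A) (ZMod ℓ) hsymm hA hconn
  rw [Nat.card_zmod, Fintype.card_subtype] at h6
  exact h6

end Groth.Agent.Lib.helper13.CokerTors
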