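import Mathlib

/-!
# Edge labellings of bipartite graphs (helper13)

`bd G x v = ∑ e ∈ G.incidenceFinset v, x e` and labellings along walks.
-/

set_option autoImplicit false
set_option linter.unusedSectionVars false
universe u v

namespace Groth.Agent.Lib.helper13.CombGraph

open SimpleGraph

variable {V : Type u} [Fintype V] [DecidableEq V] {A : Type v} [AddCommGroup A]

/-- boundary of an edge labelling. -/
def bd (G : SimpleGraph V) [DecidableRel G.Adj] (x : Sym2 V → A) (v : V) : A :=
  ∑ e ∈ G.incidenceFinset v, x e

lemma bd_add (G : SimpleGraph V) [DecidableRel G.Adj] (x y : Sym2 V → A) :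
    bd G (x + y) = bd G x + bd G y := by
  funext v
  simp [bd, Finset.sum_add_distrib]

lemma bd_zero (G : SimpleGraph V) [DecidableRel G.Adj] :
    bd G (0 : Sym2 V → A) = 0 := by
  funext v
  simp [bd]

lemma bd_sum (G : SimpleGraph V) [DecidableRel G.Adj] {ι : Type*} (s : Finset ι)
    (x : ι → Sym2 V → A) :
    bd G (∑ i ∈ s, x i) = ∑ i ∈ s, bd G (x i) := by
  classical
  induction s using Finset.induction_on with
  | empty => simp [bd_zero]
  | insert i s hi ih => rw [Finset.sum_insert hi, Finset.sum_insert hi, bd_add, ih]

lemma bd_single (G : SimpleGraph V) [DecidableRel G.Adj] {u w : V} (h : G.Adj u w) (g : A) :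
    bd G (Pi.single s(u, w) g) = Pi.single u g + Pi.single w g := by
  funext v
  have hne : u ≠ w := h.ne
  simp only [bd, Pi.add_apply]
  rw [Finset.sum_pi_single']
  simp only [mem_incidenceFinset, mk'_mem_incidenceSet_iff, Pi.single_apply]
  by_cases h1 : v = u
  · subst h1
    simp [h, hne]
  · by_cases h2 : v = w
    · subst h2
      simp [h, h1]
    · simp [h1, h2]

/-- labelling along a walk: alternating `g, -g, g, …` on successive edges. -/
def lab {G : SimpleGraph V} : ∀ {u w : V}, G.Walk u w → A → (Sym2 V → A)
  | _, _, .nil, _ => 0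
  | u, _, .cons (v := v) _ q, g => Pi.single s(u, v) g + lab q (-g)

@[simp] lemma lab_nil {G : SimpleGraph V} (u : V) (g : A) :
    lab (Walk.nil : G.Walk u u) g = 0 := rfl

@[simp] lemma lab_cons {G : SimpleGraph V} {u v w : V} (h : G.Adj u v) (q : G.Walk v w) (g : A) :
    lab (Walk.cons h q) g = Pi.single s(u, v) g + lab q (-g) := rfl

lemma lab_zero {G : SimpleGraph V} {u w : V} (p : G.Walk u w) : lab p (0 : A) = 0 := by
  induction p with
  | nil => rfl
  | cons h q ih => simp [ih]

lemma lab_add {G : SimpleGraph V} {u w : V} (p : G.Walk u w) (g g' : A) :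
    lab p (g + g') = lab p g + lab p g' := by
  induction p generalizing g g' with
  | nil => simp
  | cons h q ih =>
    simp only [lab_cons, neg_add, ih, Pi.single_add]
    abel

lemma lab_apply_of_notMem {G : SimpleGraph V} {u w : V} (p : G.Walk u w) (g : A) (e : Sym2 V)
    (he : e ∉ p.edges) : lab p g e = 0 := by
  induction p generalizing g with
  | nil => rfl
  | cons h q ih =>
    simp only [Walk.edges_cons, List.mem_cons, not_or] at he
    simp only [lab_cons, Pi.add_apply, ih _ he.2, add_zero]
    rw [Pi.single_apply, if_neg he.1]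

lemma lab_apply_of_notMem_edgeSet {G : SimpleGraph V} {u w : V} (p : G.Walk u w) (g : A)
    (e : Sym2 V) (he : e ∉ G.edgeSet) : lab p g e = 0 :=
  lab_apply_of_notMem p g e (fun h => he (p.edges_subset_edgeSet h))

/-- boundary of the labelling along a walk in a bipartite graph. -/
lemma bd_lab (G : SimpleGraph V) [DecidableRel G.Adj] (c : V → Bool)
    (hbip : ∀ v w : V, G.Adj v w → c v ≠ c w) {u w : V} (p : G.Walk u w) (g : A) :
    bd G (lab p g) = Pi.single u g + Pi.single w (if c u = c w then -g else g) := by
  induction p generalizing g with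
  | nil =>
    simp only [lab_nil, bd_zero, if_true]
    rw [← Pi.single_add]; simp
  | @cons u v w h q ih =>
    rw [lab_cons, bd_add, bd_single G h, ih]
    have huv := hbip u v h
    have : (if c v = c w then - -g else -g) = (if c u = c w then -g else g) := by
      by_cases h1 : c v = c w
      · have h2 : c u ≠ c w := h1 ▸ huv
        simp [h1, h2]
      · have h2 : c u = c w := by
          cases hcu : c u <;> cases hcv : c v <;> cases hcw : c w <;> simp_all
        simp [h1, h2]
    rw [this]
    rw [Pi.single_neg]
    abel

end Groth.Agent.Lib.helper13.CombGraph
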