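import Groth.Agent.Lib.helper13.CombGraph

/-!
# Labellings with zero boundary on a forest vanish (helper13)
-/

set_option autoImplicit false
set_option linter.unusedSectionVars false
universe u v

namespace Groth.Agent.Lib.helper13.CombGraph

open SimpleGraph

variable {V : Type u} [Fintype V] [DecidableEq V] {A : Type v} [AddCommGroup A]

/-- pairing of the boundary with an integer vertex function. -/
lemma pairing (G : SimpleGraph V) [DecidableRel G.Adj] (x : Sym2 V → A) (g : V → ℤ) :
    ∑ v, g v • bd G x v =
      ∑ e ∈ G.edgeFinset, (∑ v ∈ Finset.univ.filter (fun v => v ∈ e), g v) • x e := by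
  simp only [bd, incidenceFinset_eq_filter, Finset.smul_sum, Finset.sum_filter, Finset.sum_smul]
  rw [Finset.sum_comm]
  refine Finset.sum_congr rfl (fun e _ => ?_)
  refine Finset.sum_congr rfl (fun v _ => ?_)
  split_ifs <;> simp

lemma sum_filter_mem_mk {a b : V} (hab : a ≠ b) (g : V → ℤ) :
    ∑ v ∈ Finset.univ.filter (fun v => v ∈ s(a, b)), g v = g a + g b := by
  have : Finset.univ.filter (fun v => v ∈ s(a, b)) = {a, b} := by
    ext v; simp [Sym2.mem_iff]
  rw [this, Finset.sum_pair hab]

/-- In an acyclic bipartite graph, a labelling supported on the edges with zero boundary is zero. -/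
lemma eq_zero_of_isAcyclic (G : SimpleGraph V) [DecidableRel G.Adj] (hT : G.IsAcyclic)
    (c : V → Bool) (hbip : ∀ v w : V, G.Adj v w → c v ≠ c w) (x : Sym2 V → A)
    (hx0 : ∀ e : Sym2 V, e ∉ G.edgeSet → x e = 0) (hbd : ∀ v, bd G x v = 0) : x = 0 := by
  classical
  funext e
  by_cases he : e ∈ G.edgeSet
  swap
  · exact hx0 e he
  induction e using Sym2.ind with
  | h u w =>
  have hadj : G.Adj u w := by simpa using he
  have hbr : ¬ (G.deleteEdges {s(u, w)}).Reachable u w := by
    have := (isAcyclic_iff_forall_adj_isBridge.mp hT) hadj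
    rwa [isBridge_iff] at this
  set G' := G.deleteEdges {s(u, w)} with hG'
  let g : V → ℤ := fun v => if G'.Reachable u v then (if c v = c u then 1 else -1) else 0
  have h0 : ∑ v, g v • bd G x v = 0 := by
    simp [hbd]
  rw [pairing] at h0
  rw [Finset.sum_eq_single s(u, w)] at h0
  · rw [sum_filter_mem_mk hadj.ne] at h0
    have hgu : g u = 1 := by simp [g]
    have hgw : g w = 0 := by simp [g, hbr]
    rw [hgu, hgw] at h0
    simpa using h0
  · intro e' he' hne
    induction e' using Sym2.ind with
    | h a b =>
    have hab : G.Adj a b := by simpa using he'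
    have hab' : G'.Adj a b := by
      rw [hG', deleteEdges_adj]
      exact ⟨hab, by simpa using hne⟩
    rw [sum_filter_mem_mk hab.ne]
    have hreach : G'.Reachable u a ↔ G'.Reachable u b :=
      ⟨fun h => h.trans hab'.reachable, fun h => h.trans hab'.symm.reachable⟩
    have hc := hbip a b hab
    have : g a + g b = 0 := by
      simp only [g]
      by_cases hr : G'.Reachable u a
      · have hr' := hreach.mp hr
        simp only [hr, hr', if_true]
        cases hca : c a <;> cases hcb : c b <;> cases hcu : c u <;> simp_all
      · have hr' : ¬ G'.Reachable u b := fun h => hr (hreach.mpr h)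
        simp [hr, hr']
    rw [this, zero_smul]
  · intro hn
    exact absurd (by simpa using hadj) hn

end Groth.Agent.Lib.helper13.CombGraph
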