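import Mathlib

/-!
# `m` polynomials in `s > m` variables vanishing at the origin have another common zero
(over an algebraically closed field)
-/

namespace Groth.Agent.Lib.helper13.CommonZero

open MvPolynomial

theorem height_of_isMaximal (k : Type*) [Field k] :
    ∀ (s : ℕ) (M : Ideal (MvPolynomial (Fin s) k)), M.IsMaximal → M.height = s
  | 0, M, hM => by
      have e : MvPolynomial (Fin 0) k ≃+* k := (MvPolynomial.isEmptyAlgEquiv k (Fin 0)).toRingEquiv
      have h0 : ringKrullDim (MvPolynomial (Fin 0) k) = 0 := by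
        rw [ringKrullDim_eq_of_ringEquiv e]
        exact ringKrullDim_eq_zero_of_field k
      have h1 := Ideal.height_le_ringKrullDim_of_ne_top hM.ne_top
      rw [h0] at h1
      have h2 : M.height ≤ 0 := by exact_mod_cast h1
      simpa using h2
  | s + 1, M, hM => by
      let e : MvPolynomial (Fin (s + 1)) k ≃+* Polynomial (MvPolynomial (Fin s) k) :=
        (MvPolynomial.finSuccEquiv k s).toRingEquiv
      let M' : Ideal (Polynomial (MvPolynomial (Fin s) k)) := M.map e
      haveI : M.IsMaximal := hM
      haveI hM' : M'.IsMaximal := Ideal.map_isMaximal_of_equiv e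
      let p : Ideal (MvPolynomial (Fin s) k) := M'.under (MvPolynomial (Fin s) k)
      haveI hp : p.IsMaximal := Polynomial.isMaximal_comap_C_of_isJacobsonRing M'
      have h1 := Polynomial.height_eq_height_add_one p M'
      rw [height_of_isMaximal k s p hp] at h1
      rw [← e.height_map M]
      rw [h1]
      push_cast
      rfl

theorem exists_common_zero {k : Type*} [Field k] [IsAlgClosed k] (s m : ℕ) (hms : m < s)
    (g : Fin m → MvPolynomial (Fin s) k) (hg : ∀ l, MvPolynomial.eval 0 (g l) = 0) :
    ∃ t : Fin s → k, t ≠ 0 ∧ ∀ l, MvPolynomial.eval t (g l) = 0 := by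
  classical
  obtain ⟨m0, hm0def⟩ : ∃ m0 : Ideal (MvPolynomial (Fin s) k),
      m0 = MvPolynomial.vanishingIdeal k {(0 : Fin s → k)} := ⟨_, rfl⟩
  have hm0 : m0.IsMaximal :=
    MvPolynomial.isMaximal_iff_eq_vanishingIdeal_singleton.mpr ⟨0, hm0def⟩
  obtain ⟨I, hIdef⟩ : ∃ I : Ideal (MvPolynomial (Fin s) k), I = Ideal.span (Set.range g) :=
    ⟨_, rfl⟩
  have hI : I ≤ m0 := by
    rw [hIdef, hm0def]
    refine Ideal.span_le.mpr ?_
    rintro _ ⟨l, rfl⟩
    refine (MvPolynomial.mem_vanishingIdeal_singleton_iff _ _).mpr ?_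
    rw [MvPolynomial.aeval_eq_eval]   -- coe
    exact hg l
  haveI := hm0.isPrime
  obtain ⟨P, hP, hPm⟩ := Ideal.exists_minimalPrimes_le hI
  haveI hPprime : P.IsPrime := hP.1.1
  have hht : P.height ≤ (m : ℕ∞) := by
    refine (Ideal.height_le_spanRank_toENat_of_mem_minimalPrimes I P hP).trans ?_
    have h1 : I.spanRank ≤ (m : Cardinal) := by
      rw [hIdef]
      refine (Submodule.spanRank_span_le_card _).trans ?_
      have hr : Set.range g = ((Finset.univ.image g : Finset _) : Set _) := by simp
      rw [hr]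
      have h2 : Cardinal.mk ((Finset.univ.image g : Finset _) : Set (MvPolynomial (Fin s) k))
          = ((Finset.univ.image g).card : Cardinal) := Cardinal.mk_coe_finset
      rw [h2]
      have h3 : (Finset.univ.image g).card ≤ m := Finset.card_image_le.trans (by simp)
      exact_mod_cast h3
    calc Cardinal.toENat I.spanRank ≤ Cardinal.toENat (m : Cardinal) :=
          Cardinal.toENat.monotone' h1
      _ = m := by simp
  have hne : P ≠ m0 := by
    rintro rfl
    rw [height_of_isMaximal k s P hm0] at hht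
    have : s ≤ m := by exact_mod_cast hht
    omega
  have hJ : P.jacobson = P := IsJacobsonRing.out inferInstance hPprime.isRadical
  by_contra hcon
  push Not at hcon
  apply hne
  apply le_antisymm hPm
  rw [← hJ, Ideal.jacobson]
  apply le_sInf
  rintro J ⟨hPJ, hJmax⟩
  obtain ⟨x, rfl⟩ := MvPolynomial.isMaximal_iff_eq_vanishingIdeal_singleton.mp hJmax
  by_cases hx : x = 0
  · subst hx
    rw [hm0def]
  · obtain ⟨l, hl⟩ := hcon x hx
    exfalso
    apply hl
    have h1 : g l ∈ MvPolynomial.vanishingIdeal k {x} :=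
      hPJ (hP.1.2 (hIdef ▸ Ideal.subset_span ⟨l, rfl⟩))
    have h2 := (MvPolynomial.mem_vanishingIdeal_singleton_iff _ _).mp h1
    rwa [MvPolynomial.aeval_eq_eval] at h2

end Groth.Agent.Lib.helper13.CommonZero
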