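import Mathlib

/-!
# Ternary quadratic forms: scalar algebra (helper13)

Elementary identities behind `S13911`.
-/

set_option autoImplicit false

namespace Groth.Agent.Lib.helper13.ConicRank

variable {k : Type*} [Field k]

/-- a binary quadratic form over an algebraically closed field splits -/
theorem binfactor [IsAlgClosed k] (A D B : k) :
    ∃ α β γ δ : k, ∀ s t : k, A * s * s + 2 * D * s * t + B * t * t =
      (α * s + β * t) * (γ * s + δ * t) := by
  by_cases hA : A = 0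
  · refine ⟨0, 1, 2 * D, B, fun s t => ?_⟩
    rw [hA]; ring
  · obtain ⟨w, hw⟩ := IsAlgClosed.exists_eq_mul_self (D * D - A * B)
    refine ⟨1, (D + w) / A, A, D - w, fun s t => ?_⟩
    field_simp
    linear_combination (-t * t) * hw

/-- a degenerate ternary quadratic form (kernel vector with nonzero last coordinate) splits -/
theorem core2 [IsAlgClosed k] (A B C D E F u0 u1 u2 : k) (h0 : A * u0 + D * u1 + E * u2 = 0)
    (h1 : D * u0 + B * u1 + F * u2 = 0) (h2 : E * u0 + F * u1 + C * u2 = 0) (hu : u2 ≠ 0) :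
    ∃ a0 a1 a2 b0 b1 b2 : k, ∀ x0 x1 x2 : k,
      A * x0 * x0 + B * x1 * x1 + C * x2 * x2 + 2 * D * x0 * x1 + 2 * E * x0 * x2
        + 2 * F * x1 * x2 = (a0 * x0 + a1 * x1 + a2 * x2) * (b0 * x0 + b1 * x1 + b2 * x2) := by
  obtain ⟨α, β, γ, δ, hbin⟩ := binfactor A D B
  obtain ⟨p, hp⟩ : ∃ p, p = u0 / u2 := ⟨_, rfl⟩
  obtain ⟨r, hr⟩ : ∃ r, r = u1 / u2 := ⟨_, rfl⟩
  have h0' : A * p + D * r + E = 0 := by
    rw [hp, hr]; field_simp; linear_combination h0
  have h1' : D * p + B * r + F = 0 := by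
    rw [hp, hr]; field_simp; linear_combination h1
  have h2' : E * p + F * r + C = 0 := by
    rw [hp, hr]; field_simp; linear_combination h2
  refine ⟨α, β, -α * p - β * r, γ, δ, -γ * p - δ * r, fun x0 x1 x2 => ?_⟩
  have := hbin (x0 - p * x2) (x1 - r * x2)
  linear_combination this + (2 * x0 * x2 - p * x2 * x2) * h0' + (2 * x1 * x2 - r * x2 * x2) * h1'
    + (x2 * x2) * h2'

/-- a degenerate ternary quadratic form splits -/
theorem core [IsAlgClosed k] (A B C D E F u0 u1 u2 : k) (h0 : A * u0 + D * u1 + E * u2 = 0)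
    (h1 : D * u0 + B * u1 + F * u2 = 0) (h2 : E * u0 + F * u1 + C * u2 = 0)
    (hu : u0 ≠ 0 ∨ u1 ≠ 0 ∨ u2 ≠ 0) :
    ∃ a0 a1 a2 b0 b1 b2 : k, ∀ x0 x1 x2 : k,
      A * x0 * x0 + B * x1 * x1 + C * x2 * x2 + 2 * D * x0 * x1 + 2 * E * x0 * x2
        + 2 * F * x1 * x2 = (a0 * x0 + a1 * x1 + a2 * x2) * (b0 * x0 + b1 * x1 + b2 * x2) := by
  rcases hu with hu | hu | hu
  · obtain ⟨a0, a1, a2, b0, b1, b2, h⟩ := core2 C B A F E D u2 u1 u0
      (by linear_combination h2) (by linear_combination h1) (by linear_combination h0) hu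
    refine ⟨a2, a1, a0, b2, b1, b0, fun x0 x1 x2 => ?_⟩
    linear_combination h x2 x1 x0
  · obtain ⟨a0, a1, a2, b0, b1, b2, h⟩ := core2 A C B E D F u0 u2 u1
      (by linear_combination h0) (by linear_combination h2) (by linear_combination h1) hu
    refine ⟨a0, a2, a1, b0, b2, b1, fun x0 x1 x2 => ?_⟩
    linear_combination h x0 x2 x1
  · exact core2 A B C D E F u0 u1 u2 h0 h1 h2 hu

/-- polarization: the coefficients of a product of two linear forms -/
theorem polar [CharZero k] {A B C D E F a0 a1 a2 b0 b1 b2 : k}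
    (h : ∀ x0 x1 x2 : k,
      A * x0 * x0 + B * x1 * x1 + C * x2 * x2 + 2 * D * x0 * x1 + 2 * E * x0 * x2
        + 2 * F * x1 * x2 = (a0 * x0 + a1 * x1 + a2 * x2) * (b0 * x0 + b1 * x1 + b2 * x2)) :
    A = a0 * b0 ∧ B = a1 * b1 ∧ C = a2 * b2 ∧ 2 * D = a0 * b1 + a1 * b0 ∧
      2 * E = a0 * b2 + a2 * b0 ∧ 2 * F = a1 * b2 + a2 * b1 := by
  have e1 := h 1 0 0
  have e2 := h 0 1 0
  have e3 := h 0 0 1
  have e4 := h 1 1 0
  have e5 := h 1 0 1
  have e6 := h 0 1 1
  refine ⟨by linear_combination e1, by linear_combination e2, by linear_combination e3,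
    by linear_combination e4 - e1 - e2, by linear_combination e5 - e1 - e3,
    by linear_combination e6 - e2 - e3⟩

end Groth.Agent.Lib.helper13.ConicRank
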