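import Mathlib

/-!
# Splitting determinants of 2×2 matrices of linear forms (helper13)

Elementary linear algebra behind `S13912`.
-/

set_option autoImplicit false

namespace Groth.Agent.Lib.helper13.ConicSplit

open MvPolynomial

variable {k : Type*} [Field k]

/-- a linear form in three variables is a combination of the variables -/
theorem exists_coeffs (p : MvPolynomial (Fin 3) k) (hp : p.IsHomogeneous 1) :
    ∃ c : Fin 3 → k, p = ∑ i, C (c i) * X i := by
  have hC : ∀ i, ∃ c : k, pderiv i p = C c := by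
    intro i
    have h0 : (pderiv i p).IsHomogeneous 0 := hp.pderiv
    rw [← totalDegree_zero_iff_isHomogeneous, totalDegree_eq_zero_iff_eq_C] at h0
    exact ⟨_, h0⟩
  choose c hc using hC
  refine ⟨c, ?_⟩
  have := hp.sum_X_mul_pderiv
  rw [one_smul] at this
  rw [← this]
  refine Finset.sum_congr rfl fun i _ => ?_
  rw [hc i, mul_comm]

/-- a basis of `k³` adapted to the kernel of a linear functional -/
theorem exists_ker_basis (α : Fin 3 → k) :
    ∃ κ₁ κ₂ x₃ : Fin 3 → k, (∑ i, α i * κ₁ i = 0) ∧ (∑ i, α i * κ₂ i = 0) ∧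
      ∀ x : Fin 3 → k, ∃ s t r : k, x = s • κ₁ + t • κ₂ + r • x₃ := by
  by_cases h0 : α 0 ≠ 0
  · refine ⟨![α 1, -α 0, 0], ![α 2, 0, -α 0], ![1, 0, 0], ?_, ?_, ?_⟩
    · simp [Fin.sum_univ_three]; ring
    · simp [Fin.sum_univ_three]; ring
    · intro x
      refine ⟨-(x 1 / α 0), -(x 2 / α 0), x 0 + x 1 * α 1 / α 0 + x 2 * α 2 / α 0, ?_⟩
      funext i
      fin_cases i
      · simp; field_simp; ring
      · simp; field_simp
      · simp; field_simp
  by_cases h1 : α 1 ≠ 0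
  · refine ⟨![-α 1, α 0, 0], ![0, α 2, -α 1], ![0, 1, 0], ?_, ?_, ?_⟩
    · simp [Fin.sum_univ_three]; ring
    · simp [Fin.sum_univ_three]; ring
    · intro x
      refine ⟨-(x 0 / α 1), -(x 2 / α 1), x 1 + x 0 * α 0 / α 1 + x 2 * α 2 / α 1, ?_⟩
      funext i
      fin_cases i
      · simp; field_simp
      · simp; field_simp; ring
      · simp; field_simp
  by_cases h2 : α 2 ≠ 0
  · refine ⟨![-α 2, 0, α 0], ![0, -α 2, α 1], ![0, 0, 1], ?_, ?_, ?_⟩
    · simp [Fin.sum_univ_three]; ring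
    · simp [Fin.sum_univ_three]; ring
    · intro x
      refine ⟨-(x 0 / α 2), -(x 1 / α 2), x 2 + x 0 * α 0 / α 2 + x 1 * α 1 / α 2, ?_⟩
      funext i
      fin_cases i
      · simp; field_simp
      · simp; field_simp
      · simp; field_simp; ring
  push Not at h0 h1 h2
  refine ⟨![1, 0, 0], ![0, 1, 0], ![0, 0, 1], ?_, ?_, ?_⟩
  · simp [Fin.sum_univ_three, h0]
  · simp [Fin.sum_univ_three, h1]
  · intro x
    refine ⟨x 0, x 1, x 2, ?_⟩
    funext i
    fin_cases i <;> simp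

/-- four pairwise proportional vectors of `k²` have a common nonzero orthogonal vector -/
theorem exists_perp {p1 q1 p2 q2 p3 q3 p4 q4 : k}
    (h12 : p1 * q2 - p2 * q1 = 0) (h13 : p1 * q3 - p3 * q1 = 0) (h14 : p1 * q4 - p4 * q1 = 0)
    (h23 : p2 * q3 - p3 * q2 = 0) (h24 : p2 * q4 - p4 * q2 = 0) (h34 : p3 * q4 - p4 * q3 = 0) :
    ∃ v0 v1 : k, (v0 ≠ 0 ∨ v1 ≠ 0) ∧ p1 * v0 + q1 * v1 = 0 ∧ p2 * v0 + q2 * v1 = 0 ∧
      p3 * v0 + q3 * v1 = 0 ∧ p4 * v0 + q4 * v1 = 0 := by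
  by_cases c1 : p1 ≠ 0 ∨ q1 ≠ 0
  · refine ⟨q1, -p1, ?_, ?_, ?_, ?_, ?_⟩
    · rcases c1 with c | c
      · right; exact neg_ne_zero.mpr c
      · left; exact c
    · ring
    · linear_combination -h12
    · linear_combination -h13
    · linear_combination -h14
  push Not at c1
  obtain ⟨rfl, rfl⟩ := c1
  by_cases c2 : p2 ≠ 0 ∨ q2 ≠ 0
  · refine ⟨q2, -p2, ?_, ?_, ?_, ?_, ?_⟩
    · rcases c2 with c | c
      · right; exact neg_ne_zero.mpr c
      · left; exact c
    · ring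
    · ring
    · linear_combination -h23
    · linear_combination -h24
  push Not at c2
  obtain ⟨rfl, rfl⟩ := c2
  by_cases c3 : p3 ≠ 0 ∨ q3 ≠ 0
  · refine ⟨q3, -p3, ?_, ?_, ?_, ?_, ?_⟩
    · rcases c3 with c | c
      · right; exact neg_ne_zero.mpr c
      · left; exact c
    · ring
    · ring
    · ring
    · linear_combination -h34
  push Not at c3
  obtain ⟨rfl, rfl⟩ := c3
  by_cases c4 : p4 ≠ 0 ∨ q4 ≠ 0
  · refine ⟨q4, -p4, ?_, ?_, ?_, ?_, ?_⟩
    · rcases c4 with c | c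
      · right; exact neg_ne_zero.mpr c
      · left; exact c
    · ring
    · ring
    · ring
    · ring
  push Not at c4
  obtain ⟨rfl, rfl⟩ := c4
  exact ⟨1, 0, Or.inl one_ne_zero, by ring, by ring, by ring, by ring⟩

/-- two singular `2 × 2` matrices spanning a pencil of singular matrices have a common right kernel
vector or a common left kernel vector -/
theorem common_kernel {a b c d e f g h : k} (h1 : a * d - b * c = 0) (h2 : e * h - f * g = 0)
    (h3 : a * h + d * e - b * g - c * f = 0) :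
    (∃ v0 v1 : k, (v0 ≠ 0 ∨ v1 ≠ 0) ∧ a * v0 + b * v1 = 0 ∧ c * v0 + d * v1 = 0 ∧
      e * v0 + f * v1 = 0 ∧ g * v0 + h * v1 = 0) ∨
    (∃ u0 u1 : k, (u0 ≠ 0 ∨ u1 ≠ 0) ∧ a * u0 + c * u1 = 0 ∧ b * u0 + d * u1 = 0 ∧
      e * u0 + g * u1 = 0 ∧ f * u0 + h * u1 = 0) := by
  by_cases hR : a * f - e * b = 0 ∧ a * h - g * b = 0 ∧ c * f - e * d = 0 ∧ c * h - g * d = 0
  · left
    obtain ⟨r1, r2, r3, r4⟩ := hR
    exact exists_perp (p1 := a) (q1 := b) (p2 := c) (q2 := d) (p3 := e) (q3 := f) (p4 := g)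
      (q4 := h) (by linear_combination h1) r1 r2 r3 r4 (by linear_combination h2)
  · right
    have hL : a * g - e * c = 0 ∧ a * h - f * c = 0 ∧ b * g - e * d = 0 ∧ b * h - f * d = 0 := by
      by_contra hL
      apply hR
      have k11 : (a * f - e * b) * (a * g - e * c) = 0 := by grind
      have k12 : (a * f - e * b) * (a * h - f * c) = 0 := by grind
      have k13 : (a * f - e * b) * (b * g - e * d) = 0 := by grind
      have k14 : (a * f - e * b) * (b * h - f * d) = 0 := by grind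
      have k21 : (a * h - g * b) * (a * g - e * c) = 0 := by grind
      have k22 : (a * h - g * b) * (a * h - f * c) = 0 := by grind
      have k23 : (a * h - g * b) * (b * g - e * d) = 0 := by grind
      have k24 : (a * h - g * b) * (b * h - f * d) = 0 := by grind
      have k31 : (c * f - e * d) * (a * g - e * c) = 0 := by grind
      have k32 : (c * f - e * d) * (a * h - f * c) = 0 := by grind
      have k33 : (c * f - e * d) * (b * g - e * d) = 0 := by grind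
      have k34 : (c * f - e * d) * (b * h - f * d) = 0 := by grind
      have k41 : (c * h - g * d) * (a * g - e * c) = 0 := by grind
      have k42 : (c * h - g * d) * (a * h - f * c) = 0 := by grind
      have k43 : (c * h - g * d) * (b * g - e * d) = 0 := by grind
      have k44 : (c * h - g * d) * (b * h - f * d) = 0 := by grind
      by_cases l1 : a * g - e * c = 0
      · by_cases l2 : a * h - f * c = 0
        · by_cases l3 : b * g - e * d = 0
          · have l4 : b * h - f * d ≠ 0 := fun l4 => hL ⟨l1, l2, l3, l4⟩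
            exact ⟨(mul_eq_zero.mp k14).resolve_right l4, (mul_eq_zero.mp k24).resolve_right l4,
              (mul_eq_zero.mp k34).resolve_right l4, (mul_eq_zero.mp k44).resolve_right l4⟩
          · exact ⟨(mul_eq_zero.mp k13).resolve_right l3, (mul_eq_zero.mp k23).resolve_right l3,
              (mul_eq_zero.mp k33).resolve_right l3, (mul_eq_zero.mp k43).resolve_right l3⟩
        · exact ⟨(mul_eq_zero.mp k12).resolve_right l2, (mul_eq_zero.mp k22).resolve_right l2,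
            (mul_eq_zero.mp k32).resolve_right l2, (mul_eq_zero.mp k42).resolve_right l2⟩
      · exact ⟨(mul_eq_zero.mp k11).resolve_right l1, (mul_eq_zero.mp k21).resolve_right l1,
          (mul_eq_zero.mp k31).resolve_right l1, (mul_eq_zero.mp k41).resolve_right l1⟩
    obtain ⟨l1, l2, l3, l4⟩ := hL
    exact exists_perp (p1 := a) (q1 := c) (p2 := b) (q2 := d) (p3 := e) (q3 := g) (p4 := f)
      (q4 := h) (by linear_combination h1) l1 l2 l3 l4 (by linear_combination h2)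

theorem exists_perp2 (w0 w1 : k) : ∃ u0 u1 : k, (u0 ≠ 0 ∨ u1 ≠ 0) ∧ u0 * w0 + u1 * w1 = 0 := by
  by_cases hw : w0 ≠ 0 ∨ w1 ≠ 0
  · refine ⟨w1, -w0, ?_, by ring⟩
    rcases hw with hw | hw
    · right; exact neg_ne_zero.mpr hw
    · left; exact hw
  · push Not at hw
    exact ⟨1, 0, Or.inl one_ne_zero, by rw [hw.1, hw.2]; ring⟩

/-- the key lemma: a `2 × 2` matrix of linear forms in three variables whose determinant splits
admits a pair of nonzero vectors `u, v` with `uᵀ M v = 0` -/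
theorem exists_isotropic (c : Fin 2 → Fin 2 → Fin 3 → k) (α β : Fin 3 → k)
    (hdet : ∀ x : Fin 3 → k,
      (∑ i, c 0 0 i * x i) * (∑ i, c 1 1 i * x i) - (∑ i, c 0 1 i * x i) * (∑ i, c 1 0 i * x i) =
        (∑ i, α i * x i) * (∑ i, β i * x i)) :
    ∃ u0 u1 v0 v1 : k, (u0 ≠ 0 ∨ u1 ≠ 0) ∧ (v0 ≠ 0 ∨ v1 ≠ 0) ∧
      ∀ i, u0 * c 0 0 i * v0 + u0 * c 0 1 i * v1 + u1 * c 1 0 i * v0 + u1 * c 1 1 i * v1 = 0 := by
  obtain ⟨κ₁, κ₂, x₃, hκ₁, hκ₂, hspan⟩ := exists_ker_basis α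
  obtain ⟨L, hL⟩ : ∃ L : Fin 2 → Fin 2 → (Fin 3 → k) → k, L = fun a b x => ∑ i, c a b i * x i :=
    ⟨_, rfl⟩
  have Llin : ∀ a b (s t r : k), L a b (s • κ₁ + t • κ₂ + r • x₃) =
      s * L a b κ₁ + t * L a b κ₂ + r * L a b x₃ := by
    intro a b s t r
    simp only [hL, Pi.add_apply, Pi.smul_apply, smul_eq_mul, Finset.mul_sum,
      ← Finset.sum_add_distrib]
    refine Finset.sum_congr rfl fun i _ => ?_
    ring
  have Lsingle : ∀ a b i, L a b (Pi.single i 1) = c a b i := by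
    intro a b i
    simp [hL, Pi.single_apply]
  have hd : ∀ x, L 0 0 x * L 1 1 x - L 0 1 x * L 1 0 x =
      (∑ i, α i * x i) * (∑ i, β i * x i) := by
    intro x
    subst hL
    exact hdet x
  have d1 : L 0 0 κ₁ * L 1 1 κ₁ - L 0 1 κ₁ * L 1 0 κ₁ = 0 := by rw [hd, hκ₁, zero_mul]
  have d2 : L 0 0 κ₂ * L 1 1 κ₂ - L 0 1 κ₂ * L 1 0 κ₂ = 0 := by rw [hd, hκ₂, zero_mul]
  have d3 : L 0 0 κ₁ * L 1 1 κ₂ + L 1 1 κ₁ * L 0 0 κ₂ - L 0 1 κ₁ * L 1 0 κ₂
      - L 1 0 κ₁ * L 0 1 κ₂ = 0 := by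
    have h12 := hd ((1 : k) • κ₁ + (1 : k) • κ₂ + (0 : k) • x₃)
    rw [Llin, Llin, Llin, Llin] at h12
    have hz : ∑ i, α i * ((1 : k) • κ₁ + (1 : k) • κ₂ + (0 : k) • x₃) i = 0 := by
      simp only [Pi.add_apply, Pi.smul_apply, smul_eq_mul, one_mul, zero_mul, add_zero, mul_add,
        Finset.sum_add_distrib, hκ₁, hκ₂]
    rw [hz, zero_mul] at h12
    linear_combination h12 - d1 - d2
  rcases common_kernel (a := L 0 0 κ₁) (b := L 0 1 κ₁) (c := L 1 0 κ₁) (d := L 1 1 κ₁)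
    (e := L 0 0 κ₂) (f := L 0 1 κ₂) (g := L 1 0 κ₂) (h := L 1 1 κ₂) d1 d2 d3 with
    ⟨v0, v1, hv, e1, e2, e3, e4⟩ | ⟨u0, u1, hu, e1, e2, e3, e4⟩
  · obtain ⟨u0, u1, hu, hu0⟩ := exists_perp2 (L 0 0 x₃ * v0 + L 0 1 x₃ * v1)
      (L 1 0 x₃ * v0 + L 1 1 x₃ * v1)
    refine ⟨u0, u1, v0, v1, hu, hv, ?_⟩
    have hall : ∀ x, u0 * L 0 0 x * v0 + u0 * L 0 1 x * v1 + u1 * L 1 0 x * v0
        + u1 * L 1 1 x * v1 = 0 := by
      intro x
      obtain ⟨s, t, r, rfl⟩ := hspan x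
      rw [Llin, Llin, Llin, Llin]
      linear_combination (s * u0) * e1 + (s * u1) * e2 + (t * u0) * e3 + (t * u1) * e4 + r * hu0
    intro i
    have := hall (Pi.single i 1)
    rwa [Lsingle, Lsingle, Lsingle, Lsingle] at this
  · obtain ⟨v0, v1, hv, hv0⟩ := exists_perp2 (u0 * L 0 0 x₃ + u1 * L 1 0 x₃)
      (u0 * L 0 1 x₃ + u1 * L 1 1 x₃)
    refine ⟨u0, u1, v0, v1, hu, hv, ?_⟩
    have hall : ∀ x, u0 * L 0 0 x * v0 + u0 * L 0 1 x * v1 + u1 * L 1 0 x * v0
        + u1 * L 1 1 x * v1 = 0 := by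
      intro x
      obtain ⟨s, t, r, rfl⟩ := hspan x
      rw [Llin, Llin, Llin, Llin]
      linear_combination (s * v0) * e1 + (s * v1) * e2 + (t * v0) * e3 + (t * v1) * e4 + r * hv0
    intro i
    have := hall (Pi.single i 1)
    rwa [Lsingle, Lsingle, Lsingle, Lsingle] at this

theorem exists_GL_row (u0 u1 : k) (hu : u0 ≠ 0 ∨ u1 ≠ 0) :
    ∃ g : GL (Fin 2) k, g.val 0 0 = u0 ∧ g.val 0 1 = u1 := by
  by_cases h0 : u0 ≠ 0
  · exact ⟨Matrix.GeneralLinearGroup.mkOfDetNeZero !![u0, u1; 0, 1]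
      (by simp [Matrix.det_fin_two, h0]), rfl, rfl⟩
  · push Not at h0
    have h1 : u1 ≠ 0 := by
      rcases hu with h | h
      · exact absurd h0 h
      · exact h
    exact ⟨Matrix.GeneralLinearGroup.mkOfDetNeZero !![u0, u1; 1, 0]
      (by simp [Matrix.det_fin_two, h1]), rfl, rfl⟩

theorem exists_GL_col (v0 v1 : k) (hv : v0 ≠ 0 ∨ v1 ≠ 0) :
    ∃ g : GL (Fin 2) k, g.val 0 1 = v0 ∧ g.val 1 1 = v1 := by
  by_cases h1 : v1 ≠ 0
  · exact ⟨Matrix.GeneralLinearGroup.mkOfDetNeZero !![1, v0; 0, v1]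
      (by simp [Matrix.det_fin_two, h1]), rfl, rfl⟩
  · push Not at h1
    have h0 : v0 ≠ 0 := by
      rcases hv with h | h
      · exact h
      · exact absurd h1 h
    exact ⟨Matrix.GeneralLinearGroup.mkOfDetNeZero !![0, v0; 1, v1]
      (by simp [Matrix.det_fin_two, h0]), rfl, rfl⟩

end Groth.Agent.Lib.helper13.ConicSplit
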