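import Mathlib
import Groth.Agent.Lib.helper13.ConicSplit
import Groth.Agent.Lib.helper13.ConicRank1

/-!
# Ternary quadratic forms: polynomials and ranks (helper13)
-/

set_option autoImplicit false

namespace Groth.Agent.Lib.helper13.ConicRank

open MvPolynomial

variable {k : Type*} [Field k]

/-- the linear form with coefficient vector `a` -/
noncomputable def lin (a : Fin 3 → k) : MvPolynomial (Fin 3) k := ∑ i, a i • X i

/-- the ternary quadratic form with matrix `Q` -/
noncomputable def quad (Q : Matrix (Fin 3) (Fin 3) k) : MvPolynomial (Fin 3) k :=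
  ∑ i, ∑ j, Q i j • (X i * X j)

theorem eval_lin (a x : Fin 3 → k) : eval x (lin a) = a 0 * x 0 + a 1 * x 1 + a 2 * x 2 := by
  simp [lin, Fin.sum_univ_three, smul_eval]

theorem eval_quad (Q : Matrix (Fin 3) (Fin 3) k) (x : Fin 3 → k) :
    eval x (quad Q) = Q 0 0 * (x 0 * x 0) + Q 0 1 * (x 0 * x 1) + Q 0 2 * (x 0 * x 2)
      + (Q 1 0 * (x 1 * x 0) + Q 1 1 * (x 1 * x 1) + Q 1 2 * (x 1 * x 2))
      + (Q 2 0 * (x 2 * x 0) + Q 2 1 * (x 2 * x 1) + Q 2 2 * (x 2 * x 2)) := by
  simp [quad, Fin.sum_univ_three, smul_eval]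

/-- `Q` is the symmetrised outer product of `a` and `b` -/
def IsProd (Q : Matrix (Fin 3) (Fin 3) k) (a b : Fin 3 → k) : Prop :=
  ∀ i j, 2 * Q i j = a i * b j + a j * b i

theorem quad_eq_of_isProd [CharZero k] {Q : Matrix (Fin 3) (Fin 3) k} {a b : Fin 3 → k}
    (h : IsProd Q a b) : quad Q = lin a * lin b := by
  haveI : Infinite k := inferInstance
  refine MvPolynomial.funext fun x => ?_
  rw [map_mul, eval_quad, eval_lin, eval_lin]
  linear_combination (x 0 * x 0 / 2) * h 0 0 + (x 0 * x 1 / 2) * h 0 1 + (x 0 * x 2 / 2) * h 0 2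
    + (x 1 * x 0 / 2) * h 1 0 + (x 1 * x 1 / 2) * h 1 1 + (x 1 * x 2 / 2) * h 1 2
    + (x 2 * x 0 / 2) * h 2 0 + (x 2 * x 1 / 2) * h 2 1 + (x 2 * x 2 / 2) * h 2 2

theorem isProd_of_quad_eq [CharZero k] {Q : Matrix (Fin 3) (Fin 3) k} (hQ : Q.IsSymm)
    {a b : Fin 3 → k} (h : quad Q = lin a * lin b) : IsProd Q a b := by
  have h10 : Q 1 0 = Q 0 1 := hQ.apply 0 1
  have h20 : Q 2 0 = Q 0 2 := hQ.apply 0 2
  have h21 : Q 2 1 = Q 1 2 := hQ.apply 1 2
  have hx : ∀ x0 x1 x2 : k,
      Q 0 0 * x0 * x0 + Q 1 1 * x1 * x1 + Q 2 2 * x2 * x2 + 2 * Q 0 1 * x0 * x1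
        + 2 * Q 0 2 * x0 * x2 + 2 * Q 1 2 * x1 * x2 =
        (a 0 * x0 + a 1 * x1 + a 2 * x2) * (b 0 * x0 + b 1 * x1 + b 2 * x2) := by
    intro x0 x1 x2
    have := congrArg (eval ![x0, x1, x2]) h
    rw [map_mul, eval_quad, eval_lin, eval_lin, h10, h20, h21] at this
    simp only [Matrix.cons_val_zero, Matrix.cons_val_one, Matrix.cons_val_two,
      Matrix.head_cons, Matrix.tail_cons] at this
    linear_combination this
  obtain ⟨p1, p2, p3, p4, p5, p6⟩ := polar hx
  intro i j
  fin_cases i <;> fin_cases j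
  · show 2 * Q 0 0 = a 0 * b 0 + a 0 * b 0
    linear_combination 2 * p1
  · show 2 * Q 0 1 = a 0 * b 1 + a 1 * b 0
    linear_combination p4
  · show 2 * Q 0 2 = a 0 * b 2 + a 2 * b 0
    linear_combination p5
  · show 2 * Q 1 0 = a 1 * b 0 + a 0 * b 1
    rw [h10]; linear_combination p4
  · show 2 * Q 1 1 = a 1 * b 1 + a 1 * b 1
    linear_combination 2 * p2
  · show 2 * Q 1 2 = a 1 * b 2 + a 2 * b 1
    linear_combination p6
  · show 2 * Q 2 0 = a 2 * b 0 + a 0 * b 2
    rw [h20]; linear_combination p5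
  · show 2 * Q 2 1 = a 2 * b 1 + a 1 * b 2
    rw [h21]; linear_combination p6
  · show 2 * Q 2 2 = a 2 * b 2 + a 2 * b 2
    linear_combination 2 * p3

theorem IsProd.eq [CharZero k] {Q : Matrix (Fin 3) (Fin 3) k} {a b : Fin 3 → k}
    (h : IsProd Q a b) (i j : Fin 3) : Q i j = (a i * b j + a j * b i) / 2 := by
  have := h i j
  field_simp
  linear_combination this

theorem det_eq_zero_of_isProd [CharZero k] {Q : Matrix (Fin 3) (Fin 3) k} {a b : Fin 3 → k}
    (h : IsProd Q a b) : Q.det = 0 := by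
  rw [Matrix.det_fin_three, h.eq 0 0, h.eq 0 1, h.eq 0 2, h.eq 1 0, h.eq 1 1, h.eq 1 2, h.eq 2 0,
    h.eq 2 1, h.eq 2 2]
  ring

/-- a degenerate symmetric ternary form splits -/
theorem exists_isProd_of_det_eq_zero [IsAlgClosed k] [CharZero k]
    {Q : Matrix (Fin 3) (Fin 3) k} (hQ : Q.IsSymm) (hdet : Q.det = 0) :
    ∃ a b : Fin 3 → k, IsProd Q a b := by
  have h10 : Q 1 0 = Q 0 1 := hQ.apply 0 1
  have h20 : Q 2 0 = Q 0 2 := hQ.apply 0 2
  have h21 : Q 2 1 = Q 1 2 := hQ.apply 1 2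
  obtain ⟨v, hv, hQv⟩ := Matrix.exists_mulVec_eq_zero_iff.mpr hdet
  have e0 : Q 0 0 * v 0 + Q 0 1 * v 1 + Q 0 2 * v 2 = 0 := by
    have := congrFun hQv 0
    simpa [Matrix.mulVec, dotProduct, Fin.sum_univ_three] using this
  have e1 : Q 0 1 * v 0 + Q 1 1 * v 1 + Q 1 2 * v 2 = 0 := by
    have := congrFun hQv 1
    rw [← h10]
    simpa [Matrix.mulVec, dotProduct, Fin.sum_univ_three] using this
  have e2 : Q 0 2 * v 0 + Q 1 2 * v 1 + Q 2 2 * v 2 = 0 := by
    have := congrFun hQv 2
    rw [← h20, ← h21]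
    simpa [Matrix.mulVec, dotProduct, Fin.sum_univ_three] using this
  have hv' : v 0 ≠ 0 ∨ v 1 ≠ 0 ∨ v 2 ≠ 0 := by
    by_contra hc
    push Not at hc
    apply hv
    funext i
    fin_cases i
    · exact hc.1
    · exact hc.2.1
    · exact hc.2.2
  obtain ⟨a0, a1, a2, b0, b1, b2, h⟩ := core (Q 0 0) (Q 1 1) (Q 2 2) (Q 0 1) (Q 0 2) (Q 1 2)
    (v 0) (v 1) (v 2) e0 e1 e2 hv'
  refine ⟨![a0, a1, a2], ![b0, b1, b2], ?_⟩
  apply isProd_of_quad_eq hQ
  haveI : Infinite k := inferInstance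
  refine MvPolynomial.funext fun x => ?_
  rw [map_mul, eval_quad, eval_lin, eval_lin, h10, h20, h21]
  simp only [Matrix.cons_val_zero, Matrix.cons_val_one, Matrix.cons_val_two,
    Matrix.head_cons, Matrix.tail_cons]
  linear_combination h (x 0) (x 1) (x 2)

theorem eval_pderiv_quad (Q : Matrix (Fin 3) (Fin 3) k) (u : Fin 3 → k) (i : Fin 3) :
    eval u (pderiv i (quad Q)) = ∑ j, (Q i j + Q j i) * u j := by
  fin_cases i <;>
  simp [quad, Fin.sum_univ_three, Derivation.leibniz, pderiv_X, Pi.single_apply, smul_eval] <;>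
  ring

theorem quad_isHomogeneous (Q : Matrix (Fin 3) (Fin 3) k) : (quad Q).IsHomogeneous 2 := by
  unfold quad
  refine IsHomogeneous.sum _ _ _ fun i _ => IsHomogeneous.sum _ _ _ fun j _ => ?_
  exact (homogeneousSubmodule (Fin 3) k 2).smul_mem _ ((isHomogeneous_X k i).mul (isHomogeneous_X k j))

theorem not_isUnit_of_eval_zero {p : MvPolynomial (Fin 3) k} (h : eval 0 p = 0) : ¬ IsUnit p := by
  intro hu
  have := hu.map (eval (0 : Fin 3 → k))
  rw [h] at this
  exact not_isUnit_zero this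

theorem not_isUnit_lin (a : Fin 3 → k) : ¬ IsUnit (lin a) :=
  not_isUnit_of_eval_zero (by rw [eval_lin]; simp)

theorem not_isUnit_quad (Q : Matrix (Fin 3) (Fin 3) k) : ¬ IsUnit (quad Q) :=
  not_isUnit_of_eval_zero (by rw [eval_quad]; simp)

theorem exists_eq_lin {p : MvPolynomial (Fin 3) k} (hp : p.IsHomogeneous 1) :
    ∃ a : Fin 3 → k, p = lin a := by
  obtain ⟨c, hc⟩ := ConicSplit.exists_coeffs p hp
  refine ⟨c, ?_⟩
  rw [hc, lin]
  refine Finset.sum_congr rfl fun i _ => ?_
  rw [smul_eq_C_mul]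

/-- a nontrivial factorisation of a ternary quadratic form is into two linear forms -/
theorem exists_lin_of_factor {Q : Matrix (Fin 3) (Fin 3) k} (hne : quad Q ≠ 0)
    {g h : MvPolynomial (Fin 3) k} (hgh : quad Q = g * h) (hg : ¬ IsUnit g) (hh : ¬ IsUnit h) :
    ∃ a b : Fin 3 → k, quad Q = lin a * lin b := by
  have hg0 : g ≠ 0 := by
    rintro rfl
    exact hne (by rw [hgh, zero_mul])
  have hh0 : h ≠ 0 := by
    rintro rfl
    exact hne (by rw [hgh, mul_zero])
  have hdeg : g.totalDegree + h.totalDegree ≤ 2 := by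
    rw [← totalDegree_mul_of_isDomain hg0 hh0, ← hgh]
    exact (quad_isHomogeneous Q).totalDegree_le
  have hpos : ∀ p : MvPolynomial (Fin 3) k, p ≠ 0 → ¬ IsUnit p → p.totalDegree ≠ 0 := by
    intro p hp0 hpu hd
    rw [totalDegree_eq_zero_iff_eq_C] at hd
    apply hpu
    rw [hd]
    refine (IsUnit.mk0 _ ?_).map C
    intro hc
    apply hp0
    rw [hd, hc, map_zero]
  have hg1 : g.totalDegree = 1 := by
    have := hpos g hg0 hg
    have := hpos h hh0 hh
    omega
  have hh1 : h.totalDegree = 1 := by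
    have := hpos g hg0 hg
    have := hpos h hh0 hh
    omega
  have dg : homogeneousComponent 0 g + homogeneousComponent 1 g = g := by
    have := sum_homogeneousComponent g
    rw [hg1] at this
    simpa [Finset.sum_range_succ] using this
  have dh : homogeneousComponent 0 h + homogeneousComponent 1 h = h := by
    have := sum_homogeneousComponent h
    rw [hh1] at this
    simpa [Finset.sum_range_succ] using this
  have g0 : (homogeneousComponent 0 g).IsHomogeneous 0 := homogeneousComponent_isHomogeneous 0 g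
  have g1 : (homogeneousComponent 1 g).IsHomogeneous 1 := homogeneousComponent_isHomogeneous 1 g
  have h0 : (homogeneousComponent 0 h).IsHomogeneous 0 := homogeneousComponent_isHomogeneous 0 h
  have h1 : (homogeneousComponent 1 h).IsHomogeneous 1 := homogeneousComponent_isHomogeneous 1 h
  have key : quad Q = homogeneousComponent 1 g * homogeneousComponent 1 h := by
    have e : quad Q = homogeneousComponent 0 g * homogeneousComponent 0 h
        + homogeneousComponent 0 g * homogeneousComponent 1 h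
        + homogeneousComponent 1 g * homogeneousComponent 0 h
        + homogeneousComponent 1 g * homogeneousComponent 1 h := by
      rw [hgh]
      nth_rewrite 1 [← dg, ← dh]
      ring
    have e2 := congrArg (homogeneousComponent 2) e
    rw [homogeneousComponent_eq_self (quad_isHomogeneous Q), map_add, map_add, map_add,
      homogeneousComponent_of_mem (g0.mul h0), homogeneousComponent_of_mem (g0.mul h1),
      homogeneousComponent_of_mem (g1.mul h0), homogeneousComponent_of_mem (g1.mul h1)] at e2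
    simpa using e2
  obtain ⟨a, ha⟩ := exists_eq_lin g1
  obtain ⟨b, hb⟩ := exists_eq_lin h1
  exact ⟨a, b, by rw [key, ha, hb]⟩

end Groth.Agent.Lib.helper13.ConicRank
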