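import Mathlib
import Groth.Agent.Lib.helper13.ConicRank2

/-!
# Ternary quadratic forms: rank lemmas (helper13)
-/

set_option autoImplicit false

namespace Groth.Agent.Lib.helper13.ConicRank

variable {k : Type*} [Field k]

theorem rank_eq_three_of_det_ne_zero {Q : Matrix (Fin 3) (Fin 3) k} (h : Q.det ≠ 0) :
    Q.rank = 3 := by
  have := Matrix.rank_of_isUnit Q ((Matrix.isUnit_iff_isUnit_det Q).mpr (IsUnit.mk0 _ h))
  simpa using this

theorem rank_le_two_of_det_eq_zero {Q : Matrix (Fin 3) (Fin 3) k} (h : Q.det = 0) :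
    Q.rank ≤ 2 := by
  obtain ⟨v, hv, hQv⟩ := Matrix.exists_mulVec_eq_zero_iff.mpr h
  have hker : 1 ≤ Module.finrank k (LinearMap.ker Q.mulVecLin) := by
    rw [Nat.one_le_iff_ne_zero, Ne, Submodule.finrank_eq_zero]
    intro hbot
    have hm : v ∈ LinearMap.ker Q.mulVecLin := by
      rw [LinearMap.mem_ker]
      exact hQv
    rw [hbot] at hm
    exact hv ((Submodule.mem_bot _).mp hm)
  have := LinearMap.finrank_range_add_finrank_ker Q.mulVecLin
  rw [Module.finrank_fin_fun] at this
  unfold Matrix.rank
  omega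

theorem mulVec_single_apply (Q : Matrix (Fin 3) (Fin 3) k) (i j : Fin 3) :
    (Q.mulVecLin (Pi.single j 1)) i = Q i j := by
  simp [Matrix.mulVec, dotProduct, Pi.single_apply]

theorem rank_pos_of_ne_zero {Q : Matrix (Fin 3) (Fin 3) k} (h : Q ≠ 0) : 1 ≤ Q.rank := by
  rw [Nat.one_le_iff_ne_zero]
  intro h0
  apply h
  unfold Matrix.rank at h0
  rw [Submodule.finrank_eq_zero, LinearMap.range_eq_bot] at h0
  ext i j
  rw [← mulVec_single_apply Q i j, h0]
  rfl

theorem exists_outer_of_rank_le_one {Q : Matrix (Fin 3) (Fin 3) k} (h : Q.rank ≤ 1) :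
    ∃ u v : Fin 3 → k, ∀ i j, Q i j = u i * v j := by
  unfold Matrix.rank at h
  rw [finrank_le_one_iff] at h
  obtain ⟨v₀, hv₀⟩ := h
  have : ∀ j : Fin 3, ∃ c : k, c • v₀ = ⟨Q.mulVecLin (Pi.single j 1), LinearMap.mem_range_self _ _⟩ :=
    fun j => hv₀ _
  choose c hc using this
  refine ⟨v₀.1, c, fun i j => ?_⟩
  have := congrArg (fun w : LinearMap.range Q.mulVecLin => (w : Fin 3 → k) i) (hc j)
  simp only [Submodule.coe_smul, Pi.smul_apply, smul_eq_mul] at this
  rw [mulVec_single_apply] at this
  rw [← this, mul_comm]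

theorem rank_le_one_of_outer {Q : Matrix (Fin 3) (Fin 3) k} {u v : Fin 3 → k}
    (h : ∀ i j, Q i j = u i * v j) : Q.rank ≤ 1 := by
  have : Q = Matrix.vecMulVec u v := by
    ext i j
    rw [h i j, Matrix.vecMulVec_apply]
  rw [this]
  exact Matrix.rank_vecMulVec_le u v

/-- `a, b` independent implies that the symmetrised product has rank exactly two -/
theorem not_rank_le_one_of_isProd [CharZero k] {Q : Matrix (Fin 3) (Fin 3) k} {a b : Fin 3 → k}
    (h : IsProd Q a b) (hab : LinearIndependent k ![a, b]) : ¬ Q.rank ≤ 1 := by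
  intro hr
  obtain ⟨u, v, huv⟩ := exists_outer_of_rank_le_one hr
  have hminor : ∀ i j, a i * b j = a j * b i := by
    intro i j
    have e : Q i i * Q j j - Q i j * Q j i = 0 := by
      rw [huv i i, huv j j, huv i j, huv j i]; ring
    rw [h.eq i i, h.eq j j, h.eq i j, h.eq j i] at e
    have e2 : (a i * b j - a j * b i) ^ 2 = 0 := by
      field_simp at e
      linear_combination -e
    have := pow_eq_zero_iff (two_ne_zero) |>.mp e2
    linear_combination this
  rw [LinearIndependent.pair_iff] at hab
  have hzero : ∀ i, a i = 0 := by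
    intro i
    have := (hab (b i) (-a i) (by
      funext j
      simp only [Pi.add_apply, Pi.smul_apply, smul_eq_mul, Pi.zero_apply]
      linear_combination -(hminor i j))).2
    exact neg_eq_zero.mp this
  have ha : a = 0 := funext hzero
  have := (hab 1 0 (by rw [ha]; simp)).1
  exact one_ne_zero this

/-- `a, b` dependent implies that the symmetrised product has rank at most one -/
theorem rank_le_one_of_isProd_of_dep [CharZero k] {Q : Matrix (Fin 3) (Fin 3) k}
    {a b : Fin 3 → k} (h : IsProd Q a b) (hab : ¬ LinearIndependent k ![a, b]) : Q.rank ≤ 1 := by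
  rw [LinearIndependent.pair_iff] at hab
  push Not at hab
  obtain ⟨s, t, hst, hne⟩ := hab
  have hst' : ∀ i, s * a i + t * b i = 0 := by
    intro i
    have := congrFun hst i
    simpa using this
  by_cases hs : s = 0
  · have ht : t ≠ 0 := hne hs
    have hb : ∀ i, b i = 0 := by
      intro i
      have := hst' i
      rw [hs, zero_mul, zero_add] at this
      exact (mul_eq_zero.mp this).resolve_left ht
    refine rank_le_one_of_outer (u := 0) (v := 0) fun i j => ?_
    rw [h.eq i j, hb i, hb j]
    simp
  · have ha : ∀ i, a i = -(t / s) * b i := by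
      intro i
      have := hst' i
      field_simp
      linear_combination this
    refine rank_le_one_of_outer (u := fun i => -(t / s) * b i) (v := b) fun i j => ?_
    rw [h.eq i j, ha i, ha j]
    ring

end Groth.Agent.Lib.helper13.ConicRank
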