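import Mathlib
import Groth.Prelude.Def_Algz

/-!
Basic facts on `Algz.codimPt`, `Algz.DSystem` and `Algz.deltaZ` (helper13's helper library).
-/

set_option autoImplicit false

namespace Groth.Agent.Lib.helper13.DeltaZ

open Algz

universe u

section
variable {Y : Type u} [TopologicalSpace Y]

theorem codimPt_congr {w w' v v' : Y} (hw : w = w') (hv : v = v') (h : w ⤳ v) (h' : w' ⤳ v') :
    codimPt w v h = codimPt w' v' h' := by
  subst hw hv
  rfl

theorem codimPt_self (v : Y) (h : v ⤳ v) : codimPt v v h = 0 := by
  rw [codimPt, Order.height_eq_zero]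
  intro x _
  exact x.2

theorem codimPt_mono_right {w v v' : Y} (h : w ⤳ v) (h' : v ⤳ v') (h'' : w ⤳ v') :
    codimPt w v h ≤ codimPt w v' h'' := by
  rw [codimPt, codimPt]
  let f : Set.Ici (Specialization.toEquiv v) → Set.Ici (Specialization.toEquiv v') :=
    fun x => ⟨x.1, le_trans (Specialization.toEquiv_le_toEquiv.mpr h') x.2⟩
  have hf : StrictMono f := fun a b hab => hab
  exact Order.height_le_height_apply_of_strictMono f hf _

theorem specializes_of_codimPt_eq_zero {w v : Y} (h : w ⤳ v) (h0 : codimPt w v h = 0) : v ⤳ w := by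
  rw [codimPt, Order.height_eq_zero] at h0
  have hle : (⟨Specialization.toEquiv v, Set.mem_Ici.mpr le_rfl⟩ : Set.Ici (Specialization.toEquiv v)) ≤
      ⟨Specialization.toEquiv w, Specialization.toEquiv_le_toEquiv.mpr h⟩ :=
    Specialization.toEquiv_le_toEquiv.mpr h
  have := h0 hle
  exact Specialization.toEquiv_le_toEquiv.mp this

theorem one_le_codimPt {w v : Y} (h : w ⤳ v) (hn : ¬ v ⤳ w) : 1 ≤ codimPt w v h := by
  rw [Order.one_le_iff_ne_zero]
  intro h0
  exact hn (specializes_of_codimPt_eq_zero h h0)

/-- An immediate specialization has codimension at most one. -/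
theorem codimPt_le_one {w v : Y} (h : w ⤳ v)
    (himm : ∀ z : Y, w ⤳ z → z ⤳ v → z = w ∨ z = v) : codimPt w v h ≤ 1 := by
  rw [codimPt, show (1 : ℕ∞) = ((1 : ℕ) : ℕ∞) from rfl, Order.height_le_coe_iff]
  rintro ⟨z, hz⟩ hlt
  induction z with
  | _ z =>
  have hzv : z ⤳ v := Specialization.toEquiv_le_toEquiv.mp hz
  have hwz : w ⤳ z := Specialization.toEquiv_le_toEquiv.mp hlt.le
  rcases himm z hwz hzv with rfl | rfl
  · exact absurd hlt (lt_irrefl _)
  · have : Order.height (⟨Specialization.toEquiv z, hz⟩ : Set.Ici (Specialization.toEquiv z)) = 0 := by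
      rw [Order.height_eq_zero]
      intro x _
      exact x.2
    rw [this]
    exact zero_lt_one

/-- The value of a system in terms of the raw codimension sequences. -/
noncomputable def val (k : ℕ) (c : Fin (k + 1) → ℕ∞) (b : Fin k → ℕ∞) : ℕ∞ :=
  (k : ℕ∞) + Finset.univ.sup fun i : Fin (k + 1) =>
    (∑ j ∈ Finset.univ.filter (fun j : Fin (k + 1) => i ≤ j), c j) -
      ∑ j ∈ Finset.univ.filter (fun j : Fin k => i.val ≤ j.val), b j

theorem delta_eq_val {Z : Set Y} {y : Y} {k : ℕ} (S : DSystem Z y k) :
    S.delta = val k S.c S.b := rfl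

theorem val_mono (k : ℕ) {c c' : Fin (k + 1) → ℕ∞} {b b' : Fin k → ℕ∞} (hc : ∀ i, c' i ≤ c i)
    (hb : ∀ i, b i ≤ b' i) : val k c' b' ≤ val k c b := by
  unfold val
  gcongr with i _ j _ j _
  · exact hc j
  · exact hb j

theorem val_snoc_le (k : ℕ) (c : Fin (k + 1) → ℕ∞) (b : Fin k → ℕ∞) (β : ℕ∞) (hβ : 1 ≤ β)
    (hc : 1 ≤ c (Fin.last k)) :
    val (k + 1) (Fin.snoc (α := fun _ => ℕ∞) c 0) (Fin.snoc (α := fun _ => ℕ∞) b β) ≤ val k c b := by
  unfold val
  set s := Finset.univ.sup fun i : Fin (k + 1) =>
    (∑ j ∈ Finset.univ.filter (fun j : Fin (k + 1) => i ≤ j), c j) -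
      ∑ j ∈ Finset.univ.filter (fun j : Fin k => i.val ≤ j.val), b j with hs
  have hs1 : 1 ≤ s := by
    refine le_trans ?_ (Finset.le_sup (f := fun i : Fin (k + 1) =>
      (∑ j ∈ Finset.univ.filter (fun j : Fin (k + 1) => i ≤ j), c j) -
        ∑ j ∈ Finset.univ.filter (fun j : Fin k => i.val ≤ j.val), b j) (Finset.mem_univ (Fin.last k)))
    have h1 : Finset.univ.filter (fun j : Fin k => (Fin.last k).val ≤ j.val) = ∅ := by
      ext j
      simp only [Finset.mem_filter, Finset.mem_univ, true_and, Fin.val_last, Finset.notMem_empty,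
        iff_false, not_le]
      exact j.2
    have h2 : Finset.univ.filter (fun j : Fin (k + 1) => Fin.last k ≤ j) = {Fin.last k} := by
      ext j
      simp only [Finset.mem_filter, Finset.mem_univ, true_and, Finset.mem_singleton]
      exact Fin.last_le_iff
    rw [h1, h2, Finset.sum_empty, Finset.sum_singleton, tsub_zero]
    exact hc
  have hsup : (Finset.univ.sup fun i : Fin (k + 1 + 1) =>
      (∑ j ∈ Finset.univ.filter (fun j : Fin (k + 1 + 1) => i ≤ j),
        Fin.snoc (α := fun _ => ℕ∞) c 0 j) -
      ∑ j ∈ Finset.univ.filter (fun j : Fin (k + 1) => i.val ≤ j.val),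
        Fin.snoc (α := fun _ => ℕ∞) b β j) ≤ s - 1 := by
    apply Finset.sup_le
    intro i _
    induction i using Fin.lastCases with
    | last =>
      have h2 : Finset.univ.filter (fun j : Fin (k + 1 + 1) => Fin.last (k + 1) ≤ j) =
          {Fin.last (k + 1)} := by
        ext j
        simp only [Finset.mem_filter, Finset.mem_univ, true_and, Finset.mem_singleton]
        exact Fin.last_le_iff
      rw [h2, Finset.sum_singleton, Fin.snoc_last, zero_tsub]
      exact zero_le
    | cast i =>
      have hC : ∑ j ∈ Finset.univ.filter (fun j : Fin (k + 1 + 1) => i.castSucc ≤ j),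
          Fin.snoc (α := fun _ => ℕ∞) c 0 j =
          ∑ j ∈ Finset.univ.filter (fun j : Fin (k + 1) => i ≤ j), c j := by
        rw [Finset.sum_filter, Finset.sum_filter, Fin.sum_univ_castSucc]
        simp [Fin.snoc_castSucc, Fin.snoc_last]
      have hB : ∑ j ∈ Finset.univ.filter (fun j : Fin (k + 1) => i.castSucc.val ≤ j.val),
          Fin.snoc (α := fun _ => ℕ∞) b β j =
          (∑ j ∈ Finset.univ.filter (fun j : Fin k => i.val ≤ j.val), b j) + β := by
        rw [Finset.sum_filter, Finset.sum_filter, Fin.sum_univ_castSucc]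
        simp only [Fin.snoc_castSucc, Fin.snoc_last, Fin.val_castSucc, Fin.val_last]
        rw [if_pos (Nat.lt_succ_iff.mp i.2)]
      rw [hC, hB, ← tsub_tsub]
      refine le_trans (tsub_le_tsub_left hβ _) (tsub_le_tsub_right ?_ _)
      exact Finset.le_sup (f := fun i : Fin (k + 1) =>
        (∑ j ∈ Finset.univ.filter (fun j : Fin (k + 1) => i ≤ j), c j) -
          ∑ j ∈ Finset.univ.filter (fun j : Fin k => i.val ≤ j.val), b j) (Finset.mem_univ i)
  calc ((k + 1 : ℕ) : ℕ∞) + _ ≤ ((k + 1 : ℕ) : ℕ∞) + (s - 1) := by gcongr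
    _ = (k : ℕ∞) + (1 + (s - 1)) := by push_cast; rw [add_assoc]
    _ = (k : ℕ∞) + s := by rw [add_tsub_cancel_of_le hs1]

theorem val_le_of (k : ℕ) (c : Fin (k + 1) → ℕ∞) (b : Fin k → ℕ∞) (hlast : c (Fin.last k) = 0)
    (hcb : ∀ j : Fin k, c j.castSucc ≤ b j) : val k c b ≤ k := by
  unfold val
  have hsup : (Finset.univ.sup fun i : Fin (k + 1) =>
      (∑ j ∈ Finset.univ.filter (fun j : Fin (k + 1) => i ≤ j), c j) -
        ∑ j ∈ Finset.univ.filter (fun j : Fin k => i.val ≤ j.val), b j) ≤ 0 := by
    apply Finset.sup_le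
    intro i _
    rw [nonpos_iff_eq_zero, tsub_eq_zero_iff_le, Finset.sum_filter, Finset.sum_filter,
      Fin.sum_univ_castSucc, hlast]
    simp only [ite_self, add_zero]
    apply Finset.sum_le_sum
    intro j _
    by_cases hij : i ≤ j.castSucc
    · have hij' : i.val ≤ j.val := hij
      rw [if_pos hij, if_pos hij']
      exact hcb j
    · have hij' : ¬ i.val ≤ j.val := hij
      rw [if_neg hij, if_neg hij']
  calc (k : ℕ∞) + _ ≤ (k : ℕ∞) + 0 := by gcongr
    _ = k := add_zero _

/-- Construction A: append the pair `(y', y')` to a system for `y`, when `y ⤳ y'`. -/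
def snocSys {Z : Set Y} {y : Y} {k : ℕ} (S : DSystem Z y k) (y' : Y) (h : y ⤳ y') :
    DSystem Z y' (k + 1) where
  v := Fin.snoc (α := fun _ => Y) S.v y'
  w := Fin.snoc (α := fun _ => Y) S.w y'
  spec := by
    intro i
    induction i using Fin.lastCases with
    | last => simp only [Fin.snoc_last]; exact specializes_rfl
    | cast i => simp only [Fin.snoc_castSucc]; exact S.spec i
  spec_succ := by
    intro i
    induction i using Fin.lastCases with
    | last =>
      rw [Fin.succ_last, Fin.snoc_last, Fin.snoc_castSucc, S.last_eq]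
      exact h
    | cast i =>
      rw [Fin.succ_castSucc, Fin.snoc_castSucc, Fin.snoc_castSucc]
      exact S.spec_succ i
  start_mem := by
    have : (0 : Fin (k + 1 + 1)) = Fin.castSucc (0 : Fin (k + 1)) := rfl
    rw [this, Fin.snoc_castSucc]
    exact S.start_mem
  last_eq := by simp only [Fin.snoc_last]

theorem snocSys_c {Z : Set Y} {y : Y} {k : ℕ} (S : DSystem Z y k) (y' : Y) (h : y ⤳ y') :
    (snocSys S y' h).c = Fin.snoc (α := fun _ => ℕ∞) S.c 0 := by
  funext i
  induction i using Fin.lastCases with
  | last =>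
    rw [Fin.snoc_last]
    unfold DSystem.c
    rw [codimPt_congr (w' := y') (v' := y') (by simp [snocSys]) (by simp [snocSys]) _
      specializes_rfl]
    exact codimPt_self _ _
  | cast i =>
    rw [Fin.snoc_castSucc]
    unfold DSystem.c
    exact codimPt_congr (by simp [snocSys]) (by simp [snocSys]) _ _

theorem snocSys_b {Z : Set Y} {y : Y} {k : ℕ} (S : DSystem Z y k) (y' : Y) (h : y ⤳ y') :
    (snocSys S y' h).b = Fin.snoc (α := fun _ => ℕ∞) S.b
      (codimPt (S.w (Fin.last k)) y' (S.last_eq.symm ▸ h)) := by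
  funext i
  induction i using Fin.lastCases with
  | last =>
    rw [Fin.snoc_last]
    unfold DSystem.b
    exact codimPt_congr (by simp [snocSys]) (by simp [snocSys, Fin.succ_last]) _ _
  | cast i =>
    rw [Fin.snoc_castSucc]
    unfold DSystem.b
    exact codimPt_congr (by simp [snocSys]) (by simp only [snocSys, Fin.succ_castSucc, Fin.snoc_castSucc]) _ _

theorem last_spec {Z : Set Y} {y : Y} {k : ℕ} (S : DSystem Z y k) {y' : Y} (h : y ⤳ y') :
    S.w (Fin.last k) ⤳ y' := by
  rw [S.last_eq]
  exact h

/-- Construction B: replace the last pair of a system by `(y', y')`, when the last codimension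
vanishes and `y ⤳ y'`. -/
noncomputable def replaceLast {Z : Set Y} (hZ : IsClosed Z) {y : Y} {k : ℕ} (S : DSystem Z y k)
    (y' : Y) (h : y ⤳ y') (h0 : S.v (Fin.last k) ⤳ S.w (Fin.last k)) : DSystem Z y' k where
  v := Function.update S.v (Fin.last k) y'
  w := Function.update S.w (Fin.last k) y'
  spec := by
    intro i
    by_cases hi : i = Fin.last k
    · subst hi
      simp only [Function.update_self]
      exact specializes_rfl
    · rw [Function.update_of_ne hi, Function.update_of_ne hi]
      exact S.spec i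
  spec_succ := by
    intro i
    rw [Function.update_of_ne (Fin.castSucc_lt_last i).ne]
    by_cases hi : i.succ = Fin.last k
    · rw [hi, Function.update_self]
      have h1 := S.spec_succ i
      rw [hi] at h1
      exact (h1.trans h0).trans (last_spec S h)
    · rw [Function.update_of_ne hi]
      exact S.spec_succ i
  start_mem := by
    by_cases hi : (0 : Fin (k + 1)) = Fin.last k
    · rw [hi, Function.update_self]
      have h1 : S.v (Fin.last k) ∈ Z := hi ▸ S.start_mem
      exact (h0.trans (last_spec S h)).mem_closed hZ h1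
    · rw [Function.update_of_ne hi]
      exact S.start_mem
  last_eq := by simp only [Function.update_self]

theorem replaceLast_delta_le {Z : Set Y} (hZ : IsClosed Z) {y : Y} {k : ℕ} (S : DSystem Z y k)
    (y' : Y) (h : y ⤳ y') (h0 : S.v (Fin.last k) ⤳ S.w (Fin.last k)) :
    (replaceLast hZ S y' h h0).delta ≤ S.delta := by
  rw [delta_eq_val, delta_eq_val]
  apply val_mono
  · intro i
    unfold DSystem.c
    by_cases hi : i = Fin.last k
    · subst hi
      rw [codimPt_congr (w' := y') (v' := y') (by simp [replaceLast]) (by simp [replaceLast]) _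
        specializes_rfl, codimPt_self]
      exact zero_le
    · exact le_of_eq (codimPt_congr (by simp [replaceLast, Function.update_of_ne hi])
        (by simp [replaceLast, Function.update_of_ne hi]) _ _)
  · intro i
    unfold DSystem.b
    have hw : (replaceLast hZ S y' h h0).w i.castSucc = S.w i.castSucc := by
      simp [replaceLast]
    by_cases hi : i.succ = Fin.last k
    · have hv : (replaceLast hZ S y' h h0).v i.succ = y' := by
        simp [replaceLast, hi]
      have h1 : S.v i.succ ⤳ y' := by
        rw [hi]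
        exact h0.trans (last_spec S h)
      rw [codimPt_congr hw hv _ ((S.spec_succ i).trans h1)]
      exact codimPt_mono_right _ h1 _
    · exact le_of_eq (codimPt_congr hw.symm
        (by simp [replaceLast, Function.update_of_ne hi]) _ _)

theorem deltaZ_le {Z : Set Y} {y : Y} {k : ℕ} (S : DSystem Z y k) : deltaZ Z y ≤ S.delta :=
  iInf_le_of_le k (iInf_le _ S)

end

section OpenEmbedding
variable {X : Type u} {Y : Type u} [TopologicalSpace X] [TopologicalSpace Y] {f : X → Y}

theorem codimPt_map (hf : Topology.IsOpenEmbedding f) {w v : X} (h : w ⤳ v) (h' : f w ⤳ f v) :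
    codimPt (f w) (f v) h' = codimPt w v h := by
  apply le_antisymm
  · -- a strictly monotone map `Ici (f v) → Ici v`
    have hex : ∀ z : Set.Ici (Specialization.toEquiv (f v)),
        ∃ x : X, f x = Specialization.ofEquiv z.1 := by
      intro z
      have hz : Specialization.ofEquiv z.1 ⤳ f v := Specialization.toEquiv_le_toEquiv.mp z.2
      exact hz.mem_open hf.isOpen_range ⟨v, rfl⟩
    choose g hg using hex
    have hgmem : ∀ z, Specialization.toEquiv (g z) ∈ Set.Ici (Specialization.toEquiv v) := by
      intro z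
      rw [Set.mem_Ici, Specialization.toEquiv_le_toEquiv, ← hf.isInducing.specializes_iff, hg]
      exact Specialization.toEquiv_le_toEquiv.mp z.2
    let G : Set.Ici (Specialization.toEquiv (f v)) → Set.Ici (Specialization.toEquiv v) :=
      fun z => ⟨Specialization.toEquiv (g z), hgmem z⟩
    have hG : StrictMono G := by
      intro a b hab
      have hle : ∀ a b : Set.Ici (Specialization.toEquiv (f v)), a ≤ b ↔ G a ≤ G b := by
        intro a b
        change a.1 ≤ b.1 ↔ Specialization.toEquiv (g a) ≤ Specialization.toEquiv (g b)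
        rw [Specialization.toEquiv_le_toEquiv, ← hf.isInducing.specializes_iff, hg, hg]
        exact Iff.rfl
      rw [lt_iff_le_not_ge] at hab ⊢
      exact ⟨(hle a b).mp hab.1, fun hcon => hab.2 ((hle b a).mpr hcon)⟩
    rw [codimPt, codimPt]
    refine (Order.height_le_height_apply_of_strictMono G hG _).trans (le_of_eq ?_)
    congr 1
    apply Subtype.ext
    change Specialization.toEquiv (g _) = Specialization.toEquiv w
    congr 1
    apply hf.injective
    rw [hg]
    rfl
  · let G : Set.Ici (Specialization.toEquiv v) → Set.Ici (Specialization.toEquiv (f v)) :=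
      fun x => ⟨Specialization.toEquiv (f (Specialization.ofEquiv x.1)), by
        rw [Set.mem_Ici, Specialization.toEquiv_le_toEquiv, hf.isInducing.specializes_iff]
        exact Specialization.toEquiv_le_toEquiv.mp x.2⟩
    have hG : StrictMono G := by
      intro a b hab
      have hle : ∀ a b : Set.Ici (Specialization.toEquiv v), a ≤ b ↔ G a ≤ G b := by
        intro a b
        change a.1 ≤ b.1 ↔ Specialization.toEquiv (f (Specialization.ofEquiv a.1)) ≤
          Specialization.toEquiv (f (Specialization.ofEquiv b.1))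
        rw [Specialization.toEquiv_le_toEquiv, hf.isInducing.specializes_iff]
        exact Iff.rfl
      rw [lt_iff_le_not_ge] at hab ⊢
      exact ⟨(hle a b).mp hab.1, fun hcon => hab.2 ((hle b a).mpr hcon)⟩
    rw [codimPt, codimPt]
    exact Order.height_le_height_apply_of_strictMono G hG _

/-- The image of a system under an open embedding. -/
def mapSys (hf : Topology.IsOpenEmbedding f) {Z : Set Y} {x : X} {k : ℕ}
    (S : DSystem (f ⁻¹' Z) x k) : DSystem Z (f x) k where
  v := fun i => f (S.v i)
  w := fun i => f (S.w i)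
  spec := fun i => (S.spec i).map hf.continuous
  spec_succ := fun i => (S.spec_succ i).map hf.continuous
  start_mem := S.start_mem
  last_eq := by rw [S.last_eq]

theorem mapSys_delta (hf : Topology.IsOpenEmbedding f) {Z : Set Y} {x : X} {k : ℕ}
    (S : DSystem (f ⁻¹' Z) x k) : (mapSys hf S).delta = S.delta := by
  rw [delta_eq_val, delta_eq_val]
  congr 1
  · funext i
    exact codimPt_map hf _ _
  · funext i
    exact codimPt_map hf _ _

theorem deltaZ_map_le (hf : Topology.IsOpenEmbedding f) (Z : Set Y) (x : X) :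
    deltaZ Z (f x) ≤ deltaZ (f ⁻¹' Z) x := by
  unfold deltaZ
  refine le_iInf₂ fun k S => ?_
  change deltaZ Z (f x) ≤ S.delta
  rw [← mapSys_delta hf S]
  exact deltaZ_le _

end OpenEmbedding

end Groth.Agent.Lib.helper13.DeltaZ
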