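import Mathlib
import Groth.Prelude.Def_Algz

/-!
Codimension of points via a dimension function (helper13's helper library).
-/

set_option autoImplicit false

namespace Groth.Agent.Lib.helper13.DimFun

open Algz

universe u

section
variable {X : Type u} [TopologicalSpace X] (δ : X → ℤ)
  (hδ : ∀ x y : X, x ⤳ y → x ≠ y →
    δ y < δ x ∧ ((∀ z : X, x ⤳ z → z ⤳ y → z = x ∨ z = y) → δ x = δ y + 1))

include hδ

theorem le_of_specializes {w v : X} (h : w ⤳ v) : δ v ≤ δ w := by
  by_cases hwv : w = v
  · rw [hwv]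
  · exact (hδ w v h hwv).1.le

theorem lt_of_lt {v : X} {a b : Set.Ici (Specialization.toEquiv v)} (hab : a < b) :
    δ (Specialization.ofEquiv a.1) < δ (Specialization.ofEquiv b.1) := by
  have h1 : Specialization.ofEquiv b.1 ⤳ Specialization.ofEquiv a.1 :=
    Specialization.ofEquiv_specializes_ofEquiv.mpr hab.le
  have h2 : Specialization.ofEquiv b.1 ≠ Specialization.ofEquiv a.1 := by
    intro hcon
    have : b.1 = a.1 := hcon
    exact absurd hab (by rw [Subtype.ext this.symm]; exact lt_irrefl _)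
  exact (hδ _ _ h1 h2).1

theorem codimPt_le {w v : X} (h : w ⤳ v) : codimPt w v h ≤ ((δ w - δ v).toNat : ℕ∞) := by
  rw [codimPt, Order.height_le_iff]
  intro p hp
  -- `δ` increases strictly along the series
  have hstep : ∀ (i : ℕ) (hi : i < p.length + 1),
      δ (Specialization.ofEquiv (p 0).1) + i ≤ δ (Specialization.ofEquiv (p ⟨i, hi⟩).1) := by
    intro i
    induction i with
    | zero => intro hi; simp
    | succ i ih =>
      intro hi
      have h1 := ih (by omega)
      have hlt : p ⟨i, by omega⟩ < p ⟨i + 1, hi⟩ := p.strictMono (by simp [Fin.lt_def])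
      have h2 := lt_of_lt δ hδ hlt
      push_cast
      omega
  have h1 := hstep p.length (by omega)
  have hlast : p ⟨p.length, by omega⟩ = p.last := rfl
  rw [hlast] at h1
  have h2 : δ (Specialization.ofEquiv p.last.1) ≤ δ w :=
    le_of_specializes δ hδ (Specialization.ofEquiv_specializes_ofEquiv.mpr hp)
  have h3 : δ v ≤ δ (Specialization.ofEquiv (p 0).1) :=
    le_of_specializes δ hδ (Specialization.ofEquiv_specializes_ofEquiv.mpr (p 0).2)
  have h4 : p.length ≤ (δ w - δ v).toNat := by omega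
  exact_mod_cast h4

theorem le_codimPt [T0Space X] {w v : X} (h : w ⤳ v) :
    ((δ w - δ v).toNat : ℕ∞) ≤ codimPt w v h := by
  generalize hd : (δ w - δ v).toNat = d
  induction d generalizing w with
  | zero => exact zero_le
  | succ d ih =>
    have hvw := le_of_specializes δ hδ h
    have hne : w ≠ v := by
      rintro rfl
      simp at hd
    -- choose `x` with `w ⤳ x ⤳ v`, `x ≠ w` and `δ x` maximal
    have hex : ∃ ub : ℤ, (∃ x : X, w ⤳ x ∧ x ⤳ v ∧ x ≠ w ∧ δ x = ub) ∧
        ∀ z : ℤ, (∃ x : X, w ⤳ x ∧ x ⤳ v ∧ x ≠ w ∧ δ x = z) → z ≤ ub := by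
      apply Int.exists_greatest_of_bdd
      · refine ⟨δ w, ?_⟩
        rintro z ⟨x, hwx, -, -, rfl⟩
        exact le_of_specializes δ hδ hwx
      · exact ⟨δ v, v, h, specializes_rfl, hne.symm, rfl⟩
    obtain ⟨ub, ⟨x, hwx, hxv, hxw, rfl⟩, hmax⟩ := hex
    have himm : ∀ t : X, w ⤳ t → t ⤳ x → t = w ∨ t = x := by
      intro t hwt htx
      by_cases htw : t = w
      · exact Or.inl htw
      · right
        by_contra htx'
        have h1 := hmax (δ t) ⟨t, hwt, htx.trans hxv, htw, rfl⟩
        have h2 := (hδ t x htx htx').1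
        omega
    have hδw : δ w = δ x + 1 := (hδ w x hwx (Ne.symm hxw)).2 himm
    have hdx : (δ x - δ v).toNat = d := by omega
    have ihx := ih hxv hdx
    -- `x < w` in `Ici v`
    have hlt : (⟨Specialization.toEquiv x, Specialization.toEquiv_le_toEquiv.mpr hxv⟩ :
        Set.Ici (Specialization.toEquiv v)) <
        ⟨Specialization.toEquiv w, Specialization.toEquiv_le_toEquiv.mpr h⟩ := by
      rw [lt_iff_le_not_ge]
      refine ⟨Specialization.toEquiv_le_toEquiv.mpr hwx, fun hcon => ?_⟩
      have hxw' : x ⤳ w := Specialization.toEquiv_le_toEquiv.mp hcon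
      exact hxw ((hxw'.antisymm hwx).eq)
    have h3 := Order.height_add_one_le hlt
    rw [codimPt]
    rw [codimPt] at ihx
    calc ((d + 1 : ℕ) : ℕ∞) = (d : ℕ∞) + 1 := by push_cast; rfl
      _ ≤ _ := (add_le_add_left ihx 1).trans h3

theorem codimPt_eq [T0Space X] {w v : X} (h : w ⤳ v) :
    codimPt w v h = ((δ w - δ v).toNat : ℕ∞) :=
  le_antisymm (codimPt_le δ hδ h) (le_codimPt δ hδ h)

end

end Groth.Agent.Lib.helper13.DimFun
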