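import Mathlib

/-!
# Sums of polynomial values over finite fields (refined Chevalley–Warning)

For a homogeneous polynomial `g` of degree `(q-1) * |σ|` over a finite field `K` with `q`
elements, `∑ x, g x = (-1)^|σ| * (coefficient of ∏ xᵢ^(q-1))`.
-/

namespace Groth.Agent.Lib.helper13.FFSums

open MvPolynomial Finset

variable {K σ : Type*} [Field K] [Fintype K] [Fintype σ] [DecidableEq σ]

theorem sum_prod_pow (d : σ → ℕ) :
    ∑ x : σ → K, ∏ i, x i ^ d i = ∏ i, ∑ a : K, a ^ d i := by
  rw [Finset.prod_univ_sum]
  simp [Fintype.piFinset_univ]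

theorem card_sub_one_pos : 0 < Fintype.card K - 1 := by
  have := Fintype.one_lt_card (α := K)
  omega

theorem sum_pow_card_sub_one : ∑ a : K, a ^ (Fintype.card K - 1) = -1 := by
  classical
  have hq : 0 < Fintype.card K - 1 := card_sub_one_pos
  rw [← Finset.sum_erase (s := Finset.univ) (a := (0 : K))
    (f := fun a : K => a ^ (Fintype.card K - 1)) (zero_pow hq.ne')]
  rw [Finset.sum_congr rfl (fun a ha =>
    FiniteField.pow_card_sub_one_eq_one a (Finset.ne_of_mem_erase ha))]
  rw [Finset.sum_const, Finset.card_erase_of_mem (Finset.mem_univ _), Finset.card_univ,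
    nsmul_eq_mul, mul_one, Nat.cast_sub (by omega : 1 ≤ Fintype.card K),
    FiniteField.cast_card_eq_zero]
  simp

/-- The exponent vector `(q-1, …, q-1)`. -/
noncomputable def top (K σ : Type*) [Fintype K] [Fintype σ] : σ →₀ ℕ :=
  Finsupp.equivFunOnFinite.symm fun _ : σ => Fintype.card K - 1

omit [DecidableEq σ] [Field K] in
theorem exists_lt_of_ne_top {d : σ →₀ ℕ}
    (hd : d.degree = (Fintype.card K - 1) * Fintype.card σ) (hne : d ≠ top K σ) :
    ∃ i, d i < Fintype.card K - 1 := by
  classical
  by_contra hcon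
  push Not at hcon
  apply hne
  rw [Finsupp.degree_eq_sum] at hd
  have h0 : ∑ i, (d i - (Fintype.card K - 1)) = 0 := by
    have h1 : ∑ i, (d i - (Fintype.card K - 1)) + ∑ _i : σ, (Fintype.card K - 1) = ∑ i, d i := by
      rw [← Finset.sum_add_distrib]
      apply Finset.sum_congr rfl
      intro i _
      exact Nat.sub_add_cancel (hcon i)
    rw [Finset.sum_const, Finset.card_univ, smul_eq_mul, hd, mul_comm] at h1
    omega
  ext i
  have := (Finset.sum_eq_zero_iff.mp h0) i (Finset.mem_univ i)
  have h2 := hcon i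
  simp only [top, Finsupp.equivFunOnFinite_symm_apply_apply]
  omega

theorem sum_eval_of_isHomogeneous (g : MvPolynomial σ K)
    (hg : g.IsHomogeneous ((Fintype.card K - 1) * Fintype.card σ)) :
    ∑ x : σ → K, eval x g = (-1) ^ Fintype.card σ * coeff (top K σ) g := by
  classical
  calc ∑ x : σ → K, eval x g
      = ∑ x : σ → K, ∑ d ∈ g.support, g.coeff d * ∏ i, x i ^ d i := by
        simp only [eval_eq']
    _ = ∑ d ∈ g.support, ∑ x : σ → K, g.coeff d * ∏ i, x i ^ d i := sum_comm
    _ = ∑ d ∈ g.support, g.coeff d * ∏ i, ∑ a : K, a ^ d i := by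
        apply Finset.sum_congr rfl
        intro d _
        rw [← Finset.mul_sum, sum_prod_pow]
    _ = g.coeff (top K σ) * ∏ i, ∑ a : K, a ^ (top K σ) i := by
        apply Finset.sum_eq_single
        · intro d hd hne
          have hdeg : d.degree = (Fintype.card K - 1) * Fintype.card σ := by
            have := hg (mem_support_iff.mp hd)
            rw [Finsupp.degree_eq_weight_one]
            exact this
          obtain ⟨i, hi⟩ := exists_lt_of_ne_top hdeg hne
          rw [Finset.prod_eq_zero (Finset.mem_univ i)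
            (FiniteField.sum_pow_lt_card_sub_one K _ hi), mul_zero]
        · intro h
          rw [notMem_support_iff.mp h, zero_mul]
    _ = (-1) ^ Fintype.card σ * coeff (top K σ) g := by
        have : ∀ i, ∑ a : K, a ^ (top K σ) i = -1 := by
          intro i
          simp only [top, Finsupp.equivFunOnFinite_symm_apply_apply]
          exact sum_pow_card_sub_one
        rw [Finset.prod_congr rfl (fun i _ => this i), Finset.prod_const, Finset.card_univ,
          mul_comm]

/-- The number of zeros of `f` (as an element of `K`) in terms of `∑ f^(q-1)`. -/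
theorem card_zeros_cast [Nonempty σ] (f : MvPolynomial σ K) :
    ((Nat.card {x : σ → K // eval x f = 0} : ℕ) : K) =
      - ∑ x : σ → K, eval x (f ^ (Fintype.card K - 1)) := by
  classical
  have hq : 0 < Fintype.card K - 1 := card_sub_one_pos
  have h1 : ∀ x : σ → K, eval x (f ^ (Fintype.card K - 1)) =
      if eval x f = 0 then 0 else 1 := by
    intro x
    rw [map_pow]
    split_ifs with h
    · rw [h, zero_pow hq.ne']
    · exact FiniteField.pow_card_sub_one_eq_one _ h
  have h2 : ∑ x : σ → K, ((if eval x f = 0 then (1 : K) else 0) +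
      eval x (f ^ (Fintype.card K - 1))) = 0 := by
    have : ∀ x : σ → K, ((if eval x f = 0 then (1 : K) else 0) +
        eval x (f ^ (Fintype.card K - 1))) = 1 := by
      intro x
      rw [h1]
      split_ifs <;> simp
    rw [Finset.sum_congr rfl (fun x _ => this x), Finset.sum_const, Finset.card_univ,
      nsmul_eq_mul, mul_one, Fintype.card_fun, Nat.cast_pow, FiniteField.cast_card_eq_zero]
    exact zero_pow Fintype.card_ne_zero
  rw [Finset.sum_add_distrib] at h2
  rw [Nat.card_eq_fintype_card, Fintype.card_subtype, Finset.card_filter, Nat.cast_sum]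
  rw [eq_neg_iff_add_eq_zero]
  convert h2 using 2
  apply Finset.sum_congr rfl
  intro x _
  split_ifs <;> simp

/-! ### Coefficient of `(∏ xᵢ)^(pm-1)` in `g^p * h` -/

section coeff

variable {R : Type*} [CommRing R]

/-- The constant exponent vector. -/
noncomputable def cst (σ : Type*) [Fintype σ] (c : ℕ) : σ →₀ ℕ :=
  Finsupp.equivFunOnFinite.symm fun _ : σ => c

omit [DecidableEq σ] in
@[simp] theorem cst_apply (c : ℕ) (i : σ) : cst σ c i = c := rfl

omit [DecidableEq σ] in
theorem exists_lt_of_ne_cst {d : σ →₀ ℕ} {c : ℕ}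
    (hd : d.degree = c * Fintype.card σ) (hne : d ≠ cst σ c) :
    ∃ i, d i < c := by
  classical
  by_contra hcon
  push Not at hcon
  apply hne
  rw [Finsupp.degree_eq_sum] at hd
  have h0 : ∑ i, (d i - c) = 0 := by
    have h1 : ∑ i, (d i - c) + ∑ _i : σ, c = ∑ i, d i := by
      rw [← Finset.sum_add_distrib]
      apply Finset.sum_congr rfl
      intro i _
      exact Nat.sub_add_cancel (hcon i)
    rw [Finset.sum_const, Finset.card_univ, smul_eq_mul, hd, mul_comm] at h1
    omega
  ext i
  have := (Finset.sum_eq_zero_iff.mp h0) i (Finset.mem_univ i)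
  have h2 := hcon i
  simp only [cst_apply]
  omega

theorem coeff_pow_mul (p : ℕ) [hp : Fact p.Prime] [CharP R p] (m : ℕ) (hm : 1 ≤ m)
    (g h : MvPolynomial σ R) (hh : h.IsHomogeneous ((p - 1) * Fintype.card σ)) :
    coeff (cst σ (p * m - 1)) (g ^ p * h) =
      (coeff (cst σ (m - 1)) g) ^ p * coeff (cst σ (p - 1)) h := by
  classical
  have hp0 : p ≠ 0 := hp.out.ne_zero
  have hp1 : 1 ≤ p := hp.out.one_lt.le
  have hgp : ∀ d : σ →₀ ℕ, coeff d (g ^ p) = (coeff d (expand p g)) ^ p := by
    intro d
    rw [← MvPolynomial.map_frobenius_expand p, coeff_map, frobenius_def]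
  have hsplit : cst σ (p * m - 1) = p • cst σ (m - 1) + cst σ (p - 1) := by
    ext i
    simp only [cst_apply, Finsupp.coe_add, Finsupp.coe_smul, Pi.add_apply, Pi.smul_apply,
      smul_eq_mul]
    have : p * (m - 1) = p * m - p := by rw [Nat.mul_sub, mul_one]
    have h2 : p ≤ p * m := Nat.le_mul_of_pos_right p hm
    omega
  rw [coeff_mul]
  rw [Finset.sum_eq_single (p • cst σ (m - 1), cst σ (p - 1))]
  · rw [hgp, coeff_expand_smul p hp0]
  · intro x hx hne
    rw [Finset.HasAntidiagonal.mem_antidiagonal] at hx
    by_contra hterm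
    have h1 : coeff x.1 (g ^ p) ≠ 0 := left_ne_zero_of_mul hterm
    have h2 : coeff x.2 h ≠ 0 := right_ne_zero_of_mul hterm
    have hdvd : ∀ i, p ∣ x.1 i := by
      intro i
      by_contra hnd
      apply h1
      rw [hgp, coeff_expand_of_not_dvd g hnd, zero_pow hp0]
    have hdeg : x.2.degree = (p - 1) * Fintype.card σ := by
      have := hh h2
      rw [Finsupp.degree_eq_weight_one]
      exact this
    have hx2 : x.2 = cst σ (p - 1) := by
      by_contra hne2
      obtain ⟨i, hi⟩ := exists_lt_of_ne_cst hdeg hne2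
      have hsum : x.1 i + x.2 i = p * m - 1 := by
        have := congrArg (fun d : σ →₀ ℕ => d i) hx
        simpa using this
      obtain ⟨t, ht⟩ := hdvd i
      have h3 : p ≤ p * m := Nat.le_mul_of_pos_right p hm
      have h4 : p * t + x.2 i + 1 = p * m := by omega
      have h5 : p ∣ x.2 i + 1 := by
        have : p ∣ p * m := dvd_mul_right p m
        rw [← h4, add_assoc] at this
        exact (Nat.dvd_add_right (dvd_mul_right p t)).mp this
      have h6 : p ≤ x.2 i + 1 := Nat.le_of_dvd (Nat.succ_pos _) h5
      omega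
    apply hne
    have hx1 : x.1 = p • cst σ (m - 1) := by
      have h7 : x.1 + x.2 = p • cst σ (m - 1) + cst σ (p - 1) := by rw [hx, hsplit]
      rw [hx2] at h7
      exact add_right_cancel h7
    exact Prod.ext hx1 hx2
  · intro hnot
    exfalso
    apply hnot
    rw [Finset.HasAntidiagonal.mem_antidiagonal]
    exact hsplit.symm

end coeff

end Groth.Agent.Lib.helper13.FFSums
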