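import Mathlib

/-!
# Split filtrations on finite products (helper13)
-/

set_option autoImplicit false
set_option linter.unusedSectionVars false
universe u v w

namespace Groth.Agent.Lib.helper13.FiltSplit

open Submodule

variable {R : Type u} [CommRing R] {A : Type v} [Fintype A] {M : A → Type v}
  [∀ a, AddCommGroup (M a)] [∀ a, Module R (M a)]

/-- `Submodule.pi univ` commutes with `iSup` over any index sort (finite product). -/
lemma pi_iSup {ι : Sort*} (N : ∀ a, ι → Submodule R (M a)) :
    Submodule.pi Set.univ (fun a => ⨆ i, N a i) = ⨆ i, Submodule.pi Set.univ (fun a => N a i) := by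
  classical
  apply le_antisymm
  · intro x hx
    rw [← Finset.univ_sum_single x]
    refine Submodule.sum_mem _ (fun a _ => ?_)
    have hxa : x a ∈ ⨆ i, N a i := (Submodule.mem_pi.mp hx) a (Set.mem_univ a)
    have hmap : Submodule.map (LinearMap.single R M a) (⨆ i, N a i) ≤
        ⨆ i, Submodule.pi Set.univ (fun a => N a i) := by
      rw [Submodule.map_iSup]
      refine iSup_mono (fun i => ?_)
      rintro _ ⟨n, hn, rfl⟩
      rw [Submodule.mem_pi]
      intro b _
      by_cases hb : b = a
      · subst hb; simpa using hn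
      · simp [LinearMap.single_apply, Pi.single_eq_of_ne hb]
    exact hmap ⟨x a, hxa, rfl⟩
  · exact iSup_le (fun i => Submodule.pi_mono (fun a _ => le_iSup (N a) i))

/-- bounded version -/
lemma pi_biSup {ι : Type*} (q : ι → Prop) (N : ∀ a, ι → Submodule R (M a)) :
    Submodule.pi Set.univ (fun a => ⨆ i, ⨆ (_ : q i), N a i) =
      ⨆ i, ⨆ (_ : q i), Submodule.pi Set.univ (fun a => N a i) := by
  rw [pi_iSup]
  refine iSup_congr (fun i => ?_)
  rw [pi_iSup]

lemma pi_inf_eq_bot (N N' : ∀ a, Submodule R (M a)) (h : ∀ a, Disjoint (N a) (N' a)) :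
    Disjoint (Submodule.pi Set.univ N) (Submodule.pi Set.univ N') := by
  rw [Submodule.disjoint_def]
  intro x hx hx'
  funext a
  exact (Submodule.disjoint_def.mp (h a)) (x a) (Submodule.mem_pi.mp hx a (Set.mem_univ a))
    (Submodule.mem_pi.mp hx' a (Set.mem_univ a))

/-- the easy direction: componentwise gradings give a grading of the product. -/
theorem pi_split_of_forall {Γ : Type w} [LinearOrder Γ]
    (F : ∀ a, Γ → Submodule R (M a))
    (h : ∀ a, ∃ G : Γ → Submodule R (M a), DirectSum.IsInternal G ∧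
      ∀ γ, F a γ = ⨆ η ∈ Set.Ici γ, G η) :
    ∃ G : Γ → Submodule R (∀ a, M a), DirectSum.IsInternal G ∧
        ∀ γ, Submodule.pi Set.univ (fun a => F a γ) = ⨆ η ∈ Set.Ici γ, G η := by
  classical
  choose Ga hGa hFa using h
  refine ⟨fun γ => Submodule.pi Set.univ (fun a => Ga a γ), ?_, ?_⟩
  · rw [DirectSum.isInternal_submodule_iff_iSupIndep_and_iSup_eq_top]
    constructor
    · intro γ
      have : (⨆ η, ⨆ (_ : η ≠ γ), Submodule.pi Set.univ (fun a => Ga a η)) =
          Submodule.pi Set.univ (fun a => ⨆ η, ⨆ (_ : η ≠ γ), Ga a η) :=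
        (pi_biSup (fun η => η ≠ γ) Ga).symm
      rw [this]
      exact pi_inf_eq_bot _ _ (fun a => (hGa a).submodule_iSupIndep γ)
    · rw [← pi_iSup]
      have : (fun a => ⨆ i, Ga a i) = fun a => (⊤ : Submodule R (M a)) := by
        funext a; exact (hGa a).submodule_iSup_eq_top
      rw [this, Submodule.pi_top]
  · intro γ
    have : (fun a => F a γ) = fun a => ⨆ η, ⨆ (_ : η ∈ Set.Ici γ), Ga a η := by
      funext a; exact hFa a γ
    rw [this]
    exact pi_biSup (fun η => η ∈ Set.Ici γ) Ga

end Groth.Agent.Lib.helper13.FiltSplit
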