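import Mathlib

/-!
# A retract of a split filtered module is split (helper13)
-/

set_option autoImplicit false
set_option linter.unusedSectionVars false
universe u v w x

namespace Groth.Agent.Lib.helper13.FiltSplit

open Submodule

section retract

variable {R : Type u} [CommRing R] {M : Type v} [AddCommGroup M] [Module R M]
  {N : Type w} [AddCommGroup N] [Module R N] {Γ : Type x} [LinearOrder Γ]
  (G : Γ → Submodule R M) (ι : N →ₗ[R] M) (p : M →ₗ[R] N)

/-- `⨆ η ≥ γ, G η` -/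
def Fil (γ : Γ) : Submodule R M := ⨆ η ∈ Set.Ici γ, G η
/-- `⨆ η > γ, G η` -/
def Filp (γ : Γ) : Submodule R M := ⨆ η ∈ Set.Ioi γ, G η

lemma G_le_Fil (γ : Γ) : G γ ≤ Fil G γ :=
  le_iSup₂_of_le γ (Set.mem_Ici.mpr le_rfl) le_rfl

lemma Fil_anti : Antitone (Fil G) := by
  intro γ γ' h
  exact iSup₂_le (fun η hη => le_iSup₂_of_le η (Set.mem_Ici.mpr (h.trans hη)) le_rfl)

lemma Filp_le_Fil (γ : Γ) : Filp G γ ≤ Fil G γ :=
  iSup₂_le (fun η hη => le_iSup₂_of_le η (Set.mem_Ici.mpr (le_of_lt hη)) le_rfl)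

lemma Fil_le_Filp {γ η : Γ} (h : γ < η) : Fil G η ≤ Filp G γ :=
  iSup₂_le (fun ζ hζ => le_iSup₂_of_le ζ (Set.mem_Ioi.mpr (lt_of_lt_of_le h hζ)) le_rfl)

lemma Filp_eq (γ : Γ) : Filp G γ = ⨆ η ∈ Set.Ioi γ, Fil G η := by
  apply le_antisymm
  · exact iSup₂_le (fun η hη => le_iSup₂_of_le η hη (G_le_Fil G η))
  · exact iSup₂_le (fun η hη => Fil_le_Filp G hη)

lemma Fil_eq_sup (γ : Γ) : Fil G γ = G γ ⊔ Filp G γ := by
  apply le_antisymm
  · refine iSup₂_le (fun η hη => ?_)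
    rcases eq_or_lt_of_le (Set.mem_Ici.mp hη) with h | h
    · subst h; exact le_sup_left
    · exact le_sup_of_le_right (le_iSup₂_of_le η (Set.mem_Ioi.mpr h) le_rfl)
  · exact sup_le (G_le_Fil G γ) (Filp_le_Fil G γ)

lemma disjoint_G_Filp (hind : iSupIndep G) (γ : Γ) : Disjoint (G γ) (Filp G γ) := by
  refine (hind γ).mono_right ?_
  exact iSup₂_le (fun η hη => le_iSup₂_of_le η (ne_of_gt hη) le_rfl)

variable {G ι p}

/-- the idempotent preserves the strict filtration as well -/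
lemma e_Filp (he : ∀ γ, ∀ y ∈ Fil G γ, ι (p y) ∈ Fil G γ) (γ : Γ) :
    ∀ y ∈ Filp G γ, ι (p y) ∈ Filp G γ := by
  intro y hy
  have : Submodule.map (ι ∘ₗ p) (Filp G γ) ≤ Filp G γ := by
    conv_lhs => rw [Filp_eq]
    rw [Submodule.map_iSup]
    refine iSup_le (fun η => ?_)
    rw [Submodule.map_iSup]
    refine iSup_le (fun hη => ?_)
    rintro _ ⟨z, hz, rfl⟩
    exact Fil_le_Filp G hη (he η z hz)
  exact this ⟨y, hy, rfl⟩

variable (G ι p)

/-- the graded pieces of the retract -/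
def D (γ : Γ) : Submodule R M := G γ ⊓ Submodule.comap (ι ∘ₗ p - LinearMap.id) (Filp G γ)

def C (γ : Γ) : Submodule R N := Submodule.map p (D G ι p γ)

variable {G ι p}

lemma C_le (γ : Γ) : C G ι p γ ≤ Submodule.map p (Fil G γ) :=
  Submodule.map_mono (inf_le_left.trans (G_le_Fil G γ))

lemma disjoint_C (hind : iSupIndep G)
    (he : ∀ γ, ∀ y ∈ Fil G γ, ι (p y) ∈ Fil G γ) (γ : Γ) :
    Disjoint (C G ι p γ) (Submodule.map p (Filp G γ)) := by
  rw [Submodule.disjoint_def]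
  rintro x ⟨g, hg, rfl⟩ ⟨y, hy, hxy⟩
  have hg1 : g ∈ G γ := hg.1
  have hg2 : ι (p g) - g ∈ Filp G γ := by
    have := hg.2
    simpa using this
  have h3 : ι (p g) ∈ Filp G γ := by
    rw [← hxy]; exact e_Filp he γ y hy
  have h4 : g ∈ Filp G γ := by
    have := (Filp G γ).sub_mem h3 hg2
    simpa using this
  have : g = 0 := (Submodule.disjoint_def.mp (disjoint_G_Filp G hind γ)) g hg1 h4
  rw [this, map_zero]

lemma map_Fil_le_sup (hpι : ∀ x, p (ι x) = x)
    (he : ∀ γ, ∀ y ∈ Fil G γ, ι (p y) ∈ Fil G γ) (γ : Γ) :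
    Submodule.map p (Fil G γ) ≤ C G ι p γ ⊔ Submodule.map p (Filp G γ) := by
  rintro _ ⟨y, hy, rfl⟩
  have h1 : ι (p y) ∈ Fil G γ := he γ y hy
  rw [Fil_eq_sup, Submodule.mem_sup] at h1
  obtain ⟨g, hg, z, hz, hgz⟩ := h1
  have hgD : g ∈ D G ι p γ := by
    refine ⟨hg, ?_⟩
    show (ι ∘ₗ p - (LinearMap.id : M →ₗ[R] M)) g ∈ Filp G γ
    have hg' : g = ι (p y) - z := by rw [← hgz]; abel
    have h2 : ι (p (ι (p y))) = ι (p y) := by rw [hpι]
    have h3 : (ι ∘ₗ p - (LinearMap.id : M →ₗ[R] M)) g = -(ι (p z) - z) := by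
      simp only [LinearMap.sub_apply, LinearMap.comp_apply, LinearMap.id_apply]
      rw [hg', map_sub, map_sub, h2]
      abel
    rw [h3]
    exact (Filp G γ).neg_mem ((Filp G γ).sub_mem (e_Filp he γ z hz) hz)
  have : p y = p g + p z := by
    rw [← map_add, hgz, hpι]
  rw [this]
  exact Submodule.add_mem_sup ⟨g, hgD, rfl⟩ ⟨z, hz, rfl⟩

lemma map_Filp_le (S : Finset Γ) (hS : ∀ η, η ∉ S → G η = ⊥) (γ : Γ) :
    Submodule.map p (Filp G γ) ≤ ⨆ s, ⨆ (_ : s ∈ S ∧ γ < s), Submodule.map p (Fil G s) := by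
  unfold Filp
  rw [Submodule.map_iSup]
  refine iSup_le (fun η => ?_)
  rw [Submodule.map_iSup]
  refine iSup_le (fun hη => ?_)
  by_cases hηS : η ∈ S
  · exact le_iSup₂_of_le η ⟨hηS, hη⟩ (Submodule.map_mono (G_le_Fil G η))
  · rw [hS η hηS, Submodule.map_bot]; exact bot_le

lemma map_Fil_le_iSup_C (hpι : ∀ x, p (ι x) = x)
    (he : ∀ γ, ∀ y ∈ Fil G γ, ι (p y) ∈ Fil G γ)
    (S : Finset Γ) (hS : ∀ η, η ∉ S → G η = ⊥) :
    ∀ (k : ℕ) (γ : Γ), (S.filter (fun s => γ < s)).card = k →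
      Submodule.map p (Fil G γ) ≤ ⨆ η ∈ Set.Ici γ, C G ι p η := by
  intro k
  induction k using Nat.strong_induction_on with
  | _ k ih =>
    intro γ hk
    refine (map_Fil_le_sup hpι he γ).trans (sup_le ?_ ?_)
    · exact le_iSup₂_of_le γ (Set.mem_Ici.mpr le_rfl) le_rfl
    · refine (map_Filp_le S hS γ).trans (iSup₂_le (fun s hs => ?_))
      have hlt : (S.filter (fun t => s < t)).card < k := by
        rw [← hk]
        apply Finset.card_lt_card
        constructor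
        · intro t ht
          rw [Finset.mem_filter] at ht ⊢
          exact ⟨ht.1, hs.2.trans ht.2⟩
        · intro hsub
          have : s ∈ S.filter (fun t => s < t) := hsub (Finset.mem_filter.mpr ⟨hs.1, hs.2⟩)
          exact lt_irrefl s (Finset.mem_filter.mp this).2
      refine (ih _ hlt s rfl).trans ?_
      exact iSup₂_le (fun η hη => le_iSup₂_of_le η
        (Set.mem_Ici.mpr ((le_of_lt hs.2).trans (Set.mem_Ici.mp hη))) le_rfl)

theorem map_Fil_eq_iSup_C (hpι : ∀ x, p (ι x) = x)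
    (he : ∀ γ, ∀ y ∈ Fil G γ, ι (p y) ∈ Fil G γ)
    (S : Finset Γ) (hS : ∀ η, η ∉ S → G η = ⊥) (γ : Γ) :
    Submodule.map p (Fil G γ) = ⨆ η ∈ Set.Ici γ, C G ι p η := by
  apply le_antisymm
  · exact map_Fil_le_iSup_C hpι he S hS _ γ rfl
  · exact iSup₂_le (fun η hη => (C_le η).trans (Submodule.map_mono (Fil_anti G (Set.mem_Ici.mp hη))))

theorem iSup_C_eq_top [Nonempty Γ] (hpι : ∀ x, p (ι x) = x)
    (he : ∀ γ, ∀ y ∈ Fil G γ, ι (p y) ∈ Fil G γ)
    (S : Finset Γ) (hS : ∀ η, η ∉ S → G η = ⊥) (htop : iSup G = ⊤) :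
    iSup (C G ι p) = ⊤ := by
  obtain ⟨γ₀, hγ₀⟩ : ∃ γ₀ : Γ, ∀ s ∈ S, γ₀ ≤ s := by
    by_cases hne : S.Nonempty
    · exact ⟨S.min' hne, fun s hs => Finset.min'_le S s hs⟩
    · rw [Finset.not_nonempty_iff_eq_empty] at hne
      exact ⟨Classical.arbitrary Γ, fun s hs => by simp [hne] at hs⟩
  have h1 : Fil G γ₀ = ⊤ := by
    rw [eq_top_iff, ← htop]
    refine iSup_le (fun η => ?_)
    by_cases hη : η ∈ S
    · exact le_iSup₂_of_le η (Set.mem_Ici.mpr (hγ₀ η hη)) le_rfl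
    · rw [hS η hη]; exact bot_le
  have hsurj : Function.Surjective p := fun x => ⟨ι x, hpι x⟩
  have h2 : (⊤ : Submodule R N) = Submodule.map p (Fil G γ₀) := by
    rw [h1, Submodule.map_top, LinearMap.range_eq_top.mpr hsurj]
  rw [eq_top_iff, h2, map_Fil_eq_iSup_C hpι he S hS γ₀]
  exact iSup₂_le (fun η _ => le_iSup (C G ι p) η)

theorem iSupIndep_C (hind : iSupIndep G)
    (he : ∀ γ, ∀ y ∈ Fil G γ, ι (p y) ∈ Fil G γ) : iSupIndep (C G ι p) := by
  classical
  rw [iSupIndep_iff_finsetSum_eq_zero_imp_eq_zero]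
  intro s
  induction s using Finset.strongInduction with
  | H s ih =>
    intro v hv hsum i hi
    have hne : s.Nonempty := ⟨i, hi⟩
    set γ₀ := s.min' hne with hγ₀
    have hγ₀s : γ₀ ∈ s := Finset.min'_mem s hne
    have hv0 : v γ₀ = 0 := by
      have h1 : v γ₀ = -∑ j ∈ s.erase γ₀, v j := by
        rw [← Finset.add_sum_erase s v hγ₀s] at hsum
        exact eq_neg_of_add_eq_zero_left hsum
      have h2 : v γ₀ ∈ Submodule.map p (Filp G γ₀) := by
        rw [h1]
        refine Submodule.neg_mem _ (Submodule.sum_mem _ (fun j hj => ?_))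
        have hjs : j ∈ s := Finset.mem_of_mem_erase hj
        have hlt : γ₀ < j := lt_of_le_of_ne (Finset.min'_le s j hjs) (Finset.ne_of_mem_erase hj).symm
        exact Submodule.map_mono (Fil_le_Filp G hlt) (C_le j (hv j hjs))
      exact (Submodule.disjoint_def.mp (disjoint_C hind he γ₀)) _ (hv γ₀ hγ₀s) h2
    by_cases hiγ : i = γ₀
    · rw [hiγ, hv0]
    · have hsum' : ∑ j ∈ s.erase γ₀, v j = 0 := by
        rw [← Finset.add_sum_erase s v hγ₀s, hv0, zero_add] at hsum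
        exact hsum
      exact ih (s.erase γ₀) (Finset.erase_ssubset hγ₀s) v
        (fun j hj => hv j (Finset.mem_of_mem_erase hj)) hsum' i
        (Finset.mem_erase.mpr ⟨hiγ, hi⟩)

end retract

section finsupp

variable {R : Type u} [CommRing R] {M : Type v} [AddCommGroup M] [Module R M]
  {Γ : Type x}

/-- an internal direct sum decomposition of a finitely generated module has finite support. -/
lemma exists_finset_support [Module.Finite R M] (G : Γ → Submodule R M) (hind : iSupIndep G)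
    (htop : iSup G = ⊤) : ∃ S : Finset Γ, ∀ η, η ∉ S → G η = ⊥ := by
  classical
  have hc : IsCompactElement (⊤ : Submodule R M) :=
    (Submodule.fg_iff_compact _).mp Module.Finite.fg_top
  obtain ⟨S, hS⟩ := CompleteLattice.IsCompactElement.exists_finset_of_le_iSup _ hc G (le_of_eq htop.symm)
  refine ⟨S, fun η hη => ?_⟩
  have h1 : G η ≤ ⨆ j, ⨆ (_ : j ≠ η), G j := by
    refine le_top.trans (hS.trans (iSup₂_le (fun s hs => ?_)))
    exact le_iSup₂_of_le s (fun h => hη (h ▸ hs)) le_rfl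
  exact (hind η).eq_bot_of_le h1

end finsupp

section pi

variable {R : Type u} [CommRing R] {A : Type v} [Fintype A] [DecidableEq A] {M : A → Type v}
  [∀ a, AddCommGroup (M a)] [∀ a, Module R (M a)] [∀ a, Module.Finite R (M a)]
  {Γ : Type x} [LinearOrder Γ] [Nonempty Γ]

theorem forall_split_of_pi_split (F : ∀ a, Γ → Submodule R (M a))
    (G : Γ → Submodule R (∀ a, M a)) (hG : DirectSum.IsInternal G)
    (hF : ∀ γ, Submodule.pi Set.univ (fun a => F a γ) = ⨆ η ∈ Set.Ici γ, G η) (a : A) :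
    ∃ Ga : Γ → Submodule R (M a), DirectSum.IsInternal Ga ∧
      ∀ γ, F a γ = ⨆ η ∈ Set.Ici γ, Ga η := by
  have hind := hG.submodule_iSupIndep
  have htop := hG.submodule_iSup_eq_top
  obtain ⟨S, hS⟩ := exists_finset_support G hind htop
  let ι : M a →ₗ[R] (∀ a, M a) := LinearMap.single R M a
  let p : (∀ a, M a) →ₗ[R] M a := LinearMap.proj a
  have hpι : ∀ x, p (ι x) = x := fun x => by simp [ι, p]
  have hFil : ∀ γ, Fil G γ = Submodule.pi Set.univ (fun a => F a γ) := fun γ => (hF γ).symm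
  have he : ∀ γ, ∀ y ∈ Fil G γ, ι (p y) ∈ Fil G γ := by
    intro γ y hy
    rw [hFil, Submodule.mem_pi] at hy ⊢
    intro b _
    by_cases hb : b = a
    · subst hb
      simpa [ι, p] using hy b (Set.mem_univ b)
    · simp [ι, p, LinearMap.single_apply, Pi.single_eq_of_ne hb]
  have hmap : ∀ γ, Submodule.map p (Fil G γ) = F a γ := by
    intro γ
    rw [hFil]
    apply le_antisymm
    · rintro _ ⟨y, hy, rfl⟩
      exact (Submodule.mem_pi.mp hy) a (Set.mem_univ a)
    · intro x hx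
      refine ⟨ι x, ?_, hpι x⟩
      show ι x ∈ Submodule.pi Set.univ (fun a => F a γ)
      rw [Submodule.mem_pi]
      intro b _
      by_cases hb : b = a
      · subst hb; simpa [ι] using hx
      · simp [ι, LinearMap.single_apply, Pi.single_eq_of_ne hb]
  refine ⟨C G ι p, ?_, fun γ => ?_⟩
  · classical
    rw [DirectSum.isInternal_submodule_iff_iSupIndep_and_iSup_eq_top]
    exact ⟨iSupIndep_C hind he, iSup_C_eq_top hpι he S hS htop⟩
  · rw [← hmap γ]
    exact map_Fil_eq_iSup_C hpι he S hS γ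

end pi

end Groth.Agent.Lib.helper13.FiltSplit
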