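import Mathlib

/-!
# Rings whose spectrum is local for the fppf topology: monic polynomials have roots
-/

namespace Groth.Agent.Lib.helper13.FppfLocalRoot

open CategoryTheory CategoryTheory.Limits AlgebraicGeometry Polynomial

universe u

theorem of_injective {A : Type u} [CommRing A] (f : A[X]) (hf : f.Monic) (hd : 0 < f.natDegree) :
    Function.Injective (algebraMap A (AdjoinRoot f)) := by
  rw [injective_iff_map_eq_zero]
  intro a ha
  by_contra hne
  rw [AdjoinRoot.algebraMap_eq, ← AdjoinRoot.mk_C, AdjoinRoot.mk_eq_zero] at ha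
  exact hf.not_dvd_of_natDegree_lt (by simpa using hne) (by simpa using hd) ha

theorem exists_root (A : Type u) [CommRing A]
    (hloc : ∀ (X : Scheme.{u}) (R : Presieve X),
      R ∈ Scheme.precoverage (@Flat ⊓ @LocallyOfFinitePresentation ⊓ @QuasiCompact ⊓ @QuasiSeparated) X →
      ∀ g : Spec (CommRingCat.of A) ⟶ X,
        ∃ (Y : Scheme.{u}) (v : Y ⟶ X) (h : Spec (CommRingCat.of A) ⟶ Y), R v ∧ h ≫ v = g)
    (f : A[X]) (hf : f.Monic) (hd : 0 < f.natDegree) : ∃ a : A, f.eval a = 0 := by
  haveI := hf.free_adjoinRoot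
  haveI := hf.finite_adjoinRoot
  have hinj := of_injective f hf hd
  haveI : FaithfulSMul A (AdjoinRoot f) := (faithfulSMul_iff_algebraMap_injective A _).mpr hinj
  let φ : CommRingCat.of A ⟶ CommRingCat.of (AdjoinRoot f) :=
    CommRingCat.ofHom (algebraMap A (AdjoinRoot f))
  have hsurj : Function.Surjective (Spec.map φ).base :=
    Algebra.IsIntegral.comap_surjective A (AdjoinRoot f)
  have hP : (@Flat ⊓ @LocallyOfFinitePresentation ⊓ @QuasiCompact ⊓ @QuasiSeparated :
      MorphismProperty Scheme.{u}) (Spec.map φ) := by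
    refine ⟨⟨⟨?_, ?_⟩, ?_⟩, ?_⟩
    · rw [HasRingHomProperty.Spec_iff (P := @Flat)]
      exact RingHom.flat_algebraMap_iff.mpr inferInstance
    · rw [HasRingHomProperty.Spec_iff (P := @LocallyOfFinitePresentation)]
      exact RingHom.finitePresentation_algebraMap.mpr inferInstance
    · infer_instance
    · infer_instance
  obtain ⟨Y, v, h', hv, hcomp⟩ := hloc (Spec (.of A)) (Presieve.singleton (Spec.map φ))
    ((Scheme.singleton_mem_precoverage_iff _ _).mpr ⟨hsurj, hP⟩) (𝟙 _)
  cases hv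
  obtain ⟨ψ, rfl⟩ := Spec.map_surjective h'
  have hψ : φ ≫ ψ = 𝟙 _ := Spec.map_injective (by rw [Spec.map_comp, hcomp, Spec.map_id])
  refine ⟨ψ.hom (AdjoinRoot.root f), ?_⟩
  have h1 : ∀ a : A, ψ.hom (algebraMap A (AdjoinRoot f) a) = a := fun a => by
    have := congrArg (fun g => g.hom a) hψ
    simpa [φ] using this
  have h2 := Polynomial.hom_eval₂ f (algebraMap A (AdjoinRoot f)) ψ.hom (AdjoinRoot.root f)
  have h3 : eval₂ (algebraMap A (AdjoinRoot f)) (AdjoinRoot.root f) f = 0 := by
    rw [AdjoinRoot.algebraMap_eq]; exact AdjoinRoot.eval₂_root f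
  rw [h3, map_zero] at h2
  have hid : ψ.hom.comp (algebraMap A (AdjoinRoot f)) = RingHom.id A := RingHom.ext h1
  rw [hid, Polynomial.eval₂_id] at h2
  exact h2.symm

end Groth.Agent.Lib.helper13.FppfLocalRoot
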