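import Groth.Agent.Lib.helper13.GLChar8

/-!
# Characters of products of `GL_n`'s over a ring with connected spectrum (helper13)
-/

set_option autoImplicit false
universe u

namespace Groth.Agent.Lib.helper13.GLChar

open Matrix

variable {R : Type u} [CommRing R]

section product

variable {r : ℕ} (n : Fin r → ℕ)
  (α : ∀ (B : Type u) [CommRing B] [Algebra R B],
    (∀ i, Matrix.GeneralLinearGroup (Fin (n i)) B) →* Bˣ)
  (hα : ∀ (B C : Type u) [CommRing B] [Algebra R B] [CommRing C] [Algebra R C] (φ : B →ₐ[R] C)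
    (s : ∀ i, Matrix.GeneralLinearGroup (Fin (n i)) B),
    α C (fun i => Matrix.GeneralLinearGroup.map φ.toRingHom (s i)) =
      Units.map (φ.toRingHom : B →* C) (α B s))

lemma map_mulSingle {B C : Type u} [CommRing B] [CommRing C] (f : B →+* C) (i : Fin r)
    (g : Matrix.GeneralLinearGroup (Fin (n i)) B) :
    (fun i' => Matrix.GeneralLinearGroup.map f
      ((Pi.mulSingle i g : ∀ i, Matrix.GeneralLinearGroup (Fin (n i)) B) i')) =
      Pi.mulSingle i (Matrix.GeneralLinearGroup.map f g) := by
  funext i'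
  by_cases h : i' = i
  · subst h
    simp
  · rw [Pi.mulSingle_eq_of_ne h, Pi.mulSingle_eq_of_ne h, map_one]

/-- the restriction to the `i`-th factor -/
def factorChar (i : Fin r) : NatChar R (Fin (n i)) where
  α B _ _ := (α B).comp (MonoidHom.mulSingle (fun i => Matrix.GeneralLinearGroup (Fin (n i)) B) i)
  nat B C _ _ _ _ φ s := by
    simp only [MonoidHom.comp_apply, MonoidHom.mulSingle_apply]
    rw [← map_mulSingle, hα]

variable [ConnectedSpace (PrimeSpectrum R)]

include hα

theorem exists_exponents : ∃ m : Fin r → ℤ, ∀ (B : Type u) [CommRing B] [Algebra R B]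
    (s : ∀ i, Matrix.GeneralLinearGroup (Fin (n i)) B),
    α B s = ∏ i, Matrix.GeneralLinearGroup.det (s i) ^ (m i) := by
  choose m hm using fun i => gl_char (n i) (factorChar n α hα i)
  refine ⟨m, fun B _ _ s => ?_⟩
  have hs := (Finset.noncommProd_mulSingle s).symm
  conv_lhs => rw [hs]
  rw [Finset.map_noncommProd, Finset.noncommProd_eq_prod]
  refine Finset.prod_congr rfl fun i _ => ?_
  have := hm i B (s i)
  simp only [factorChar, MonoidHom.comp_apply, MonoidHom.mulSingle_apply] at this
  exact this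

omit hα in
lemma exponents_unique (hn : ∀ i, 0 < n i) (m m' : Fin r → ℤ)
    (hm : ∀ (B : Type u) [CommRing B] [Algebra R B]
      (s : ∀ i, Matrix.GeneralLinearGroup (Fin (n i)) B),
      α B s = ∏ i, Matrix.GeneralLinearGroup.det (s i) ^ (m i))
    (hm' : ∀ (B : Type u) [CommRing B] [Algebra R B]
      (s : ∀ i, Matrix.GeneralLinearGroup (Fin (n i)) B),
      α B s = ∏ i, Matrix.GeneralLinearGroup.det (s i) ^ (m' i)) : m = m' := by
  have := nontrivial_of_connected R
  funext i
  set T : (AddMonoidAlgebra R ℤ)ˣ := uof R (1 : ℤ) with hT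
  set s : ∀ i, Matrix.GeneralLinearGroup (Fin (n i)) (AddMonoidAlgebra R ℤ) :=
    Pi.mulSingle i (Matrix.GeneralLinearGroup.scalar (Fin (n i)) T) with hs
  have key : ∀ m'' : Fin r → ℤ, ∏ i', Matrix.GeneralLinearGroup.det (s i') ^ (m'' i') =
      uof R ((n i : ℤ) * m'' i) := by
    intro m''
    rw [Finset.prod_eq_single i]
    · rw [hs, Pi.mulSingle_eq_same, Matrix.GeneralLinearGroup.det_scalar, Fintype.card_fin,
        ← zpow_natCast, ← _root_.zpow_mul, hT, uof_zpow]
      simp
    · intro j _ hj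
      rw [hs, Pi.mulSingle_eq_of_ne hj, map_one, _root_.one_zpow]
    · intro h; exact absurd (Finset.mem_univ i) h
  have h1 := (hm _ s).symm.trans (hm' _ s)
  rw [key m, key m'] at h1
  have h2 := congrArg Units.val h1
  rw [coe_uof, coe_uof, AddMonoidAlgebra.single_left_inj one_ne_zero] at h2
  have h3 : (n i : ℤ) ≠ 0 := by have := hn i; omega
  exact mul_left_cancel₀ h3 h2

theorem main (hn : ∀ i, 0 < n i) : ∃! m : Fin r → ℤ, ∀ (B : Type u) [CommRing B] [Algebra R B]
    (s : ∀ i, Matrix.GeneralLinearGroup (Fin (n i)) B),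
    α B s = ∏ i, Matrix.GeneralLinearGroup.det (s i) ^ (m i) := by
  obtain ⟨m, hm⟩ := exists_exponents n α hα
  exact ⟨m, hm, fun m' hm' => exponents_unique n α hn m' m hm' hm⟩

end product

end Groth.Agent.Lib.helper13.GLChar
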