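import Mathlib

open Finset

namespace Groth.Agent.Lib.helper13.GaChar

universe u

section PS

variable {A : Type u} [CommRing A]

open MvPowerSeries in
lemma fin2_eq (e : Fin 2 →₀ ℕ) : e = Finsupp.single 0 (e 0) + Finsupp.single 1 (e 1) := by
  ext i
  fin_cases i <;> simp

open MvPowerSeries in
lemma coeff_add_pow (e : Fin 2 →₀ ℕ) (d : ℕ) :
    MvPowerSeries.coeff e ((X 0 + X 1 : MvPowerSeries (Fin 2) A) ^ d) =
      if d = e 0 + e 1 then ((d.choose (e 0) : ℕ) : A) else 0 := by
  classical
  rw [add_pow, map_sum]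
  simp_rw [X_pow_eq, monomial_mul_monomial, mul_one]
  have : ∀ m ∈ range (d + 1), MvPowerSeries.coeff e
      ((monomial (Finsupp.single 0 m + Finsupp.single 1 (d - m)) (1 : A)) * ((d.choose m : ℕ) : MvPowerSeries (Fin 2) A)) =
      if e = Finsupp.single 0 m + Finsupp.single 1 (d - m) then ((d.choose m : ℕ) : A) else 0 := by
    intro m _
    rw [mul_comm, ← map_natCast (MvPowerSeries.C (σ := Fin 2) (R := A)), ← smul_eq_C_mul, map_smul, coeff_monomial]
    split_ifs <;> simp
  rw [Finset.sum_congr rfl this]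
  split_ifs with h
  · rw [Finset.sum_eq_single (e 0)]
    · rw [if_pos]
      conv_lhs => rw [fin2_eq e]
      congr 2
      omega
    · intro b _ hb
      rw [if_neg]
      intro he
      apply hb
      have := congrArg (fun f => f 0) he
      simpa using this.symm
    · intro h0
      exfalso; apply h0; rw [mem_range]; omega
  · apply Finset.sum_eq_zero
    intro m hm
    rw [if_neg]
    intro he
    apply h
    have h0 := congrArg (fun f => f 0) he
    have h1 := congrArg (fun f => f 1) he
    simp at h0 h1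
    rw [mem_range] at hm
    omega

open MvPowerSeries in
lemma hasSubst_add : PowerSeries.HasSubst (X 0 + X 1 : MvPowerSeries (Fin 2) A) :=
  PowerSeries.HasSubst.of_constantCoeff_zero (by simp)

open MvPowerSeries in
/-- coefficient of `χ(X₀+X₁)` -/
lemma coeff_subst_add (χ : PowerSeries A) (e : Fin 2 →₀ ℕ) :
    MvPowerSeries.coeff e (PowerSeries.subst (X 0 + X 1 : MvPowerSeries (Fin 2) A) χ) =
      (((e 0 + e 1).choose (e 0) : ℕ) : A) * PowerSeries.coeff (e 0 + e 1) χ := by
  rw [PowerSeries.coeff_subst hasSubst_add, finsum_eq_single _ (e 0 + e 1)]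
  · rw [coeff_add_pow, if_pos rfl, smul_eq_mul, mul_comm]
  · intro d hd
    rw [coeff_add_pow, if_neg hd, smul_zero]

open MvPowerSeries in
/-- coefficient of `χ(X₀)χ(X₁)` -/
lemma coeff_subst_mul (χ ψ : PowerSeries A) (e : Fin 2 →₀ ℕ) :
    MvPowerSeries.coeff e (PowerSeries.subst (X 0 : MvPowerSeries (Fin 2) A) χ *
      PowerSeries.subst (X 1 : MvPowerSeries (Fin 2) A) ψ) =
      PowerSeries.coeff (e 0) χ * PowerSeries.coeff (e 1) ψ := by
  classical
  rw [MvPowerSeries.coeff_mul, Finset.sum_eq_single (Finsupp.single 0 (e 0), Finsupp.single 1 (e 1))]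
  · rw [PowerSeries.coeff_subst_single, PowerSeries.coeff_subst_single]
    simp
  · rintro ⟨u, v⟩ huv hne
    rw [Finset.HasAntidiagonal.mem_antidiagonal] at huv
    simp only
    rw [PowerSeries.coeff_subst_single, PowerSeries.coeff_subst_single]
    by_cases hu : u = Finsupp.single 0 (u 0)
    · by_cases hv : v = Finsupp.single 1 (v 1)
      · exfalso
        apply hne
        have h0 : e 0 = u 0 := by
          rw [← huv, Finsupp.add_apply, hv]; simp
        have h1 : e 1 = v 1 := by
          rw [← huv, Finsupp.add_apply, hu]; simp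
        rw [h0, h1, ← hu, ← hv]
      · rw [if_neg hv, mul_zero]
    · rw [if_neg hu, zero_mul]
  · intro h
    exfalso; apply h
    rw [Finset.HasAntidiagonal.mem_antidiagonal]
    exact (fin2_eq e).symm

open MvPowerSeries in
theorem mult_iff_coeff (χ : PowerSeries A) :
    PowerSeries.subst (X 0 + X 1 : MvPowerSeries (Fin 2) A) χ =
        PowerSeries.subst (X 0 : MvPowerSeries (Fin 2) A) χ *
          PowerSeries.subst (X 1 : MvPowerSeries (Fin 2) A) χ ↔
      ∀ i j : ℕ, (((i + j).choose i : ℕ) : A) * PowerSeries.coeff (i + j) χ =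
        PowerSeries.coeff i χ * PowerSeries.coeff j χ := by
  constructor
  · intro h i j
    have := congrArg (MvPowerSeries.coeff (Finsupp.single 0 i + Finsupp.single 1 j)) h
    rw [coeff_subst_add, coeff_subst_mul] at this
    simpa using this
  · intro h
    ext e
    rw [coeff_subst_add, coeff_subst_mul]
    exact h _ _

end PS

section Poly

variable {A : Type u} [CommRing A]

lemma coe_aeval (a : MvPolynomial (Fin 2) A) (f : Polynomial A)
    (ha : PowerSeries.HasSubst (a : MvPowerSeries (Fin 2) A)) :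
    ((Polynomial.aeval a f : MvPolynomial (Fin 2) A) : MvPowerSeries (Fin 2) A) =
      PowerSeries.subst (a : MvPowerSeries (Fin 2) A) (f : PowerSeries A) := by
  rw [PowerSeries.subst_coe ha]
  exact (Polynomial.aeval_algHom_apply (MvPolynomial.coeToMvPowerSeries.algHom (σ := Fin 2) A) a f).symm

lemma coeff_aeval_add (f : Polynomial A) (e : Fin 2 →₀ ℕ) :
    MvPolynomial.coeff e (Polynomial.aeval (MvPolynomial.X 0 + MvPolynomial.X 1 :
      MvPolynomial (Fin 2) A) f) = (((e 0 + e 1).choose (e 0) : ℕ) : A) * f.coeff (e 0 + e 1) := by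
  rw [← MvPolynomial.coeff_coe, coe_aeval]
  · have := coeff_subst_add (f : PowerSeries A) e
    simpa using this
  · simpa using hasSubst_add (A := A)

lemma coeff_aeval_mul (f g : Polynomial A) (e : Fin 2 →₀ ℕ) :
    MvPolynomial.coeff e (Polynomial.aeval (MvPolynomial.X 0 : MvPolynomial (Fin 2) A) f *
      Polynomial.aeval (MvPolynomial.X 1 : MvPolynomial (Fin 2) A) g) =
      f.coeff (e 0) * g.coeff (e 1) := by
  rw [← MvPolynomial.coeff_coe, MvPolynomial.coe_mul, coe_aeval, coe_aeval]
  · have := coeff_subst_mul (f : PowerSeries A) (g : PowerSeries A) e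
    simpa using this
  · simpa using PowerSeries.HasSubst.X (1 : Fin 2) (S := A)
  · simpa using PowerSeries.HasSubst.X (0 : Fin 2) (S := A)

theorem poly_mult_iff_coeff (f : Polynomial A) :
    Polynomial.aeval (MvPolynomial.X 0 + MvPolynomial.X 1 : MvPolynomial (Fin 2) A) f =
        Polynomial.aeval (MvPolynomial.X 0 : MvPolynomial (Fin 2) A) f *
          Polynomial.aeval (MvPolynomial.X 1 : MvPolynomial (Fin 2) A) f ↔
      ∀ i j : ℕ, (((i + j).choose i : ℕ) : A) * f.coeff (i + j) = f.coeff i * f.coeff j := by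
  constructor
  · intro h i j
    have := congrArg (MvPolynomial.coeff (Finsupp.single 0 i + Finsupp.single 1 j)) h
    rw [coeff_aeval_add, coeff_aeval_mul] at this
    simpa using this
  · intro h
    ext e
    rw [coeff_aeval_add, coeff_aeval_mul]
    exact h _ _

lemma coeff_eq_zero_of_mem_span (M : ℕ) (g : MvPolynomial (Fin 2) A)
    (hg : g ∈ Ideal.span {(MvPolynomial.X 0 ^ M : MvPolynomial (Fin 2) A), MvPolynomial.X 1 ^ M})
    (e : Fin 2 →₀ ℕ) (h0 : e 0 < M) (h1 : e 1 < M) : MvPolynomial.coeff e g = 0 := by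
  classical
  obtain ⟨a, b, rfl⟩ := Ideal.mem_span_pair.mp hg
  rw [MvPolynomial.coeff_add, MvPolynomial.X_pow_eq_monomial, MvPolynomial.X_pow_eq_monomial,
    MvPolynomial.coeff_mul_monomial', MvPolynomial.coeff_mul_monomial', if_neg, if_neg, add_zero]
  · intro hle
    have := hle 1
    simp at this
    omega
  · intro hle
    have := hle 0
    simp at this
    omega

theorem quot_mult_coeff (M : ℕ) (f : Polynomial A)
    (h : Ideal.Quotient.mk
        (Ideal.span {(MvPolynomial.X 0 ^ M : MvPolynomial (Fin 2) A), MvPolynomial.X 1 ^ M})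
        (Polynomial.aeval (MvPolynomial.X 0 + MvPolynomial.X 1 : MvPolynomial (Fin 2) A) f) =
      Ideal.Quotient.mk
        (Ideal.span {(MvPolynomial.X 0 ^ M : MvPolynomial (Fin 2) A), MvPolynomial.X 1 ^ M})
        (Polynomial.aeval (MvPolynomial.X 0 : MvPolynomial (Fin 2) A) f *
          Polynomial.aeval (MvPolynomial.X 1 : MvPolynomial (Fin 2) A) f)) :
    ∀ i j : ℕ, i < M → j < M →
      (((i + j).choose i : ℕ) : A) * f.coeff (i + j) = f.coeff i * f.coeff j := by
  intro i j hi hj
  have hmem := Ideal.Quotient.eq.mp h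
  have := coeff_eq_zero_of_mem_span M _ hmem (Finsupp.single 0 i + Finsupp.single 1 j)
    (by simpa using hi) (by simpa using hj)
  rw [MvPolynomial.coeff_sub, coeff_aeval_add, coeff_aeval_mul, sub_eq_zero] at this
  simpa using this

end Poly


section Core

variable (p : ℕ) [hp : Fact p.Prime] {A : Type u} [CommRing A] [CharP A p]

/-- truncated exponential `exp_p(a X^m)` -/
noncomputable def expp (a : A) (m : ℕ) : Polynomial A :=
  ∑ j ∈ Finset.range p,
    Polynomial.C (Ring.inverse (j.factorial : A) * a ^ j) * Polynomial.X ^ (j * m)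

/-- multiplicativity relations on a coefficient sequence, for indices `< M` -/
def H (M : ℕ) (c : ℕ → A) : Prop :=
  c 0 = 1 ∧ ∀ i j : ℕ, i < M → j < M → (((i + j).choose i : ℕ) : A) * c (i + j) = c i * c j

variable {p}

lemma isUnit_factorial {j : ℕ} (hj : j < p) : IsUnit ((j.factorial : ℕ) : A) := by
  rw [CharP.isUnit_natCast_iff (p := p) hp.out]
  intro hdvd
  exact absurd ((hp.out.dvd_factorial).mp hdvd) (not_le.mpr hj)

lemma inverse_factorial_mul {j : ℕ} (hj : j < p) :
    Ring.inverse ((j.factorial : ℕ) : A) * ((j.factorial : ℕ) : A) = 1 :=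
  Ring.inverse_mul_cancel _ (isUnit_factorial hj)

lemma choose_mul_cast (N K : ℕ) : (((p * N).choose (p * K) : ℕ) : A) = ((N.choose K : ℕ) : A) :=
  CharP.natCast_eq_natCast' A p Choose.choose_mul_mul_modEq_choose_nat

lemma choose_mod_cast (k : ℕ) : ((k.choose (k % p) : ℕ) : A) = 1 := by
  have h := Choose.choose_modEq_choose_mod_mul_choose_div_nat (n := k) (k := k % p) (p := p)
  have := CharP.natCast_eq_natCast' A p h
  rw [this]
  have hlt : k % p < p := Nat.mod_lt _ hp.out.pos
  rw [Nat.mod_eq_of_lt hlt, Nat.div_eq_of_lt hlt]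
  simp

/-- the Frobenius-shifted sequence satisfies the relations again -/
lemma H_shift {n : ℕ} {c : ℕ → A} (h : H (p ^ (n + 1)) c) : H (p ^ n) (fun m => c (p * m)) := by
  refine ⟨by simpa using h.1, ?_⟩
  intro i j hi hj
  have hi' : p * i < p ^ (n + 1) := by
    rw [pow_succ']; exact Nat.mul_lt_mul_of_pos_left hi hp.out.pos
  have hj' : p * j < p ^ (n + 1) := by
    rw [pow_succ']; exact Nat.mul_lt_mul_of_pos_left hj hp.out.pos
  have := h.2 (p * i) (p * j) hi' hj'
  rw [← mul_add, choose_mul_cast] at this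
  exact this

/-- low coefficients are `a^j/j!` -/
lemma coeff_low {M : ℕ} (hM : p ≤ M) {c : ℕ → A} (h : H M c) :
    ∀ j, j < p → c j = Ring.inverse ((j.factorial : ℕ) : A) * c 1 ^ j := by
  intro j
  induction j with
  | zero => intro _; simp [h.1]
  | succ j ih =>
    intro hj
    have hj' : j < p := Nat.lt_of_succ_lt hj
    have h1 := h.2 1 j (lt_of_lt_of_le hp.out.one_lt hM) (lt_of_lt_of_le hj' hM)
    rw [add_comm 1 j, Nat.choose_one_right] at h1
    -- (j+1) * c (j+1) = c 1 * c j
    have hu := isUnit_factorial (A := A) hj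
    apply hu.mul_left_cancel
    rw [← mul_assoc, mul_comm _ (Ring.inverse _), inverse_factorial_mul hj, one_mul,
      Nat.factorial_succ, Nat.cast_mul, mul_comm ((j + 1 : ℕ) : A), mul_assoc, h1, ih hj', pow_succ]
    have := inverse_factorial_mul (A := A) hj'
    calc ((j.factorial : ℕ) : A) * (c 1 * (Ring.inverse ((j.factorial : ℕ) : A) * c 1 ^ j))
        = (Ring.inverse ((j.factorial : ℕ) : A) * ((j.factorial : ℕ) : A)) * (c 1 ^ j * c 1) := by ring
      _ = c 1 ^ j * c 1 := by rw [this, one_mul]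

lemma pow_p_eq_zero {M : ℕ} (hM : p ≤ M) {c : ℕ → A} (h : H M c) : c 1 ^ p = 0 := by
  have hp1 : p - 1 < p := Nat.sub_lt hp.out.pos one_pos
  have h1 := h.2 1 (p - 1) (lt_of_lt_of_le hp.out.one_lt hM) (lt_of_lt_of_le hp1 hM)
  have hpp : 1 + (p - 1) = p := by have := hp.out.pos; omega
  rw [hpp, Nat.choose_one_right, CharP.cast_eq_zero, zero_mul, coeff_low hM h _ hp1] at h1
  have hu := isUnit_factorial (A := A) hp1
  have : c 1 ^ p = ((( p - 1).factorial : ℕ) : A) * (c 1 * (Ring.inverse (((p - 1).factorial : ℕ) : A) * c 1 ^ (p - 1))) := by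
    have h2 := inverse_factorial_mul (A := A) hp1
    calc c 1 ^ p = c 1 ^ (p - 1) * c 1 := by rw [← pow_succ, Nat.sub_add_cancel hp.out.pos]
      _ = (Ring.inverse (((p - 1).factorial : ℕ) : A) * (((p - 1).factorial : ℕ) : A)) * (c 1 ^ (p - 1) * c 1) := by rw [h2, one_mul]
      _ = _ := by ring
  rw [this, ← h1, mul_zero]

lemma coeff_decomp {n : ℕ} {c : ℕ → A} (h : H (p ^ (n + 1)) c) (r q : ℕ) (hr : r < p)
    (hq : q < p ^ n) : c (r + p * q) = c r * c (p * q) := by
  have hr' : r < p ^ (n + 1) :=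
    lt_of_lt_of_le hr (by simpa using Nat.pow_le_pow_right hp.out.pos (Nat.succ_pos n))
  have hq' : p * q < p ^ (n + 1) := by
    rw [pow_succ']; exact Nat.mul_lt_mul_of_pos_left hq hp.out.pos
  have := h.2 r (p * q) hr' hq'
  have hmod : (r + p * q) % p = r := by
    rw [Nat.add_mul_mod_self_left, Nat.mod_eq_of_lt hr]
  have h1 := choose_mod_cast (A := A) (p := p) (r + p * q)
  rw [hmod] at h1
  rw [h1, one_mul] at this
  exact this

lemma sum_range_mul' {M : Type*} [AddCommMonoid M] (m n : ℕ) (F : ℕ → M) :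
    ∑ k ∈ range (m * n), F k = ∑ r ∈ range m, ∑ q ∈ range n, F (r + m * q) := by
  induction n with
  | zero => simp
  | succ n ih =>
    rw [Nat.mul_succ, Finset.sum_range_add, ih]
    simp_rw [Finset.sum_range_succ]
    rw [Finset.sum_add_distrib]
    congr 1
    apply Finset.sum_congr rfl
    intro r _
    rw [add_comm]

variable (p) in
/-- the polynomial `Σ_{k<M} c_k X^k` -/
noncomputable def seqPoly (M : ℕ) (c : ℕ → A) : Polynomial A :=
  ∑ k ∈ range M, Polynomial.C (c k) * Polynomial.X ^ k

omit hp [CharP A p] in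
lemma expand_expp (a : A) (m : ℕ) : Polynomial.expand A p (expp p a m) = expp p a (p * m) := by
  unfold expp
  rw [map_sum]
  apply Finset.sum_congr rfl
  intro j _
  rw [map_mul, Polynomial.expand_C, map_pow, Polynomial.expand_X, ← pow_mul]
  congr 2
  ring

theorem core (n : ℕ) : ∀ (c : ℕ → A), H (p ^ n) c →
    (∀ i, i < n → c (p ^ i) ^ p = 0) ∧
      (∑ k ∈ range (p ^ n), Polynomial.C (c k) * Polynomial.X ^ k : Polynomial A) =
        ∏ i ∈ range n, expp p (c (p ^ i)) (p ^ i) := by
  induction n with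
  | zero =>
    intro c h
    refine ⟨fun i hi => absurd hi (Nat.not_lt_zero _), ?_⟩
    simp [h.1]
  | succ n ih =>
    intro c h
    have hM : p ≤ p ^ (n + 1) := by
      simpa using Nat.pow_le_pow_right hp.out.pos (Nat.succ_pos n)
    obtain ⟨ih1, ih2⟩ := ih _ (H_shift h)
    constructor
    · intro i hi
      rcases i with _ | i
      · simpa using pow_p_eq_zero hM h
      · have := ih1 i (Nat.lt_of_succ_lt_succ hi)
        simpa [pow_succ'] using this
    · rw [pow_succ', sum_range_mul']
      have h1 : ∀ r ∈ range p, ∑ q ∈ range (p ^ n), Polynomial.C (c (r + p * q)) * Polynomial.X ^ (r + p * q)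
          = (Polynomial.C (c r) * Polynomial.X ^ r) *
            Polynomial.expand A p (∑ q ∈ range (p ^ n), Polynomial.C (c (p * q)) * Polynomial.X ^ q) := by
        intro r hr
        rw [map_sum, Finset.mul_sum]
        apply Finset.sum_congr rfl
        intro q hq
        rw [coeff_decomp h r q (mem_range.mp hr) (mem_range.mp hq)]
        simp only [map_mul, Polynomial.expand_C, map_pow, Polynomial.expand_X]
        rw [pow_add, ← pow_mul]
        ring
      rw [Finset.sum_congr rfl h1, ← Finset.sum_mul, ih2, map_prod, Finset.prod_range_succ']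
      rw [mul_comm]
      congr 1
      · apply Finset.prod_congr rfl
        intro i _
        rw [expand_expp, pow_succ']
      · unfold expp
        apply Finset.sum_congr rfl
        intro j hj
        rw [coeff_low hM h j (mem_range.mp hj)]
        simp

end Core


section EMul

lemma E_mul {B : Type*} [CommRing B] (p : ℕ) (w : ℕ → B)
    (hw : ∀ m i, m < p → i ≤ m → w m * ((m.choose i : ℕ) : B) = w i * w (m - i))
    (α s t : B) (hα : α ^ p = 0) :
    ∑ m ∈ range p, w m * α ^ m * (s + t) ^ m =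
      (∑ i ∈ range p, w i * α ^ i * s ^ i) * (∑ j ∈ range p, w j * α ^ j * t ^ j) := by
  classical
  set G : ℕ × ℕ → B := fun x => w x.1 * w x.2 * α ^ (x.1 + x.2) * s ^ x.1 * t ^ x.2 with hG
  have hL : ∀ m ∈ range p, w m * α ^ m * (s + t) ^ m = ∑ x ∈ antidiagonal m, G x := by
    intro m hm
    rw [(Commute.all s t).add_pow', Finset.mul_sum]
    apply Finset.sum_congr rfl
    intro x hx
    rw [Finset.HasAntidiagonal.mem_antidiagonal] at hx
    have hle : x.1 ≤ m := by omega
    have h2 : m - x.1 = x.2 := by omega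
    have := hw m x.1 (mem_range.mp hm) hle
    rw [h2] at this
    simp only [hG, nsmul_eq_mul]
    rw [hx]
    calc w m * α ^ m * (((m.choose x.1 : ℕ) : B) * (s ^ x.1 * t ^ x.2))
        = (w m * ((m.choose x.1 : ℕ) : B)) * α ^ m * s ^ x.1 * t ^ x.2 := by ring
      _ = _ := by rw [this]
  rw [Finset.sum_congr rfl hL, Finset.sum_mul_sum, ← Finset.sum_product']
  have hR : ∑ x ∈ range p ×ˢ range p, (w x.1 * α ^ x.1 * s ^ x.1) * (w x.2 * α ^ x.2 * t ^ x.2) =
      ∑ x ∈ (range p ×ˢ range p).filter (fun x => x.1 + x.2 < p), G x := by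
    rw [Finset.sum_filter]
    apply Finset.sum_congr rfl
    intro x _
    split_ifs with h
    · simp only [hG]; rw [pow_add]; ring
    · have : α ^ (x.1 + x.2) = 0 := by
        have hle : p ≤ x.1 + x.2 := not_lt.mp h
        rw [← Nat.sub_add_cancel hle, pow_add, hα, mul_zero]
      calc (w x.1 * α ^ x.1 * s ^ x.1) * (w x.2 * α ^ x.2 * t ^ x.2)
          = w x.1 * w x.2 * α ^ (x.1 + x.2) * s ^ x.1 * t ^ x.2 := by rw [pow_add]; ring
        _ = 0 := by rw [this]; ring
  rw [hR]
  rw [← Finset.sum_fiberwise_of_maps_to (s := (range p ×ˢ range p).filter (fun x => x.1 + x.2 < p))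
    (t := range p) (g := fun x => x.1 + x.2) (fun x hx => by
      rw [mem_filter] at hx; exact mem_range.mpr hx.2)]
  apply Finset.sum_congr rfl
  intro m hm
  apply Finset.sum_congr _ (fun _ _ => rfl)
  ext x
  rw [mem_range] at hm
  simp only [Finset.HasAntidiagonal.mem_antidiagonal, mem_filter, mem_product, mem_range]
  constructor
  · intro h; refine ⟨⟨⟨by omega, by omega⟩, by omega⟩, h⟩
  · intro h; exact h.2

end EMul


section Mult

variable {p : ℕ} [hp : Fact p.Prime] {A : Type u} [CommRing A] [CharP A p]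

lemma inverse_factorial_choose {m i : ℕ} (hm : m < p) (hi : i ≤ m) :
    Ring.inverse ((m.factorial : ℕ) : A) * ((m.choose i : ℕ) : A) =
      Ring.inverse ((i.factorial : ℕ) : A) * Ring.inverse (((m - i).factorial : ℕ) : A) := by
  have hi' : i < p := lt_of_le_of_lt hi hm
  have hmi : m - i < p := lt_of_le_of_lt (Nat.sub_le _ _) hm
  have hu : IsUnit ((((i.factorial : ℕ) : A)) * (((m - i).factorial : ℕ) : A)) :=
    (isUnit_factorial hi').mul (isUnit_factorial hmi)
  apply hu.mul_right_cancel
  have h1 : ((m.choose i : ℕ) : A) * (((i.factorial : ℕ) : A) * (((m - i).factorial : ℕ) : A)) =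
      ((m.factorial : ℕ) : A) := by
    rw [← Nat.cast_mul, ← Nat.cast_mul, ← mul_assoc, Nat.choose_mul_factorial_mul_factorial hi]
  rw [mul_assoc, h1, inverse_factorial_mul hm]
  calc (1 : A) = (Ring.inverse ((i.factorial : ℕ) : A) * ((i.factorial : ℕ) : A)) *
        (Ring.inverse (((m - i).factorial : ℕ) : A) * (((m - i).factorial : ℕ) : A)) := by
        rw [inverse_factorial_mul hi', inverse_factorial_mul hmi, one_mul]
    _ = _ := by ring

omit hp [CharP A p] in
lemma aeval_expp {B : Type*} [CommRing B] [Algebra A B] (a : A) (m : ℕ) (y : B) :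
    Polynomial.aeval y (expp p a m) =
      ∑ j ∈ range p, algebraMap A B (Ring.inverse ((j.factorial : ℕ) : A)) *
        (algebraMap A B a) ^ j * (y ^ m) ^ j := by
  unfold expp
  rw [map_sum]
  apply Finset.sum_congr rfl
  intro j _
  rw [map_mul, Polynomial.aeval_C, map_pow, Polynomial.aeval_X, map_mul, map_pow, ← pow_mul,
    mul_comm m j]

theorem expp_mult (a : A) (ha : a ^ p = 0) (n : ℕ) :
    Polynomial.aeval (MvPolynomial.X 0 + MvPolynomial.X 1 : MvPolynomial (Fin 2) A)
        (expp p a (p ^ n)) =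
      Polynomial.aeval (MvPolynomial.X 0 : MvPolynomial (Fin 2) A) (expp p a (p ^ n)) *
        Polynomial.aeval (MvPolynomial.X 1 : MvPolynomial (Fin 2) A) (expp p a (p ^ n)) := by
  rw [aeval_expp, aeval_expp, aeval_expp]
  rw [add_pow_char_pow]
  apply E_mul p (fun j => algebraMap A (MvPolynomial (Fin 2) A) (Ring.inverse ((j.factorial : ℕ) : A)))
  · intro m i hm hi
    rw [← map_natCast (algebraMap A (MvPolynomial (Fin 2) A)), ← map_mul, ← map_mul,
      inverse_factorial_choose hm hi]
  · rw [← map_pow, ha, map_zero]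

theorem prod_expp_mult (a : ℕ → A) (ha : ∀ n, a n ^ p = 0) (N : ℕ) :
    Polynomial.aeval (MvPolynomial.X 0 + MvPolynomial.X 1 : MvPolynomial (Fin 2) A)
        (∏ n ∈ range N, expp p (a n) (p ^ n)) =
      Polynomial.aeval (MvPolynomial.X 0 : MvPolynomial (Fin 2) A) (∏ n ∈ range N, expp p (a n) (p ^ n)) *
        Polynomial.aeval (MvPolynomial.X 1 : MvPolynomial (Fin 2) A)
          (∏ n ∈ range N, expp p (a n) (p ^ n)) := by
  rw [map_prod, map_prod, map_prod, ← Finset.prod_mul_distrib]
  apply Finset.prod_congr rfl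
  intro n _
  exact expp_mult (a n) (ha n) n

omit hp [CharP A p] in
lemma eval_zero_expp (hp0 : 0 < p) (a : A) {m : ℕ} (hm : 0 < m) :
    (expp p a m).eval 0 = 1 := by
  unfold expp
  rw [Polynomial.eval_finsetSum, Finset.sum_eq_single 0]
  · simp
  · intro j _ hj
    have : j * m ≠ 0 := Nat.mul_ne_zero hj hm.ne'
    simp [this]
  · intro h; exfalso; apply h; exact mem_range.mpr hp0

omit [CharP A p] in
lemma eval_zero_prod_expp (a : ℕ → A) (N : ℕ) :
    (∏ n ∈ range N, expp p (a n) (p ^ n)).eval 0 = 1 := by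
  rw [Polynomial.eval_prod]
  apply Finset.prod_eq_one
  intro n _
  exact eval_zero_expp hp.out.pos _ (pow_pos hp.out.pos n)

end Mult


section Final

variable {p : ℕ} [hp : Fact p.Prime] {A : Type u} [CommRing A] [CharP A p]

/-- polynomial of degree `< p^n` whose coefficients satisfy the relations below `p^n` -/
theorem poly_of_H (n : ℕ) (f : Polynomial A) (hdeg : f.natDegree < p ^ n)
    (h : H (p ^ n) f.coeff) :
    (∀ i, i < n → f.coeff (p ^ i) ^ p = 0) ∧
      f = ∏ i ∈ range n, expp p (f.coeff (p ^ i)) (p ^ i) := by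
  obtain ⟨h1, h2⟩ := core n f.coeff h
  refine ⟨h1, ?_⟩
  rw [← h2]
  conv_lhs => rw [Polynomial.as_sum_range' f (p ^ n) hdeg]
  apply Finset.sum_congr rfl
  intro k _
  rw [Polynomial.C_mul_X_pow_eq_monomial]

theorem alphaPn (n : ℕ) (f : Polynomial A) (hdeg : f.natDegree < p ^ n) (h0 : f.eval 0 = 1)
    (hmul : Ideal.Quotient.mk
        (Ideal.span {(MvPolynomial.X 0 ^ p ^ n : MvPolynomial (Fin 2) A), MvPolynomial.X 1 ^ p ^ n})
        (Polynomial.aeval (MvPolynomial.X 0 + MvPolynomial.X 1 : MvPolynomial (Fin 2) A) f) =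
      Ideal.Quotient.mk
        (Ideal.span {(MvPolynomial.X 0 ^ p ^ n : MvPolynomial (Fin 2) A), MvPolynomial.X 1 ^ p ^ n})
        (Polynomial.aeval (MvPolynomial.X 0 : MvPolynomial (Fin 2) A) f *
          Polynomial.aeval (MvPolynomial.X 1 : MvPolynomial (Fin 2) A) f)) :
    ∃ a : ℕ → A, (∀ i, a i ^ p = 0) ∧ f = ∏ i ∈ range n, expp p (a i) (p ^ i) := by
  have hH : H (p ^ n) f.coeff := ⟨by rw [Polynomial.coeff_zero_eq_eval_zero, h0],
    quot_mult_coeff (p ^ n) f hmul⟩
  obtain ⟨h1, h2⟩ := poly_of_H n f hdeg hH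
  refine ⟨fun i => if i < n then f.coeff (p ^ i) else 0, ?_, ?_⟩
  · intro i
    by_cases hi : i < n
    · simp only [hi, if_true]; exact h1 i hi
    · simp only [hi, if_false]; exact zero_pow hp.out.pos.ne'
  · conv_lhs => rw [h2]
    apply Finset.prod_congr rfl
    intro i hi
    simp only [if_pos (mem_range.mp hi)]

theorem poly_char (f : Polynomial A) :
    (f.eval 0 = 1 ∧
      Polynomial.aeval (MvPolynomial.X 0 + MvPolynomial.X 1 : MvPolynomial (Fin 2) A) f =
        Polynomial.aeval (MvPolynomial.X 0 : MvPolynomial (Fin 2) A) f *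
          Polynomial.aeval (MvPolynomial.X 1 : MvPolynomial (Fin 2) A) f) ↔
      ∃ (N : ℕ) (a : ℕ → A), (∀ n, a n ^ p = 0) ∧ f = ∏ n ∈ range N, expp p (a n) (p ^ n) := by
  constructor
  · rintro ⟨h0, hm⟩
    set n := f.natDegree + 1 with hn
    have hdeg : f.natDegree < p ^ n :=
      lt_trans (Nat.lt_succ_self _) (Nat.lt_pow_self hp.out.one_lt)
    have hH : H (p ^ n) f.coeff := ⟨by rw [Polynomial.coeff_zero_eq_eval_zero, h0],
      fun i j _ _ => (poly_mult_iff_coeff f).mp hm i j⟩
    obtain ⟨h1, h2⟩ := poly_of_H n f hdeg hH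
    refine ⟨n, fun i => if i < n then f.coeff (p ^ i) else 0, ?_, ?_⟩
    · intro i
      by_cases hi : i < n
      · simp only [hi, if_true]; exact h1 i hi
      · simp only [hi, if_false]; exact zero_pow hp.out.pos.ne'
    · conv_lhs => rw [h2]
      apply Finset.prod_congr rfl
      intro i hi
      simp only [if_pos (mem_range.mp hi)]
  · rintro ⟨N, a, ha, rfl⟩
    exact ⟨eval_zero_prod_expp a N, prod_expp_mult a ha N⟩

theorem trunc_eq_sum (χ : PowerSeries A) (M : ℕ) :
    PowerSeries.trunc M χ =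
      ∑ k ∈ range M, Polynomial.C (PowerSeries.coeff k χ) * Polynomial.X ^ k := by
  rw [PowerSeries.trunc_apply, Nat.Ico_zero_eq_range]
  apply Finset.sum_congr rfl
  intro k _
  rw [Polynomial.C_mul_X_pow_eq_monomial]

theorem ps_char (χ : PowerSeries A) :
    (PowerSeries.constantCoeff χ = 1 ∧
      PowerSeries.subst (MvPowerSeries.X 0 + MvPowerSeries.X 1 : MvPowerSeries (Fin 2) A) χ =
        PowerSeries.subst (MvPowerSeries.X 0 : MvPowerSeries (Fin 2) A) χ *
          PowerSeries.subst (MvPowerSeries.X 1 : MvPowerSeries (Fin 2) A) χ) ↔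
      ∃ a : ℕ → A, (∀ n, a n ^ p = 0) ∧ ∀ m : ℕ,
        PowerSeries.trunc (p ^ m) χ = ∏ n ∈ range m, expp p (a n) (p ^ n) := by
  constructor
  · rintro ⟨h0, hm⟩
    have hrel := (mult_iff_coeff χ).mp hm
    have hH : ∀ m, H (p ^ m) (fun k => PowerSeries.coeff k χ) := fun m =>
      ⟨by simpa using h0, fun i j _ _ => hrel i j⟩
    refine ⟨fun n => PowerSeries.coeff (p ^ n) χ, ?_, ?_⟩
    · intro n
      exact (core (n + 1) _ (hH (n + 1))).1 n (Nat.lt_succ_self n)
    · intro m
      rw [trunc_eq_sum]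
      exact (core m _ (hH m)).2
  · rintro ⟨a, ha, htr⟩
    have hc : ∀ m k, k < p ^ m →
        PowerSeries.coeff k χ = (∏ n ∈ range m, expp p (a n) (p ^ n)).coeff k := by
      intro m k hk
      rw [← htr m, PowerSeries.coeff_trunc, if_pos hk]
    constructor
    · have := hc 0 0 (by simp)
      simpa using this
    · rw [mult_iff_coeff]
      intro i j
      set m := i + j + 1 with hm
      have hlt : i + j < p ^ m := lt_trans (Nat.lt_succ_self _) (Nat.lt_pow_self hp.out.one_lt)
      rw [hc m (i + j) hlt, hc m i (by omega), hc m j (by omega)]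
      exact (poly_mult_iff_coeff _).mp (prod_expp_mult a ha m) i j

end Final

section CharZero

variable {A : Type u} [CommRing A] [Algebra ℚ A]

theorem seq_char0 (c : ℕ → A) :
    (c 0 = 1 ∧ ∀ i j : ℕ, (((i + j).choose i : ℕ) : A) * c (i + j) = c i * c j) ↔
      ∃ a : A, ∀ n, c n = a ^ n * algebraMap ℚ A (1 / (n.factorial : ℚ)) := by
  constructor
  · rintro ⟨h0, hrel⟩
    refine ⟨c 1, ?_⟩
    intro n
    induction n with
    | zero => simp [h0]
    | succ n ih =>
      have h1 := hrel 1 n
      rw [add_comm 1 n, Nat.choose_one_right, ih] at h1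
      have hne : ((n + 1 : ℕ) : ℚ) ≠ 0 := by positivity
      have hu : algebraMap ℚ A (1 / ((n + 1 : ℕ) : ℚ)) * (((n + 1 : ℕ) : A)) = 1 := by
        rw [← map_natCast (algebraMap ℚ A), ← map_mul, one_div, inv_mul_cancel₀ hne, map_one]
      calc c (n + 1) = (algebraMap ℚ A (1 / ((n + 1 : ℕ) : ℚ)) * (((n + 1 : ℕ) : A))) * c (n + 1) := by
            rw [hu, one_mul]
        _ = algebraMap ℚ A (1 / ((n + 1 : ℕ) : ℚ)) * ((((n + 1 : ℕ) : A)) * c (n + 1)) := by ring
        _ = algebraMap ℚ A (1 / ((n + 1 : ℕ) : ℚ)) *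
              (c 1 * (c 1 ^ n * algebraMap ℚ A (1 / (n.factorial : ℚ)))) := by rw [h1]
        _ = c 1 ^ (n + 1) * (algebraMap ℚ A (1 / ((n + 1 : ℕ) : ℚ)) *
              algebraMap ℚ A (1 / (n.factorial : ℚ))) := by ring
        _ = _ := by
            rw [← map_mul]
            congr 2
            rw [Nat.factorial_succ, Nat.cast_mul]
            field_simp
  · rintro ⟨a, ha⟩
    constructor
    · rw [ha 0]; simp
    · intro i j
      rw [ha, ha, ha, ← map_natCast (algebraMap ℚ A)]
      have hq : (((i + j).choose i : ℕ) : ℚ) * (1 / ((i + j).factorial : ℚ)) =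
          (1 / (i.factorial : ℚ)) * (1 / (j.factorial : ℚ)) := by
        have := Nat.add_choose_mul_factorial_mul_factorial i j
        rw [← Nat.choose_symm_add] at this
        have h2 : (((i + j).choose i : ℕ) : ℚ) * (i.factorial : ℚ) * (j.factorial : ℚ) =
            ((i + j).factorial : ℚ) := by exact_mod_cast this
        have hi : (i.factorial : ℚ) ≠ 0 := by positivity
        have hj : (j.factorial : ℚ) ≠ 0 := by positivity
        have hij : ((i + j).factorial : ℚ) ≠ 0 := by positivity
        field_simp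
        linarith
      calc algebraMap ℚ A (((i + j).choose i : ℕ) : ℚ) *
            (a ^ (i + j) * algebraMap ℚ A (1 / ((i + j).factorial : ℚ)))
          = a ^ (i + j) * algebraMap ℚ A ((((i + j).choose i : ℕ) : ℚ) *
              (1 / ((i + j).factorial : ℚ))) := by rw [map_mul]; ring
        _ = a ^ (i + j) * algebraMap ℚ A ((1 / (i.factorial : ℚ)) * (1 / (j.factorial : ℚ))) := by
            rw [hq]
        _ = _ := by rw [map_mul, pow_add]; ring

end CharZero


end Groth.Agent.Lib.helper13.GaChar
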