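import Mathlib

set_option autoImplicit false

namespace Groth.Agent.Lib.helper13.Lazard

open MvPolynomial

variable {R : Type*} [CommRing R]

/-- exponent vector `(a, b)` -/
noncomputable def m2 (a b : ℕ) : Fin 2 →₀ ℕ := Finsupp.single 0 a + Finsupp.single 1 b

/-- exponent vector `(i, j, k)` -/
noncomputable def m3 (i j k : ℕ) : Fin 3 →₀ ℕ :=
  Finsupp.single 0 i + Finsupp.single 1 j + Finsupp.single 2 k

@[simp] theorem m2_zero (a b : ℕ) : m2 a b 0 = a := by simp [m2]
@[simp] theorem m2_one (a b : ℕ) : m2 a b 1 = b := by simp [m2]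
@[simp] theorem m3_zero (i j k : ℕ) : m3 i j k 0 = i := by simp [m3]
@[simp] theorem m3_one (i j k : ℕ) : m3 i j k 1 = j := by simp [m3]
@[simp] theorem m3_two (i j k : ℕ) : m3 i j k 2 = k := by simp [m3]

theorem m2_eta (d : Fin 2 →₀ ℕ) : d = m2 (d 0) (d 1) := by
  ext t
  fin_cases t <;> simp

theorem m3_eta (d : Fin 3 →₀ ℕ) : d = m3 (d 0) (d 1) (d 2) := by
  ext t
  fin_cases t <;> simp

theorem m2_inj {a b a' b' : ℕ} : m2 a b = m2 a' b' ↔ a = a' ∧ b = b' := by
  constructor
  · intro h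
    exact ⟨by simpa using DFunLike.congr_fun h 0, by simpa using DFunLike.congr_fun h 1⟩
  · rintro ⟨rfl, rfl⟩; rfl

theorem m3_inj {i j k i' j' k' : ℕ} : m3 i j k = m3 i' j' k' ↔ i = i' ∧ j = j' ∧ k = k' := by
  constructor
  · intro h
    exact ⟨by simpa using DFunLike.congr_fun h 0, by simpa using DFunLike.congr_fun h 1,
      by simpa using DFunLike.congr_fun h 2⟩
  · rintro ⟨rfl, rfl, rfl⟩; rfl

theorem degree_m2 (a b : ℕ) : (m2 a b).degree = a + b := by
  rw [Finsupp.degree_eq_sum, Fin.sum_univ_two]; simp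

theorem X_pow_mul_X_pow2 (a b : ℕ) :
    (X 0 : MvPolynomial (Fin 2) R) ^ a * X 1 ^ b = monomial (m2 a b) 1 := by
  rw [X_pow_eq_monomial, X_pow_eq_monomial, monomial_mul, one_mul, m2]

theorem X_pow_mul_X_pow3 (i j k : ℕ) :
    (X 0 : MvPolynomial (Fin 3) R) ^ i * X 1 ^ j * X 2 ^ k = monomial (m3 i j k) 1 := by
  rw [X_pow_eq_monomial, X_pow_eq_monomial, X_pow_eq_monomial, monomial_mul, monomial_mul, one_mul,
    one_mul, m3]

/-- coefficient of `(X0+X1)^n` -/
theorem coeff_add_pow2 (n a b : ℕ) :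
    coeff (m2 a b) (((X 0 : MvPolynomial (Fin 2) R) + X 1) ^ n) =
      if a + b = n then (n.choose a : R) else 0 := by
  classical
  rw [add_pow, coeff_sum]
  have : ∀ t ∈ Finset.range (n + 1), coeff (m2 a b)
      ((X 0 : MvPolynomial (Fin 2) R) ^ t * X 1 ^ (n - t) * (n.choose t : MvPolynomial (Fin 2) R)) =
      if t = a ∧ n - t = b then (n.choose t : R) else 0 := by
    intro t _
    rw [X_pow_mul_X_pow2, ← C_eq_coe_nat, mul_comm, coeff_C_mul, coeff_monomial]
    simp only [m2_inj]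
    split_ifs <;> simp
  rw [Finset.sum_congr rfl this]
  split_ifs with h
  · rw [Finset.sum_eq_single a]
    · rw [if_pos ⟨rfl, by omega⟩]
    · intro t _ hne
      rw [if_neg (fun h' => hne h'.1)]
    · intro hnot
      exact absurd (Finset.mem_range.mpr (by omega)) hnot
  · apply Finset.sum_eq_zero
    intro t ht
    rw [if_neg]
    rintro ⟨rfl, h2⟩
    have := Finset.mem_range.mp ht
    omega

/-! ### three variables -/

theorem coeff_mono3_mul_nat (i j k i' j' k' c : ℕ) :
    coeff (m3 i j k) ((X 0 : MvPolynomial (Fin 3) R) ^ i' * X 1 ^ j' * X 2 ^ k' *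
      (c : MvPolynomial (Fin 3) R)) = if i' = i ∧ j' = j ∧ k' = k then (c : R) else 0 := by
  classical
  rw [X_pow_mul_X_pow3, ← C_eq_coe_nat, mul_comm, coeff_C_mul, coeff_monomial]
  simp only [m3_inj]
  split_ifs <;> simp

theorem coeff_P1 (i j k a b : ℕ) :
    coeff (m3 i j k) ((X 0 : MvPolynomial (Fin 3) R) ^ a * (X 1 + X 2) ^ b) =
      if a = i ∧ b = j + k then (b.choose j : R) else 0 := by
  classical
  rw [add_pow, Finset.mul_sum, coeff_sum]
  have : ∀ t ∈ Finset.range (b + 1), coeff (m3 i j k)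
      ((X 0 : MvPolynomial (Fin 3) R) ^ a * (X 1 ^ t * X 2 ^ (b - t) * (b.choose t : MvPolynomial (Fin 3) R))) =
      if a = i ∧ t = j ∧ b - t = k then (b.choose t : R) else 0 := by
    intro t _
    rw [← coeff_mono3_mul_nat (R := R) i j k a t (b - t) (b.choose t)]
    congr 1
    ring
  rw [Finset.sum_congr rfl this]
  split_ifs with h
  · obtain ⟨rfl, rfl⟩ := h
    rw [Finset.sum_eq_single j]
    · rw [if_pos ⟨rfl, rfl, by omega⟩]
    · intro t _ hne
      rw [if_neg (fun h' => hne h'.2.1)]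
    · intro hnot
      exact absurd (Finset.mem_range.mpr (by omega)) hnot
  · apply Finset.sum_eq_zero
    intro t ht
    rw [if_neg]
    rintro ⟨rfl, rfl, h3⟩
    have := Finset.mem_range.mp ht
    apply h
    exact ⟨rfl, by omega⟩

theorem coeff_P3 (i j k a b : ℕ) :
    coeff (m3 i j k) (((X 0 : MvPolynomial (Fin 3) R) + X 1) ^ a * X 2 ^ b) =
      if a = i + j ∧ b = k then (a.choose i : R) else 0 := by
  classical
  rw [add_pow, Finset.sum_mul, coeff_sum]
  have : ∀ t ∈ Finset.range (a + 1), coeff (m3 i j k)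
      ((X 0 : MvPolynomial (Fin 3) R) ^ t * X 1 ^ (a - t) * (a.choose t : MvPolynomial (Fin 3) R) * X 2 ^ b) =
      if t = i ∧ a - t = j ∧ b = k then (a.choose t : R) else 0 := by
    intro t _
    rw [← coeff_mono3_mul_nat (R := R) i j k t (a - t) b (a.choose t)]
    congr 1
    ring
  rw [Finset.sum_congr rfl this]
  split_ifs with h
  · obtain ⟨rfl, rfl⟩ := h
    rw [Finset.sum_eq_single i]
    · rw [if_pos ⟨rfl, by omega, rfl⟩]
    · intro t _ hne
      rw [if_neg (fun h' => hne h'.1)]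
    · intro hnot
      exact absurd (Finset.mem_range.mpr (by omega)) hnot
  · apply Finset.sum_eq_zero
    intro t ht
    rw [if_neg]
    rintro ⟨rfl, h2, rfl⟩
    have := Finset.mem_range.mp ht
    apply h
    exact ⟨by omega, rfl⟩

theorem coeff_P2 (i j k a b : ℕ) :
    coeff (m3 i j k) ((X 1 : MvPolynomial (Fin 3) R) ^ a * X 2 ^ b) =
      if i = 0 ∧ a = j ∧ b = k then (1 : R) else 0 := by
  classical
  have := coeff_mono3_mul_nat (R := R) i j k 0 a b 1
  simp only [pow_zero, one_mul, Nat.cast_one, mul_one] at this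
  rw [this]
  simp only [eq_comm (a := 0)]

theorem coeff_P4 (i j k a b : ℕ) :
    coeff (m3 i j k) ((X 0 : MvPolynomial (Fin 3) R) ^ a * X 1 ^ b) =
      if a = i ∧ b = j ∧ k = 0 then (1 : R) else 0 := by
  classical
  have := coeff_mono3_mul_nat (R := R) i j k a b 0 1
  simp only [pow_zero, Nat.cast_one, mul_one] at this
  rw [this]
  simp only [eq_comm (a := 0)]

theorem coeff_aeval3 (g : Fin 2 → MvPolynomial (Fin 3) R) (m : Fin 3 →₀ ℕ)
    (F : MvPolynomial (Fin 2) R) :
    coeff m (aeval g F) = ∑ d ∈ F.support, coeff d F * coeff m ((g 0) ^ (d 0) * (g 1) ^ (d 1)) := by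
  rw [aeval_def, eval₂_eq', coeff_sum]
  apply Finset.sum_congr rfl
  intro d _
  rw [Fin.prod_univ_two, algebraMap_eq, coeff_C_mul]

theorem sum_support_single (F : MvPolynomial (Fin 2) R) (a b : ℕ) (φ : (Fin 2 →₀ ℕ) → R)
    (hφ : ∀ d, d ≠ m2 a b → φ d = 0) :
    ∑ d ∈ F.support, coeff d F * φ d = coeff (m2 a b) F * φ (m2 a b) := by
  classical
  rw [Finset.sum_eq_single (m2 a b)]
  · intro d _ hd
    rw [hφ d hd, mul_zero]
  · intro hnot
    rw [notMem_support_iff.mp hnot, zero_mul]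

theorem coeff_T1 (F : MvPolynomial (Fin 2) R) (i j k : ℕ) :
    coeff (m3 i j k) (aeval ![X 0, X 1 + X 2] F) =
      coeff (m2 i (j + k)) F * ((j + k).choose j : R) := by
  rw [coeff_aeval3]
  simp only [Matrix.cons_val_zero, Matrix.cons_val_one, coeff_P1]
  rw [sum_support_single F i (j + k)]
  · simp
  · intro d hd
    rw [if_neg]
    rintro ⟨h1, h2⟩
    apply hd
    rw [m2_eta d, h1, h2]

theorem coeff_T2 (F : MvPolynomial (Fin 2) R) (i j k : ℕ) :
    coeff (m3 i j k) (aeval ![X 1, X 2] F) =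
      if i = 0 then coeff (m2 j k) F else 0 := by
  rw [coeff_aeval3]
  simp only [Matrix.cons_val_zero, Matrix.cons_val_one, coeff_P2]
  rw [sum_support_single F j k]
  · simp
  · intro d hd
    rw [if_neg]
    rintro ⟨_, h1, h2⟩
    apply hd
    rw [m2_eta d, h1, h2]

theorem coeff_T3 (F : MvPolynomial (Fin 2) R) (i j k : ℕ) :
    coeff (m3 i j k) (aeval ![X 0 + X 1, X 2] F) =
      coeff (m2 (i + j) k) F * ((i + j).choose i : R) := by
  rw [coeff_aeval3]
  simp only [Matrix.cons_val_zero, Matrix.cons_val_one, coeff_P3]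
  rw [sum_support_single F (i + j) k]
  · simp
  · intro d hd
    rw [if_neg]
    rintro ⟨h1, h2⟩
    apply hd
    rw [m2_eta d, h1, h2]

theorem coeff_T4 (F : MvPolynomial (Fin 2) R) (i j k : ℕ) :
    coeff (m3 i j k) (aeval ![X 0, X 1] F) =
      if k = 0 then coeff (m2 i j) F else 0 := by
  rw [coeff_aeval3]
  simp only [Matrix.cons_val_zero, Matrix.cons_val_one, coeff_P4]
  rw [sum_support_single F i j]
  · simp
  · intro d hd
    rw [if_neg]
    rintro ⟨h1, h2, _⟩
    apply hd
    rw [m2_eta d, h1, h2]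

/-- The cocycle expression. -/
noncomputable def E (F : MvPolynomial (Fin 2) R) : MvPolynomial (Fin 3) R :=
  aeval ![X 0, X 1 + X 2] F + aeval ![X 1, X 2] F - aeval ![X 0 + X 1, X 2] F - aeval ![X 0, X 1] F

theorem coeff_E (F : MvPolynomial (Fin 2) R) (i j k : ℕ) :
    coeff (m3 i j k) (E F) =
      coeff (m2 i (j + k)) F * ((j + k).choose j : R) + (if i = 0 then coeff (m2 j k) F else 0)
        - coeff (m2 (i + j) k) F * ((i + j).choose i : R) - (if k = 0 then coeff (m2 i j) F else 0) := by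
  rw [E, coeff_sub, coeff_sub, coeff_add, coeff_T1, coeff_T2, coeff_T3, coeff_T4]

/-- coefficient of the swap -/
theorem coeff_swap (F : MvPolynomial (Fin 2) R) (a b : ℕ) :
    coeff (m2 a b) (aeval ![X 1, X 0] F) = coeff (m2 b a) F := by
  classical
  rw [aeval_def, eval₂_eq', coeff_sum]
  have : ∀ d ∈ F.support, coeff (m2 a b)
      ((algebraMap R (MvPolynomial (Fin 2) R)) (coeff d F) * ∏ i, (![X 1, X 0] : Fin 2 → MvPolynomial (Fin 2) R) i ^ d i) =
      coeff d F * (if d = m2 b a then 1 else 0) := by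
    intro d _
    rw [Fin.prod_univ_two, algebraMap_eq, coeff_C_mul]
    simp only [Matrix.cons_val_zero, Matrix.cons_val_one]
    rw [mul_comm (X 1 ^ d 0), X_pow_mul_X_pow2, coeff_monomial]
    congr 1
    have : m2 (d 1) (d 0) = m2 a b ↔ d = m2 b a := by
      rw [m2_inj]
      constructor
      · rintro ⟨h1, h2⟩; rw [m2_eta d, h1, h2]
      · intro h; rw [h]; simp
    simp only [this]
  rw [Finset.sum_congr rfl this, sum_support_single F b a]
  · simp
  · intro d hd
    rw [if_neg hd]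

/-! ### The polynomials `S`, `δG`, and the set `V` -/

section V

variable (p : ℕ) (R)

/-- `S(X,Y) = ∑_{0<j<p} (C(p,j)/p) X^j Y^(p-j)` -/
noncomputable def S : MvPolynomial (Fin 2) R :=
  ∑ j ∈ Finset.Ioo 0 p, C ((p.choose j / p : ℕ) : R) * X 0 ^ j * X 1 ^ (p - j)

variable {R}

/-- `δG = G(X+Y) - G(X) - G(Y)` -/
noncomputable def delta (G : Polynomial R) : MvPolynomial (Fin 2) R :=
  Polynomial.aeval (X 0 + X 1 : MvPolynomial (Fin 2) R) G
    - Polynomial.aeval (X 0 : MvPolynomial (Fin 2) R) G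
    - Polynomial.aeval (X 1 : MvPolynomial (Fin 2) R) G

variable (R)

/-- Frobenius twists of `S` -/
noncomputable def Stw (i : ℕ) : MvPolynomial (Fin 2) R :=
  aeval ![X 0 ^ p ^ i, X 1 ^ p ^ i] (S R p)

/-- The set of polynomials of the form `δG + ∑ r_i S(X^(p^i), Y^(p^i))`. -/
def V : Set (MvPolynomial (Fin 2) R) :=
  {F | ∃ (G : Polynomial R) (N : ℕ) (r : ℕ → R),
    F = delta G + ∑ i ∈ Finset.range N, C (r i) * Stw R p i}

variable {R} {p}

theorem delta_add (G G' : Polynomial R) : delta (G + G') = delta G + delta G' := by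
  simp only [delta, map_add]; ring

theorem V_extend {F : MvPolynomial (Fin 2) R} {G : Polynomial R} {N : ℕ} {r : ℕ → R}
    (h : F = delta G + ∑ i ∈ Finset.range N, C (r i) * Stw R p i) {N' : ℕ} (hN : N ≤ N') :
    F = delta G + ∑ i ∈ Finset.range N', C (if i < N then r i else 0) * Stw R p i := by
  rw [h]
  congr 1
  have h1 : ∀ i ∈ Finset.range N', C (if i < N then r i else 0) * Stw R p i =
      if i < N then C (r i) * Stw R p i else 0 := by
    intro i _
    split_ifs <;> simp
  rw [Finset.sum_congr rfl h1, ← Finset.sum_filter]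
  congr 1
  ext i
  simp only [Finset.mem_range, Finset.mem_filter]
  omega

theorem V_add {F F' : MvPolynomial (Fin 2) R} (hF : F ∈ V R p) (hF' : F' ∈ V R p) :
    F + F' ∈ V R p := by
  obtain ⟨G, N, r, h⟩ := hF
  obtain ⟨G', N', r', h'⟩ := hF'
  have e1 := V_extend h (le_max_left N N')
  have e2 := V_extend h' (le_max_right N N')
  refine ⟨G + G', max N N', fun i => (if i < N then r i else 0) + (if i < N' then r' i else 0), ?_⟩
  rw [delta_add]
  conv_lhs => rw [e1, e2]
  simp only [map_add, add_mul, Finset.sum_add_distrib]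
  ring

theorem V_zero : (0 : MvPolynomial (Fin 2) R) ∈ V R p :=
  ⟨0, 0, fun _ => 0, by simp [delta]⟩

theorem V_sum {ι : Type*} (s : Finset ι) (F : ι → MvPolynomial (Fin 2) R)
    (h : ∀ i ∈ s, F i ∈ V R p) : ∑ i ∈ s, F i ∈ V R p := by
  classical
  induction s using Finset.induction_on with
  | empty => simpa using V_zero
  | insert a s ha ih =>
    rw [Finset.sum_insert ha]
    exact V_add (h a (Finset.mem_insert_self _ _))
      (ih (fun i hi => h i (Finset.mem_insert_of_mem hi)))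

end V

end Groth.Agent.Lib.helper13.Lazard
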