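import Mathlib
import Groth.Agent.Lib.helper13.Lazard

set_option autoImplicit false

namespace Groth.Agent.Lib.helper13.Lazard

open MvPolynomial

variable {R : Type*} [CommRing R]

/-! ### linearity -/

theorem E_zero : E (0 : MvPolynomial (Fin 2) R) = 0 := by simp [E]

theorem E_add (F G : MvPolynomial (Fin 2) R) : E (F + G) = E F + E G := by
  simp only [E, map_add]; ring

theorem E_sub (F G : MvPolynomial (Fin 2) R) : E (F - G) = E F - E G := by
  simp only [E, map_sub]; ring

theorem E_C_mul (r : R) (F : MvPolynomial (Fin 2) R) : E (C r * F) = C r * E F := by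
  simp only [E, map_mul, aeval_C, algebraMap_eq]; ring

theorem E_sum {ι : Type*} (s : Finset ι) (F : ι → MvPolynomial (Fin 2) R) :
    E (∑ i ∈ s, F i) = ∑ i ∈ s, E (F i) := by
  classical
  induction s using Finset.induction_on with
  | empty => simp [E_zero]
  | insert a s ha ih => rw [Finset.sum_insert ha, Finset.sum_insert ha, E_add, ih]

/-! ### `δG` is a symmetric cocycle -/

theorem swap_delta (G : Polynomial R) : aeval ![X 1, X 0] (delta G) = delta G := by
  simp only [delta, map_sub, ← Polynomial.aeval_algHom_apply, map_add, aeval_X,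
    Matrix.cons_val_zero, Matrix.cons_val_one]
  rw [add_comm (X 1 : MvPolynomial (Fin 2) R) (X 0)]
  ring

theorem E_delta (G : Polynomial R) : E (delta G) = 0 := by
  simp only [E, delta, map_sub, ← Polynomial.aeval_algHom_apply, map_add, aeval_X,
    Matrix.cons_val_zero, Matrix.cons_val_one]
  rw [add_assoc (X 0 : MvPolynomial (Fin 3) R) (X 1) (X 2)]
  ring

/-! ### compatibility with `expand` in characteristic `p` -/

theorem swap_expand (q : ℕ) (F : MvPolynomial (Fin 2) R) :
    aeval (![X 1, X 0] : Fin 2 → MvPolynomial (Fin 2) R) (expand q F) =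
      expand q (aeval (![X 1, X 0] : Fin 2 → MvPolynomial (Fin 2) R) F) := by
  rw [aeval_expand, aeval_eq_bind₁ ![X 1, X 0], expand_bind₁, ← aeval_eq_bind₁]
  have : (![X 1, X 0] : Fin 2 → MvPolynomial (Fin 2) R) ^ q =
      fun i => expand q ((![X 1, X 0] : Fin 2 → MvPolynomial (Fin 2) R) i) := by
    funext i
    fin_cases i <;> simp
  rw [this]

theorem E_expand (p : ℕ) [Fact p.Prime] [CharP R p] (F : MvPolynomial (Fin 2) R) :
    E (expand p F) = expand p (E F) := by
  have hadd : ∀ a b : MvPolynomial (Fin 3) R, (a + b) ^ p = a ^ p + b ^ p := fun a b =>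
    add_pow_char a b p
  simp only [E, map_sub, map_add, aeval_expand]
  have h1 : ∀ g : Fin 2 → MvPolynomial (Fin 3) R, (∀ i, g i ^ p = expand p (g i)) →
      aeval (g ^ p) F = expand p (aeval g F) := by
    intro g hg
    rw [aeval_eq_bind₁ g, expand_bind₁, ← aeval_eq_bind₁]
    have : g ^ p = fun i => expand p (g i) := funext hg
    rw [this]
  rw [h1, h1, h1, h1]
  all_goals
    intro i
    fin_cases i <;> simp [hadd]

end Groth.Agent.Lib.helper13.Lazard
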