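import Mathlib
import Groth.Agent.Lib.helper13.Lazard
import Groth.Agent.Lib.helper13.Lazard2

set_option autoImplicit false

namespace Groth.Agent.Lib.helper13.Lazard

open MvPolynomial

variable {R : Type*} [CommRing R]

theorem coeff_X0_pow (a b n : ℕ) :
    coeff (m2 a b) ((X 0 : MvPolynomial (Fin 2) R) ^ n) = if a = n ∧ b = 0 then 1 else 0 := by
  classical
  have := X_pow_mul_X_pow2 (R := R) n 0
  rw [pow_zero, mul_one] at this
  rw [this, coeff_monomial]
  simp only [m2_inj, eq_comm]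

theorem coeff_X1_pow (a b n : ℕ) :
    coeff (m2 a b) ((X 1 : MvPolynomial (Fin 2) R) ^ n) = if a = 0 ∧ b = n then 1 else 0 := by
  classical
  have := X_pow_mul_X_pow2 (R := R) 0 n
  rw [pow_zero, one_mul] at this
  rw [this, coeff_monomial]
  simp only [m2_inj, eq_comm]

theorem coeff_S (p a b : ℕ) :
    coeff (m2 a b) (S R p) =
      if 0 < a ∧ a < p ∧ a + b = p then ((p.choose a / p : ℕ) : R) else 0 := by
  classical
  rw [S, coeff_sum]
  have : ∀ j ∈ Finset.Ioo 0 p, coeff (m2 a b)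
      (C ((p.choose j / p : ℕ) : R) * X 0 ^ j * X 1 ^ (p - j)) =
      if j = a ∧ p - j = b then ((p.choose j / p : ℕ) : R) else 0 := by
    intro j _
    rw [mul_assoc, X_pow_mul_X_pow2, coeff_C_mul, coeff_monomial]
    simp only [m2_inj]
    split_ifs <;> simp
  rw [Finset.sum_congr rfl this]
  split_ifs with h
  · rw [Finset.sum_eq_single a]
    · rw [if_pos ⟨rfl, by omega⟩]
    · intro t _ hne
      rw [if_neg (fun h' => hne h'.1)]
    · intro hnot
      exact absurd (Finset.mem_Ioo.mpr ⟨h.1, h.2.1⟩) hnot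
  · apply Finset.sum_eq_zero
    intro t ht
    rw [if_neg]
    rintro ⟨rfl, h2⟩
    have := Finset.mem_Ioo.mp ht
    apply h
    omega

theorem S_map {R' : Type*} [CommRing R'] (f : R →+* R') (p : ℕ) :
    map f (S R p) = S R' p := by
  simp [S, map_sum]

theorem delta_X_pow (n : ℕ) :
    delta (Polynomial.X ^ n : Polynomial R) = (X 0 + X 1) ^ n - X 0 ^ n - X 1 ^ n := by
  simp [delta]

theorem delta_C_mul_X_pow (g : R) (n : ℕ) :
    delta (Polynomial.C g * Polynomial.X ^ n : Polynomial R) =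
      C g * ((X 0 + X 1) ^ n - X 0 ^ n - X 1 ^ n) := by
  simp [delta, algebraMap_eq]; ring

theorem p_mul_S (p : ℕ) (hp : p.Prime) :
    C (p : ℤ) * S ℤ p = delta (Polynomial.X ^ p : Polynomial ℤ) := by
  rw [delta_X_pow]
  ext d
  rw [m2_eta d, coeff_C_mul, coeff_S, coeff_sub, coeff_sub, coeff_add_pow2, coeff_X0_pow,
    coeff_X1_pow]
  generalize d 0 = a
  generalize d 1 = b
  have hp0 := hp.pos
  by_cases hab : a + b = p
  · rcases Nat.eq_zero_or_pos a with ha | ha
    · subst ha
      have hb : b = p := by omega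
      subst hb
      simp [hp0.ne']
    · by_cases hap : a = p
      · subst hap
        have hb : b = 0 := by omega
        subst hb
        simp [hp0.ne']
      · have hlt : a < p := by omega
        rw [if_pos ⟨ha, hlt, hab⟩, if_pos hab, if_neg (by omega), if_neg (by omega)]
        have hdvd : p ∣ p.choose a := hp.dvd_choose_self ha.ne' hlt
        obtain ⟨c, hc⟩ := hdvd
        rw [hc, Nat.mul_div_cancel_left _ hp0]
        push_cast
        ring
  · rw [if_neg (by omega), if_neg hab, if_neg (by omega), if_neg (by omega)]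
    simp

theorem E_S_int (p : ℕ) (hp : p.Prime) : E (S ℤ p) = 0 := by
  have h := congrArg E (p_mul_S p hp)
  rw [E_C_mul, E_delta, mul_eq_zero] at h
  rcases h with h | h
  · exfalso
    rw [← C_0, C_inj] at h
    exact hp.ne_zero (by exact_mod_cast h)
  · exact h

theorem swap_S_int (p : ℕ) (hp : p.Prime) :
    aeval (![X 1, X 0] : Fin 2 → MvPolynomial (Fin 2) ℤ) (S ℤ p) = S ℤ p := by
  have h := congrArg (aeval (![X 1, X 0] : Fin 2 → MvPolynomial (Fin 2) ℤ)) (p_mul_S p hp)
  rw [swap_delta, ← p_mul_S p hp, map_mul, aeval_C, algebraMap_eq] at h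
  have hc : (C (p : ℤ) : MvPolynomial (Fin 2) ℤ) ≠ 0 := by
    intro h0
    rw [← C_0, C_inj] at h0
    exact hp.ne_zero (by exact_mod_cast h0)
  exact mul_left_cancel₀ hc h

theorem aeval_map' {R' : Type*} [CommRing R'] (f : R →+* R') {n : ℕ}
    (g : Fin 2 → MvPolynomial (Fin n) R) (g' : Fin 2 → MvPolynomial (Fin n) R')
    (hg : ∀ i, map f (g i) = g' i) (F : MvPolynomial (Fin 2) R) :
    map f (aeval g F) = aeval g' (map f F) := by
  rw [aeval_eq_bind₁, map_bind₁, ← aeval_eq_bind₁]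
  have : (fun i => map f (g i)) = g' := funext hg
  rw [this]

theorem E_map {R' : Type*} [CommRing R'] (f : R →+* R') (F : MvPolynomial (Fin 2) R) :
    E (map f F) = map f (E F) := by
  simp only [E, map_sub, map_add]
  rw [aeval_map' f ![X 0, X 1 + X 2] ![X 0, X 1 + X 2], aeval_map' f ![X 1, X 2] ![X 1, X 2],
    aeval_map' f ![X 0 + X 1, X 2] ![X 0 + X 1, X 2], aeval_map' f ![X 0, X 1] ![X 0, X 1]]
  all_goals
    intro i
    fin_cases i <;> simp

theorem swap_map {R' : Type*} [CommRing R'] (f : R →+* R') (F : MvPolynomial (Fin 2) R) :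
    aeval (![X 1, X 0] : Fin 2 → MvPolynomial (Fin 2) R') (map f F) =
      map f (aeval (![X 1, X 0] : Fin 2 → MvPolynomial (Fin 2) R) F) := by
  rw [aeval_map' f ![X 1, X 0] ![X 1, X 0]]
  intro i
  fin_cases i <;> simp

theorem E_S (p : ℕ) (hp : p.Prime) : E (S R p) = 0 := by
  rw [← S_map (Int.castRingHom R), E_map, E_S_int p hp, map_zero]

theorem swap_S (p : ℕ) (hp : p.Prime) :
    aeval (![X 1, X 0] : Fin 2 → MvPolynomial (Fin 2) R) (S R p) = S R p := by
  rw [← S_map (Int.castRingHom R), swap_map, swap_S_int p hp]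

theorem Stw_zero (p : ℕ) : Stw R p 0 = S R p := by
  rw [Stw]
  have : (![X 0 ^ p ^ 0, X 1 ^ p ^ 0] : Fin 2 → MvPolynomial (Fin 2) R) = X := by
    funext i
    fin_cases i <;> simp
  rw [this, aeval_X_left, AlgHom.id_apply]

theorem Stw_succ (p i : ℕ) : Stw R p (i + 1) = expand p (Stw R p i) := by
  rw [Stw, Stw, aeval_eq_bind₁ ![X 0 ^ p ^ i, X 1 ^ p ^ i], expand_bind₁, ← aeval_eq_bind₁]
  have : (fun j => expand p ((![X 0 ^ p ^ i, X 1 ^ p ^ i] : Fin 2 → MvPolynomial (Fin 2) R) j)) =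
      ![X 0 ^ p ^ (i + 1), X 1 ^ p ^ (i + 1)] := by
    funext j
    fin_cases j <;> simp [← pow_mul, pow_succ']
  rw [this]

theorem E_Stw (p : ℕ) [Fact p.Prime] [CharP R p] (i : ℕ) : E (Stw R p i) = 0 := by
  induction i with
  | zero => rw [Stw_zero, E_S p Fact.out]
  | succ i ih => rw [Stw_succ, E_expand, ih, map_zero]

theorem swap_Stw (p : ℕ) [Fact p.Prime] (i : ℕ) :
    aeval (![X 1, X 0] : Fin 2 → MvPolynomial (Fin 2) R) (Stw R p i) = Stw R p i := by
  induction i with
  | zero => rw [Stw_zero, swap_S p Fact.out]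
  | succ i ih => rw [Stw_succ, swap_expand, ih]

/-- Every element of `V` is a symmetric cocycle. -/
theorem V_symm_cocycle (p : ℕ) [Fact p.Prime] [CharP R p] {F : MvPolynomial (Fin 2) R}
    (hF : F ∈ V R p) :
    aeval (![X 1, X 0] : Fin 2 → MvPolynomial (Fin 2) R) F = F ∧ E F = 0 := by
  obtain ⟨G, N, r, rfl⟩ := hF
  constructor
  · rw [map_add, swap_delta, map_sum]
    congr 1
    apply Finset.sum_congr rfl
    intro i _
    rw [map_mul, aeval_C, algebraMap_eq, swap_Stw]
  · rw [E_add, E_delta, E_sum, zero_add]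
    apply Finset.sum_eq_zero
    intro i _
    rw [E_C_mul, E_Stw, mul_zero]

end Groth.Agent.Lib.helper13.Lazard
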