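import Mathlib
import Groth.Agent.Lib.helper13.Lazard
import Groth.Agent.Lib.helper13.Lazard2
import Groth.Agent.Lib.helper13.Lazard3

set_option autoImplicit false

namespace Groth.Agent.Lib.helper13.Lazard

open MvPolynomial

variable {R : Type*} [CommRing R]

/-- coefficientwise symmetric-cocycle condition -/
def IsCoc (F : MvPolynomial (Fin 2) R) : Prop :=
  (∀ a b, coeff (m2 a b) F = coeff (m2 b a) F) ∧
  ∀ i j k, coeff (m2 i (j + k)) F * ((j + k).choose j : R)
      + (if i = 0 then coeff (m2 j k) F else 0)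
      - coeff (m2 (i + j) k) F * ((i + j).choose i : R)
      - (if k = 0 then coeff (m2 i j) F else 0) = 0

theorem isCoc_iff (F : MvPolynomial (Fin 2) R) :
    (aeval (![X 1, X 0] : Fin 2 → MvPolynomial (Fin 2) R) F = F ∧ E F = 0) ↔ IsCoc F := by
  constructor
  · rintro ⟨h1, h2⟩
    refine ⟨fun a b => ?_, fun i j k => ?_⟩
    · conv_lhs => rw [← h1, coeff_swap]
    · rw [← coeff_E, h2, coeff_zero]
  · rintro ⟨h1, h2⟩
    constructor
    · ext d
      rw [m2_eta d, coeff_swap]
      exact (h1 _ _).symm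
    · ext d
      rw [m3_eta d, coeff_E, h2, coeff_zero]

theorem m2_zero_zero : m2 0 0 = 0 := by simp [m2]

theorem smul_m2 (p a b : ℕ) : p • m2 a b = m2 (p * a) (p * b) := by
  ext t
  fin_cases t <;> simp

theorem delta_C (g : R) : delta (Polynomial.C g) = - C g := by
  simp [delta, algebraMap_eq]

theorem expand_delta (p : ℕ) [Fact p.Prime] [CharP R p] (G : Polynomial R) :
    expand p (delta G) = delta (Polynomial.expand R p G) := by
  simp only [delta, map_sub, ← Polynomial.aeval_algHom_apply, map_add, expand_X,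
    Polynomial.expand_aeval]
  rw [add_pow_char]

theorem V_expand (p : ℕ) [Fact p.Prime] [CharP R p] {g : MvPolynomial (Fin 2) R}
    (hg : g ∈ V R p) : expand p g ∈ V R p := by
  obtain ⟨G, N, r, rfl⟩ := hg
  refine ⟨Polynomial.expand R p G, N + 1, fun i => if i = 0 then 0 else r (i - 1), ?_⟩
  rw [map_add, expand_delta, map_sum, Finset.sum_range_succ']
  simp only [if_true, map_zero, zero_mul, add_zero, Nat.add_eq_zero_iff, one_ne_zero, and_false,
    if_false, Nat.add_sub_cancel, map_mul, expand_C, Stw_succ]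

theorem cast_choose_mul (p : ℕ) [Fact p.Prime] [CharP R p] (a b : ℕ) :
    (((p * a).choose (p * b) : ℕ) : R) = (a.choose b : R) := by
  have hp : 0 < p := (Fact.out : p.Prime).pos
  have h := Choose.choose_modEq_choose_mod_mul_choose_div_nat (p := p) (n := p * a) (k := p * b)
  rw [Nat.mul_mod_right, Nat.mul_mod_right, Nat.choose_self, one_mul,
    Nat.mul_div_cancel_left _ hp, Nat.mul_div_cancel_left _ hp] at h
  exact (CharP.natCast_eq_natCast R p).mpr h

theorem cast_choose_pred (p : ℕ) [Fact p.Prime] [CharP R p] (n' : ℕ) (hn' : 0 < n') :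
    (((p * n' - 1).choose (p - 1) : ℕ) : R) = 1 := by
  have hp : 0 < p := (Fact.out : p.Prime).pos
  have h := Choose.choose_modEq_choose_mod_mul_choose_div_nat (p := p) (n := p * n' - 1)
    (k := p - 1)
  have e1 : p * n' - 1 = (p - 1) + p * (n' - 1) := by
    obtain ⟨m, rfl⟩ : ∃ m, n' = m + 1 := ⟨n' - 1, by omega⟩
    rw [Nat.add_sub_cancel, mul_add, mul_one]
    omega
  have e2 : (p * n' - 1) % p = p - 1 := by
    rw [e1, Nat.add_mul_mod_self_left, Nat.mod_eq_of_lt (by omega)]
  have e3 : (p - 1) % p = p - 1 := Nat.mod_eq_of_lt (by omega)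
  have e4 : (p - 1) / p = 0 := Nat.div_eq_of_lt (by omega)
  rw [e2, e3, e4, Nat.choose_self, Nat.choose_zero_right, one_mul] at h
  have := (CharP.natCast_eq_natCast R p).mpr h
  rw [this, Nat.cast_one]

end Groth.Agent.Lib.helper13.Lazard
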