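import Mathlib
import Groth.Agent.Lib.helper13.Lazard
import Groth.Agent.Lib.helper13.Lazard2
import Groth.Agent.Lib.helper13.Lazard3
import Groth.Agent.Lib.helper13.Lazard4

set_option autoImplicit false

namespace Groth.Agent.Lib.helper13.Lazard

open MvPolynomial

variable {R : Type*} [CommRing R]

theorem nat_choose_pred (n m : ℕ) (hn : 0 < n) (hm : 0 < m) :
    n * (n - 1).choose (m - 1) = n.choose m * m := by
  have := Nat.add_one_mul_choose_eq (n - 1) (m - 1)
  rwa [Nat.sub_add_cancel hn, Nat.sub_add_cancel hm] at this

/-- The homogeneous case of Lazard's lemma in characteristic `p`. -/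
theorem hom_mem_V (p : ℕ) [Fact p.Prime] [CharP R p] :
    ∀ (n : ℕ) (F : MvPolynomial (Fin 2) R), (∀ a b, a + b ≠ n → coeff (m2 a b) F = 0) →
      IsCoc F → F ∈ V R p := by
  intro n
  induction n using Nat.strong_induction_on with
  | _ n ih =>
  intro F hsupp hcoc
  obtain ⟨hsym, hK⟩ := hcoc
  have hp : p.Prime := Fact.out
  have hp2 : 2 ≤ p := hp.two_le
  rcases Nat.eq_zero_or_pos n with hn | hn
  · -- n = 0
    have hF : F = delta (Polynomial.C (- coeff (m2 0 0) F)) := by
      rw [delta_C, map_neg, neg_neg]
      ext d
      rw [m2_eta d, coeff_C]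
      by_cases h : d 0 + d 1 = 0
      · have h0 : d 0 = 0 := by omega
        have h1 : d 1 = 0 := by omega
        rw [h0, h1, m2_zero_zero, if_pos rfl]
      · rw [hsupp _ _ (by omega), if_neg]
        intro h'
        rw [← m2_zero_zero, m2_inj] at h'
        omega
    exact ⟨_, 0, fun _ => 0, by rw [Finset.sum_range_zero, add_zero]; exact hF⟩
  -- n ≥ 1
  have hb0 : coeff (m2 0 n) F = 0 := by
    have := hK 0 0 n
    simp only [zero_add, Nat.choose_zero_right, Nat.cast_one, mul_one, if_true,
      Nat.choose_self] at this
    rw [if_neg hn.ne'] at this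
    linear_combination this
  have hbn : coeff (m2 n 0) F = 0 := by rw [hsym, hb0]
  have R1 : ∀ m, 1 ≤ m → m < n → (m : R) * coeff (m2 m (n - m)) F =
      coeff (m2 1 (n - 1)) F * ((n - 1).choose (m - 1) : R) := by
    intro m hm1 hmn
    have := hK 1 (m - 1) (n - m)
    have e1 : m - 1 + (n - m) = n - 1 := by omega
    have e2 : 1 + (m - 1) = m := by omega
    rw [e1, e2, if_neg one_ne_zero, if_neg (by omega), Nat.choose_one_right] at this
    linear_combination (-1 : R) * this
  by_cases hpn : p ∣ n
  swap
  · -- Case A : p ∤ n
    have hu : IsUnit (n : R) := (CharP.isUnit_natCast_iff hp).mpr hpn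
    obtain ⟨ninv, hninv⟩ := hu.exists_right_inv
    obtain ⟨g, hg⟩ : ∃ g, g = ninv * coeff (m2 1 (n - 1)) F := ⟨_, rfl⟩
    have hng : (n : R) * g = coeff (m2 1 (n - 1)) F := by rw [hg, ← mul_assoc, hninv, one_mul]
    have key1 : ∀ m, 0 < m → m < n → ¬ p ∣ m →
        coeff (m2 m (n - m)) F = g * (n.choose m : R) := by
      intro m hm0 hmn hpm
      have hum : IsUnit (m : R) := (CharP.isUnit_natCast_iff hp).mpr hpm
      apply hum.mul_left_cancel
      rw [R1 m hm0 hmn, ← hng]
      have hcast : (n : R) * ((n - 1).choose (m - 1) : R) = (n.choose m : R) * (m : R) := by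
        exact_mod_cast congrArg (Nat.cast : ℕ → R) (nat_choose_pred n m hn hm0)
      linear_combination g * hcast
    have key : ∀ m, 0 < m → m < n → coeff (m2 m (n - m)) F = g * (n.choose m : R) := by
      intro m hm0 hmn
      by_cases hpm : p ∣ m
      · have hpm' : ¬ p ∣ (n - m) := by
          intro h
          apply hpn
          have := Nat.dvd_add hpm h
          rwa [Nat.add_sub_cancel' hmn.le] at this
        have := key1 (n - m) (by omega) (by omega) hpm'
        rw [Nat.sub_sub_self hmn.le] at this
        rw [hsym, this, Nat.choose_symm hmn.le]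
      · exact key1 m hm0 hmn hpm
    have hF : F = delta (Polynomial.C g * Polynomial.X ^ n) := by
      rw [delta_C_mul_X_pow]
      ext d
      rw [m2_eta d, coeff_C_mul, coeff_sub, coeff_sub, coeff_add_pow2, coeff_X0_pow, coeff_X1_pow]
      generalize d 0 = a
      generalize d 1 = b
      by_cases hab : a + b = n
      · rcases Nat.eq_zero_or_pos a with ha | ha
        · have hb : b = n := by omega
          rw [ha, hb, hb0, if_pos (by omega), if_neg (by omega), if_pos ⟨rfl, rfl⟩]
          simp
        · by_cases han : a = n
          · have hb : b = 0 := by omega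
            rw [han, hb, hbn, if_pos (by omega), if_pos ⟨rfl, rfl⟩, if_neg (by omega)]
            simp
          · have hb : b = n - a := by omega
            rw [hb, key a ha (by omega), if_pos (by omega), if_neg (by omega), if_neg (by omega)]
            ring
      · rw [hsupp a b hab, if_neg hab, if_neg (by omega), if_neg (by omega)]
        ring
    exact ⟨_, 0, fun _ => 0, by rw [Finset.sum_range_zero, add_zero]; exact hF⟩
  by_cases hnp : n = p
  · -- Case B : n = p
    have key : ∀ m, 0 < m → m < n →
        coeff (m2 m (n - m)) F = coeff (m2 1 (n - 1)) F * ((p.choose m / p : ℕ) : R) := by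
      intro m hm0 hmn
      have hpm : ¬ p ∣ m := Nat.not_dvd_of_pos_of_lt hm0 (hnp ▸ hmn)
      have hum : IsUnit (m : R) := (CharP.isUnit_natCast_iff hp).mpr hpm
      apply hum.mul_left_cancel
      rw [R1 m hm0 hmn]
      obtain ⟨q, hq⟩ := hp.dvd_choose_self hm0.ne' (hnp ▸ hmn)
      have hnat := nat_choose_pred p m hp.pos hm0
      have h2 : (p - 1).choose (m - 1) = q * m := by
        rw [hq, mul_assoc] at hnat
        exact Nat.eq_of_mul_eq_mul_left hp.pos hnat
      rw [hq, Nat.mul_div_cancel_left _ hp.pos, hnp, h2]
      push_cast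
      ring
    have hF : F = C (coeff (m2 1 (n - 1)) F) * S R p := by
      ext d
      rw [m2_eta d, coeff_C_mul, coeff_S]
      generalize d 0 = a
      generalize d 1 = b
      by_cases hab : a + b = n
      · rcases Nat.eq_zero_or_pos a with ha | ha
        · have hb : b = n := by omega
          rw [ha, hb, hb0, if_neg (by omega), mul_zero]
        · by_cases han : a = n
          · have hb : b = 0 := by omega
            rw [han, hb, hbn, if_neg (by omega), mul_zero]
          · have hb : b = n - a := by omega
            rw [hb, key a ha (by omega), if_pos ⟨ha, by omega, by omega⟩]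
      · rw [hsupp a b hab, if_neg (by omega), mul_zero]
    refine ⟨0, 1, fun _ => coeff (m2 1 (n - 1)) F, ?_⟩
    rw [Finset.sum_range_one, Stw_zero]
    have : delta (0 : Polynomial R) = 0 := by simp [delta]
    rw [this, zero_add]
    exact hF
  · -- Case C : p ∣ n, n ≠ p
    obtain ⟨n', hn'⟩ := hpn
    have hn'2 : 2 ≤ n' := by
      rcases n' with _ | _ | n'
      · simp at hn'; omega
      · simp at hn'; omega
      · omega
    have hpn_lt : p < n := by rw [hn']; nlinarith
    have hn'_lt : n' < n := by rw [hn']; nlinarith
    have hu1 : coeff (m2 1 (n - 1)) F = 0 := by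
      have := R1 p hp.pos hpn_lt
      rw [CharP.cast_eq_zero R p, zero_mul] at this
      have h2 := cast_choose_pred (R := R) p n' (by omega)
      rw [← hn'] at h2
      rw [h2, mul_one] at this
      exact this.symm
    have hnd : ∀ a b, ¬ p ∣ a → coeff (m2 a b) F = 0 := by
      intro a b hpa
      by_cases hab : a + b = n
      · have ha0 : 0 < a := Nat.pos_of_ne_zero (fun h => hpa (h ▸ dvd_zero p))
        have han : a ≠ n := fun h => hpa (h ▸ ⟨n', hn'⟩)
        have hb : b = n - a := by omega
        have hum : IsUnit (a : R) := (CharP.isUnit_natCast_iff hp).mpr hpa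
        apply hum.mul_left_cancel
        rw [hb, R1 a ha0 (by omega), hu1, zero_mul, mul_zero]
      · exact hsupp a b hab
    have hnd' : ∀ a b, ¬ p ∣ b → coeff (m2 a b) F = 0 := fun a b h => by
      rw [hsym]; exact hnd b a h
    obtain ⟨g, hgdef⟩ : ∃ g : MvPolynomial (Fin 2) R, g = ∑ a ∈ Finset.range (n' + 1),
        monomial (m2 a (n' - a)) (coeff (m2 (p * a) (p * (n' - a))) F) := ⟨_, rfl⟩
    have hg : ∀ a b, coeff (m2 a b) g = coeff (m2 (p * a) (p * b)) F := by
      classical
      intro a b
      rw [hgdef, coeff_sum]
      simp only [coeff_monomial, m2_inj]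
      by_cases hab : a + b = n'
      · rw [Finset.sum_eq_single a]
        · have hb : n' - a = b := by omega
          rw [if_pos ⟨rfl, hb⟩, hb]
        · intro t _ hne
          rw [if_neg (fun h' => hne h'.1)]
        · intro hnot
          exact absurd (Finset.mem_range.mpr (by omega)) hnot
      · rw [Finset.sum_eq_zero, hsupp]
        · intro h
          apply hab
          rw [hn', ← mul_add] at h
          exact Nat.eq_of_mul_eq_mul_left hp.pos h
        · intro t ht
          rw [if_neg]
          rintro ⟨rfl, h2⟩
          have := Finset.mem_range.mp ht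
          omega
    have hFg : F = expand p g := by
      ext d
      rw [m2_eta d]
      generalize d 0 = a
      generalize d 1 = b
      by_cases ha : p ∣ a
      · by_cases hb : p ∣ b
        · obtain ⟨a', rfl⟩ := ha
          obtain ⟨b', rfl⟩ := hb
          rw [← smul_m2, coeff_expand_smul p hp.ne_zero, hg, smul_m2]
        · rw [hnd' a b hb, coeff_expand_of_not_dvd (i := 1)]
          simpa using hb
      · rw [hnd a b ha, coeff_expand_of_not_dvd (i := 0)]
        simpa using ha
    have hg_supp : ∀ a b, a + b ≠ n' → coeff (m2 a b) g = 0 := by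
      intro a b hab
      rw [hg]
      apply hsupp
      intro h
      apply hab
      rw [hn', ← mul_add] at h
      exact Nat.eq_of_mul_eq_mul_left hp.pos h
    have hg_coc : IsCoc g := by
      refine ⟨fun a b => by rw [hg, hg, hsym], fun i j k => ?_⟩
      rw [hg, hg, hg, hg]
      have := hK (p * i) (p * j) (p * k)
      rw [← mul_add, ← mul_add, cast_choose_mul, cast_choose_mul] at this
      simp only [mul_eq_zero, hp.ne_zero, false_or] at this
      exact this
    rw [hFg]
    exact V_expand p (ih n' hn'_lt g hg_supp hg_coc)

end Groth.Agent.Lib.helper13.Lazard
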