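import Mathlib
import Groth.Agent.Lib.helper13.Lazard
import Groth.Agent.Lib.helper13.Lazard2
import Groth.Agent.Lib.helper13.Lazard3
import Groth.Agent.Lib.helper13.Lazard4
import Groth.Agent.Lib.helper13.Lazard5

set_option autoImplicit false

namespace Groth.Agent.Lib.helper13.Lazard

open MvPolynomial

variable {R : Type*} [CommRing R]

theorem coeff_homComp (n a b : ℕ) (F : MvPolynomial (Fin 2) R) :
    coeff (m2 a b) (homogeneousComponent n F) = if a + b = n then coeff (m2 a b) F else 0 := by
  rw [coeff_homogeneousComponent, degree_m2]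

theorem isCoc_homComp (n : ℕ) {F : MvPolynomial (Fin 2) R} (hF : IsCoc F) :
    IsCoc (homogeneousComponent n F) := by
  obtain ⟨hsym, hK⟩ := hF
  refine ⟨fun a b => ?_, fun i j k => ?_⟩
  · rw [coeff_homComp, coeff_homComp, hsym a b, add_comm b a]
  · simp only [coeff_homComp]
    have := hK i j k
    split_ifs at this ⊢ <;> first | omega | (linear_combination this) | ring

/-- Lazard's symmetric 2-cocycle lemma in characteristic `p`. -/
theorem mem_V_of_isCoc (p : ℕ) [Fact p.Prime] [CharP R p] {F : MvPolynomial (Fin 2) R}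
    (hF : IsCoc F) : F ∈ V R p := by
  rw [← sum_homogeneousComponent F]
  apply V_sum
  intro n _
  apply hom_mem_V p n _ _ (isCoc_homComp n hF)
  intro a b hab
  rw [coeff_homComp, if_neg hab]

theorem mem_V_iff (p : ℕ) [Fact p.Prime] [CharP R p] (F : MvPolynomial (Fin 2) R) :
    (aeval (![X 1, X 0] : Fin 2 → MvPolynomial (Fin 2) R) F = F ∧ E F = 0) ↔ F ∈ V R p :=
  ⟨fun h => mem_V_of_isCoc p ((isCoc_iff F).mp h), fun h => V_symm_cocycle p h⟩

end Groth.Agent.Lib.helper13.Lazard
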