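import Mathlib
import Groth.Agent.Lib.helper13.Lazard6

set_option autoImplicit false

namespace Groth.Agent.Lib.helper13.GaExt

open MvPolynomial Groth.Agent.Lib.helper13.Lazard

variable {R : Type*} [CommRing R]

/-- polynomials in two variables all of whose coefficients of degree `≤ d` vanish -/
def Tr (d : ℕ) : Ideal (MvPolynomial (Fin 2) R) where
  carrier := {P | ∀ m : Fin 2 →₀ ℕ, m.degree ≤ d → coeff m P = 0}
  add_mem' := by
    intro P Q hP hQ m hm
    rw [coeff_add, hP m hm, hQ m hm, add_zero]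
  zero_mem' := by
    intro m _
    exact coeff_zero m
  smul_mem' := by
    classical
    intro Q P hP m hm
    rw [smul_eq_mul, coeff_mul]
    apply Finset.sum_eq_zero
    intro x hx
    rw [Finset.HasAntidiagonal.mem_antidiagonal] at hx
    have : x.2.degree ≤ d := by
      have := congrArg Finsupp.degree hx
      rw [map_add] at this
      omega
    rw [hP x.2 this, mul_zero]

theorem mem_Tr {d : ℕ} {P : MvPolynomial (Fin 2) R} :
    P ∈ Tr d ↔ ∀ m : Fin 2 →₀ ℕ, m.degree ≤ d → coeff m P = 0 := Iff.rfl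

theorem Tr_mono {a b : ℕ} (h : a ≤ b) : (Tr b : Ideal (MvPolynomial (Fin 2) R)) ≤ Tr a := by
  intro P hP m hm
  exact hP m (hm.trans h)

theorem Tr_mul {a b : ℕ} {P Q : MvPolynomial (Fin 2) R} (hP : P ∈ Tr a) (hQ : Q ∈ Tr b) :
    P * Q ∈ Tr (a + b + 1) := by
  classical
  intro m hm
  rw [coeff_mul]
  apply Finset.sum_eq_zero
  intro x hx
  rw [Finset.HasAntidiagonal.mem_antidiagonal] at hx
  have hdeg : x.1.degree + x.2.degree = m.degree := by
    have := congrArg Finsupp.degree hx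
    rwa [map_add] at this
  by_cases h1 : x.1.degree ≤ a
  · rw [hP x.1 h1, zero_mul]
  · have h2 : x.2.degree ≤ b := by omega
    rw [hQ x.2 h2, mul_zero]

/-- a monomial of degree `> d` lies in `Tr d` -/
theorem X_pow_mul_X_pow_mem_Tr {d i j : ℕ} (h : d < i + j) :
    (X 0 : MvPolynomial (Fin 2) R) ^ i * X 1 ^ j ∈ Tr d := by
  classical
  intro m hm
  rw [X_pow_mul_X_pow2, coeff_monomial, if_neg]
  intro heq
  rw [← heq, degree_m2] at hm
  omega

theorem X0_pow_mem_Tr {d i : ℕ} (h : d < i) : (X 0 : MvPolynomial (Fin 2) R) ^ i ∈ Tr d := by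
  have := X_pow_mul_X_pow_mem_Tr (R := R) (d := d) (i := i) (j := 0) (by omega)
  simpa using this

theorem X1_pow_mem_Tr {d i : ℕ} (h : d < i) : (X 1 : MvPolynomial (Fin 2) R) ^ i ∈ Tr d := by
  have := X_pow_mul_X_pow_mem_Tr (R := R) (d := d) (i := 0) (j := i) (by omega)
  simpa using this

theorem add_pow_mem_Tr {d i : ℕ} (h : d < i) :
    ((X 0 : MvPolynomial (Fin 2) R) + X 1) ^ i ∈ Tr d := by
  intro m hm
  rw [m2_eta m, coeff_add_pow2, if_neg]
  rw [m2_eta m, degree_m2] at hm
  omega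

end Groth.Agent.Lib.helper13.GaExt
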