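import Mathlib
import Groth.Agent.Lib.helper13.GaExt1

set_option autoImplicit false

namespace Groth.Agent.Lib.helper13.GaExt

open MvPolynomial Groth.Agent.Lib.helper13.Lazard

variable {R : Type*} [CommRing R]

/-- A multiplicative, bounded "weight filtration" by ideals admitting `p`-th roots. -/
structure WF (R : Type*) [CommRing R] (p : ℕ) where
  I : ℕ → Ideal R
  top : I 0 = ⊤
  mul : ∀ a b, I a * I b ≤ I (a + b)
  B : ℕ
  bound : ∀ n, B < n → I n = ⊥
  root : ∀ n c, c ∈ I (p * n) → ∃ s ∈ I n, s ^ p = c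

namespace WF

variable {p : ℕ} (W : WF R p)

theorem mul_mem {a b : ℕ} {x y : R} (hx : x ∈ W.I a) (hy : y ∈ W.I b) : x * y ∈ W.I (a + b) :=
  W.mul a b (Ideal.mul_mem_mul hx hy)

theorem mem_zero (x : R) : x ∈ W.I 0 := by rw [W.top]; trivial

theorem pow_mem {a : ℕ} {x : R} (hx : x ∈ W.I a) (j : ℕ) : x ^ j ∈ W.I (a * j) := by
  induction j with
  | zero => exact W.mem_zero _
  | succ j ih =>
    rw [pow_succ, Nat.mul_succ]
    exact W.mul_mem ih hx

theorem eq_zero_of_mem {n : ℕ} (hn : W.B < n) {x : R} (hx : x ∈ W.I n) : x = 0 := by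
  rw [W.bound n hn] at hx
  exact hx

/-- the weighted subring of `R[X,Y]` -/
def W2 : Subring (MvPolynomial (Fin 2) R) where
  carrier := {P | ∀ m : Fin 2 →₀ ℕ, coeff m P ∈ W.I m.degree}
  mul_mem' := by
    classical
    intro P Q hP hQ m
    rw [coeff_mul]
    apply Ideal.sum_mem
    intro x hx
    rw [Finset.HasAntidiagonal.mem_antidiagonal] at hx
    have hdeg : x.1.degree + x.2.degree = m.degree := by
      have := congrArg Finsupp.degree hx
      rwa [map_add] at this
    rw [← hdeg]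
    exact W.mul_mem (hP x.1) (hQ x.2)
  one_mem' := by
    classical
    intro m
    rw [coeff_one]
    split_ifs with h
    · rw [← h, map_zero]; exact W.mem_zero _
    · exact zero_mem _
  add_mem' := by
    intro P Q hP hQ m
    rw [coeff_add]
    exact add_mem (hP m) (hQ m)
  zero_mem' := by
    intro m
    rw [coeff_zero]
    exact zero_mem _
  neg_mem' := by
    intro P hP m
    rw [coeff_neg]
    exact neg_mem (hP m)

/-- the weighted subring of `R[X]` -/
def W1 : Subring (Polynomial R) where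
  carrier := {f | ∀ k : ℕ, f.coeff k ∈ W.I k}
  mul_mem' := by
    intro P Q hP hQ k
    rw [Polynomial.coeff_mul]
    apply Ideal.sum_mem
    intro x hx
    rw [Finset.HasAntidiagonal.mem_antidiagonal] at hx
    rw [← hx]
    exact W.mul_mem (hP x.1) (hQ x.2)
  one_mem' := by
    intro k
    rw [Polynomial.coeff_one]
    split_ifs with h
    · rw [h]; exact W.mem_zero _
    · exact zero_mem _
  add_mem' := by
    intro P Q hP hQ k
    rw [Polynomial.coeff_add]
    exact add_mem (hP k) (hQ k)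
  zero_mem' := by
    intro k
    rw [Polynomial.coeff_zero]
    exact zero_mem _
  neg_mem' := by
    intro P hP k
    rw [Polynomial.coeff_neg]
    exact neg_mem (hP k)

theorem mem_W2 {P : MvPolynomial (Fin 2) R} :
    P ∈ W.W2 ↔ ∀ m : Fin 2 →₀ ℕ, coeff m P ∈ W.I m.degree := Iff.rfl

theorem mem_W1 {f : Polynomial R} : f ∈ W.W1 ↔ ∀ k : ℕ, f.coeff k ∈ W.I k := Iff.rfl

theorem C_mul_X_pow_mem_W1 {a : R} {k : ℕ} (ha : a ∈ W.I k) :
    Polynomial.C a * Polynomial.X ^ k ∈ W.W1 := by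
  intro j
  rw [Polynomial.coeff_C_mul_X_pow]
  split_ifs with h
  · rw [h]; exact ha
  · exact zero_mem _

theorem C_mul_hom_mem_W2 {a : R} {k : ℕ} (ha : a ∈ W.I k) {Q : MvPolynomial (Fin 2) R}
    (hQ : Q.IsHomogeneous k) : C a * Q ∈ W.W2 := by
  intro m
  rw [coeff_C_mul]
  by_cases h : m.degree = k
  · rw [h]
    exact Ideal.mul_mem_right _ _ ha
  · rw [hQ.coeff_eq_zero h, mul_zero]
    exact zero_mem _

/-- substituting a linear form into a weighted polynomial gives a weighted polynomial -/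
theorem aeval_mem_W2 {f : Polynomial R} (hf : f ∈ W.W1) {L : MvPolynomial (Fin 2) R}
    (hL : L.IsHomogeneous 1) : Polynomial.aeval L f ∈ W.W2 := by
  rw [Polynomial.aeval_eq_sum_range]
  apply Subring.sum_mem
  intro i _
  rw [smul_eq_C_mul]
  apply W.C_mul_hom_mem_W2 (hf i)
  have := hL.pow i
  rwa [one_mul] at this

theorem aeval_X0_mem {f : Polynomial R} (hf : f ∈ W.W1) :
    Polynomial.aeval (X 0 : MvPolynomial (Fin 2) R) f ∈ W.W2 :=
  W.aeval_mem_W2 hf (isHomogeneous_X R 0)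

theorem aeval_X1_mem {f : Polynomial R} (hf : f ∈ W.W1) :
    Polynomial.aeval (X 1 : MvPolynomial (Fin 2) R) f ∈ W.W2 :=
  W.aeval_mem_W2 hf (isHomogeneous_X R 1)

theorem aeval_add_mem {f : Polynomial R} (hf : f ∈ W.W1) :
    Polynomial.aeval (X 0 + X 1 : MvPolynomial (Fin 2) R) f ∈ W.W2 :=
  W.aeval_mem_W2 hf ((isHomogeneous_X R 0).add (isHomogeneous_X R 1))

theorem eq_zero_of_mem_W1 {f : Polynomial R} (hf : f ∈ W.W1) (h0 : ∀ k ≤ W.B, f.coeff k = 0) :
    f = 0 := by
  ext k
  rw [Polynomial.coeff_zero]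
  by_cases hk : k ≤ W.B
  · exact h0 k hk
  · exact W.eq_zero_of_mem (by omega) (hf k)

theorem eq_zero_of_mem_W2 {P : MvPolynomial (Fin 2) R} (hP : P ∈ W.W2) (h0 : P ∈ Tr W.B) :
    P = 0 := by
  ext m
  rw [coeff_zero]
  by_cases hk : m.degree ≤ W.B
  · exact h0 m hk
  · exact W.eq_zero_of_mem (by omega) (hP m)

/-- inverses of weighted polynomials with constant coefficient one are weighted -/
theorem exists_inv_W1 {u : Polynomial R} (hu : u ∈ W.W1) (h0 : u.coeff 0 = 1) :
    ∃ w ∈ W.W1, u * w = 1 ∧ w.coeff 0 = 1 := by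
  set ν : Polynomial R := 1 - u with hν
  have hνmem : ν ∈ W.W1 := W.W1.sub_mem W.W1.one_mem hu
  have hν0 : ν.coeff 0 = 0 := by
    rw [hν, Polynomial.coeff_sub, Polynomial.coeff_one_zero, h0, sub_self]
  obtain ⟨g, hg⟩ := Polynomial.X_dvd_iff.mpr hν0
  have hpow : ν ^ (W.B + 1) = 0 := by
    apply W.eq_zero_of_mem_W1 (W.W1.pow_mem hνmem _)
    intro k hk
    rw [hg, mul_pow, Polynomial.coeff_X_pow_mul', if_neg (by omega)]
  refine ⟨∑ j ∈ Finset.range (W.B + 1), ν ^ j, ?_, ?_, ?_⟩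
  · apply Subring.sum_mem
    intro j _
    exact W.W1.pow_mem hνmem j
  · have hu' : u = 1 - ν := by rw [hν]; ring
    rw [hu', mul_neg_geom_sum, hpow, sub_zero]
  · have hu' : u = 1 - ν := by rw [hν]; ring
    have h1 : u * ∑ j ∈ Finset.range (W.B + 1), ν ^ j = 1 := by
      rw [hu', mul_neg_geom_sum, hpow, sub_zero]
    have := congrArg (fun q : Polynomial R => q.coeff 0) h1
    simp only [Polynomial.mul_coeff_zero, h0, one_mul, Polynomial.coeff_one_zero] at this
    exact this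

end WF

end Groth.Agent.Lib.helper13.GaExt
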