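import Mathlib
import Groth.Agent.Lib.helper13.Lazard6

set_option autoImplicit false

namespace Groth.Agent.Lib.helper13.Lazard

open MvPolynomial

variable {R : Type*} [CommRing R]

open Classical in
/-- the standard homogeneous symmetric cocycle of degree `n` in characteristic `p` -/
noncomputable def Lz (R : Type*) [CommRing R] (p n : ℕ) : MvPolynomial (Fin 2) R :=
  if h : ∃ i, n = p ^ (i + 1) then Stw R p (Nat.find h) else delta (Polynomial.X ^ n)

theorem Lz_of_not (p n : ℕ) (h : ¬ ∃ i, n = p ^ (i + 1)) :
    Lz R p n = delta (Polynomial.X ^ n) := by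
  rw [Lz, dif_neg h]

theorem Lz_pow (p : ℕ) (hp : 2 ≤ p) (i : ℕ) : Lz R p (p ^ (i + 1)) = Stw R p i := by
  classical
  have h : ∃ j, p ^ (i + 1) = p ^ (j + 1) := ⟨i, rfl⟩
  rw [Lz, dif_pos h]
  congr 1
  have := Nat.find_spec h
  have := Nat.pow_right_injective hp this
  omega

theorem expand_Lz (p : ℕ) [Fact p.Prime] [CharP R p] (n : ℕ) (hn : n ≠ 1) :
    expand p (Lz R p n) = Lz R p (p * n) := by
  have hp : p.Prime := Fact.out
  by_cases h : ∃ i, n = p ^ (i + 1)
  · obtain ⟨i, rfl⟩ := h
    rw [Lz_pow p hp.two_le, ← pow_succ', Lz_pow p hp.two_le, Stw_succ]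
  · have h' : ¬ ∃ i, p * n = p ^ (i + 1) := by
      rintro ⟨i, hi⟩
      rw [pow_succ'] at hi
      have hn' : n = p ^ i := Nat.eq_of_mul_eq_mul_left hp.pos hi
      rcases i with _ | i
      · exact hn (by simpa using hn')
      · exact h ⟨i, hn'⟩
    rw [Lz_of_not p n h, Lz_of_not p (p * n) h', expand_delta, map_pow, Polynomial.expand_X,
      ← pow_mul]

/-- The homogeneous case of Lazard's lemma, with explicit shape and coefficient control. -/
theorem hom_form (p : ℕ) [Fact p.Prime] [CharP R p] :
    ∀ (n : ℕ), 1 ≤ n → ∀ (F : MvPolynomial (Fin 2) R),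
      (∀ a b, a + b ≠ n → coeff (m2 a b) F = 0) → IsCoc F →
      ∃ c ∈ Ideal.span (Set.range fun m => coeff m F), F = C c * Lz R p n := by
  intro n
  induction n using Nat.strong_induction_on with
  | _ n ih =>
  intro hn F hsupp hcoc
  obtain ⟨hsym, hK⟩ := hcoc
  have hp : p.Prime := Fact.out
  have hp2 : 2 ≤ p := hp.two_le
  have hmemspan : ∀ m, coeff m F ∈ Ideal.span (Set.range fun m => coeff m F) :=
    fun m => Ideal.subset_span ⟨m, rfl⟩
  have hb0 : coeff (m2 0 n) F = 0 := by
    have := hK 0 0 n
    simp only [zero_add, Nat.choose_zero_right, Nat.cast_one, mul_one, if_true,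
      Nat.choose_self] at this
    rw [if_neg (by omega)] at this
    linear_combination this
  have hbn : coeff (m2 n 0) F = 0 := by rw [hsym, hb0]
  have R1 : ∀ m, 1 ≤ m → m < n → (m : R) * coeff (m2 m (n - m)) F =
      coeff (m2 1 (n - 1)) F * ((n - 1).choose (m - 1) : R) := by
    intro m hm1 hmn
    have := hK 1 (m - 1) (n - m)
    have e1 : m - 1 + (n - m) = n - 1 := by omega
    have e2 : 1 + (m - 1) = m := by omega
    rw [e1, e2, if_neg one_ne_zero, if_neg (by omega), Nat.choose_one_right] at this
    linear_combination (-1 : R) * this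
  by_cases hpn : p ∣ n
  swap
  · -- Case A : p ∤ n
    have hu : IsUnit (n : R) := (CharP.isUnit_natCast_iff hp).mpr hpn
    obtain ⟨ninv, hninv⟩ := hu.exists_right_inv
    obtain ⟨g, hg⟩ : ∃ g, g = ninv * coeff (m2 1 (n - 1)) F := ⟨_, rfl⟩
    have hng : (n : R) * g = coeff (m2 1 (n - 1)) F := by rw [hg, ← mul_assoc, hninv, one_mul]
    have key1 : ∀ m, 0 < m → m < n → ¬ p ∣ m →
        coeff (m2 m (n - m)) F = g * (n.choose m : R) := by
      intro m hm0 hmn hpm
      have hum : IsUnit (m : R) := (CharP.isUnit_natCast_iff hp).mpr hpm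
      apply hum.mul_left_cancel
      rw [R1 m hm0 hmn, ← hng]
      have hcast : (n : R) * ((n - 1).choose (m - 1) : R) = (n.choose m : R) * (m : R) := by
        exact_mod_cast congrArg (Nat.cast : ℕ → R) (nat_choose_pred n m hn hm0)
      linear_combination g * hcast
    have key : ∀ m, 0 < m → m < n → coeff (m2 m (n - m)) F = g * (n.choose m : R) := by
      intro m hm0 hmn
      by_cases hpm : p ∣ m
      · have hpm' : ¬ p ∣ (n - m) := by
          intro h
          apply hpn
          have := Nat.dvd_add hpm h
          rwa [Nat.add_sub_cancel' hmn.le] at this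
        have := key1 (n - m) (by omega) (by omega) hpm'
        rw [Nat.sub_sub_self hmn.le] at this
        rw [hsym, this, Nat.choose_symm hmn.le]
      · exact key1 m hm0 hmn hpm
    have hF : F = delta (Polynomial.C g * Polynomial.X ^ n) := by
      rw [delta_C_mul_X_pow]
      ext d
      rw [m2_eta d, coeff_C_mul, coeff_sub, coeff_sub, coeff_add_pow2, coeff_X0_pow, coeff_X1_pow]
      generalize d 0 = a
      generalize d 1 = b
      by_cases hab : a + b = n
      · rcases Nat.eq_zero_or_pos a with ha | ha
        · have hb : b = n := by omega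
          rw [ha, hb, hb0, if_pos (by omega), if_neg (by omega), if_pos ⟨rfl, rfl⟩]
          simp
        · by_cases han : a = n
          · have hb : b = 0 := by omega
            rw [han, hb, hbn, if_pos (by omega), if_pos ⟨rfl, rfl⟩, if_neg (by omega)]
            simp
          · have hb : b = n - a := by omega
            rw [hb, key a ha (by omega), if_pos (by omega), if_neg (by omega), if_neg (by omega)]
            ring
      · rw [hsupp a b hab, if_neg hab, if_neg (by omega), if_neg (by omega)]
        ring
    have hnot : ¬ ∃ i, n = p ^ (i + 1) := by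
      rintro ⟨i, hi⟩
      exact hpn ⟨p ^ i, by rw [hi, pow_succ']⟩
    refine ⟨g, ?_, ?_⟩
    · rw [hg]
      exact Ideal.mul_mem_left _ _ (hmemspan _)
    · rw [Lz_of_not p n hnot, delta_X_pow, ← delta_C_mul_X_pow]
      exact hF
  by_cases hnp : n = p
  · -- Case B : n = p
    have key : ∀ m, 0 < m → m < n →
        coeff (m2 m (n - m)) F = coeff (m2 1 (n - 1)) F * ((p.choose m / p : ℕ) : R) := by
      intro m hm0 hmn
      have hpm : ¬ p ∣ m := Nat.not_dvd_of_pos_of_lt hm0 (hnp ▸ hmn)
      have hum : IsUnit (m : R) := (CharP.isUnit_natCast_iff hp).mpr hpm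
      apply hum.mul_left_cancel
      rw [R1 m hm0 hmn]
      obtain ⟨q, hq⟩ := hp.dvd_choose_self hm0.ne' (hnp ▸ hmn)
      have hnat := nat_choose_pred p m hp.pos hm0
      have h2 : (p - 1).choose (m - 1) = q * m := by
        rw [hq, mul_assoc] at hnat
        exact Nat.eq_of_mul_eq_mul_left hp.pos hnat
      rw [hq, Nat.mul_div_cancel_left _ hp.pos, hnp, h2]
      push_cast
      ring
    have hF : F = C (coeff (m2 1 (n - 1)) F) * S R p := by
      ext d
      rw [m2_eta d, coeff_C_mul, coeff_S]
      generalize d 0 = a
      generalize d 1 = b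
      by_cases hab : a + b = n
      · rcases Nat.eq_zero_or_pos a with ha | ha
        · have hb : b = n := by omega
          rw [ha, hb, hb0, if_neg (by omega), mul_zero]
        · by_cases han : a = n
          · have hb : b = 0 := by omega
            rw [han, hb, hbn, if_neg (by omega), mul_zero]
          · have hb : b = n - a := by omega
            rw [hb, key a ha (by omega), if_pos ⟨ha, by omega, by omega⟩]
      · rw [hsupp a b hab, if_neg (by omega), mul_zero]
    refine ⟨coeff (m2 1 (n - 1)) F, hmemspan _, ?_⟩
    have : Lz R p n = S R p := by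
      have := Lz_pow (R := R) p hp2 0
      rw [zero_add, pow_one, Stw_zero] at this
      rw [hnp, this]
    rw [this]
    exact hF
  · -- Case C : p ∣ n, n ≠ p
    obtain ⟨n', hn'⟩ := hpn
    have hn'2 : 2 ≤ n' := by
      rcases n' with _ | _ | n'
      · simp at hn'; omega
      · simp at hn'; omega
      · omega
    have hpn_lt : p < n := by rw [hn']; nlinarith
    have hn'_lt : n' < n := by rw [hn']; nlinarith
    have hu1 : coeff (m2 1 (n - 1)) F = 0 := by
      have := R1 p hp.pos hpn_lt
      rw [CharP.cast_eq_zero R p, zero_mul] at this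
      have h2 := cast_choose_pred (R := R) p n' (by omega)
      rw [← hn'] at h2
      rw [h2, mul_one] at this
      exact this.symm
    have hnd : ∀ a b, ¬ p ∣ a → coeff (m2 a b) F = 0 := by
      intro a b hpa
      by_cases hab : a + b = n
      · have ha0 : 0 < a := Nat.pos_of_ne_zero (fun h => hpa (h ▸ dvd_zero p))
        have han : a ≠ n := fun h => hpa (h ▸ ⟨n', hn'⟩)
        have hb : b = n - a := by omega
        have hum : IsUnit (a : R) := (CharP.isUnit_natCast_iff hp).mpr hpa
        apply hum.mul_left_cancel
        rw [hb, R1 a ha0 (by omega), hu1, zero_mul, mul_zero]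
      · exact hsupp a b hab
    have hnd' : ∀ a b, ¬ p ∣ b → coeff (m2 a b) F = 0 := fun a b h => by
      rw [hsym]; exact hnd b a h
    obtain ⟨g, hgdef⟩ : ∃ g : MvPolynomial (Fin 2) R, g = ∑ a ∈ Finset.range (n' + 1),
        monomial (m2 a (n' - a)) (coeff (m2 (p * a) (p * (n' - a))) F) := ⟨_, rfl⟩
    have hg : ∀ a b, coeff (m2 a b) g = coeff (m2 (p * a) (p * b)) F := by
      classical
      intro a b
      rw [hgdef, coeff_sum]
      simp only [coeff_monomial, m2_inj]
      by_cases hab : a + b = n'
      · rw [Finset.sum_eq_single a]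
        · have hb : n' - a = b := by omega
          rw [if_pos ⟨rfl, hb⟩, hb]
        · intro t _ hne
          rw [if_neg (fun h' => hne h'.1)]
        · intro hnot
          exact absurd (Finset.mem_range.mpr (by omega)) hnot
      · rw [Finset.sum_eq_zero, hsupp]
        · intro h
          apply hab
          rw [hn', ← mul_add] at h
          exact Nat.eq_of_mul_eq_mul_left hp.pos h
        · intro t ht
          rw [if_neg]
          rintro ⟨rfl, h2⟩
          have := Finset.mem_range.mp ht
          omega
    have hFg : F = expand p g := by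
      ext d
      rw [m2_eta d]
      generalize d 0 = a
      generalize d 1 = b
      by_cases ha : p ∣ a
      · by_cases hb : p ∣ b
        · obtain ⟨a', rfl⟩ := ha
          obtain ⟨b', rfl⟩ := hb
          rw [← smul_m2, coeff_expand_smul p hp.ne_zero, hg, smul_m2]
        · rw [hnd' a b hb, coeff_expand_of_not_dvd (i := 1)]
          simpa using hb
      · rw [hnd a b ha, coeff_expand_of_not_dvd (i := 0)]
        simpa using ha
    have hg_supp : ∀ a b, a + b ≠ n' → coeff (m2 a b) g = 0 := by
      intro a b hab
      rw [hg]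
      apply hsupp
      intro h
      apply hab
      rw [hn', ← mul_add] at h
      exact Nat.eq_of_mul_eq_mul_left hp.pos h
    have hg_coc : IsCoc g := by
      refine ⟨fun a b => by rw [hg, hg, hsym], fun i j k => ?_⟩
      rw [hg, hg, hg, hg]
      have := hK (p * i) (p * j) (p * k)
      rw [← mul_add, ← mul_add, cast_choose_mul, cast_choose_mul] at this
      simp only [mul_eq_zero, hp.ne_zero, false_or] at this
      exact this
    obtain ⟨c, hc, hgc⟩ := ih n' hn'_lt (by omega) g hg_supp hg_coc
    refine ⟨c, ?_, ?_⟩
    · have hle : Ideal.span (Set.range fun m => coeff m g) ≤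
          Ideal.span (Set.range fun m => coeff m F) := by
        rw [Ideal.span_le]
        rintro _ ⟨m, rfl⟩
        change coeff m g ∈ _
        rw [m2_eta m, hg]
        exact hmemspan _
      exact hle hc
    · rw [hFg, hgc, map_mul, expand_C, expand_Lz p n' (by omega), hn']

end Groth.Agent.Lib.helper13.Lazard
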