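import Mathlib
import Groth.Agent.Lib.helper13.Lazard7
import Groth.Agent.Lib.helper13.GaExt2

set_option autoImplicit false

namespace Groth.Agent.Lib.helper13.GaExt

open MvPolynomial Groth.Agent.Lib.helper13.Lazard

variable {R : Type*} [CommRing R]

theorem degree_m3 (i j k : ℕ) : (m3 i j k).degree = i + j + k := by
  rw [Finsupp.degree_eq_sum, Fin.sum_univ_three]; simp

theorem m3_zero_zero_zero : m3 0 0 0 = 0 := by simp [m3]

/-- coefficient of a product of two "unipotent" polynomials in the lowest possible degree -/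
theorem coeff_mul_low {σ : Type*} (A B : MvPolynomial σ R) (d : ℕ) (hd : 1 ≤ d)
    (hA0 : coeff 0 A = 1) (hB0 : coeff 0 B = 1)
    (hA : ∀ m : σ →₀ ℕ, 0 < m.degree → m.degree < d → coeff m A = 0)
    (hB : ∀ m : σ →₀ ℕ, 0 < m.degree → m.degree < d → coeff m B = 0)
    (m : σ →₀ ℕ) (hm : m.degree = d) : coeff m (A * B) = coeff m A + coeff m B := by
  classical
  rw [coeff_mul]
  have hm0 : m ≠ 0 := by
    rintro rfl
    rw [map_zero] at hm
    omega
  rw [Finset.sum_eq_add ((0 : σ →₀ ℕ), m) (m, (0 : σ →₀ ℕ))]
  · simp only [hA0, hB0, one_mul, mul_one]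
    ring
  · intro h
    apply hm0
    exact (Prod.ext_iff.mp h).1.symm
  · intro x hx hne
    rw [Finset.HasAntidiagonal.mem_antidiagonal] at hx
    have hdeg : x.1.degree + x.2.degree = d := by
      have := congrArg Finsupp.degree hx
      rw [map_add, hm] at this
      exact this
    have h1 : x.1 ≠ 0 := by
      intro h
      apply hne.1
      rw [h, zero_add] at hx
      exact Prod.ext h hx
    have h2 : x.2 ≠ 0 := by
      intro h
      apply hne.2
      rw [h, add_zero] at hx
      exact Prod.ext hx h
    have h1' : 0 < x.1.degree := Nat.pos_of_ne_zero (fun h => h1 ((Finsupp.degree_eq_zero_iff _).mp h))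
    have h2' : 0 < x.2.degree := Nat.pos_of_ne_zero (fun h => h2 ((Finsupp.degree_eq_zero_iff _).mp h))
    rw [hA x.1 h1' (by omega), zero_mul]
  · intro h
    exfalso
    apply h
    rw [Finset.HasAntidiagonal.mem_antidiagonal]
    simp
  · intro h
    exfalso
    apply h
    rw [Finset.HasAntidiagonal.mem_antidiagonal]
    simp

/-- The lowest-degree part of a normalised symmetric multiplicative cocycle is an additive
symmetric cocycle. -/
theorem isCoc_homComp_of_mcoc (h : MvPolynomial (Fin 2) R) (d : ℕ) (hd : 1 ≤ d)
    (hlow : h - 1 ∈ Tr (d - 1))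
    (hsymm : aeval (![X 1, X 0] : Fin 2 → MvPolynomial (Fin 2) R) h = h)
    (hcoc : aeval (![X 1, X 2] : Fin 2 → MvPolynomial (Fin 3) R) h *
        aeval (![X 0, X 1 + X 2] : Fin 2 → MvPolynomial (Fin 3) R) h =
      aeval (![X 0 + X 1, X 2] : Fin 2 → MvPolynomial (Fin 3) R) h *
        aeval (![X 0, X 1] : Fin 2 → MvPolynomial (Fin 3) R) h) :
    IsCoc (homogeneousComponent d h) := by
  classical
  have hc0 : coeff (m2 0 0) h = 1 := by
    have := hlow (m2 0 0) (by rw [degree_m2]; omega)
    rw [coeff_sub, m2_zero_zero, coeff_zero_one, sub_eq_zero] at this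
    rw [m2_zero_zero]
    exact this
  have hcl : ∀ a b, 0 < a + b → a + b < d → coeff (m2 a b) h = 0 := by
    intro a b h1 h2
    have := hlow (m2 a b) (by rw [degree_m2]; omega)
    rw [coeff_sub, coeff_one, if_neg, sub_zero] at this
    · exact this
    · intro h0
      rw [← m2_zero_zero, m2_inj] at h0
      omega
  have hs : ∀ a b, coeff (m2 a b) h = coeff (m2 b a) h := by
    intro a b
    conv_lhs => rw [← hsymm, coeff_swap]
  refine ⟨fun a b => ?_, fun i j k => ?_⟩
  · rw [coeff_homComp, coeff_homComp, hs a b, add_comm b a]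
  · simp only [coeff_homComp]
    by_cases hd' : i + j + k = d
    · have key := congrArg (coeff (m3 i j k)) hcoc
      rw [coeff_mul_low _ _ d hd, coeff_mul_low _ _ d hd] at key
      · rw [coeff_T2, coeff_T1, coeff_T3, coeff_T4] at key
        split_ifs at key ⊢ <;> first | omega | (linear_combination key)
      -- side conditions
      · rw [← m3_zero_zero_zero, coeff_T3]; simpa using hc0
      · rw [← m3_zero_zero_zero, coeff_T4]; simpa using hc0
      · intro m h1 h2
        rw [m3_eta m, degree_m3] at h1 h2
        rw [m3_eta m, coeff_T3, hcl _ _ (by omega) (by omega), zero_mul]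
      · intro m h1 h2
        rw [m3_eta m, degree_m3] at h1 h2
        rw [m3_eta m, coeff_T4]
        split_ifs with hk
        · exact hcl _ _ (by omega) (by omega)
        · rfl
      · rw [degree_m3]; exact hd'
      · rw [← m3_zero_zero_zero, coeff_T2]; simpa using hc0
      · rw [← m3_zero_zero_zero, coeff_T1]; simpa using hc0
      · intro m h1 h2
        rw [m3_eta m, degree_m3] at h1 h2
        rw [m3_eta m, coeff_T2]
        split_ifs with hk
        · exact hcl _ _ (by omega) (by omega)
        · rfl
      · intro m h1 h2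
        rw [m3_eta m, degree_m3] at h1 h2
        rw [m3_eta m, coeff_T1, hcl _ _ (by omega) (by omega), zero_mul]
      · rw [degree_m3]; exact hd'
    · split_ifs <;> first | omega | ring

end Groth.Agent.Lib.helper13.GaExt
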