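import Mathlib
import Groth.Agent.Lib.helper13.GaChar
import Groth.Agent.Lib.helper13.GaExt3

set_option autoImplicit false

namespace Groth.Agent.Lib.helper13.GaExt

open MvPolynomial Finset Groth.Agent.Lib.helper13.Lazard Groth.Agent.Lib.helper13.GaChar

variable {R : Type*} [CommRing R]

/-! ### first key congruence: degrees that are not of the form `p^(i+1)` -/

theorem KC1 (d : ℕ) (hd : 1 ≤ d) (c : R) :
    (1 + C c * delta (Polynomial.X ^ d : Polynomial R)) *
        Polynomial.aeval (X 0 : MvPolynomial (Fin 2) R) (1 + Polynomial.C c * Polynomial.X ^ d) *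
        Polynomial.aeval (X 1 : MvPolynomial (Fin 2) R) (1 + Polynomial.C c * Polynomial.X ^ d) -
      Polynomial.aeval (X 0 + X 1 : MvPolynomial (Fin 2) R)
        (1 + Polynomial.C c * Polynomial.X ^ d) ∈ Tr d := by
  rw [delta_X_pow]
  simp only [map_add, map_one, map_mul, map_pow, Polynomial.aeval_C, Polynomial.aeval_X,
    algebraMap_eq]
  set A : MvPolynomial (Fin 2) R := C c * X 0 ^ d with hA
  set Bq : MvPolynomial (Fin 2) R := C c * X 1 ^ d with hBq
  set Cq : MvPolynomial (Fin 2) R := C c * (X 0 + X 1) ^ d with hCq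
  have hAm : A ∈ Tr (d - 1) := Ideal.mul_mem_left _ _ (X0_pow_mem_Tr (by omega))
  have hBm : Bq ∈ Tr (d - 1) := Ideal.mul_mem_left _ _ (X1_pow_mem_Tr (by omega))
  have hCm : Cq ∈ Tr (d - 1) := Ideal.mul_mem_left _ _ (add_pow_mem_Tr (by omega))
  have hle : (Tr (d - 1 + (d - 1) + 1) : Ideal (MvPolynomial (Fin 2) R)) ≤ Tr d :=
    Tr_mono (by omega)
  have e : (1 + C c * ((X 0 + X 1) ^ d - X 0 ^ d - X 1 ^ d)) * (1 + A) * (1 + Bq) - (1 + Cq) =
      Cq * A + Cq * Bq + Cq * A * Bq - A * A - A * Bq - A * A * Bq - Bq * Bq - A * Bq * Bq := by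
    rw [hA, hBq, hCq]; ring
  rw [e]
  have m2' : ∀ {P Q : MvPolynomial (Fin 2) R}, P ∈ Tr (d - 1) → Q ∈ Tr (d - 1) → P * Q ∈ Tr d :=
    fun hP hQ => hle (Tr_mul hP hQ)
  refine Ideal.sub_mem _ (Ideal.sub_mem _ (Ideal.sub_mem _ (Ideal.sub_mem _ (Ideal.sub_mem _
    (Ideal.add_mem _ (Ideal.add_mem _ (m2' hCm hAm) (m2' hCm hBm)) ?_) (m2' hAm hAm))
    (m2' hAm hBm)) ?_) (m2' hBm hBm)) ?_
  · exact Ideal.mul_mem_right _ _ (m2' hCm hAm)
  · exact Ideal.mul_mem_right _ _ (m2' hAm hAm)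
  · exact Ideal.mul_mem_right _ _ (m2' hAm hBm)

/-! ### product of truncated exponentials, with error term -/

lemma E_mul' {B : Type*} [CommRing B] (p : ℕ) (w : ℕ → B)
    (hw : ∀ m i, m < p → i ≤ m → w m * ((m.choose i : ℕ) : B) = w i * w (m - i))
    (α s t : B) :
    (∑ i ∈ range p, w i * α ^ i * s ^ i) * (∑ j ∈ range p, w j * α ^ j * t ^ j) =
      ∑ m ∈ range p, w m * α ^ m * (s + t) ^ m +
      ∑ x ∈ (range p ×ˢ range p).filter (fun x => p ≤ x.1 + x.2),
        w x.1 * w x.2 * α ^ (x.1 + x.2) * s ^ x.1 * t ^ x.2 := by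
  classical
  set G : ℕ × ℕ → B := fun x => w x.1 * w x.2 * α ^ (x.1 + x.2) * s ^ x.1 * t ^ x.2 with hG
  have hL : ∀ m ∈ range p, w m * α ^ m * (s + t) ^ m = ∑ x ∈ antidiagonal m, G x := by
    intro m hm
    rw [(Commute.all s t).add_pow', Finset.mul_sum]
    apply Finset.sum_congr rfl
    intro x hx
    rw [Finset.HasAntidiagonal.mem_antidiagonal] at hx
    have hle : x.1 ≤ m := by omega
    have h2 : m - x.1 = x.2 := by omega
    have := hw m x.1 (mem_range.mp hm) hle
    rw [h2] at this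
    simp only [hG, nsmul_eq_mul]
    rw [hx]
    calc w m * α ^ m * (((m.choose x.1 : ℕ) : B) * (s ^ x.1 * t ^ x.2))
        = (w m * ((m.choose x.1 : ℕ) : B)) * α ^ m * s ^ x.1 * t ^ x.2 := by ring
      _ = _ := by rw [this]
  rw [Finset.sum_congr rfl hL, Finset.sum_mul_sum, ← Finset.sum_product']
  have hR : ∑ x ∈ range p ×ˢ range p, (w x.1 * α ^ x.1 * s ^ x.1) * (w x.2 * α ^ x.2 * t ^ x.2) =
      ∑ x ∈ range p ×ˢ range p, G x := by
    apply Finset.sum_congr rfl
    intro x _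
    simp only [hG]; rw [pow_add]; ring
  rw [hR, ← Finset.sum_filter_add_sum_filter_not (range p ×ˢ range p) (fun x => x.1 + x.2 < p)]
  congr 1
  · rw [← Finset.sum_fiberwise_of_maps_to
      (s := (range p ×ˢ range p).filter (fun x => x.1 + x.2 < p))
      (t := range p) (g := fun x => x.1 + x.2) (fun x hx => by
        rw [mem_filter] at hx; exact mem_range.mpr hx.2)]
    apply Finset.sum_congr rfl
    intro m hm
    apply Finset.sum_congr _ (fun _ _ => rfl)
    ext x
    rw [mem_range] at hm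
    simp only [Finset.HasAntidiagonal.mem_antidiagonal, mem_filter, mem_product, mem_range]
    constructor
    · intro h; exact h.2
    · intro h; refine ⟨⟨⟨by omega, by omega⟩, by omega⟩, h⟩
  · apply Finset.sum_congr _ (fun _ _ => rfl)
    ext x
    simp only [mem_filter, not_lt]

end Groth.Agent.Lib.helper13.GaExt
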