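import Mathlib
import Groth.Agent.Lib.helper13.GaExt4

set_option autoImplicit false

namespace Groth.Agent.Lib.helper13.GaExt

open MvPolynomial Finset Groth.Agent.Lib.helper13.Lazard Groth.Agent.Lib.helper13.GaChar

universe u
variable {R : Type u} [CommRing R]

section KC2

variable {p : ℕ} [hp : Fact p.Prime] [CharP R p]

omit [CharP R p] in
/-- the natural number identity `a! (p-a)! (C(p,a)/p) = (p-1)!` -/
lemma fact_mul_choose_div (a : ℕ) (ha0 : 0 < a) (hap : a < p) :
    a.factorial * (p - a).factorial * (p.choose a / p) = (p - 1).factorial := by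
  have hp' := hp.out
  obtain ⟨q', hq'⟩ := hp'.dvd_choose_self ha0.ne' hap
  rw [hq', Nat.mul_div_cancel_left _ hp'.pos]
  have h1 : p.choose a * a.factorial * (p - a).factorial = p.factorial :=
    Nat.choose_mul_factorial_mul_factorial hap.le
  have h2 : p.factorial = p * (p - 1).factorial := by
    obtain ⟨m, rfl⟩ : ∃ m, p = m + 1 := ⟨p - 1, by have := hp'.pos; omega⟩
    rw [Nat.factorial_succ]; simp
  rw [hq', h2] at h1
  apply Nat.eq_of_mul_eq_mul_left hp'.pos
  rw [← h1]; ring

lemma inv_fact_mul (a : ℕ) (ha0 : 0 < a) (hap : a < p) :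
    Ring.inverse ((a.factorial : ℕ) : R) * Ring.inverse (((p - a).factorial : ℕ) : R) *
      (((p - 1).factorial : ℕ) : R) = ((p.choose a / p : ℕ) : R) := by
  have h := congrArg (Nat.cast : ℕ → R) (fact_mul_choose_div (p := p) a ha0 hap)
  push_cast at h
  rw [← h]
  have h1 := inverse_factorial_mul (A := R) (p := p) (j := a) hap
  have h2 := inverse_factorial_mul (A := R) (p := p) (j := p - a) (by omega)
  linear_combination (Ring.inverse (((p - a).factorial : ℕ) : R) * ((p - a).factorial : R) *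
    ((p.choose a / p : ℕ) : R)) * h1 + ((p.choose a / p : ℕ) : R) * h2

omit hp [CharP R p] in
theorem Stw_eq_sum (i : ℕ) :
    Stw R p i = ∑ j ∈ Finset.Ioo 0 p,
      C ((p.choose j / p : ℕ) : R) * (X 0 ^ p ^ i) ^ j * (X 1 ^ p ^ i) ^ (p - j) := by
  simp [Stw, S, map_sum]


/-- second key congruence: degree `p^(i+1)` -/
theorem KC2 (i : ℕ) (c s : R) (hs : s ^ p = -(((p - 1).factorial : ℕ) : R) * c) :
    (1 + C c * Stw R p i) *
        Polynomial.aeval (X 0 : MvPolynomial (Fin 2) R) (expp p s (p ^ i)) *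
        Polynomial.aeval (X 1 : MvPolynomial (Fin 2) R) (expp p s (p ^ i)) -
      Polynomial.aeval (X 0 + X 1 : MvPolynomial (Fin 2) R) (expp p s (p ^ i)) ∈
      Tr (p * p ^ i) := by
  classical
  have hp' := hp.out
  have hq : 1 ≤ p ^ i := Nat.one_le_pow _ _ hp'.pos
  rw [aeval_expp, aeval_expp, aeval_expp, add_pow_char_pow]
  set w : ℕ → MvPolynomial (Fin 2) R :=
    fun j => algebraMap R (MvPolynomial (Fin 2) R) (Ring.inverse ((j.factorial : ℕ) : R)) with hw_def
  set α : MvPolynomial (Fin 2) R := algebraMap R (MvPolynomial (Fin 2) R) s with hα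
  set S0 : MvPolynomial (Fin 2) R := X 0 ^ p ^ i with hS0
  set T0 : MvPolynomial (Fin 2) R := X 1 ^ p ^ i with hT0
  have hw : ∀ m j, m < p → j ≤ m → w m * ((m.choose j : ℕ) : MvPolynomial (Fin 2) R) =
      w j * w (m - j) := by
    intro m j hm hj
    simp only [hw_def]
    rw [← map_natCast (algebraMap R (MvPolynomial (Fin 2) R)), ← map_mul, ← map_mul,
      inverse_factorial_choose hm hj]
  have hprod := E_mul' p w hw α S0 T0
  set U0 := ∑ j ∈ range p, w j * α ^ j * S0 ^ j with hU0
  set U1 := ∑ j ∈ range p, w j * α ^ j * T0 ^ j with hU1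
  set Uadd := ∑ m ∈ range p, w m * α ^ m * (S0 + T0) ^ m with hUadd
  set G : ℕ × ℕ → MvPolynomial (Fin 2) R :=
    fun x => w x.1 * w x.2 * α ^ (x.1 + x.2) * S0 ^ x.1 * T0 ^ x.2 with hG
  -- split the error term
  have hsplit : ∑ x ∈ (range p ×ˢ range p).filter (fun x => p ≤ x.1 + x.2), G x =
      ∑ x ∈ (range p ×ˢ range p).filter (fun x => x.1 + x.2 = p), G x +
      ∑ x ∈ (range p ×ˢ range p).filter (fun x => p < x.1 + x.2), G x := by
    rw [← Finset.sum_filter_add_sum_filter_not
      ((range p ×ˢ range p).filter (fun x => p ≤ x.1 + x.2)) (fun x => x.1 + x.2 = p)]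
    congr 1
    · apply Finset.sum_congr _ (fun _ _ => rfl)
      ext x
      simp only [mem_filter, mem_product, mem_range]
      constructor
      · rintro ⟨⟨h1, _⟩, h3⟩; exact ⟨h1, h3⟩
      · rintro ⟨h1, h3⟩; exact ⟨⟨h1, by omega⟩, h3⟩
    · apply Finset.sum_congr _ (fun _ _ => rfl)
      ext x
      simp only [mem_filter, mem_product, mem_range]
      constructor
      · rintro ⟨⟨h1, h2⟩, h3⟩; exact ⟨h1, by omega⟩
      · rintro ⟨h1, h3⟩; exact ⟨⟨h1, by omega⟩, by omega⟩
  -- the degree-`p` part cancels against `c * Stw`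
  have hmain : ∑ x ∈ (range p ×ˢ range p).filter (fun x => x.1 + x.2 = p), G x =
      -(C c * Stw R p i) := by
    rw [Stw_eq_sum, Finset.mul_sum, ← Finset.sum_neg_distrib]
    refine Finset.sum_nbij' (fun x => x.1) (fun a => (a, p - a)) ?_ ?_ ?_ ?_ ?_
    · intro x hx
      simp only [mem_filter, mem_product, mem_range] at hx
      rw [mem_Ioo]
      omega
    · intro a ha
      rw [mem_Ioo] at ha
      simp only [mem_filter, mem_product, mem_range]
      omega
    · intro x hx
      simp only [mem_filter, mem_product, mem_range] at hx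
      refine Prod.ext rfl ?_
      simp only
      omega
    · intro a _
      rfl
    · intro x hx
      simp only [mem_filter, mem_product, mem_range] at hx
      obtain ⟨⟨h1, h2⟩, h3⟩ := hx
      have hx2 : x.2 = p - x.1 := by omega
      have ha0 : 0 < x.1 := by omega
      simp only [hG, hw_def, hα, hS0, hT0]
      rw [h3, hx2, ← map_pow, hs, ← inv_fact_mul (R := R) (p := p) x.1 ha0 h1]
      simp only [algebraMap_eq, map_mul, map_neg]
      ring
  -- high-degree terms
  have hhigh : ∑ x ∈ (range p ×ˢ range p).filter (fun x => p < x.1 + x.2), G x ∈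
      Tr (p * p ^ i) := by
    apply Ideal.sum_mem
    intro x hx
    simp only [mem_filter, mem_product, mem_range] at hx
    simp only [hG, hS0, hT0]
    rw [mul_assoc, ← pow_mul, ← pow_mul]
    apply Ideal.mul_mem_left
    apply X_pow_mul_X_pow_mem_Tr
    rw [← mul_add]
    calc p * p ^ i = p ^ i * p := mul_comm _ _
      _ < p ^ i * (x.1 + x.2) := Nat.mul_lt_mul_of_pos_left hx.2 (by omega)
  -- `c * Stw` has degree `p * p^i`
  have hStw : C c * Stw R p i ∈ Tr (p * p ^ i - 1) := by
    rw [Stw_eq_sum]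
    apply Ideal.mul_mem_left
    apply Ideal.sum_mem
    intro j hj
    rw [mem_Ioo] at hj
    rw [mul_assoc, ← pow_mul, ← pow_mul]
    apply Ideal.mul_mem_left
    apply X_pow_mul_X_pow_mem_Tr
    rw [← mul_add]
    have hjp : j + (p - j) = p := by omega
    rw [hjp, mul_comm (p ^ i) p]
    have : 0 < p * p ^ i := Nat.mul_pos hp'.pos (by omega)
    omega
  -- `U - 1` has no constant term
  have hUm : ∀ (Y : MvPolynomial (Fin 2) R), (∀ j, 1 ≤ j → Y ^ j ∈ Tr 0) →
      ∑ j ∈ range p, w j * α ^ j * Y ^ j - 1 ∈ Tr 0 := by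
    intro Y hY
    have hpos : 0 < p := hp'.pos
    obtain ⟨m, hm⟩ : ∃ m, p = m + 1 := ⟨p - 1, by omega⟩
    rw [hm, Finset.sum_range_succ']
    have h0 : w 0 * α ^ 0 * Y ^ 0 = 1 := by
      simp [hw_def]
    rw [h0, add_sub_cancel_right]
    apply Ideal.sum_mem
    intro j _
    exact Ideal.mul_mem_left _ _ (hY (j + 1) (by omega))
  have hU0 : U0 - 1 ∈ Tr 0 := by
    apply hUm
    intro j hj
    simp only [hS0]
    rw [← pow_mul]
    apply X0_pow_mem_Tr
    exact Nat.mul_pos (by omega) (by omega)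
  have hU1 : U1 - 1 ∈ Tr 0 := by
    apply hUm
    intro j hj
    simp only [hT0]
    rw [← pow_mul]
    apply X1_pow_mem_Tr
    exact Nat.mul_pos (by omega) (by omega)
  have hUU : U0 * U1 - 1 ∈ Tr 0 := by
    have : U0 * U1 - 1 = (U0 - 1) * U1 + (U1 - 1) := by ring
    rw [this]
    exact Ideal.add_mem _ (Ideal.mul_mem_right _ _ hU0) hU1
  -- assemble
  have e : (1 + C c * Stw R p i) * U0 * U1 - Uadd =
      ∑ x ∈ (range p ×ˢ range p).filter (fun x => p < x.1 + x.2), G x +
        C c * Stw R p i * (U0 * U1 - 1) := by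
    have h1 : U0 * U1 = Uadd + (-(C c * Stw R p i) +
        ∑ x ∈ (range p ×ˢ range p).filter (fun x => p < x.1 + x.2), G x) := by
      rw [← hmain, ← hsplit]
      exact hprod
    linear_combination h1
  rw [e]
  refine Ideal.add_mem _ hhigh ?_
  have := Tr_mul hStw hUU
  have hle : p * p ^ i - 1 + 0 + 1 = p * p ^ i := by
    have : 0 < p * p ^ i := Nat.mul_pos hp'.pos (by omega)
    omega
  rw [hle] at this
  exact this

end KC2

end Groth.Agent.Lib.helper13.GaExt
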