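import Mathlib
import Groth.Agent.Lib.helper13.GaExt5

set_option autoImplicit false

namespace Groth.Agent.Lib.helper13.GaExt

open MvPolynomial Finset Groth.Agent.Lib.helper13.Lazard Groth.Agent.Lib.helper13.GaChar

universe u
variable {R : Type u} [CommRing R]

/-- multiplicative 2-cocycle identity -/
def MCoc (h : MvPolynomial (Fin 2) R) : Prop :=
  aeval (![X 1, X 2] : Fin 2 → MvPolynomial (Fin 3) R) h *
      aeval (![X 0, X 1 + X 2] : Fin 2 → MvPolynomial (Fin 3) R) h =
    aeval (![X 0 + X 1, X 2] : Fin 2 → MvPolynomial (Fin 3) R) h *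
      aeval (![X 0, X 1] : Fin 2 → MvPolynomial (Fin 3) R) h

theorem MCoc.mul {h g : MvPolynomial (Fin 2) R} (hh : MCoc h) (hg : MCoc g) : MCoc (h * g) := by
  unfold MCoc at *
  simp only [map_mul]
  linear_combination
    (aeval (![X 1, X 2] : Fin 2 → MvPolynomial (Fin 3) R) g *
      aeval (![X 0, X 1 + X 2] : Fin 2 → MvPolynomial (Fin 3) R) g) * hh +
    (aeval (![X 0 + X 1, X 2] : Fin 2 → MvPolynomial (Fin 3) R) h *
      aeval (![X 0, X 1] : Fin 2 → MvPolynomial (Fin 3) R) h) * hg

/-- coboundaries are cocycles -/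
theorem MCoc_bdry (u w : Polynomial R) (huw : u * w = 1) :
    MCoc (Polynomial.aeval (X 0 : MvPolynomial (Fin 2) R) u *
      Polynomial.aeval (X 1 : MvPolynomial (Fin 2) R) u *
      Polynomial.aeval (X 0 + X 1 : MvPolynomial (Fin 2) R) w) := by
  unfold MCoc
  simp only [map_mul, ← Polynomial.aeval_algHom_apply, map_add, aeval_X,
    Matrix.cons_val_zero, Matrix.cons_val_one]
  have h1 := congrArg (Polynomial.aeval (X 1 + X 2 : MvPolynomial (Fin 3) R)) huw
  have h2 := congrArg (Polynomial.aeval (X 0 + X 1 : MvPolynomial (Fin 3) R)) huw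
  rw [map_mul, map_one] at h1 h2
  rw [← add_assoc (X 0 : MvPolynomial (Fin 3) R) (X 1) (X 2)]
  linear_combination
    (Polynomial.aeval (X 0 : MvPolynomial (Fin 3) R) u *
      Polynomial.aeval (X 1 : MvPolynomial (Fin 3) R) u *
      Polynomial.aeval (X 2 : MvPolynomial (Fin 3) R) u *
      Polynomial.aeval (X 0 + X 1 + X 2 : MvPolynomial (Fin 3) R) w) * h1 -
    (Polynomial.aeval (X 0 : MvPolynomial (Fin 3) R) u *
      Polynomial.aeval (X 1 : MvPolynomial (Fin 3) R) u *
      Polynomial.aeval (X 2 : MvPolynomial (Fin 3) R) u *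
      Polynomial.aeval (X 0 + X 1 + X 2 : MvPolynomial (Fin 3) R) w) * h2

theorem swap_bdry (u w : Polynomial R) :
    aeval (![X 1, X 0] : Fin 2 → MvPolynomial (Fin 2) R)
      (Polynomial.aeval (X 0 : MvPolynomial (Fin 2) R) u *
        Polynomial.aeval (X 1 : MvPolynomial (Fin 2) R) u *
        Polynomial.aeval (X 0 + X 1 : MvPolynomial (Fin 2) R) w) =
      Polynomial.aeval (X 0 : MvPolynomial (Fin 2) R) u *
        Polynomial.aeval (X 1 : MvPolynomial (Fin 2) R) u *
        Polynomial.aeval (X 0 + X 1 : MvPolynomial (Fin 2) R) w := by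
  simp only [map_mul, ← Polynomial.aeval_algHom_apply, map_add, aeval_X,
    Matrix.cons_val_zero, Matrix.cons_val_one]
  rw [add_comm (X 1 : MvPolynomial (Fin 2) R) (X 0)]
  ring


section Main

variable {p : ℕ} [hp : Fact p.Prime] [CharP R p]

/-- existence of the correcting unit in degree `d` -/
theorem exists_corrector (W : WF R p) (d : ℕ) (hd : 1 ≤ d) (c : R) (hc : c ∈ W.I d) :
    ∃ u ∈ W.W1, u.coeff 0 = 1 ∧
      (1 + C c * Lz R p d) * Polynomial.aeval (X 0 : MvPolynomial (Fin 2) R) u *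
        Polynomial.aeval (X 1 : MvPolynomial (Fin 2) R) u -
        Polynomial.aeval (X 0 + X 1 : MvPolynomial (Fin 2) R) u ∈ Tr d := by
  have hp' := hp.out
  by_cases hpow : ∃ i, d = p ^ (i + 1)
  · obtain ⟨i, rfl⟩ := hpow
    rw [Lz_pow p hp'.two_le]
    have hc' : -(((p - 1).factorial : ℕ) : R) * c ∈ W.I (p * p ^ i) := by
      rw [← pow_succ']
      exact Ideal.mul_mem_left _ _ hc
    obtain ⟨s, hsI, hs⟩ := W.root (p ^ i) _ hc'
    refine ⟨expp p s (p ^ i), ?_, ?_, ?_⟩
    · unfold expp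
      apply Subring.sum_mem
      intro j _
      apply W.C_mul_X_pow_mem_W1
      apply Ideal.mul_mem_left
      have := W.pow_mem hsI j
      rwa [mul_comm] at this
    · rw [Polynomial.coeff_zero_eq_eval_zero]
      exact eval_zero_expp hp'.pos s (pow_pos hp'.pos i)
    · rw [pow_succ']
      exact KC2 i c s hs
  · rw [Lz_of_not p d hpow]
    refine ⟨1 + Polynomial.C c * Polynomial.X ^ d, ?_, ?_, KC1 d hd c⟩
    · exact W.W1.add_mem W.W1.one_mem (W.C_mul_X_pow_mem_W1 hc)
    · rw [Polynomial.coeff_add, Polynomial.coeff_one_zero, Polynomial.coeff_C_mul_X_pow,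
        if_neg (by omega), add_zero]

theorem main_step (W : WF R p) :
    ∀ k d : ℕ, 1 ≤ d → d + k = W.B + 1 → ∀ h : MvPolynomial (Fin 2) R, h ∈ W.W2 →
      aeval (![X 1, X 0] : Fin 2 → MvPolynomial (Fin 2) R) h = h → MCoc h →
      h - 1 ∈ Tr (d - 1) →
      ∃ f ∈ W.W1, f.coeff 0 = 1 ∧
        Polynomial.aeval (X 0 + X 1 : MvPolynomial (Fin 2) R) f =
          Polynomial.aeval (X 0 : MvPolynomial (Fin 2) R) f *
            Polynomial.aeval (X 1 : MvPolynomial (Fin 2) R) f * h := by
  intro k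
  induction k with
  | zero =>
    intro d hd hdk h hW _ _ hlow
    have hd' : d - 1 = W.B := by omega
    rw [hd'] at hlow
    have h1 : h - 1 = 0 := W.eq_zero_of_mem_W2 (W.W2.sub_mem hW W.W2.one_mem) hlow
    have h1' : h = 1 := sub_eq_zero.mp h1
    refine ⟨1, W.W1.one_mem, Polynomial.coeff_one_zero, ?_⟩
    rw [h1']
    simp
  | succ k ih =>
    intro d hd hdk h hW hsymm hcoc hlow
    classical
    -- lowest-degree part
    set F := homogeneousComponent d h with hFdef
    have hF : IsCoc F := isCoc_homComp_of_mcoc h d hd hlow hsymm hcoc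
    have hFsupp : ∀ a b, a + b ≠ d → coeff (m2 a b) F = 0 := by
      intro a b hab
      rw [hFdef, coeff_homComp, if_neg hab]
    obtain ⟨c, hc, hFc⟩ := hom_form p d hd F hFsupp hF
    have hcI : c ∈ W.I d := by
      have hle : Ideal.span (Set.range fun m => coeff m F) ≤ W.I d := by
        rw [Ideal.span_le]
        rintro _ ⟨m, rfl⟩
        change coeff m F ∈ W.I d
        rw [hFdef, coeff_homogeneousComponent]
        split_ifs with hm
        · rw [← hm]; exact hW m
        · exact zero_mem _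
      exact hle hc
    obtain ⟨u, hu, hu0, hKC⟩ := exists_corrector W d hd c hcI
    obtain ⟨w, hw, huw, hw0⟩ := W.exists_inv_W1 hu hu0
    set u0 := Polynomial.aeval (X 0 : MvPolynomial (Fin 2) R) u with hu0def
    set u1 := Polynomial.aeval (X 1 : MvPolynomial (Fin 2) R) u with hu1def
    set uadd := Polynomial.aeval (X 0 + X 1 : MvPolynomial (Fin 2) R) u with huadddef
    set wadd := Polynomial.aeval (X 0 + X 1 : MvPolynomial (Fin 2) R) w with hwadddef
    have huw' : uadd * wadd = 1 := by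
      have := congrArg (Polynomial.aeval (X 0 + X 1 : MvPolynomial (Fin 2) R)) huw
      rwa [map_mul, map_one] at this
    -- the new cocycle
    have hβW : u0 * u1 * wadd ∈ W.W2 :=
      W.W2.mul_mem (W.W2.mul_mem (W.aeval_X0_mem hu) (W.aeval_X1_mem hu)) (W.aeval_add_mem hw)
    have hW' : h * (u0 * u1 * wadd) ∈ W.W2 := W.W2.mul_mem hW hβW
    have hsymm' : aeval (![X 1, X 0] : Fin 2 → MvPolynomial (Fin 2) R) (h * (u0 * u1 * wadd)) =
        h * (u0 * u1 * wadd) := by
      rw [map_mul, hsymm, swap_bdry]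
    have hcoc' : MCoc (h * (u0 * u1 * wadd)) := hcoc.mul (MCoc_bdry u w huw)
    have hdiff : h - 1 - F ∈ Tr d := by
      intro m hm
      rw [coeff_sub, coeff_sub, hFdef, coeff_homogeneousComponent]
      by_cases hmd : m.degree = d
      · rw [if_pos hmd, coeff_one, if_neg, sub_zero, sub_self]
        rintro rfl
        rw [map_zero] at hmd
        omega
      · rw [if_neg hmd, sub_zero, ← coeff_sub]
        exact hlow m (by omega)
    have hlow' : h * (u0 * u1 * wadd) - 1 ∈ Tr (d + 1 - 1) := by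
      rw [Nat.add_sub_cancel]
      have e : h * (u0 * u1 * wadd) - 1 =
          ((h - 1 - F) * (u0 * u1) + ((1 + C c * Lz R p d) * u0 * u1 - uadd)) * wadd +
            (uadd * wadd - 1) := by
        rw [← hFc]; ring
      rw [e, huw', sub_self, add_zero]
      exact Ideal.mul_mem_right _ _ (Ideal.add_mem _ (Ideal.mul_mem_right _ _ hdiff) hKC)
    obtain ⟨f', hf'W, hf'0, hf'⟩ := ih (d + 1) (by omega) (by omega) _ hW' hsymm' hcoc' hlow'
    refine ⟨f' * u, W.W1.mul_mem hf'W hu, ?_, ?_⟩
    · rw [Polynomial.mul_coeff_zero, hf'0, hu0, one_mul]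
    · rw [map_mul, map_mul, map_mul]
      linear_combination uadd * hf' +
        (Polynomial.aeval (X 0 : MvPolynomial (Fin 2) R) f' *
          Polynomial.aeval (X 1 : MvPolynomial (Fin 2) R) f' * h * u0 * u1) * huw'

/-- the abstract splitting theorem for a weighted cocycle -/
theorem exists_splitting (W : WF R p) (h : MvPolynomial (Fin 2) R) (hW : h ∈ W.W2)
    (h00 : coeff 0 h = 1)
    (hsymm : aeval (![X 1, X 0] : Fin 2 → MvPolynomial (Fin 2) R) h = h) (hcoc : MCoc h) :
    ∃ f : Polynomial R, IsUnit f ∧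
      Polynomial.aeval (X 0 + X 1 : MvPolynomial (Fin 2) R) f =
        Polynomial.aeval (X 0 : MvPolynomial (Fin 2) R) f *
          Polynomial.aeval (X 1 : MvPolynomial (Fin 2) R) f * h := by
  have hlow : h - 1 ∈ Tr (1 - 1) := by
    intro m hm
    have hm0 : m = 0 := by
      apply (Finsupp.degree_eq_zero_iff _).mp
      omega
    rw [hm0, coeff_sub, h00, coeff_zero_one, sub_self]
  obtain ⟨f, hfW, hf0, hf⟩ := main_step W W.B 1 le_rfl (by omega) h hW hsymm hcoc hlow
  refine ⟨f, ?_, hf⟩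
  rw [Polynomial.isUnit_iff_coeff_isUnit_isNilpotent]
  refine ⟨by rw [hf0]; exact isUnit_one, fun k hk => ⟨W.B + 1, ?_⟩⟩
  apply W.eq_zero_of_mem (n := k * (W.B + 1)) _ (W.pow_mem (hfW k) _)
  have : 1 ≤ k := Nat.one_le_iff_ne_zero.mpr hk
  nlinarith

end Main

end Groth.Agent.Lib.helper13.GaExt
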