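import Mathlib
import Groth.Agent.Lib.helper13.GaExt6

set_option autoImplicit false

namespace Groth.Agent.Lib.helper13.GaExt

open MvPolynomial Finset Groth.Agent.Lib.helper13.Lazard Groth.Agent.Lib.helper13.GaChar
open scoped Pointwise

universe u
variable {R : Type u} [CommRing R]

section Concrete

variable {p : ℕ} [hp : Fact p.Prime] [CharP R p]
variable {ι : Type} [Fintype ι] (wt : ι → ℕ) (ρ : ι → ℕ → R)

/-- generating monomials of weight at least `n` -/
def gens (p : ℕ) (wt : ι → ℕ) (ρ : ι → ℕ → R) (n : ℕ) : Set R :=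
  {x | ∃ (m : ℕ) (e : ι → ℕ), n * p ^ m ≤ ∑ t, e t * wt t ∧ x = ∏ t, ρ t m ^ e t}

omit hp [CharP R p] [Fintype ι] in
lemma rho_lift (hρ : ∀ t m, ρ t (m + 1) ^ p = ρ t m) (t : ι) (m j : ℕ) :
    ρ t (m + j) ^ p ^ j = ρ t m := by
  induction j with
  | zero => simp
  | succ j ih => rw [← add_assoc, pow_succ', pow_mul, hρ, ih]

omit hp [CharP R p] in
lemma gens_lift (hρ : ∀ t m, ρ t (m + 1) ^ p = ρ t m) (m j : ℕ) (e : ι → ℕ) :
    ∏ t, ρ t m ^ e t = ∏ t, ρ t (m + j) ^ (p ^ j * e t) := by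
  apply Finset.prod_congr rfl
  intro t _
  rw [pow_mul, rho_lift ρ hρ]

omit hp [CharP R p] in
lemma gens_mul (hρ : ∀ t m, ρ t (m + 1) ^ p = ρ t m) (a b : ℕ) :
    gens p wt ρ a * gens p wt ρ b ⊆ gens p wt ρ (a + b) := by
  rintro _ ⟨x, ⟨m1, e1, h1, rfl⟩, y, ⟨m2, e2, h2, rfl⟩, rfl⟩
  refine ⟨m1 + m2, fun t => p ^ m2 * e1 t + p ^ m1 * e2 t, ?_, ?_⟩
  · have e : ∑ t, (p ^ m2 * e1 t + p ^ m1 * e2 t) * wt t =
        p ^ m2 * ∑ t, e1 t * wt t + p ^ m1 * ∑ t, e2 t * wt t := by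
      rw [Finset.mul_sum, Finset.mul_sum, ← Finset.sum_add_distrib]
      apply Finset.sum_congr rfl
      intro t _
      ring
    rw [e, pow_add]
    have h1' := Nat.mul_le_mul_left (p ^ m2) h1
    have h2' := Nat.mul_le_mul_left (p ^ m1) h2
    nlinarith
  · rw [gens_lift ρ hρ m1 m2 e1, gens_lift ρ hρ m2 m1 e2, add_comm m2 m1]
    change (∏ t, ρ t (m1 + m2) ^ (p ^ m2 * e1 t)) * (∏ t, ρ t (m1 + m2) ^ (p ^ m1 * e2 t)) =
      ∏ t, ρ t (m1 + m2) ^ (p ^ m2 * e1 t + p ^ m1 * e2 t)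
    rw [← Finset.prod_mul_distrib]
    apply Finset.prod_congr rfl
    intro t _
    rw [pow_add]

/-- the weight filtration attached to compatible systems of `p`-power roots of nilpotents -/
noncomputable def mkWF (hρ : ∀ t m, ρ t (m + 1) ^ p = ρ t m) (k : ℕ)
    (hk : ∀ t, ρ t 0 ^ p ^ k = 0) (hFrob : Function.Surjective (frobenius R p)) : WF R p where
  I n := Ideal.span (gens p wt ρ n)
  top := by
    rw [Ideal.eq_top_iff_one]
    apply Ideal.subset_span
    exact ⟨0, fun _ => 0, by simp, by simp⟩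
  mul a b := by
    rw [Ideal.span_mul_span']
    exact Ideal.span_mono (gens_mul wt ρ hρ a b)
  B := p ^ k * ∑ t, wt t
  bound n hn := by
    have hp' := hp.out
    rw [Ideal.span_eq_bot]
    rintro _ ⟨m, e, hle, rfl⟩
    have hex : ∃ t, p ^ (m + k) ≤ e t := by
      by_contra hcon
      push Not at hcon
      have h1 : ∑ t, e t * wt t ≤ ∑ t, p ^ (m + k) * wt t := by
        apply Finset.sum_le_sum
        intro t _
        exact Nat.mul_le_mul_right _ (hcon t).le
      rw [← Finset.mul_sum, pow_add] at h1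
      have h2 : p ^ m * (p ^ k * ∑ t, wt t) < p ^ m * n :=
        Nat.mul_lt_mul_of_pos_left hn (pow_pos hp'.pos m)
      nlinarith
    obtain ⟨t, ht⟩ := hex
    apply Finset.prod_eq_zero (Finset.mem_univ t)
    apply pow_eq_zero_of_le ht
    have := rho_lift ρ hρ t 0 m
    rw [zero_add] at this
    rw [pow_add, pow_mul, this, hk]
  root n c hc := by
    have hp' := hp.out
    induction hc using Submodule.span_induction with
    | mem x hx =>
      obtain ⟨m, e, hle, rfl⟩ := hx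
      refine ⟨∏ t, ρ t (m + 1) ^ e t, Ideal.subset_span ⟨m + 1, e, ?_, rfl⟩, ?_⟩
      · rw [pow_succ]
        calc n * (p ^ m * p) = p * n * p ^ m := by ring
          _ ≤ _ := hle
      · rw [← Finset.prod_pow]
        apply Finset.prod_congr rfl
        intro t _
        rw [← pow_mul, mul_comm, pow_mul, hρ]
    | zero => exact ⟨0, zero_mem _, zero_pow hp'.ne_zero⟩
    | add x y _ _ hx hy =>
      obtain ⟨s1, hs1, rfl⟩ := hx
      obtain ⟨s2, hs2, rfl⟩ := hy
      exact ⟨s1 + s2, add_mem hs1 hs2, add_pow_char s1 s2 p⟩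
    | smul r x _ hx =>
      obtain ⟨s, hs, rfl⟩ := hx
      obtain ⟨r', hr'⟩ := hFrob r
      rw [frobenius_def] at hr'
      refine ⟨r' * s, Ideal.mul_mem_left _ _ hs, ?_⟩
      rw [mul_pow, hr', smul_eq_mul]

lemma mem_mkWF (hρ : ∀ t m, ρ t (m + 1) ^ p = ρ t m) (k : ℕ)
    (hk : ∀ t, ρ t 0 ^ p ^ k = 0) (hFrob : Function.Surjective (frobenius R p)) (t : ι) :
    ρ t 0 ∈ (mkWF wt ρ hρ k hk hFrob).I (wt t) := by
  classical
  apply Ideal.subset_span
  refine ⟨0, fun s => if s = t then 1 else 0, ?_, ?_⟩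
  · simp
  · rw [Finset.prod_eq_single t]
    · simp
    · intro s _ hs
      simp [hs]
    · intro h
      exact absurd (Finset.mem_univ t) h

end Concrete

end Groth.Agent.Lib.helper13.GaExt
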