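import Mathlib
import Groth.Agent.Lib.helper13.GaExt7

set_option autoImplicit false

namespace Groth.Agent.Lib.helper13.GaExt

open MvPolynomial Finset Groth.Agent.Lib.helper13.Lazard Groth.Agent.Lib.helper13.GaChar

universe u
variable {R : Type u} [CommRing R]

theorem exists_roots {p : ℕ} [Fact p.Prime] [CharP R p] (hFrob : Function.Surjective (frobenius R p)) (x : R) :
    ∃ ρ : ℕ → R, ρ 0 = x ∧ ∀ m, ρ (m + 1) ^ p = ρ m := by
  choose g hg using hFrob
  refine ⟨fun m => g^[m] x, rfl, fun m => ?_⟩
  show (g^[m + 1] x) ^ p = g^[m] x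
  rw [Function.iterate_succ_apply', ← frobenius_def, hg]

theorem coeff_zero_of_normalized (h : MvPolynomial (Fin 2) R)
    (h0 : aeval ![(X 0 : MvPolynomial (Fin 2) R), 0] h = 1) : coeff 0 h = 1 := by
  have h1 := congrArg (aeval (0 : Fin 2 → R)) h0
  rw [comp_aeval_apply, map_one] at h1
  have : (fun i => (aeval (0 : Fin 2 → R)) ((![(X 0 : MvPolynomial (Fin 2) R), 0] : Fin 2 → _) i)) =
      (0 : Fin 2 → R) := by
    funext i
    fin_cases i <;> simp
  rw [this, aeval_zero, constantCoeff_eq] at h1
  simpa using h1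

/-- Over a ring of characteristic `p` with surjective Frobenius, every normalised symmetric
multiplicative polynomial 2-cocycle of the additive group is a coboundary. -/
theorem ext_splits (p : ℕ) [Fact p.Prime] [CharP R p]
    (hFrob : Function.Surjective (frobenius R p))
    (h : MvPolynomial (Fin 2) R) (hu : IsUnit h)
    (h0 : aeval ![(X 0 : MvPolynomial (Fin 2) R), 0] h = 1)
    (hsymm : aeval (![X 1, X 0] : Fin 2 → MvPolynomial (Fin 2) R) h = h)
    (hcoc : MCoc h) :
    ∃ f : Polynomial R, IsUnit f ∧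
      Polynomial.aeval (X 0 + X 1 : MvPolynomial (Fin 2) R) f =
        Polynomial.aeval (X 0 : MvPolynomial (Fin 2) R) f *
          Polynomial.aeval (X 1 : MvPolynomial (Fin 2) R) f * h := by
  classical
  have hp' : p.Prime := Fact.out
  have h00 : coeff 0 h = 1 := coeff_zero_of_normalized h h0
  obtain ⟨n, hn⟩ : ∃ n : MvPolynomial (Fin 2) R, n = h - 1 := ⟨_, rfl⟩
  have hnil : ∀ m, IsNilpotent (coeff m n) := by
    intro m
    rw [hn, coeff_sub]
    by_cases hm : m = 0
    · rw [hm, h00, coeff_zero_one, sub_self]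
      exact IsNilpotent.zero
    · rw [coeff_one, if_neg (Ne.symm hm), sub_zero]
      exact (MvPolynomial.isUnit_iff.mp hu).2 m hm
  let ι : Type := {m // m ∈ n.support}
  choose ρ hρ0 hρ using fun t : ι => exists_roots hFrob (coeff t.1 n)
  choose N hN using fun t : ι => hnil t.1
  have hk : ∀ t, ρ t 0 ^ p ^ (∑ t, N t) = 0 := by
    intro t
    rw [hρ0]
    apply pow_eq_zero_of_le _ (hN t)
    calc N t ≤ ∑ t, N t := Finset.single_le_sum (fun _ _ => Nat.zero_le _) (Finset.mem_univ t)
      _ ≤ p ^ (∑ t, N t) := (Nat.lt_pow_self hp'.one_lt).le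
  let W := mkWF (fun t : ι => t.1.degree) ρ hρ (∑ t, N t) hk hFrob
  have hW : h ∈ W.W2 := by
    intro m
    by_cases hm : m = 0
    · rw [hm, map_zero]
      exact W.mem_zero _
    · have e : coeff m h = coeff m n := by
        rw [hn, coeff_sub, coeff_one, if_neg (Ne.symm hm), sub_zero]
      rw [e]
      by_cases hms : m ∈ n.support
      · have := mem_mkWF (fun t : ι => t.1.degree) ρ hρ (∑ t, N t) hk hFrob ⟨m, hms⟩
        rw [hρ0] at this
        exact this
      · rw [notMem_support_iff.mp hms]
        exact zero_mem _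
  exact exists_splitting W h hW h00 hsymm hcoc

end Groth.Agent.Lib.helper13.GaExt
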