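import Mathlib
import Groth.Prelude.Def_LambdaRing

/-! Helper lemmas on γ-operations of λ-rings (copied from helper5's Lib/helper5/Gamma.lean into helper13's namespace): the γ-series is the λ-series with
`X / (1 - X)` substituted. -/

namespace Groth.Agent.Lib.helper13.GammaAdd

open Finset PowerSeries

/-- The coefficient of `X^k` in `(X/(1-X))^d`. -/
def c (k d : ℕ) : ℕ :=
  if d = 0 then (if k = 0 then 1 else 0) else (if k = 0 then 0 else (k - 1).choose (d - 1))

theorem sum_range_choose' (n r : ℕ) : ∑ m ∈ range n, m.choose r = n.choose (r + 1) := by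
  induction n with
  | zero => simp
  | succ n ih => rw [sum_range_succ, ih, Nat.choose_succ_succ, add_comm]

theorem sum_c (k d : ℕ) : ∑ i ∈ range k, c i d = c k (d + 1) := by
  rcases d with _ | d
  · rcases k with _ | k
    · simp [c]
    · rw [sum_range_succ']
      simp [c]
  · rcases k with _ | k
    · simp [c]
    · rw [sum_range_succ']
      simp only [c, Nat.add_eq_zero_iff, one_ne_zero, and_false, ↓reduceIte, add_tsub_cancel_right,
        add_zero]
      exact sum_range_choose' k d

theorem c_eq_zero_of_lt {k d : ℕ} (h : k < d) : c k d = 0 := by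
  unfold c
  rcases d with _ | d
  · omega
  · rcases k with _ | k
    · simp
    · simp only [Nat.add_eq_zero_iff, one_ne_zero, and_false, ↓reduceIte, add_tsub_cancel_right]
      exact Nat.choose_eq_zero_of_lt (by omega)

variable {K : Type*} [CommRing K]

/-- The power series `X/(1-X) = X + X^2 + ...`. -/
noncomputable def U (K : Type*) [CommRing K] : PowerSeries K :=
  PowerSeries.mk fun n => if n = 0 then 0 else 1

theorem hasSubst_U : HasSubst (U K) := by
  apply HasSubst.of_constantCoeff_zero'
  simp [U]

theorem coeff_U_pow (d k : ℕ) : coeff k ((U K) ^ d) = (c k d : K) := by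
  induction d generalizing k with
  | zero =>
    rw [pow_zero, coeff_one]
    by_cases hk : k = 0 <;> simp [c, hk]
  | succ d ih =>
    rw [pow_succ, coeff_mul, Finset.Nat.sum_antidiagonal_eq_sum_range_succ
      (fun i j => coeff i ((U K) ^ d) * coeff j (U K)), sum_range_succ]
    have h1 : coeff (k - k) (U K) = 0 := by simp [U]
    rw [h1, mul_zero, add_zero, ← sum_c, Nat.cast_sum]
    refine sum_congr rfl fun i hi => ?_
    have hik : k - i ≠ 0 := by
      have := mem_range.mp hi
      omega
    rw [ih, U, coeff_mk, if_neg hik, mul_one]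

end Groth.Agent.Lib.helper13.GammaAdd

namespace Groth.Agent.Lib.helper13.GammaAdd

open Finset PowerSeries LambdaRing

variable {K : Type*} [CommRing K] [LambdaOps K]

theorem gamma_eq_sum (k : ℕ) (x : K) :
    gamma k x = ∑ d ∈ range (k + 1), (c k d : K) * LambdaOps.lam d x := by
  by_cases hk : k = 0
  · subst hk
    simp [gamma, c, LambdaOps.lam_zero]
  · rw [gamma, if_neg hk]
    refine sum_congr rfl fun j _ => ?_
    by_cases hj : j = 0
    · subst hj
      simp [c, hk]
    · simp [c, hk, hj]

theorem coeff_subst_lamSeries (k : ℕ) (x : K) :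
    coeff k ((lamSeries x).subst (U K)) = gamma k x := by
  rw [coeff_subst' hasSubst_U, gamma_eq_sum]
  rw [finsum_eq_sum_of_support_subset (s := range (k + 1))]
  · refine sum_congr rfl fun d _ => ?_
    rw [coeff_U_pow, lamSeries, coeff_mk, smul_eq_mul, mul_comm]
  · intro d hd
    rw [Function.mem_support] at hd
    by_contra hnot
    apply hd
    have : k < d := by
      simp only [coe_range, Set.mem_Iio] at hnot
      omega
    rw [coeff_U_pow, c_eq_zero_of_lt this, Nat.cast_zero, smul_zero]

theorem lamSeries_add (x y : K) : lamSeries (x + y) = lamSeries x * lamSeries y := by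
  ext k
  rw [coeff_mul, lamSeries, coeff_mk, LambdaOps.lam_add,
    Finset.Nat.sum_antidiagonal_eq_sum_range_succ
      (fun i j => coeff i (lamSeries x) * coeff j (lamSeries y))]
  refine sum_congr rfl fun i _ => ?_
  simp [lamSeries]

theorem gamma_add (k : ℕ) (x y : K) :
    gamma k (x + y) = ∑ i ∈ range (k + 1), gamma i x * gamma (k - i) y := by
  rw [← coeff_subst_lamSeries, lamSeries_add, subst_mul hasSubst_U, coeff_mul,
    Finset.Nat.sum_antidiagonal_eq_sum_range_succ
      (fun i j => coeff i ((lamSeries x).subst (U K)) * coeff j ((lamSeries y).subst (U K)))]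
  refine sum_congr rfl fun i _ => ?_
  rw [coeff_subst_lamSeries, coeff_subst_lamSeries]

end Groth.Agent.Lib.helper13.GammaAdd
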