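import Groth.Prelude.Def_LambdaRing
import Mathlib

/-!
Basic facts about the power series `λ_t(x)` of a pre-λ-ring (helper13's helper library).
-/

set_option autoImplicit false
universe u

namespace Groth.Agent.Lib.helper13.Lam

open LambdaRing PowerSeries Finset

variable {K : Type u} [CommRing K] [LambdaOps K]

theorem coeff_lamSeries (x : K) (n : ℕ) : coeff n (lamSeries x) = LambdaOps.lam n x := by
  simp [lamSeries]

theorem lamSeries_add (x y : K) : lamSeries (x + y) = lamSeries x * lamSeries y := by
  ext n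
  rw [coeff_lamSeries, LambdaOps.lam_add, PowerSeries.coeff_mul,
    Finset.Nat.sum_antidiagonal_eq_sum_range_succ_mk]
  simp [coeff_lamSeries]

theorem constantCoeff_lamSeries (x : K) : constantCoeff (lamSeries x) = 1 := by
  rw [← coeff_zero_eq_constantCoeff_apply, coeff_lamSeries, LambdaOps.lam_zero]

theorem isUnit_lamSeries (x : K) : IsUnit (lamSeries x) := by
  rw [PowerSeries.isUnit_iff_constantCoeff, constantCoeff_lamSeries]
  exact isUnit_one

theorem lamSeries_zero : lamSeries (0 : K) = 1 := by
  have h : lamSeries (0 : K) * lamSeries (0 : K) = lamSeries (0 : K) := by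
    rw [← lamSeries_add, add_zero]
  obtain ⟨u, hu⟩ := isUnit_lamSeries (0 : K)
  rw [← hu] at h ⊢
  have : (u : PowerSeries K) * u * ↑u⁻¹ = u * ↑u⁻¹ := by rw [h]
  simpa using this

theorem lamSeries_neg_mul (x : K) : lamSeries (-x) * lamSeries x = 1 := by
  rw [← lamSeries_add, neg_add_cancel, lamSeries_zero]

theorem lamSeries_one (h1 : ∀ k : ℕ, 2 ≤ k → LambdaOps.lam k (1 : K) = 0) :
    lamSeries (1 : K) = 1 + X := by
  ext n
  rw [coeff_lamSeries]
  rcases n with _ | _ | n
  · simp [LambdaOps.lam_zero]
  · simp [LambdaOps.lam_one, coeff_one_X]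
  · rw [h1 (n + 2) (by omega)]
    simp [coeff_X, coeff_one]

theorem lamSeries_natCast (h1 : ∀ k : ℕ, 2 ≤ k → LambdaOps.lam k (1 : K) = 0) (n : ℕ) :
    lamSeries ((n : ℕ) : K) = (1 + X) ^ n := by
  induction n with
  | zero => simp [lamSeries_zero]
  | succ n ih => rw [Nat.cast_succ, lamSeries_add, ih, lamSeries_one h1, pow_succ]

omit [LambdaOps K] in
theorem coeff_one_add_X_pow (n k : ℕ) :
    coeff k ((1 + X : PowerSeries K) ^ n) = (n.choose k : K) := by
  have : ((1 + X : PowerSeries K) ^ n) = (((1 + Polynomial.X : Polynomial K) ^ n : Polynomial K) :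
      PowerSeries K) := by
    simp
  rw [this, Polynomial.coeff_coe, Polynomial.coeff_one_add_X_pow]

end Groth.Agent.Lib.helper13.Lam
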