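import Groth.Prelude.Def_LambdaSp
import Groth.Agent.Lib.helper5.Gamma
import Groth.Agent.Lib.helper13.LamSeries

/-!
The γ-filtration of an augmented algebra is spanned, as a module over the base, by products of
γ-operations of the elements `s - ε s`, `s` running through additive generators (helper13).
-/

set_option autoImplicit false
set_option linter.unusedSectionVars false

namespace Groth.Agent.Lib.helper13.GammaFilSpan

open LambdaRing Finset

universe u v

section Basic

variable {A : Type v} [CommRing A] [LambdaOps A]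

theorem gamma_zero_left (x : A) : gamma 0 x = 1 := by
  simp [gamma]

theorem lam_zero_arg (j : ℕ) (hj : j ≠ 0) : LambdaOps.lam j (0 : A) = 0 := by
  have h := congrArg (PowerSeries.coeff j) (Groth.Agent.Lib.helper13.Lam.lamSeries_zero (K := A))
  rw [Groth.Agent.Lib.helper13.Lam.coeff_lamSeries, PowerSeries.coeff_one, if_neg hj] at h
  exact h

theorem gamma_zero_arg (k : ℕ) (hk : k ≠ 0) : gamma k (0 : A) = 0 := by
  rw [gamma, if_neg hk]
  apply Finset.sum_eq_zero
  intro j _
  by_cases hj : j = 0
  · simp [hj]
  · rw [if_neg hj, lam_zero_arg j hj, mul_zero]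

theorem gamma_one_left (x : A) : gamma 1 x = x := by
  rw [gamma, if_neg one_ne_zero, Finset.sum_range_succ, Finset.sum_range_succ, Finset.sum_range_zero]
  simp [LambdaOps.lam_one]

end Basic

section Main

variable {K : Type u} [CommRing K] {A : Type v} [CommRing A] [LambdaOps A] [Algebra K A]
  (ε : A →ₐ[K] K) (S : Set A)

/-- The generating products of weight at least `n`. -/
def G (n : ℕ) : Set A :=
  {y : A | ∃ l : List (ℕ × A), (∀ p ∈ l, p.2 ∈ S) ∧ n ≤ (l.map Prod.fst).sum ∧
    y = (l.map fun p => gamma p.1 (p.2 - algebraMap K A (ε p.2))).prod}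

/-- Their `K`-span. -/
def I (n : ℕ) : Submodule K A := Submodule.span K (G ε S n)

theorem G_anti {a b : ℕ} (h : a ≤ b) : G ε S b ⊆ G ε S a := by
  rintro y ⟨l, hl, hn, rfl⟩
  exact ⟨l, hl, h.trans hn, rfl⟩

theorem I_anti {a b : ℕ} (h : a ≤ b) : I ε S b ≤ I ε S a :=
  Submodule.span_mono (G_anti ε S h)

theorem G_mul {a b : ℕ} {y y' : A} (hy : y ∈ G ε S a) (hy' : y' ∈ G ε S b) :
    y * y' ∈ G ε S (a + b) := by
  obtain ⟨l, hl, hn, rfl⟩ := hy
  obtain ⟨l', hl', hn', rfl⟩ := hy'
  refine ⟨l ++ l', ?_, ?_, ?_⟩
  · intro p hp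
    rcases List.mem_append.mp hp with h | h
    · exact hl p h
    · exact hl' p h
  · rw [List.map_append, List.sum_append]
    exact Nat.add_le_add hn hn'
  · rw [List.map_append, List.prod_append]

theorem I_mul {a b : ℕ} {y y' : A} (hy : y ∈ I ε S a) (hy' : y' ∈ I ε S b) :
    y * y' ∈ I ε S (a + b) := by
  have h : I ε S a * I ε S b ≤ I ε S (a + b) := by
    unfold I
    rw [Submodule.span_mul_span]
    apply Submodule.span_mono
    rintro _ ⟨y, hy, y', hy', rfl⟩
    exact G_mul ε S hy hy'
  exact h (Submodule.mul_mem_mul hy hy')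

theorem one_mem_I : (1 : A) ∈ I ε S 0 :=
  Submodule.subset_span ⟨[], by simp, by simp, by simp⟩

/-- The subgroup generated by the `s - ε s`. -/
def T : AddSubgroup A := AddSubgroup.closure {y : A | ∃ s ∈ S, y = s - algebraMap K A (ε s)}

theorem gamma_mem_of_mem_T {x : A} (hx : x ∈ T ε S) : ∀ i : ℕ, gamma i x ∈ I ε S i := by
  unfold T at hx
  induction hx using AddSubgroup.closure_induction with
  | mem y hy =>
    obtain ⟨s, hs, rfl⟩ := hy
    intro i
    exact Submodule.subset_span ⟨[(i, s)], by simpa using hs, by simp, by simp⟩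
  | zero =>
    intro i
    rcases Nat.eq_zero_or_pos i with rfl | hi
    · rw [gamma_zero_left]
      exact one_mem_I ε S
    · rw [gamma_zero_arg i (by omega)]
      exact Submodule.zero_mem _
  | add u v _ _ hu hv =>
    intro i
    rw [Groth.Agent.H5.Gamma.gamma_add]
    apply Submodule.sum_mem
    intro a ha
    have ha' : a ≤ i := Nat.lt_succ_iff.mp (Finset.mem_range.mp ha)
    have h := I_mul ε S (hu a) (hv (i - a))
    rwa [Nat.add_sub_cancel' ha'] at h
  | neg u _ hu =>
    intro i
    induction i using Nat.strong_induction_on with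
    | _ i ih =>
      rcases Nat.eq_zero_or_pos i with rfl | hi
      · rw [gamma_zero_left]
        exact one_mem_I ε S
      · have h := Groth.Agent.H5.Gamma.gamma_add i u (-u)
        rw [add_neg_cancel, gamma_zero_arg i (by omega), Finset.sum_range_succ', gamma_zero_left,
          one_mul, Nat.sub_zero] at h
        have h' : gamma i (-u) = -∑ a ∈ range i, gamma (a + 1) u * gamma (i - (a + 1)) (-u) := by
          linear_combination -h
        rw [h']
        apply Submodule.neg_mem
        apply Submodule.sum_mem
        intro a ha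
        have ha' : a + 1 ≤ i := Finset.mem_range.mp ha
        have h2 := I_mul ε S (hu (a + 1)) (ih (i - (a + 1)) (by omega))
        rwa [Nat.add_sub_cancel' ha'] at h2

variable (hS : AddSubgroup.closure S = ⊤)

include hS in
theorem sub_mem_T (x : A) : x - algebraMap K A (ε x) ∈ T ε S := by
  have hx : x ∈ AddSubgroup.closure S := by rw [hS]; trivial
  induction hx using AddSubgroup.closure_induction with
  | mem y hy => exact AddSubgroup.subset_closure ⟨y, hy, rfl⟩
  | zero => simp
  | add u v _ _ hu hv =>
    have : u + v - algebraMap K A (ε (u + v)) =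
        (u - algebraMap K A (ε u)) + (v - algebraMap K A (ε v)) := by
      rw [map_add, map_add]; ring
    rw [this]
    exact (T ε S).add_mem hu hv
  | neg u _ hu =>
    have : -u - algebraMap K A (ε (-u)) = -(u - algebraMap K A (ε u)) := by
      rw [map_neg, map_neg]; ring
    rw [this]
    exact (T ε S).neg_mem hu

include hS in
theorem mem_T_of_aug_eq_zero {x : A} (hx : ε x = 0) : x ∈ T ε S := by
  have h := sub_mem_T ε S hS x
  rwa [hx, map_zero, sub_zero] at h

include hS in
theorem mem_I_zero (a : A) : a ∈ I ε S 0 := by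
  have h1 : a - algebraMap K A (ε a) ∈ I ε S 0 := by
    have h := gamma_mem_of_mem_T ε S (sub_mem_T ε S hS a) 1
    rw [gamma_one_left] at h
    exact I_anti ε S (Nat.zero_le 1) h
  have h2 : algebraMap K A (ε a) ∈ I ε S 0 := by
    rw [Algebra.algebraMap_eq_smul_one]
    exact Submodule.smul_mem _ _ (one_mem_I ε S)
  have := Submodule.add_mem _ h1 h2
  rwa [sub_add_cancel] at this

include hS in
theorem prod_mem_I (l : List (ℕ × A)) (hl : ∀ p ∈ l, ε p.2 = 0) :
    (l.map fun p => gamma p.1 p.2).prod ∈ I ε S (l.map Prod.fst).sum := by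
  induction l with
  | nil => simpa using one_mem_I ε S
  | cons p l ih =>
    simp only [List.map_cons, List.prod_cons, List.sum_cons]
    apply I_mul
    · exact gamma_mem_of_mem_T ε S (mem_T_of_aug_eq_zero ε S hS (hl p (by simp))) p.1
    · exact ih (fun q hq => hl q (by simp [hq]))

include hS in
theorem gammaFil_eq (n : ℕ) :
    (gammaFil (ε : A →+* K) n).restrictScalars K = I ε S n := by
  apply le_antisymm
  · intro y hy
    rw [Submodule.restrictScalars_mem] at hy
    unfold gammaFil at hy
    induction hy using Submodule.span_induction with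
    | mem y hy =>
      obtain ⟨l, hl, hn, rfl⟩ := hy
      exact I_anti ε S hn (prod_mem_I ε S hS l hl)
    | zero => exact Submodule.zero_mem _
    | add u v _ _ hu hv => exact Submodule.add_mem _ hu hv
    | smul a u _ hu =>
      have h := I_mul ε S (mem_I_zero ε S hS a) hu
      rwa [zero_add] at h
  · unfold I
    rw [Submodule.span_le]
    rintro y ⟨l, hl, hn, rfl⟩
    rw [SetLike.mem_coe, Submodule.restrictScalars_mem]
    apply Ideal.subset_span
    refine ⟨l.map fun p => (p.1, p.2 - algebraMap K A (ε p.2)), ?_, ?_, ?_⟩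
    · intro p hp
      obtain ⟨q, _, rfl⟩ := List.mem_map.mp hp
      change ε (q.2 - algebraMap K A (ε q.2)) = 0
      rw [map_sub, AlgHom.commutes]
      simp
    · rw [List.map_map]
      exact hn
    · rw [List.map_map]
      rfl

end Main

end Groth.Agent.Lib.helper13.GammaFilSpan
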