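import Groth.Agent.Lib.helper13.GammaAdd
import Groth.Agent.Lib.helper13.GammaFilSpan
import Groth.Agent.Lib.helper13.LamSeries
import Groth.Agent.S8649
import Groth.Prelude.Def_LambdaSp

/-!
Basic facts on the γ-operations and the γ-filtration `gammaFil` (helper13's helper library).
-/

set_option autoImplicit false

namespace Groth.Agent.Lib.helper13.GammaBasic

open LambdaRing Finset
open Groth.Agent.Lib.helper13.GammaFilSpan

universe u v w

section Gamma

variable {A : Type u} [CommRing A] [LambdaOps A]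

theorem gamma_add (k : ℕ) (x y : A) :
    gamma k (x + y) = ∑ i ∈ range (k + 1), gamma i x * gamma (k - i) y :=
  Groth.Agent.Lib.helper13.GammaAdd.gamma_add k x y

theorem gamma_zero (x : A) : gamma 0 x = 1 := gamma_zero_left x

theorem gamma_one (x : A) : gamma 1 x = x := gamma_one_left x

theorem gamma_arg_zero (k : ℕ) (hk : k ≠ 0) : gamma k (0 : A) = 0 := gamma_zero_arg k hk

/-- Ring maps commuting with the `λ^n` commute with the `γ^n`. -/
theorem map_gamma {B : Type v} [CommRing B] [LambdaOps B] (φ : A →+* B) (x : A)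
    (h : ∀ n, φ (LambdaOps.lam n x) = LambdaOps.lam n (φ x)) (k : ℕ) :
    φ (gamma k x) = gamma k (φ x) := by
  unfold gamma
  split_ifs with hk
  · exact map_one φ
  · rw [map_sum]
    refine Finset.sum_congr rfl fun j _ => ?_
    rw [map_mul, map_natCast]
    split_ifs with hj
    · rw [map_zero]
    · rw [h]

/-- If all `γ^j(x)`, `j ≥ 1`, lie in a subring then so do all `λ^k(x)`. -/
theorem lam_mem_of_gamma_mem (T : Subring A) (x : A) (h : ∀ j : ℕ, 1 ≤ j → gamma j x ∈ T)
    (k : ℕ) : LambdaOps.lam k x ∈ T := by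
  induction k using Nat.strong_induction_on with
  | _ k ih =>
    rcases k with _ | k
    · rw [LambdaOps.lam_zero]; exact T.one_mem
    · have hg := h (k + 1) (by omega)
      rw [gamma, if_neg (Nat.succ_ne_zero k), Finset.sum_range_succ] at hg
      simp only [Nat.add_sub_cancel, Nat.choose_self, Nat.cast_one, one_mul,
        if_neg (Nat.succ_ne_zero k)] at hg
      have hs : ∑ j ∈ range (k + 1), (((k + 1 - 1).choose (j - 1) : ℕ) : A) *
          (if j = 0 then 0 else LambdaOps.lam j x) ∈ T := by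
        refine T.sum_mem fun j hj => T.mul_mem (natCast_mem T _) ?_
        split_ifs
        · exact T.zero_mem
        · exact ih j (Finset.mem_range.mp hj)
      have := T.sub_mem hg hs
      simpa using this

/-- Conversely. -/
theorem gamma_mem_of_lam_mem (T : Subring A) (x : A) (h : ∀ j : ℕ, LambdaOps.lam j x ∈ T)
    (k : ℕ) : gamma k x ∈ T := by
  unfold gamma
  split_ifs
  · exact T.one_mem
  · refine T.sum_mem fun j _ => T.mul_mem (natCast_mem T _) ?_
    split_ifs
    · exact T.zero_mem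
    · exact h j

end Gamma

section Rank

variable {A : Type u} [CommRing A] [LambdaOps A]
  (h1 : ∀ k : ℕ, 2 ≤ k → LambdaOps.lam k (1 : A) = 0)

include h1 in
theorem lam_natCast (q i : ℕ) : LambdaOps.lam i ((q : ℕ) : A) = (q.choose i : A) := by
  have h := congrArg (PowerSeries.coeff i) (Groth.Agent.Lib.helper13.Lam.lamSeries_natCast h1 q)
  rw [Groth.Agent.Lib.helper13.Lam.coeff_lamSeries,
    Groth.Agent.Lib.helper13.Lam.coeff_one_add_X_pow] at h
  exact h

include h1 in
/-- `γ^i(-m) = 0` for `i > m`. -/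
theorem gamma_neg_natCast_eq_zero (m i : ℕ) (hi : m < i) : gamma i (-(m : A)) = 0 := by
  rw [Groth.Agent.S8649.result A h1 i]
  have e : -(m : A) + (i : A) - 1 = ((i - 1 - m : ℕ) : A) := by
    have : i - 1 - m + 1 + m = i := by omega
    have h2 := congrArg (Nat.cast : ℕ → A) this
    push_cast at h2 ⊢
    linear_combination -h2
  rw [e, lam_natCast h1, Nat.choose_eq_zero_of_lt (by omega), Nat.cast_zero]

include h1 in
/-- If `γ^k(x) = 0` for `k > n` then `x + n` has λ-rank at most `n`. -/
theorem lam_add_natCast_eq_zero (x : A) (n : ℕ) (hx : ∀ k : ℕ, n < k → gamma k x = 0)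
    (k : ℕ) (hk : n < k) : LambdaOps.lam k (x + (n : A)) = 0 := by
  have e : x + (n : A) = (x + -(((k - 1 - n : ℕ)) : A)) + (k : A) - 1 := by
    have : k - 1 - n + 1 + n = k := by omega
    have h2 := congrArg (Nat.cast : ℕ → A) this
    push_cast at h2 ⊢
    linear_combination h2
  rw [e, ← Groth.Agent.S8649.result A h1 k, gamma_add]
  refine Finset.sum_eq_zero fun j hj => ?_
  by_cases hjn : n < j
  · rw [hx j hjn, zero_mul]
  · rw [gamma_neg_natCast_eq_zero h1 (k - 1 - n) (k - j) (by omega), mul_zero]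

end Rank

section Fil

variable {K : Type u} {A : Type v} [CommRing K] [CommRing A] [LambdaOps A] (ε : A →+* K)

theorem gammaFil_anti {a b : ℕ} (h : a ≤ b) : gammaFil ε b ≤ gammaFil ε a := by
  apply Ideal.span_mono
  rintro y ⟨l, hl, hn, rfl⟩
  exact ⟨l, hl, h.trans hn, rfl⟩

theorem gen_mem_gammaFil (l : List (ℕ × A)) (hl : ∀ p ∈ l, ε p.2 = 0) (n : ℕ)
    (hn : n ≤ (l.map Prod.fst).sum) : (l.map fun p => gamma p.1 p.2).prod ∈ gammaFil ε n :=
  Ideal.subset_span ⟨l, hl, hn, rfl⟩

theorem one_mem_gammaFil_zero : (1 : A) ∈ gammaFil ε 0 := by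
  have := gen_mem_gammaFil ε [] (by simp) 0 (by simp)
  simpa using this

theorem gammaFil_zero : gammaFil ε 0 = ⊤ := by
  rw [Ideal.eq_top_iff_one]
  exact one_mem_gammaFil_zero ε

theorem gamma_mem_gammaFil {x : A} (hx : ε x = 0) (i : ℕ) : gamma i x ∈ gammaFil ε i := by
  have := gen_mem_gammaFil ε [(i, x)] (by simpa using hx) i (by simp)
  simpa using this

theorem mul_mem_gammaFil {a b : ℕ} {x y : A} (hx : x ∈ gammaFil ε a) (hy : y ∈ gammaFil ε b) :
    x * y ∈ gammaFil ε (a + b) := by
  have h : gammaFil ε a * gammaFil ε b ≤ gammaFil ε (a + b) := by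
    unfold gammaFil
    rw [Ideal.span_mul_span]
    apply Ideal.span_le.mpr
    rintro z ⟨y1, ⟨l, hl, hn, rfl⟩, y2, ⟨l', hl', hn', rfl⟩, rfl⟩
    refine Ideal.subset_span ⟨l ++ l', ?_, ?_, ?_⟩
    · intro p hp
      rcases List.mem_append.mp hp with h | h
      · exact hl p h
      · exact hl' p h
    · rw [List.map_append, List.sum_append]
      exact Nat.add_le_add hn hn'
    · rw [List.map_append, List.prod_append]
  exact h (Ideal.mul_mem_mul hx hy)

theorem pow_mem_gammaFil {a : ℕ} {x : A} (hx : x ∈ gammaFil ε a) (e : ℕ) :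
    x ^ e ∈ gammaFil ε (a * e) := by
  induction e with
  | zero =>
    rw [pow_zero, Nat.mul_zero]
    exact one_mem_gammaFil_zero ε
  | succ e ih =>
    rw [pow_succ, Nat.mul_succ]
    exact mul_mem_gammaFil ε ih hx

theorem prod_mem_gammaFil {ι : Type*} (s : Finset ι) (x : ι → A) (n : ι → ℕ)
    (h : ∀ i ∈ s, x i ∈ gammaFil ε (n i)) : ∏ i ∈ s, x i ∈ gammaFil ε (∑ i ∈ s, n i) := by
  classical
  induction s using Finset.induction_on with
  | empty => simpa using one_mem_gammaFil_zero ε
  | insert a s ha ih =>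
    rw [Finset.prod_insert ha, Finset.sum_insert ha]
    exact mul_mem_gammaFil ε (h a (Finset.mem_insert_self a s))
      (ih fun i hi => h i (Finset.mem_insert_of_mem hi))

/-- Functoriality of the γ-filtration. -/
theorem map_mem_gammaFil {B : Type w} [CommRing B] [LambdaOps B] (εB : B →+* K) (φ : A →+* B)
    (hε : ∀ a, εB (φ a) = ε a) (hγ : ∀ (k : ℕ) (a : A), φ (gamma k a) = gamma k (φ a))
    {n : ℕ} {x : A} (hx : x ∈ gammaFil ε n) : φ x ∈ gammaFil εB n := by
  have h : Ideal.map φ (gammaFil ε n) ≤ gammaFil εB n := by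
    unfold gammaFil
    rw [Ideal.map_span]
    apply Ideal.span_le.mpr
    rintro z ⟨y, ⟨l, hl, hn, rfl⟩, rfl⟩
    refine Ideal.subset_span ⟨l.map fun p => (p.1, φ p.2), ?_, ?_, ?_⟩
    · intro p hp
      obtain ⟨q, hq, rfl⟩ := List.mem_map.mp hp
      simp only
      rw [hε]
      exact hl q hq
    · rw [List.map_map]
      exact hn
    · rw [map_list_prod, List.map_map, List.map_map]
      congr 1
      apply List.map_congr_left
      intro p _
      simp only [Function.comp_apply]
      exact hγ p.1 p.2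
  exact h (Ideal.mem_map_of_mem φ hx)

/-- Lifting of the γ-filtration along a surjection which is surjective on augmentation ideals. -/
theorem exists_mem_gammaFil_of_surjective {B : Type w} [CommRing B] [LambdaOps B] (εB : B →+* K)
    (φ : A →+* B) (hφ : Function.Surjective φ)
    (hlift : ∀ b : B, εB b = 0 → ∃ a : A, ε a = 0 ∧ φ a = b)
    (hγ : ∀ (k : ℕ) (a : A), φ (gamma k a) = gamma k (φ a))
    {n : ℕ} {y : B} (hy : y ∈ gammaFil εB n) : ∃ x ∈ gammaFil ε n, φ x = y := by
  have hex : ∀ l : List (ℕ × B), (∀ p ∈ l, εB p.2 = 0) →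
      ∃ l' : List (ℕ × A), (∀ p ∈ l', ε p.2 = 0) ∧ l'.map Prod.fst = l.map Prod.fst ∧
        (l'.map fun p => φ (gamma p.1 p.2)) = l.map fun p => gamma p.1 p.2 := by
    intro l
    induction l with
    | nil => intro _; exact ⟨[], by simp, rfl, rfl⟩
    | cons q l ih =>
      intro hl
      obtain ⟨l', h1, h2, h3⟩ := ih (fun p hp => hl p (List.mem_cons_of_mem _ hp))
      obtain ⟨a, ha, hφa⟩ := hlift q.2 (hl q List.mem_cons_self)
      refine ⟨(q.1, a) :: l', ?_, ?_, ?_⟩
      · intro p hp
        rcases List.mem_cons.mp hp with rfl | hp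
        · exact ha
        · exact h1 p hp
      · simp [h2]
      · rw [List.map_cons, List.map_cons, h3, hγ, hφa]
  have h : gammaFil εB n ≤ Ideal.map φ (gammaFil ε n) := by
    unfold gammaFil
    apply Ideal.span_le.mpr
    rintro z ⟨l, hl, hn, rfl⟩
    obtain ⟨l', h1, h2, h3⟩ := hex l hl
    have e : (l.map fun p => gamma p.1 p.2).prod = φ ((l'.map fun p => gamma p.1 p.2).prod) := by
      rw [map_list_prod, List.map_map, ← h3]
      rfl
    rw [e]
    apply Ideal.mem_map_of_mem
    exact Ideal.subset_span ⟨l', h1, by rw [h2]; exact hn, rfl⟩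
  exact (Ideal.mem_map_iff_of_surjective φ hφ).mp (h hy)

end Fil

end Groth.Agent.Lib.helper13.GammaBasic
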