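import Mathlib

/-!
# Gauss–Jacobi product formula: auxiliary lemmas (helper13)
-/

set_option autoImplicit false
open BigOperators

namespace Groth.Agent.Lib.helper13.GJ

variable {F : Type} [Field F] [Fintype F] [DecidableEq F] {R : Type} [CommRing R] [IsDomain R]

/-- `T φ c = Σ_{x : ι → F, Σ x = c} ∏ φ_i (x_i)`. -/
noncomputable def T {ι : Type} [Fintype ι] [DecidableEq ι] (φ : ι → MulChar F R) (c : F) : R :=
  ∑ x : ι → F, if ∑ i, x i = c then ∏ i, φ i (x i) else 0

/-- additive characters turn finite sums into products. -/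
lemma addChar_sum {ι : Type} (s : Finset ι) (ψ : AddChar F R) (x : ι → F) :
    ψ (∑ i ∈ s, x i) = ∏ i ∈ s, ψ (x i) := by
  classical
  induction s using Finset.induction_on with
  | empty => simp
  | insert a s ha ih =>
    rw [Finset.sum_insert ha, Finset.prod_insert ha, AddChar.map_add_eq_mul, ih]

/-- Fourier transform of `T`. -/
lemma sum_addChar_mul_T {ι : Type} [Fintype ι] [DecidableEq ι] (φ : ι → MulChar F R)
    (ψ : AddChar F R) :
    ∑ c, ψ c * T φ c = ∏ i, ∑ y, ψ y * φ i y := by
  unfold T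
  rw [Finset.prod_univ_sum]
  simp only [Fintype.piFinset_univ]
  simp_rw [Finset.mul_sum]
  rw [Finset.sum_comm]
  refine Finset.sum_congr rfl fun x _ => ?_
  simp only [mul_ite, mul_zero]
  rw [Finset.sum_ite_eq]
  simp only [Finset.mem_univ, if_true]
  rw [addChar_sum, Finset.prod_mul_distrib]

/-- units-indexed sums agree with `T`. -/
lemma units_sum_eq_T {ι : Type} [Fintype ι] [DecidableEq ι] (φ : ι → MulChar F R) (c : F) :
    ∑ x ∈ (Finset.univ : Finset (ι → Fˣ)).filter (fun x => ∑ i, ((x i : Fˣ) : F) = c),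
        ∏ i, φ i ((x i : Fˣ) : F) = T φ c := by
  unfold T
  rw [Finset.sum_filter]
  refine Fintype.sum_of_injective (fun (x : ι → Fˣ) (i : ι) => ((x i : Fˣ) : F)) ?_
    (fun x : ι → Fˣ => if ∑ i, ((x i : Fˣ) : F) = c then ∏ i, φ i ((x i : Fˣ) : F) else 0)
    (fun x : ι → F => if ∑ i, x i = c then ∏ i, φ i (x i) else 0) ?_ ?_
  · intro x y h
    funext i
    exact Units.ext (congrFun h i)
  · intro y hy
    have : ∃ i, y i = 0 := by
      by_contra hcon
      push Not at hcon
      exact hy ⟨fun i => Units.mk0 (y i) (hcon i), by funext i; simp⟩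
    obtain ⟨i, hi⟩ := this
    rw [Finset.prod_eq_zero (Finset.mem_univ i) (by rw [hi]; exact MulChar.map_zero _)]
    simp
  · intro x
    rfl

/-- evaluation of a finite product of multiplicative characters at a unit. -/
lemma prod_apply {ι : Type} (s : Finset ι) (φ : ι → MulChar F R) {t : F} (ht : t ≠ 0) :
    (∏ i ∈ s, φ i) t = ∏ i ∈ s, φ i t := by
  classical
  induction s using Finset.induction_on with
  | empty => simp [MulChar.one_apply (isUnit_iff_ne_zero.mpr ht)]
  | insert a s ha ih => rw [Finset.prod_insert ha, Finset.prod_insert ha, MulChar.mul_apply, ih]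

/-- The core identity. -/
theorem core (N : ℕ) (φ : Fin (N + 1) → MulChar F R) (hprod : ∏ i, φ i = 1)
    (hnt : ∃ i : Fin N, φ i.succ ≠ 1) (Ψ : AddChar F R) (hΨ : Ψ ≠ 1) :
    (Fintype.card F : R) * T (fun i : Fin N => φ i.succ) (-1) = ∏ i, ∑ y, Ψ y * φ i y := by
  have hprim : Ψ.IsPrimitive := AddChar.IsPrimitive.of_ne_one hΨ
  set T' := T (fun i : Fin N => φ i.succ) with hT'
  -- step (a)
  have ha : (Fintype.card F : R) * T' (-1) = ∑ t, ∑ c, Ψ (t * (c + 1)) * T' c := by
    rw [Finset.sum_comm]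
    simp_rw [← Finset.sum_mul, AddChar.sum_mulShift _ hprim]
    rw [Finset.sum_eq_single (-1)]
    · simp
    · intro b _ hb
      rw [if_neg, Nat.cast_zero, zero_mul]
      intro h
      exact hb (eq_neg_of_add_eq_zero_left h)
    · intro h
      exact absurd (Finset.mem_univ _) h
  -- step (b)
  have hb : ∀ t, ∑ c, Ψ (t * (c + 1)) * T' c
      = Ψ t * ∏ i : Fin N, ∑ y, (AddChar.mulShift Ψ t) y * φ i.succ y := by
    intro t
    rw [← sum_addChar_mul_T, Finset.mul_sum]
    refine Finset.sum_congr rfl fun c _ => ?_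
    rw [AddChar.mulShift_apply, mul_add, mul_one, AddChar.map_add_eq_mul]
    ring
  -- steps (c), (d)
  have hc : ∀ t, Ψ t * ∏ i : Fin N, ∑ y, (AddChar.mulShift Ψ t) y * φ i.succ y
      = (Ψ t * φ 0 t) * ∏ i : Fin N, ∑ y, Ψ y * φ i.succ y := by
    intro t
    by_cases ht : t = 0
    · subst ht
      obtain ⟨i, hi⟩ := hnt
      rw [Finset.prod_eq_zero (Finset.mem_univ i), MulChar.map_zero]
      · simp
      · simp only [AddChar.mulShift_zero, AddChar.one_apply, one_mul]
        exact MulChar.sum_eq_zero_of_ne_one hi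
    · have h1 : (∏ i : Fin N, φ i.succ t) * φ 0 t = 1 := by
        have := prod_apply (R := R) Finset.univ φ ht
        rw [hprod, MulChar.one_apply (isUnit_iff_ne_zero.mpr ht), Fin.prod_univ_succ] at this
        rw [mul_comm]
        exact this.symm
      have h2 : ∀ i : Fin N, φ i.succ t * ∑ y, (AddChar.mulShift Ψ t) y * φ i.succ y
          = ∑ y, Ψ y * φ i.succ y := by
        intro i
        have := gaussSum_mulShift (φ i.succ) Ψ (Units.mk0 t ht)
        simp only [gaussSum, Units.val_mk0] at this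
        rw [show (∑ y, (AddChar.mulShift Ψ t) y * φ i.succ y)
            = ∑ y, φ i.succ y * (AddChar.mulShift Ψ t) y from
              Finset.sum_congr rfl fun y _ => mul_comm _ _, this]
        exact Finset.sum_congr rfl fun y _ => mul_comm _ _
      calc Ψ t * ∏ i : Fin N, ∑ y, (AddChar.mulShift Ψ t) y * φ i.succ y
          = Ψ t * (((∏ i : Fin N, φ i.succ t) * φ 0 t)
              * ∏ i : Fin N, ∑ y, (AddChar.mulShift Ψ t) y * φ i.succ y) := by
            rw [h1, one_mul]
        _ = (Ψ t * φ 0 t) * ∏ i : Fin N,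
              (φ i.succ t * ∑ y, (AddChar.mulShift Ψ t) y * φ i.succ y) := by
            rw [Finset.prod_mul_distrib]; ring
        _ = _ := by
            rw [Finset.prod_congr rfl fun i _ => h2 i]
  rw [ha, Finset.sum_congr rfl fun t _ => (hb t).trans (hc t), ← Finset.sum_mul,
    Fin.prod_univ_succ]

end Groth.Agent.Lib.helper13.GJ
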