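import Mathlib

/-!
# Hasse–Davenport, part 1: the multiplicative function on monic polynomials (helper13)
-/

set_option autoImplicit false

namespace Groth.Agent.Lib.helper13.HD

open Polynomial

variable {F : Type} [Field F] [Fintype F] {R : Type} [CommRing R] [IsDomain R]
  (χ : MulChar F R) (ψ : AddChar F R)

/-- the multiplicative function `λ(f) = χ(c_d) ψ(c_1)` for `f = x^d - c_1 x^{d-1} + ⋯ ± c_d` -/
noncomputable def lam (f : F[X]) : R :=
  χ ((-1) ^ f.natDegree * f.coeff 0) * ψ (-f.nextCoeff)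

theorem lam_one : lam χ ψ (1 : F[X]) = 1 := by
  have h : (1 : F[X]).nextCoeff = 0 := by
    rw [← C_1]; exact nextCoeff_C_eq_zero 1
  simp [lam, h]

theorem lam_mul {f g : F[X]} (hf : f.Monic) (hg : g.Monic) :
    lam χ ψ (f * g) = lam χ ψ f * lam χ ψ g := by
  unfold lam
  rw [hf.natDegree_mul hg, Polynomial.mul_coeff_zero, hf.nextCoeff_mul hg, pow_add,
    neg_add, AddChar.map_add_eq_mul]
  rw [show (-1 : F) ^ f.natDegree * (-1) ^ g.natDegree * (f.coeff 0 * g.coeff 0) =
    ((-1) ^ f.natDegree * f.coeff 0) * ((-1) ^ g.natDegree * g.coeff 0) by ring, map_mul]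
  ring

theorem lam_pow {f : F[X]} (hf : f.Monic) (r : ℕ) : lam χ ψ (f ^ r) = lam χ ψ f ^ r := by
  induction r with
  | zero => rw [pow_zero, pow_zero, lam_one]
  | succ r ih => rw [pow_succ, pow_succ, lam_mul χ ψ (hf.pow r) hf, ih]

/-- the monic polynomial of degree `d` with lower coefficients `c` -/
noncomputable def mk (d : ℕ) (c : Fin d → F) : F[X] :=
  X ^ d + ∑ i : Fin d, C (c i) * X ^ (i : ℕ)

theorem mk_lower_degree (d : ℕ) (c : Fin d → F) :
    (∑ i : Fin d, C (c i) * X ^ (i : ℕ)).degree < (d : WithBot ℕ) :=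
  degree_sum_fin_lt c

theorem mk_monic (d : ℕ) (c : Fin d → F) : (mk d c).Monic := by
  unfold mk
  exact monic_X_pow_add (by
    have := mk_lower_degree d c
    exact this)

theorem mk_natDegree (d : ℕ) (c : Fin d → F) : (mk d c).natDegree = d := by
  have h1 : (mk d c).degree = (d : WithBot ℕ) := by
    unfold mk
    rw [degree_add_eq_left_of_degree_lt]
    · exact degree_X_pow d
    · rw [degree_X_pow]
      exact mk_lower_degree d c
  exact natDegree_eq_of_degree_eq_some h1

theorem mk_coeff (d : ℕ) (c : Fin d → F) (j : Fin d) : (mk d c).coeff j = c j := by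
  unfold mk
  rw [coeff_add, coeff_X_pow, if_neg (by have := j.2; omega), zero_add, finset_sum_coeff]
  rw [Finset.sum_eq_single j]
  · rw [coeff_C_mul, coeff_X_pow, if_pos rfl, mul_one]
  · intro b _ hb
    rw [coeff_C_mul, coeff_X_pow, if_neg, mul_zero]
    intro h
    exact hb (Fin.ext h.symm)
  · intro h
    exact absurd (Finset.mem_univ j) h

theorem mk_injective (d : ℕ) : Function.Injective (mk (F := F) d) := by
  intro c c' h
  funext j
  rw [← mk_coeff d c j, ← mk_coeff d c' j, h]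

theorem eq_mk_of_monic {f : F[X]} (hf : f.Monic) : f = mk f.natDegree (fun i => f.coeff i) := by
  ext m
  unfold mk
  rw [coeff_add, coeff_X_pow, finset_sum_coeff]
  rcases lt_trichotomy m f.natDegree with h | h | h
  · rw [if_neg (by omega), zero_add, Finset.sum_eq_single ⟨m, h⟩]
    · rw [coeff_C_mul, coeff_X_pow, if_pos rfl, mul_one]
    · intro b _ hb
      rw [coeff_C_mul, coeff_X_pow, if_neg, mul_zero]
      intro h'
      exact hb (Fin.ext h'.symm)
    · intro h'
      exact absurd (Finset.mem_univ _) h'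
  · subst h
    rw [if_pos rfl, hf.coeff_natDegree, Finset.sum_eq_zero, add_zero]
    intro b _
    rw [coeff_C_mul, coeff_X_pow, if_neg (by have := b.2; omega), mul_zero]
  · rw [if_neg (by omega), coeff_eq_zero_of_natDegree_lt h, Finset.sum_eq_zero, add_zero]
    intro b _
    rw [coeff_C_mul, coeff_X_pow, if_neg (by have := b.2; omega), mul_zero]

/-- the finite set of monic polynomials of degree `d` -/
noncomputable def Mon (d : ℕ) : Finset F[X] := by
  classical exact (Finset.univ : Finset (Fin d → F)).image (mk d)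

theorem mem_Mon {d : ℕ} {f : F[X]} : f ∈ Mon (F := F) d ↔ f.Monic ∧ f.natDegree = d := by
  classical
  unfold Mon
  rw [Finset.mem_image]
  constructor
  · rintro ⟨c, -, rfl⟩
    exact ⟨mk_monic d c, mk_natDegree d c⟩
  · rintro ⟨hf, rfl⟩
    exact ⟨_, Finset.mem_univ _, (eq_mk_of_monic hf).symm⟩

theorem sum_Mon (d : ℕ) (φ : F[X] → R) :
    ∑ f ∈ Mon (F := F) d, φ f = ∑ c : Fin d → F, φ (mk d c) := by
  classical
  unfold Mon
  rw [Finset.sum_image]
  intro c _ c' _ h
  exact mk_injective d h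

/-- `A d = ∑_{f monic of degree d} λ(f)` -/
noncomputable def A (d : ℕ) : R := ∑ f ∈ Mon (F := F) d, lam χ ψ f

theorem A_zero : A χ ψ 0 = 1 := by
  unfold A
  rw [sum_Mon]
  have : ∀ c : Fin 0 → F, mk 0 c = 1 := by
    intro c
    simp [mk]
  simp [this, lam_one]

theorem mk_nextCoeff {d : ℕ} (hd : 0 < d) (c : Fin d → F) :
    (mk d c).nextCoeff = c ⟨d - 1, by omega⟩ := by
  rw [nextCoeff, mk_natDegree, if_neg (by omega)]
  exact mk_coeff d c ⟨d - 1, by omega⟩

theorem A_one : A χ ψ 1 = ∑ a : F, χ a * ψ a := by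
  unfold A
  rw [sum_Mon]
  have h : ∀ c : Fin 1 → F, lam χ ψ (mk 1 c) = χ (-(c 0)) * ψ (-(c 0)) := by
    intro c
    unfold lam
    rw [mk_natDegree, mk_nextCoeff (by norm_num)]
    have : (mk 1 c).coeff 0 = c 0 := mk_coeff 1 c 0
    rw [this]
    simp
  simp only [h]
  rw [← Equiv.sum_comp ((Equiv.funUnique (Fin 1) F).trans (Equiv.neg F))]
  refine Finset.sum_congr rfl fun c _ => ?_
  simp [Equiv.funUnique]

theorem A_eq_zero (hψ : ψ ≠ 1) {d : ℕ} (hd : 2 ≤ d) : A χ ψ d = 0 := by
  classical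
  unfold A
  rw [sum_Mon]
  obtain ⟨b, hb⟩ : ∃ b, ψ b ≠ 1 := by
    by_contra h
    push Not at h
    exact hψ (by ext x; simpa using h x)
  have h : ∀ c : Fin d → F, lam χ ψ (mk d c) =
      χ ((-1) ^ d * c ⟨0, by omega⟩) * ψ (-(c ⟨d - 1, by omega⟩)) := by
    intro c
    unfold lam
    rw [mk_natDegree, mk_nextCoeff (by omega)]
    have : (mk d c).coeff 0 = c ⟨0, by omega⟩ := mk_coeff d c ⟨0, by omega⟩
    rw [this]
  simp only [h]
  set S := ∑ c : Fin d → F, χ ((-1) ^ d * c ⟨0, by omega⟩) * ψ (-(c ⟨d - 1, by omega⟩)) with hS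
  have hne : (⟨0, by omega⟩ : Fin d) ≠ ⟨d - 1, by omega⟩ := by
    intro h
    have := congrArg Fin.val h
    simp only at this
    omega
  have key : S = ψ b * S := by
    rw [hS, Finset.mul_sum]
    rw [← Equiv.sum_comp (Equiv.addRight (Pi.single (⟨d - 1, by omega⟩ : Fin d) (-b)))]
    refine Finset.sum_congr rfl fun c _ => ?_
    simp only [Equiv.coe_addRight, Pi.add_apply, Pi.single_eq_same, Pi.single_eq_of_ne hne,
      add_zero, neg_add, neg_neg, AddChar.map_add_eq_mul]
    ring
  have : (1 - ψ b) * S = 0 := by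
    rw [sub_mul, one_mul, ← key, sub_self]
  rcases mul_eq_zero.mp this with h1 | h1
  · exact absurd (sub_eq_zero.mp h1).symm hb
  · exact h1

end Groth.Agent.Lib.helper13.HD
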