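import Mathlib
import Groth.Agent.Lib.helper13.HD1

/-!
# Hasse–Davenport, part 2: the Euler product identity in finite form (helper13)
-/

set_option autoImplicit false

namespace Groth.Agent.Lib.helper13.HD

open Polynomial UniqueFactorizationMonoid
open scoped Classical

variable {F : Type} [Field F] [Fintype F] {R : Type} [CommRing R] [IsDomain R]
  (χ : MulChar F R) (ψ : AddChar F R)

/-- monic irreducible polynomials of degree `d` -/
noncomputable def Irr (d : ℕ) : Finset F[X] := (Mon d).filter Irreducible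

theorem mem_Irr {d : ℕ} {P : F[X]} :
    P ∈ Irr (F := F) d ↔ P.Monic ∧ P.natDegree = d ∧ Irreducible P := by
  unfold Irr
  rw [Finset.mem_filter, mem_Mon, and_assoc]

/-- finite von Mangoldt identity -/
theorem vonMangoldt {n : ℕ} {f : F[X]} (hf : f ∈ Mon (F := F) n) :
    ∑ d ∈ Finset.Icc 1 n, ∑ P ∈ Irr (F := F) d, ∑ r ∈ Finset.Icc 1 n,
      (if P ^ r ∣ f then d else 0) = n := by
  obtain ⟨hmon, hdeg⟩ := mem_Mon.mp hf
  have hf0 : f ≠ 0 := hmon.ne_zero
  obtain ⟨s, hs⟩ : ∃ s, s = normalizedFactors f := ⟨_, rfl⟩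
  have hsP : ∀ P ∈ s, P.Monic ∧ Irreducible P ∧ P ∣ f := by
    intro P hP
    rw [hs] at hP
    refine ⟨?_, irreducible_of_normalized_factor P hP, dvd_of_mem_normalizedFactors hP⟩
    have h1 := normalize_normalized_factor P hP
    have h2 : P ≠ 0 := (irreducible_of_normalized_factor P hP).ne_zero
    rw [← h1]
    exact monic_normalize h2
  have hprod : s.prod = f := by
    rw [hs, prod_normalizedFactors_eq hf0, hmon.normalize_eq_self]
  have hdegsum : (s.map natDegree).sum = n := by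
    rw [← natDegree_multiset_prod_of_monic _ (fun P hP => (hsP P hP).1), hprod, hdeg]
  have hinner : ∀ d, ∀ P ∈ Irr (F := F) d,
      ∑ r ∈ Finset.Icc 1 n, (if P ^ r ∣ f then d else 0) = s.count P * P.natDegree := by
    intro d P hP
    obtain ⟨hPm, hPd, hPi⟩ := mem_Irr.mp hP
    have hdvd : ∀ r, P ^ r ∣ f ↔ r ≤ s.count P := by
      intro r
      rw [pow_dvd_iff_le_emultiplicity, emultiplicity_eq_count_normalizedFactors hPi hf0,
        hPm.normalize_eq_self, hs]
      exact Nat.cast_le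
    have hd1 : 1 ≤ d := hPd ▸ hPi.natDegree_pos
    have hcount_le : s.count P ≤ n := by
      have h0 : P ^ (s.count P) ∣ f := (hdvd _).mpr le_rfl
      have h1 := natDegree_le_of_dvd h0 hf0
      rw [hPm.natDegree_pow, hdeg, hPd] at h1
      nlinarith
    simp only [hdvd]
    rw [← Finset.sum_filter, Finset.sum_const, smul_eq_mul, hPd]
    congr 1
    have : (Finset.Icc 1 n).filter (fun r => r ≤ s.count P) = Finset.Icc 1 (s.count P) := by
      ext r
      simp only [Finset.mem_filter, Finset.mem_Icc]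
      omega
    rw [this, Nat.card_Icc]
    omega
  have hdisj : (↑(Finset.Icc 1 n) : Set ℕ).PairwiseDisjoint (Irr (F := F)) := by
    intro d _ d' _ hdd
    rw [Function.onFun, Finset.disjoint_left]
    intro P hP hP'
    exact hdd ((mem_Irr.mp hP).2.1.symm.trans (mem_Irr.mp hP').2.1)
  have hsub : s.toFinset ⊆ (Finset.Icc 1 n).biUnion (Irr (F := F)) := by
    intro P hP
    rw [Multiset.mem_toFinset] at hP
    obtain ⟨h1, h2, h3⟩ := hsP P hP
    rw [Finset.mem_biUnion]
    refine ⟨P.natDegree, ?_, mem_Irr.mpr ⟨h1, rfl, h2⟩⟩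
    rw [Finset.mem_Icc]
    refine ⟨h2.natDegree_pos, ?_⟩
    rw [← hdeg]
    exact natDegree_le_of_dvd h3 hf0
  calc ∑ d ∈ Finset.Icc 1 n, ∑ P ∈ Irr (F := F) d, ∑ r ∈ Finset.Icc 1 n,
        (if P ^ r ∣ f then d else 0)
      = ∑ d ∈ Finset.Icc 1 n, ∑ P ∈ Irr (F := F) d, s.count P * P.natDegree :=
        Finset.sum_congr rfl fun d _ => Finset.sum_congr rfl fun P hP => hinner d P hP
    _ = ∑ P ∈ (Finset.Icc 1 n).biUnion (Irr (F := F)), s.count P * P.natDegree :=
        (Finset.sum_biUnion hdisj).symm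
    _ = ∑ P ∈ s.toFinset, s.count P * P.natDegree := by
        refine (Finset.sum_subset hsub fun P _ hP => ?_).symm
        rw [Multiset.mem_toFinset] at hP
        rw [Multiset.count_eq_zero_of_notMem hP, zero_mul]
    _ = (s.map natDegree).sum := by
        rw [Finset.sum_multiset_map_count]
        simp [smul_eq_mul]
    _ = n := hdegsum

theorem sum_dvd {P : F[X]} (hP : P.Monic) (r m : ℕ) :
    ∑ f ∈ (Mon (F := F) m).filter (fun f => P ^ r ∣ f), lam χ ψ f =
      if r * P.natDegree ≤ m then lam χ ψ P ^ r * A χ ψ (m - r * P.natDegree) else 0 := by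
  have hPr : (P ^ r).Monic := hP.pow r
  have hPrdeg : (P ^ r).natDegree = r * P.natDegree := hP.natDegree_pow r
  by_cases h : r * P.natDegree ≤ m
  · rw [if_pos h]
    have himg : (Mon (F := F) m).filter (fun f => P ^ r ∣ f) =
        (Mon (F := F) (m - r * P.natDegree)).image (fun g => P ^ r * g) := by
      ext f
      rw [Finset.mem_filter, Finset.mem_image, mem_Mon]
      constructor
      · rintro ⟨⟨hfm, hfd⟩, g, rfl⟩
        have hg : g.Monic := hPr.of_mul_monic_left hfm
        refine ⟨g, mem_Mon.mpr ⟨hg, ?_⟩, rfl⟩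
        rw [hPr.natDegree_mul hg, hPrdeg] at hfd
        omega
      · rintro ⟨g, hg, rfl⟩
        obtain ⟨hgm, hgd⟩ := mem_Mon.mp hg
        refine ⟨⟨hPr.mul hgm, ?_⟩, dvd_mul_right _ _⟩
        rw [hPr.natDegree_mul hgm, hPrdeg, hgd]
        omega
    rw [himg, Finset.sum_image]
    · unfold A
      rw [Finset.mul_sum]
      refine Finset.sum_congr rfl fun g hg => ?_
      rw [lam_mul χ ψ hPr (mem_Mon.mp hg).1, lam_pow χ ψ hP]
    · intro g _ g' _ hgg
      exact mul_left_cancel₀ hPr.ne_zero hgg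
  · rw [if_neg h]
    refine Finset.sum_eq_zero fun f hf => ?_
    exfalso
    rw [Finset.mem_filter, mem_Mon] at hf
    obtain ⟨⟨hfm, hfd⟩, hdvd⟩ := hf
    have := natDegree_le_of_dvd hdvd hfm.ne_zero
    rw [hPrdeg, hfd] at this
    exact h this

theorem recurrence (n : ℕ) :
    (n : R) * A χ ψ n = ∑ d ∈ Finset.Icc 1 n, ∑ P ∈ Irr (F := F) d, ∑ r ∈ Finset.Icc 1 n,
      (if r * d ≤ n then (d : R) * (lam χ ψ P ^ r * A χ ψ (n - r * d)) else 0) := by
  have h1 : (n : R) * A χ ψ n = ∑ f ∈ Mon (F := F) n,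
      ∑ d ∈ Finset.Icc 1 n, ∑ P ∈ Irr (F := F) d, ∑ r ∈ Finset.Icc 1 n,
        (if P ^ r ∣ f then (d : R) * lam χ ψ f else 0) := by
    unfold A
    rw [Finset.mul_sum]
    refine Finset.sum_congr rfl fun f hf => ?_
    have := vonMangoldt hf
    have hc : (n : R) = ((∑ d ∈ Finset.Icc 1 n, ∑ P ∈ Irr (F := F) d, ∑ r ∈ Finset.Icc 1 n,
      (if P ^ r ∣ f then d else 0) : ℕ) : R) := by rw [this]
    rw [hc]
    push_cast
    rw [Finset.sum_mul]
    refine Finset.sum_congr rfl fun d _ => ?_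
    rw [Finset.sum_mul]
    refine Finset.sum_congr rfl fun P _ => ?_
    rw [Finset.sum_mul]
    refine Finset.sum_congr rfl fun r _ => ?_
    split_ifs
    · rfl
    · rw [zero_mul]
  rw [h1, Finset.sum_comm]
  refine Finset.sum_congr rfl fun d _ => ?_
  rw [Finset.sum_comm]
  refine Finset.sum_congr rfl fun P hP => ?_
  rw [Finset.sum_comm]
  refine Finset.sum_congr rfl fun r _ => ?_
  obtain ⟨hPm, hPd, -⟩ := mem_Irr.mp hP
  rw [← Finset.sum_filter, ← Finset.mul_sum, sum_dvd χ ψ hPm r n, hPd]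
  split_ifs
  · rfl
  · rw [mul_zero]

end Groth.Agent.Lib.helper13.HD
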