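import Mathlib
import Groth.Agent.Lib.helper13.HD2

/-!
# Hasse–Davenport, part 3: the power sums over irreducibles (helper13)
-/

set_option autoImplicit false

namespace Groth.Agent.Lib.helper13.HD

open Polynomial
open scoped Classical

variable {F : Type} [Field F] [Fintype F] {R : Type} [CommRing R] [IsDomain R]
  (χ : MulChar F R) (ψ : AddChar F R)

/-- `B N j = ∑_{P, r : r deg P = j} deg P · λ(P)^r`, with summation ranges `1..N` -/
noncomputable def B (N j : ℕ) : R :=
  ∑ d ∈ Finset.Icc 1 N, ∑ P ∈ Irr (F := F) d, ∑ r ∈ Finset.Icc 1 N,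
    (if r * d = j then (d : R) * lam χ ψ P ^ r else 0)

theorem B_eq_of_le {N j : ℕ} (h : j ≤ N) : B χ ψ N j = B χ ψ j j := by
  unfold B
  symm
  have hsub : Finset.Icc 1 j ⊆ Finset.Icc 1 N := Finset.Icc_subset_Icc le_rfl h
  rw [← Finset.sum_subset hsub]
  · refine Finset.sum_congr rfl fun d hd => Finset.sum_congr rfl fun P _ => ?_
    rw [← Finset.sum_subset hsub]
    intro r hr hr'
    rw [if_neg]
    rw [Finset.mem_Icc] at hr hr' hd
    intro hrd
    apply hr'
    refine ⟨hr.1, ?_⟩
    have : r * 1 ≤ r * d := Nat.mul_le_mul_left r hd.1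
    omega
  · intro d hd hd'
    refine Finset.sum_eq_zero fun P _ => Finset.sum_eq_zero fun r hr => ?_
    rw [if_neg]
    rw [Finset.mem_Icc] at hr hd hd'
    intro hrd
    apply hd'
    refine ⟨hd.1, ?_⟩
    have : 1 * d ≤ r * d := Nat.mul_le_mul_right d hr.1
    omega

theorem B_zero (N : ℕ) : B χ ψ N 0 = 0 := by
  unfold B
  refine Finset.sum_eq_zero fun d hd => Finset.sum_eq_zero fun P _ =>
    Finset.sum_eq_zero fun r hr => ?_
  rw [if_neg]
  rw [Finset.mem_Icc] at hr hd
  intro h
  have : 1 * 1 ≤ r * d := Nat.mul_le_mul hr.1 hd.1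
  omega

theorem recurrence' (hψ : ψ ≠ 1) {n : ℕ} (hn : 1 ≤ n) :
    (n : R) * A χ ψ n = B χ ψ n n + B χ ψ n (n - 1) * A χ ψ 1 := by
  rw [recurrence]
  unfold B
  rw [Finset.sum_mul, ← Finset.sum_add_distrib]
  refine Finset.sum_congr rfl fun d _ => ?_
  rw [Finset.sum_mul, ← Finset.sum_add_distrib]
  refine Finset.sum_congr rfl fun P _ => ?_
  rw [Finset.sum_mul, ← Finset.sum_add_distrib]
  refine Finset.sum_congr rfl fun r _ => ?_
  by_cases h1 : r * d = n
  · rw [if_pos (le_of_eq h1), if_pos h1, if_neg (by omega), h1, Nat.sub_self, A_zero]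
    ring
  · by_cases h2 : r * d = n - 1
    · rw [if_pos (by omega), if_neg h1, if_pos h2]
      have : n - r * d = 1 := by omega
      rw [this]
      ring
    · rw [if_neg h1, if_neg h2]
      by_cases h3 : r * d ≤ n
      · rw [if_pos h3, A_eq_zero χ ψ hψ (by omega : 2 ≤ n - r * d)]
        ring
      · rw [if_neg h3]
        ring

/-- the closed formula `B n n = -(-g)^n` -/
theorem B_eq (hψ : ψ ≠ 1) : ∀ n : ℕ, 1 ≤ n → B χ ψ n n = -(-(A χ ψ 1)) ^ n := by
  intro n hn
  induction n with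
  | zero => omega
  | succ m ih =>
    rcases Nat.eq_zero_or_pos m with hm | hm
    · subst hm
      have h := recurrence' χ ψ hψ (n := 1) le_rfl
      rw [Nat.sub_self, B_zero, zero_mul, add_zero, Nat.cast_one, one_mul] at h
      rw [← h]
      ring
    · have h := recurrence' χ ψ hψ (n := m + 1) (by omega)
      rw [A_eq_zero χ ψ hψ (by omega : 2 ≤ m + 1), mul_zero, Nat.add_sub_cancel,
        B_eq_of_le χ ψ (by omega : m ≤ m + 1), ih hm] at h
      have : B χ ψ (m + 1) (m + 1) = -(-(-(A χ ψ 1)) ^ m * A χ ψ 1) := by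
        linear_combination -h
      rw [this]
      ring

end Groth.Agent.Lib.helper13.HD
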