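import Mathlib
import Groth.Agent.Lib.helper13.HD3

/-!
# Hasse–Davenport, part 4: the Gauss sum of the extension as a sum over irreducibles (helper13)
-/

set_option autoImplicit false

namespace Groth.Agent.Lib.helper13.HD

open Polynomial IntermediateField Module
open scoped Classical

variable {F : Type} [Field F] [Fintype F] {R : Type} [CommRing R] [IsDomain R]
  (χ : MulChar F R) (ψ : AddChar F R)
  {F' : Type} [Field F'] [Fintype F'] [Algebra F F']

theorem norm_eq (α : F') :
    Algebra.norm F α = ((-1) ^ (minpoly F α).natDegree * (minpoly F α).coeff 0) ^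
      finrank F⟮α⟯ F' := by
  rw [Algebra.norm_eq_norm_adjoin F α]
  congr 1
  have hx : IsIntegral F α := .of_finite F α
  have := Algebra.PowerBasis.norm_gen_eq_coeff_zero_minpoly (adjoin.powerBasis hx)
  rw [adjoin.powerBasis_gen, adjoin.powerBasis_dim, minpoly_gen] at this
  exact this

theorem term_eq (α : F') :
    χ (Algebra.norm F α) * ψ (Algebra.trace F F' α) =
      lam χ ψ (minpoly F α) ^ finrank F⟮α⟯ F' := by
  rw [norm_eq α, trace_eq_finrank_mul_minpoly_nextCoeff F α]
  unfold lam
  rw [map_pow, mul_pow, ← nsmul_eq_mul, AddChar.map_nsmul_eq_pow]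

theorem degree_mul (α : F') :
    (minpoly F α).natDegree * finrank F⟮α⟯ F' = finrank F F' := by
  have hx : IsIntegral F α := .of_finite F α
  rw [← adjoin.finrank hx]
  exact Module.finrank_mul_finrank F F⟮α⟯ F'

/-- an irreducible polynomial of degree dividing `[F' : F]` has exactly `deg` roots in `F'` -/
theorem card_roots {P : F[X]} {d : ℕ} (hP : P ∈ Irr (F := F) d) (hd : d ∣ finrank F F') :
    (Finset.univ.filter (fun α : F' => minpoly F α = P)).card = d := by
  obtain ⟨hPm, hPd, hPi⟩ := mem_Irr.mp hP
  have hdvd : P ∣ X ^ (Nat.card F) ^ (finrank F F') - X :=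
    (hPi.natDegree_dvd_iff_dvd_X_pow_card_pow_sub_X).mp (hPd ▸ hd)
  have hcard : Fintype.card F' = (Nat.card F) ^ (finrank F F') := by
    rw [Nat.card_eq_fintype_card]
    exact Module.card_eq_pow_finrank
  have hdvd' : P.map (algebraMap F F') ∣ X ^ (Fintype.card F') - X := by
    have := Polynomial.map_dvd (algebraMap F F') hdvd
    rw [Polynomial.map_sub, Polynomial.map_pow, Polynomial.map_X, ← hcard] at this
    exact this
  have hq1 : 1 < Fintype.card F' := Fintype.one_lt_card
  have hQ0 : (X ^ (Fintype.card F') - X : F'[X]) ≠ 0 := FiniteField.X_pow_card_sub_X_ne_zero F' hq1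
  obtain ⟨S, hS⟩ := hdvd'
  have hPS0 : P.map (algebraMap F F') * S ≠ 0 := hS ▸ hQ0
  have hroots : (P.map (algebraMap F F')).roots + S.roots = Finset.univ.val := by
    rw [← roots_mul hPS0, ← hS]
    exact FiniteField.roots_X_pow_card_sub_X F'
  have hP'deg : (P.map (algebraMap F F')).natDegree = d := by
    rw [natDegree_map, hPd]
  have hdegsum : (P.map (algebraMap F F')).natDegree + S.natDegree = Fintype.card F' := by
    rw [← natDegree_mul (left_ne_zero_of_mul hPS0) (right_ne_zero_of_mul hPS0), ← hS]
    exact FiniteField.X_pow_card_sub_X_natDegree_eq F' hq1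
  have hc1 := card_roots' (P.map (algebraMap F F'))
  have hc2 := card_roots' S
  have hc3 : Multiset.card (P.map (algebraMap F F')).roots + Multiset.card S.roots =
      Fintype.card F' := by
    rw [← Multiset.card_add, hroots]
    exact Finset.card_univ
  have hcardroots : Multiset.card (P.map (algebraMap F F')).roots = d := by omega
  have hnodup : (P.map (algebraMap F F')).roots.Nodup := by
    have hle : (P.map (algebraMap F F')).roots ≤ (P.map (algebraMap F F')).roots + S.roots :=
      Multiset.le_add_right _ _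
    rw [hroots] at hle
    exact Multiset.nodup_of_le hle Finset.univ.nodup
  have hset : Finset.univ.filter (fun α : F' => minpoly F α = P) =
      (P.map (algebraMap F F')).roots.toFinset := by
    ext α
    rw [Finset.mem_filter, Multiset.mem_toFinset, mem_roots (left_ne_zero_of_mul hPS0), IsRoot,
      eval_map, ← aeval_def]
    constructor
    · rintro ⟨-, rfl⟩
      exact minpoly.aeval F α
    · intro h
      exact ⟨Finset.mem_univ _, (minpoly.eq_of_irreducible_of_monic hPi h hPm).symm⟩
  rw [hset, Multiset.toFinset_card_of_nodup hnodup, hcardroots]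

theorem gauss_ext_eq :
    ∑ α : F', χ (Algebra.norm F α) * ψ (Algebra.trace F F' α) =
      B χ ψ (finrank F F') (finrank F F') := by
  obtain ⟨n, hn⟩ : ∃ n, n = finrank F F' := ⟨_, rfl⟩
  rw [← hn]
  have hmem : ∀ α : F', minpoly F α ∈ Irr (F := F) (minpoly F α).natDegree := by
    intro α
    have hx : IsIntegral F α := .of_finite F α
    exact mem_Irr.mpr ⟨minpoly.monic hx, rfl, minpoly.irreducible hx⟩
  have hdegmem : ∀ α : F', (minpoly F α).natDegree ∈ Finset.Icc 1 n := by
    intro α
    have hx : IsIntegral F α := .of_finite F α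
    rw [Finset.mem_Icc]
    refine ⟨minpoly.natDegree_pos hx, ?_⟩
    have h1 := degree_mul (F := F) α
    rw [← hn] at h1
    have hnpos : 0 < n := hn ▸ Module.finrank_pos
    exact Nat.le_of_dvd hnpos ⟨_, h1.symm⟩
  have hdisj : (↑(Finset.Icc 1 n) : Set ℕ).PairwiseDisjoint (Irr (F := F)) := by
    intro d _ d' _ hdd
    rw [Function.onFun, Finset.disjoint_left]
    intro P hP hP'
    exact hdd ((mem_Irr.mp hP).2.1.symm.trans (mem_Irr.mp hP').2.1)
  have hmaps : ∀ α ∈ (Finset.univ : Finset F'),
      minpoly F α ∈ (Finset.Icc 1 n).biUnion (Irr (F := F)) := by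
    intro α _
    rw [Finset.mem_biUnion]
    exact ⟨_, hdegmem α, hmem α⟩
  rw [← Finset.sum_fiberwise_of_maps_to hmaps, Finset.sum_biUnion hdisj]
  unfold B
  refine Finset.sum_congr rfl fun d hd => Finset.sum_congr rfl fun P hP => ?_
  obtain ⟨hPm, hPd, hPi⟩ := mem_Irr.mp hP
  by_cases hdn : d ∣ n
  · obtain ⟨r₀, hr₀⟩ := hdn
    have hd1 : 1 ≤ d := (Finset.mem_Icc.mp hd).1
    have hnpos : 0 < n := hn ▸ Module.finrank_pos
    have hr₀1 : 1 ≤ r₀ := by
      rcases Nat.eq_zero_or_pos r₀ with h | h
      · rw [h, mul_zero] at hr₀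
        omega
      · exact h
    have hr₀n : r₀ ≤ n := by
      rw [hr₀]
      exact Nat.le_mul_of_pos_left r₀ hd1
    rw [Finset.sum_eq_single r₀]
    · rw [if_pos (by rw [hr₀, mul_comm])]
      have hterm : ∀ α ∈ Finset.univ.filter (fun α : F' => minpoly F α = P),
          χ (Algebra.norm F α) * ψ (Algebra.trace F F' α) = lam χ ψ P ^ r₀ := by
        intro α hα
        rw [Finset.mem_filter] at hα
        rw [term_eq χ ψ α, hα.2]
        congr 1
        have h1 := degree_mul (F := F) α
        rw [hα.2, hPd, ← hn, hr₀] at h1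
        exact Nat.eq_of_mul_eq_mul_left hd1 h1
      rw [Finset.sum_congr rfl hterm, Finset.sum_const, card_roots hP (by rw [← hn, hr₀]; exact dvd_mul_right _ _),
        nsmul_eq_mul]
    · intro r _ hr
      rw [if_neg]
      intro h
      apply hr
      rw [hr₀, mul_comm] at h
      exact Nat.eq_of_mul_eq_mul_left hd1 h
    · intro h
      exact absurd (Finset.mem_Icc.mpr ⟨hr₀1, hr₀n⟩) h
  · rw [Finset.sum_eq_zero, Finset.sum_eq_zero]
    · intro r _
      rw [if_neg]
      intro h
      exact hdn ⟨r, by rw [← h, mul_comm]⟩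
    · intro α hα
      exfalso
      rw [Finset.mem_filter] at hα
      have h1 := degree_mul (F := F) α
      rw [hα.2, hPd, ← hn] at h1
      exact hdn ⟨_, h1.symm⟩

end Groth.Agent.Lib.helper13.HD
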