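import Mathlib

/-!
# Row-reduced (Hermite) normal form over `k⟦X⟧`, part 1: power series facts and uniqueness (helper13)
-/

set_option autoImplicit false
open PowerSeries

namespace Groth.Agent.Lib.helper13.HermitePS

variable {k : Type*} [Field k]

lemma exists_eq_X_pow_mul_unit {f : PowerSeries k} (hf : f ≠ 0) :
    ∃ (n : ℕ) (u : (PowerSeries k)ˣ), f = X ^ n * (u : PowerSeries k) := by
  refine ⟨f.order.toNat, Unit_of_divided_by_X_pow_order f, ?_⟩
  rw [Unit_of_divided_by_X_pow_order_nonzero hf, X_pow_order_mul_divXPowOrder]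

/-- `f` is reduced modulo `X^e` -/
def Red (e : ℕ) (f : PowerSeries k) : Prop := ∀ n, e ≤ n → coeff n f = 0

lemma Red.sub {e : ℕ} {f g : PowerSeries k} (hf : Red e f) (hg : Red e g) : Red e (f - g) := by
  intro n hn
  rw [map_sub, hf n hn, hg n hn, sub_zero]

lemma eq_zero_of_dvd_of_red {e : ℕ} {f : PowerSeries k} (hd : X ^ e ∣ f) (hr : Red e f) : f = 0 := by
  ext n
  rw [map_zero]
  by_cases hn : n < e
  · exact (X_pow_dvd_iff.mp hd) n hn
  · exact hr n (not_lt.mp hn)

lemma exists_div_red (e : ℕ) (f : PowerSeries k) :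
    ∃ q r : PowerSeries k, f = q * X ^ e + r ∧ Red e r := by
  refine ⟨PowerSeries.mk (fun n => coeff (n + e) f), f - PowerSeries.mk (fun n => coeff (n + e) f) * X ^ e,
    by ring, ?_⟩
  intro n hn
  rw [map_sub, coeff_mul_X_pow', if_pos hn, coeff_mk, Nat.sub_add_cancel hn, sub_self]

lemma le_of_X_pow_eq_mul {a b : ℕ} {c : PowerSeries k} (h : (X : PowerSeries k) ^ a = c * X ^ b) : b ≤ a := by
  by_contra hlt
  push Not at hlt
  have hd : (X : PowerSeries k) ^ b ∣ X ^ a := ⟨c, by rw [h]; ring⟩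
  have := (X_pow_dvd_iff.mp hd) a hlt
  rw [coeff_X_pow_self] at this
  exact one_ne_zero this

/-- row-reducedness of a matrix with exponents `e` -/
def RowRed {r : ℕ} (H : Matrix (Fin r) (Fin r) (PowerSeries k)) (e : Fin r → ℕ) : Prop :=
  (∀ i, H i i = X ^ e i) ∧ (∀ i j, j < i → H i j = 0) ∧ (∀ i j, i < j → Red (e j) (H i j))

/-- triangular coefficient lemma -/
lemma coeff_tri {r : ℕ} {H : Matrix (Fin r) (Fin r) (PowerSeries k)} {e : Fin r → ℕ}
    (hH : RowRed H e) (c : Fin r → PowerSeries k) (j : Fin r)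
    (hx : ∀ l, l < j → (Matrix.vecMul c H) l = 0) :
    (∀ l, l < j → c l = 0) ∧ (Matrix.vecMul c H) j = c j * X ^ e j := by
  have hzero : ∀ n : ℕ, ∀ l : Fin r, l.val = n → l < j → c l = 0 := by
    intro n
    induction n using Nat.strong_induction_on with
    | _ n ih =>
    intro l hl hlj
    have h1 := hx l hlj
    rw [Matrix.vecMul, dotProduct] at h1
    rw [Finset.sum_eq_single l] at h1
    · rw [hH.1 l] at h1
      rcases mul_eq_zero.mp h1 with h | h
      · exact h
      · exact absurd h (pow_ne_zero _ X_ne_zero)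
    · intro i _ hil
      rcases lt_or_gt_of_ne hil with h | h
      · rw [ih i.val (by rw [← hl]; exact h) i rfl (lt_trans h hlj), zero_mul]
      · rw [hH.2.1 i l h, mul_zero]
    · intro h
      exact absurd (Finset.mem_univ _) h
  have hz : ∀ l, l < j → c l = 0 := fun l hl => hzero l.val l rfl hl
  refine ⟨hz, ?_⟩
  rw [Matrix.vecMul, dotProduct, Finset.sum_eq_single j]
  · rw [hH.1 j]
  · intro i _ hij
    rcases lt_or_gt_of_ne hij with h | h
    · rw [hz i h, zero_mul]
    · rw [hH.2.1 i j h, mul_zero]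
  · intro h
    exact absurd (Finset.mem_univ _) h

/-- Uniqueness: two row-reduced matrices generating the same row lattice are equal. -/
theorem rowRed_unique {r : ℕ} {H₁ H₂ : Matrix (Fin r) (Fin r) (PowerSeries k)} {e₁ e₂ : Fin r → ℕ}
    (h₁ : RowRed H₁ e₁) (h₂ : RowRed H₂ e₂)
    (h12 : ∀ i, ∃ c : Fin r → PowerSeries k, Matrix.vecMul c H₂ = H₁ i)
    (h21 : ∀ i, ∃ c : Fin r → PowerSeries k, Matrix.vecMul c H₁ = H₂ i) :
    H₁ = H₂ := by
  -- exponents agree
  have hle : ∀ j, e₂ j ≤ e₁ j := by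
    intro j
    obtain ⟨c, hc⟩ := h12 j
    have := coeff_tri h₂ c j (fun l hl => by rw [hc]; exact h₁.2.1 j l hl)
    rw [hc, h₁.1 j] at this
    exact le_of_X_pow_eq_mul this.2
  have hge : ∀ j, e₁ j ≤ e₂ j := by
    intro j
    obtain ⟨c, hc⟩ := h21 j
    have := coeff_tri h₁ c j (fun l hl => by rw [hc]; exact h₂.2.1 j l hl)
    rw [hc, h₂.1 j] at this
    exact le_of_X_pow_eq_mul this.2
  have he : e₁ = e₂ := funext fun j => le_antisymm (hge j) (hle j)
  subst he
  refine Matrix.ext fun i l => ?_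
  -- d = H₁ i - H₂ i
  obtain ⟨c1, hc1⟩ := h12 i
  have hd : ∀ n : ℕ, ∀ l : Fin r, l.val = n → H₁ i l = H₂ i l := by
    intro n
    induction n using Nat.strong_induction_on with
    | _ n ih =>
    intro l hl
    rcases lt_trichotomy l i with hli | hli | hli
    · rw [h₁.2.1 i l hli, h₂.2.1 i l hli]
    · rw [hli, h₁.1 i, h₂.1 i]
    · -- l > i: difference is divisible by X^(e l) and reduced
      -- write H₁ i - H₂ i = (c1 - single i) ᵥ* H₂
      have hdiff : Matrix.vecMul (c1 - Pi.single i 1) H₂ = H₁ i - H₂ i := by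
        rw [Matrix.sub_vecMul, hc1, Matrix.single_one_vecMul]
        rfl
      have hzero : ∀ l', l' < l → (Matrix.vecMul (c1 - Pi.single i 1) H₂) l' = 0 := by
        intro l' hl'
        rw [hdiff, Pi.sub_apply, ih l'.val (by rw [← hl]; exact hl') l' rfl, sub_self]
      have h3 := (coeff_tri h₂ _ l hzero).2
      rw [hdiff, Pi.sub_apply] at h3
      have hdvd : X ^ e₁ l ∣ H₁ i l - H₂ i l := ⟨_, by rw [h3]; ring⟩
      have hred : Red (e₁ l) (H₁ i l - H₂ i l) := (h₁.2.2 i l hli).sub (h₂.2.2 i l hli)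
      exact sub_eq_zero.mp (eq_zero_of_dvd_of_red hdvd hred)
  exact hd l.val l rfl

end Groth.Agent.Lib.helper13.HermitePS
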