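import Groth.Agent.Lib.helper13.HermitePS1

/-!
# Row-reduced (Hermite) normal form over `k⟦X⟧`, part 2: existence (helper13)
-/

set_option autoImplicit false
open PowerSeries

namespace Groth.Agent.Lib.helper13.HermitePS

variable {k : Type*} [Field k] {r : ℕ}

/-- membership in the row lattice of `M` -/
def InL (M : Matrix (Fin r) (Fin r) (PowerSeries k)) (x : Fin r → PowerSeries k) : Prop :=
  ∃ v : Fin r → PowerSeries k, Matrix.vecMul v M = x

lemma InL.sub {M : Matrix (Fin r) (Fin r) (PowerSeries k)} {x y : Fin r → PowerSeries k}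
    (hx : InL M x) (hy : InL M y) : InL M (x - y) := by
  obtain ⟨v, rfl⟩ := hx
  obtain ⟨w, rfl⟩ := hy
  exact ⟨v - w, Matrix.sub_vecMul _ _ _⟩

lemma InL.smul {M : Matrix (Fin r) (Fin r) (PowerSeries k)} {x : Fin r → PowerSeries k}
    (hx : InL M x) (a : PowerSeries k) : InL M (a • x) := by
  obtain ⟨v, rfl⟩ := hx
  exact ⟨a • v, Matrix.smul_vecMul _ _ _⟩

lemma row_inL (M : Matrix (Fin r) (Fin r) (PowerSeries k)) (i : Fin r) : InL M (M i) :=
  ⟨Pi.single i 1, Matrix.single_one_vecMul i M⟩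

lemma det_single_inL (M : Matrix (Fin r) (Fin r) (PowerSeries k)) (j : Fin r) :
    InL M (M.det • (Pi.single j 1 : Fin r → PowerSeries k)) := by
  refine ⟨M.adjugate j, ?_⟩
  rw [← Matrix.mul_apply_eq_vecMul, Matrix.adjugate_mul]
  ext l
  simp [Matrix.one_apply, Pi.single_apply, eq_comm]

lemma exists_pow (M : Matrix (Fin r) (Fin r) (PowerSeries k)) (hM : M.det ≠ 0) (j : Fin r) :
    ∃ n : ℕ, ∃ x : Fin r → PowerSeries k, InL M x ∧ (∀ l, l < j → x l = 0) ∧ x j = X ^ n := by
  obtain ⟨n, u, hu⟩ := exists_eq_X_pow_mul_unit hM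
  refine ⟨n, ((u⁻¹ : (PowerSeries k)ˣ) : PowerSeries k) • (M.det • (Pi.single j 1 : Fin r → PowerSeries k)),
    (det_single_inL M j).smul _, ?_, ?_⟩
  · intro l hl
    simp [Pi.single_apply, hl.ne]
  · simp only [Pi.smul_apply, Pi.single_eq_same, smul_eq_mul, mul_one]
    rw [hu, mul_comm, mul_assoc, Units.mul_inv, mul_one]

open Classical in
/-- the canonical exponents -/
noncomputable def ee (M : Matrix (Fin r) (Fin r) (PowerSeries k)) (hM : M.det ≠ 0) (j : Fin r) : ℕ :=
  Nat.find (exists_pow M hM j)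

lemma ee_spec (M : Matrix (Fin r) (Fin r) (PowerSeries k)) (hM : M.det ≠ 0) (j : Fin r) :
    ∃ x : Fin r → PowerSeries k, InL M x ∧ (∀ l, l < j → x l = 0) ∧ x j = X ^ ee M hM j := by
  classical
  exact Nat.find_spec (exists_pow M hM j)

lemma ee_dvd (M : Matrix (Fin r) (Fin r) (PowerSeries k)) (hM : M.det ≠ 0) (j : Fin r)
    (x : Fin r → PowerSeries k) (hx : InL M x) (hz : ∀ l, l < j → x l = 0) :
    X ^ ee M hM j ∣ x j := by
  classical
  by_cases h0 : x j = 0
  · rw [h0]; exact dvd_zero _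
  · obtain ⟨n, u, hu⟩ := exists_eq_X_pow_mul_unit h0
    have hle : ee M hM j ≤ n := by
      refine Nat.find_min' (exists_pow M hM j)
        ⟨((u⁻¹ : (PowerSeries k)ˣ) : PowerSeries k) • x, hx.smul _, ?_, ?_⟩
      · intro l hl
        simp [hz l hl]
      · simp only [Pi.smul_apply, smul_eq_mul]
        rw [hu, mul_comm, mul_assoc, Units.mul_inv, mul_one]
    rw [hu]
    exact Dvd.dvd.mul_right (pow_dvd_pow _ hle) _

lemma exists_reduced_row (M : Matrix (Fin r) (Fin r) (PowerSeries k)) (hM : M.det ≠ 0) (i : Fin r) :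
    ∀ m : ℕ, ∃ x : Fin r → PowerSeries k, InL M x ∧ (∀ l, l < i → x l = 0) ∧
      x i = X ^ ee M hM i ∧ ∀ j : Fin r, i < j → j.val < m → Red (ee M hM j) (x j) := by
  intro m
  induction m with
  | zero =>
    obtain ⟨x, hx, hz, hi⟩ := ee_spec M hM i
    exact ⟨x, hx, hz, hi, fun j _ hj => absurd hj (Nat.not_lt_zero _)⟩
  | succ m ih =>
    obtain ⟨x, hx, hz, hi, hred⟩ := ih
    by_cases hm : m < r ∧ i.val < m
    · obtain ⟨h0, hh0, hz0, hj0⟩ := ee_spec M hM ⟨m, hm.1⟩
      have hij₀ : i < (⟨m, hm.1⟩ : Fin r) := hm.2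
      obtain ⟨q, r', hqr, hr'⟩ := exists_div_red (ee M hM ⟨m, hm.1⟩) (x ⟨m, hm.1⟩)
      refine ⟨x - q • h0, hx.sub (hh0.smul q), ?_, ?_, ?_⟩
      · intro l hl
        simp [hz l hl, hz0 l (lt_trans hl hij₀)]
      · simp [hi, hz0 i hij₀]
      · intro j hij hjm
        rcases Nat.lt_succ_iff_lt_or_eq.mp hjm with h | h
        · have hjj₀ : j < (⟨m, hm.1⟩ : Fin r) := h
          have : (x - q • h0) j = x j := by simp [hz0 j hjj₀]
          rw [this]
          exact hred j hij h
        · have hj : j = ⟨m, hm.1⟩ := Fin.ext h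
          rw [hj]
          have : (x - q • h0) ⟨m, hm.1⟩ = r' := by
            simp only [Pi.sub_apply, Pi.smul_apply, smul_eq_mul, hj0]
            rw [hqr]; ring
          rw [this]
          exact hr'
    · refine ⟨x, hx, hz, hi, ?_⟩
      intro j hij hjm
      rcases Nat.lt_succ_iff_lt_or_eq.mp hjm with h | h
      · exact hred j hij h
      · exfalso
        apply hm
        exact ⟨h ▸ j.2, h ▸ hij⟩

/-- rows of the normal form -/
noncomputable def hrow (M : Matrix (Fin r) (Fin r) (PowerSeries k)) (hM : M.det ≠ 0) (i : Fin r) :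
    Fin r → PowerSeries k :=
  Classical.choose (exists_reduced_row M hM i r)

lemma hrow_spec (M : Matrix (Fin r) (Fin r) (PowerSeries k)) (hM : M.det ≠ 0) (i : Fin r) :
    InL M (hrow M hM i) ∧ (∀ l, l < i → hrow M hM i l = 0) ∧
      hrow M hM i i = X ^ ee M hM i ∧
      ∀ j : Fin r, i < j → j.val < r → Red (ee M hM j) (hrow M hM i j) :=
  Classical.choose_spec (exists_reduced_row M hM i r)

/-- the normal form -/
noncomputable def HH (M : Matrix (Fin r) (Fin r) (PowerSeries k)) (hM : M.det ≠ 0) :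
    Matrix (Fin r) (Fin r) (PowerSeries k) :=
  Matrix.of (fun i => hrow M hM i)

lemma HH_rowRed (M : Matrix (Fin r) (Fin r) (PowerSeries k)) (hM : M.det ≠ 0) :
    RowRed (HH M hM) (ee M hM) :=
  ⟨fun i => (hrow_spec M hM i).2.2.1, fun i j hji => (hrow_spec M hM i).2.1 j hji,
    fun i j hij => (hrow_spec M hM i).2.2.2 j hij j.2⟩

lemma HH_row_inL (M : Matrix (Fin r) (Fin r) (PowerSeries k)) (hM : M.det ≠ 0) (i : Fin r) :
    InL M (HH M hM i) := (hrow_spec M hM i).1

/-- rows of `HH` generate the row lattice -/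
lemma gen_aux (M : Matrix (Fin r) (Fin r) (PowerSeries k)) (hM : M.det ≠ 0) :
    ∀ n : ℕ, ∀ x : Fin r → PowerSeries k, InL M x → (∀ l : Fin r, l.val + n < r → x l = 0) →
      ∃ c : Fin r → PowerSeries k, Matrix.vecMul c (HH M hM) = x := by
  intro n
  induction n with
  | zero =>
    intro x _ hz
    refine ⟨0, ?_⟩
    rw [Matrix.zero_vecMul]
    funext l
    exact (hz l (by simpa using l.2)).symm
  | succ n ih =>
    intro x hx hz
    by_cases hn : n < r
    · have hj : r - 1 - n < r := by omega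
      have hzj : ∀ l : Fin r, l < (⟨r - 1 - n, hj⟩ : Fin r) → x l = 0 := by
        intro l hl
        apply hz
        have : l.val < r - 1 - n := hl
        omega
      obtain ⟨a, ha⟩ := ee_dvd M hM ⟨r - 1 - n, hj⟩ x hx hzj
      have hx' : InL M (x - a • HH M hM ⟨r - 1 - n, hj⟩) := hx.sub ((HH_row_inL M hM _).smul a)
      obtain ⟨c', hc'⟩ := ih _ hx' (by
        intro l hl
        have hle : l.val ≤ r - 1 - n := by omega
        rcases Nat.lt_or_eq_of_le hle with h | h
        · have hlj : l < (⟨r - 1 - n, hj⟩ : Fin r) := h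
          simp [hzj l hlj, (HH_rowRed M hM).2.1 _ l hlj]
        · have hlj : l = ⟨r - 1 - n, hj⟩ := Fin.ext h
          rw [hlj]
          simp only [Pi.sub_apply, Pi.smul_apply, smul_eq_mul, (HH_rowRed M hM).1 _]
          rw [ha]; ring)
      refine ⟨c' + a • Pi.single ⟨r - 1 - n, hj⟩ 1, ?_⟩
      rw [Matrix.add_vecMul, Matrix.smul_vecMul, Matrix.single_one_vecMul, hc']
      funext l
      simp [Matrix.row]
    · exact ih x hx (fun l hl => absurd hl (by omega))

lemma gen (M : Matrix (Fin r) (Fin r) (PowerSeries k)) (hM : M.det ≠ 0)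
    (x : Fin r → PowerSeries k) (hx : InL M x) :
    ∃ c : Fin r → PowerSeries k, Matrix.vecMul c (HH M hM) = x :=
  gen_aux M hM r x hx (fun l hl => absurd hl (by omega))

/-- the transformation matrix -/
noncomputable def NN (M : Matrix (Fin r) (Fin r) (PowerSeries k)) (hM : M.det ≠ 0) :
    Matrix (Fin r) (Fin r) (PowerSeries k) :=
  Matrix.of (fun i => Classical.choose (HH_row_inL M hM i))

lemma NN_mul (M : Matrix (Fin r) (Fin r) (PowerSeries k)) (hM : M.det ≠ 0) :
    NN M hM * M = HH M hM := by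
  refine Matrix.ext fun i j => ?_
  rw [Matrix.mul_apply_eq_vecMul]
  exact congrFun (Classical.choose_spec (HH_row_inL M hM i)) j

lemma NN_isUnit (M : Matrix (Fin r) (Fin r) (PowerSeries k)) (hM : M.det ≠ 0) :
    IsUnit (NN M hM) := by
  let N' : Matrix (Fin r) (Fin r) (PowerSeries k) :=
    Matrix.of (fun i => Classical.choose (gen M hM (M i) (row_inL M i)))
  have hN' : N' * HH M hM = M := by
    refine Matrix.ext fun i j => ?_
    rw [Matrix.mul_apply_eq_vecMul]
    exact congrFun (Classical.choose_spec (gen M hM (M i) (row_inL M i))) j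
  have h1 : (N' * NN M hM - 1) * M = 0 := by
    rw [Matrix.sub_mul, Matrix.mul_assoc, NN_mul, hN', Matrix.one_mul, sub_self]
  have h2 : M.det • (N' * NN M hM - 1) = 0 := by
    have := congrArg (fun A => A * M.adjugate) h1
    simp only [Matrix.mul_assoc, Matrix.mul_adjugate, Matrix.zero_mul] at this
    rw [Matrix.mul_smul, Matrix.mul_one] at this
    exact this
  have h3 : N' * NN M hM = 1 := by
    have : N' * NN M hM - 1 = 0 := by
      refine Matrix.ext fun i j => ?_
      have := congrFun (congrFun h2 i) j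
      simp only [Matrix.smul_apply, smul_eq_mul, Matrix.zero_apply] at this
      rcases mul_eq_zero.mp this with h | h
      · exact absurd h hM
      · exact h
    exact sub_eq_zero.mp this
  exact (Matrix.isUnit_iff_isUnit_det _).mpr (Matrix.isUnit_det_of_left_inverse h3)

/-- Existence and uniqueness of the row-reduced form. -/
theorem existsUnique_rowReduced (M : Matrix (Fin r) (Fin r) (PowerSeries k)) (hM : M.det ≠ 0) :
    ∃! H : Matrix (Fin r) (Fin r) (PowerSeries k),
      (∃ e : Fin r → ℕ, (∀ i, H i i = PowerSeries.X ^ e i) ∧ (∀ i j, j < i → H i j = 0) ∧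
        (∀ i j, i < j → ∀ n, e j ≤ n → PowerSeries.coeff n (H i j) = 0)) ∧
      ∃ N : Matrix (Fin r) (Fin r) (PowerSeries k), IsUnit N ∧ N * M = H := by
  refine ⟨HH M hM, ⟨⟨ee M hM, HH_rowRed M hM⟩, NN M hM, NN_isUnit M hM, NN_mul M hM⟩, ?_⟩
  rintro H' ⟨⟨e', he'⟩, N'', hu, hNM⟩
  have he'' : RowRed H' e' := he'
  refine rowRed_unique he'' (HH_rowRed M hM) ?_ ?_
  · intro i
    refine gen M hM (H' i) ⟨N'' i, ?_⟩
    rw [← Matrix.mul_apply_eq_vecMul, hNM]
  · intro i
    obtain ⟨v, hv⟩ := HH_row_inL M hM i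
    obtain ⟨U, rfl⟩ := hu
    have hM' : M = (↑U⁻¹ : Matrix (Fin r) (Fin r) (PowerSeries k)) * H' := by
      rw [← hNM, ← Matrix.mul_assoc, Units.inv_mul, Matrix.one_mul]
    refine ⟨Matrix.vecMul v (↑U⁻¹ : Matrix (Fin r) (Fin r) (PowerSeries k)), ?_⟩
    rw [Matrix.vecMul_vecMul, ← hM', hv]

end Groth.Agent.Lib.helper13.HermitePS
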