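import Groth.Agent.Lib.helper13.HermitePS2

/-!
# Row-reduced form with `k⟦X^p⟧` column operations (helper13)
-/

set_option autoImplicit false
open PowerSeries

namespace Groth.Agent.Lib.helper13.HermitePS

variable {k : Type*} [Field k] {r : ℕ}

lemma Red.zero (e : ℕ) : Red e (0 : PowerSeries k) := fun n _ => by simp

lemma Red.add {e : ℕ} {f g : PowerSeries k} (hf : Red e f) (hg : Red e g) : Red e (f + g) := by
  intro n hn
  rw [map_add, hf n hn, hg n hn, add_zero]

lemma Red.sum {ι : Type*} {e : ℕ} (s : Finset ι) (f : ι → PowerSeries k)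
    (h : ∀ i ∈ s, Red e (f i)) : Red e (∑ i ∈ s, f i) := by
  intro n hn
  rw [map_sum]
  exact Finset.sum_eq_zero fun i hi => h i hi n hn

lemma Red_mul {a b : ℕ} {f g : PowerSeries k} (hf : Red a f) (hg : Red b (g * X ^ a)) :
    Red b (f * g) := by
  intro n hn
  rw [coeff_mul]
  refine Finset.sum_eq_zero fun x hx => ?_
  have hx' := Finset.HasAntidiagonal.mem_antidiagonal.mp hx
  by_cases hs : a ≤ x.1
  · rw [hf x.1 hs, zero_mul]
  · push Not at hs
    have h2 := hg (x.2 + a) (by omega)
    rw [coeff_mul_X_pow] at h2
    rw [h2, mul_zero]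

/-- power series in `X^p` -/
def InP (p : ℕ) (f : PowerSeries k) : Prop := ∀ n, ¬ p ∣ n → coeff n f = 0

lemma InP.zero (p : ℕ) : InP p (0 : PowerSeries k) := fun n _ => by simp

lemma InP.one (p : ℕ) : InP p (1 : PowerSeries k) := by
  intro n hn
  rw [coeff_one, if_neg]
  rintro rfl
  exact hn (dvd_zero p)

lemma InP.add {p : ℕ} {f g : PowerSeries k} (hf : InP p f) (hg : InP p g) : InP p (f + g) := by
  intro n hn
  rw [map_add, hf n hn, hg n hn, add_zero]

/-- the correction series -/
noncomputable def gam (p e : ℕ) (u : PowerSeries k) : PowerSeries k :=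
  PowerSeries.mk (fun s => if p ∣ s then - coeff (s + e) u else 0)

lemma gam_inP (p e : ℕ) (u : PowerSeries k) : InP p (gam p e u) := by
  intro n hn
  rw [gam, coeff_mk, if_neg hn]

lemma coeff_gam_mul (p e : ℕ) (u : PowerSeries k) (n : ℕ) :
    coeff n (gam p e u * X ^ e) = if e ≤ n then (if p ∣ n - e then - coeff n u else 0) else 0 := by
  rw [coeff_mul_X_pow']
  split_ifs with h1 h2
  · rw [gam, coeff_mk, if_pos h2, Nat.sub_add_cancel h1]
  · rw [gam, coeff_mk, if_neg h2]
  · rfl

lemma gam_red {p e b : ℕ} {u : PowerSeries k} (hu : Red b u) : Red b (gam p e u * X ^ e) := by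
  intro n hn
  rw [coeff_gam_mul]
  split_ifs
  · rw [hu n hn, neg_zero]
  · rfl
  · rfl

lemma gam_kill (p e : ℕ) (u : PowerSeries k) (n : ℕ) (h1 : e ≤ n) (h2 : n % p = e % p) :
    coeff n (u + gam p e u * X ^ e) = 0 := by
  have hdvd : p ∣ n - e := (Nat.modEq_iff_dvd' h1).mp h2.symm
  rw [map_add, coeff_gam_mul, if_pos h1, if_pos hdvd, add_neg_cancel]

/-- fixing column `j` by adding `k⟦X^p⟧`-multiples of earlier columns -/
lemma col_fix (p : ℕ) {H : Matrix (Fin r) (Fin r) (PowerSeries k)} {e : Fin r → ℕ}
    (hH : RowRed H e) (j : Fin r) :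
    ∀ m : ℕ, ∃ c : Fin r → PowerSeries k,
      (∀ l, c l ≠ 0 → j.val - m ≤ l.val ∧ l < j) ∧ (∀ l, InP p (c l)) ∧
      (∀ l, Red (e j) (c l * X ^ e l)) ∧
      (∀ i, i < j → j.val - m ≤ i.val → ∀ n, e i ≤ n → n % p = e i % p →
        coeff n (H i j + ∑ l, H i l * c l) = 0) := by
  intro m
  induction m with
  | zero =>
    refine ⟨0, fun l hl => absurd rfl hl, fun l => InP.zero p, fun l => ?_, ?_⟩
    · simp only [Pi.zero_apply, zero_mul]; exact Red.zero _
    · intro i hij hji
      exfalso
      have : i.val < j.val := hij
      omega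
  | succ m ih =>
    obtain ⟨c, hsupp, hinP, hred, hB⟩ := ih
    by_cases hm : m < j.val
    · have hir : j.val - 1 - m < r := by have := j.2; omega
      set i : Fin r := ⟨j.val - 1 - m, hir⟩ with hi
      have hij : i < j := by
        show j.val - 1 - m < j.val
        omega
      have hci : c i = 0 := by
        by_contra h
        have := (hsupp i h).1
        have hiv : i.val = j.val - 1 - m := rfl
        omega
      set u : PowerSeries k := H i j + ∑ l, H i l * c l with hu
      have hured : Red (e j) u := by
        refine (hH.2.2 i j hij).add (Red.sum _ _ fun l _ => ?_)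
        rcases lt_trichotomy l i with h | h | h
        · rw [hH.2.1 i l h, zero_mul]; exact Red.zero _
        · rw [h, hH.1 i, mul_comm]; exact hred i
        · exact Red_mul (hH.2.2 i l h) (hred l)
      refine ⟨c + Pi.single i (gam p (e i) u), ?_, ?_, ?_, ?_⟩
      · intro l hl
        by_cases hli : l = i
        · rw [hli]
          refine ⟨?_, hij⟩
          show j.val - (m + 1) ≤ j.val - 1 - m
          omega
        · have : c l ≠ 0 := by
            intro h
            apply hl
            simp [h, hli]
          have := hsupp l this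
          exact ⟨by omega, this.2⟩
      · intro l
        by_cases hli : l = i
        · rw [hli]
          simp only [Pi.add_apply, Pi.single_eq_same]
          exact (hinP i).add (gam_inP _ _ _)
        · simp only [Pi.add_apply, Pi.single_apply, if_neg hli, add_zero]
          exact hinP l
      · intro l
        by_cases hli : l = i
        · rw [hli]
          simp only [Pi.add_apply, Pi.single_eq_same, hci, zero_add]
          exact gam_red hured
        · simp only [Pi.add_apply, Pi.single_apply, if_neg hli, add_zero]
          exact hred l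
      · intro i' hi'j hi'm n hn1 hn2
        have hsum : ∑ l, H i' l * (c + Pi.single i (gam p (e i) u) : Fin r → PowerSeries k) l
            = ∑ l, H i' l * c l + H i' i * gam p (e i) u := by
          simp only [Pi.add_apply, mul_add, Finset.sum_add_distrib]
          congr 1
          rw [Finset.sum_eq_single i]
          · simp
          · intro l _ hli
            simp [Pi.single_apply, hli]
          · intro h
            exact absurd (Finset.mem_univ _) h
        rw [hsum]
        by_cases hi'i : i' = i
        · rw [hi'i] at hn1 hn2 ⊢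
          rw [hH.1 i, ← add_assoc, mul_comm (X ^ e i)]
          exact gam_kill p (e i) u n hn1 hn2
        · have hgt : i < i' := by
            have h1 : i.val = j.val - 1 - m := rfl
            have h2 : i'.val ≠ i.val := fun h => hi'i (Fin.ext h)
            show i.val < i'.val
            omega
          rw [hH.2.1 i' i hgt, zero_mul, add_zero]
          refine hB i' hi'j ?_ n hn1 hn2
          have h1 : i.val = j.val - 1 - m := rfl
          have : i.val < i'.val := hgt
          omega
    · refine ⟨c, ?_, hinP, hred, ?_⟩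
      · intro l hl
        have := hsupp l hl
        exact ⟨by omega, this.2⟩
      · intro i hij hji n hn1 hn2
        exact hB i hij (by omega) n hn1 hn2

theorem exists_colRed (p : ℕ) (M : Matrix (Fin r) (Fin r) (PowerSeries k)) (hM : M.det ≠ 0) :
    ∃ (N P : Matrix (Fin r) (Fin r) (PowerSeries k)) (e : Fin r → ℕ), IsUnit N ∧ IsUnit P ∧
      (∀ i j n, ¬ p ∣ n → PowerSeries.coeff n (P i j) = 0) ∧
      (∀ i, (N * M * P) i i = PowerSeries.X ^ e i) ∧ (∀ i j, j < i → (N * M * P) i j = 0) ∧
      (∀ i j, i < j → ∀ n, (e j ≤ n ∨ (e i ≤ n ∧ n % p = e i % p)) →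
        PowerSeries.coeff n ((N * M * P) i j) = 0) := by
  obtain ⟨H, ⟨⟨e, hH0⟩, N, hN, hNM⟩, _⟩ := existsUnique_rowReduced M hM
  have hH : RowRed H e := hH0
  choose c hsupp hinP hred hB using fun j => col_fix p hH j r
  let P : Matrix (Fin r) (Fin r) (PowerSeries k) := fun l j => if l = j then 1 else c j l
  have hcjj : ∀ j, c j j = 0 := by
    intro j
    by_contra h
    exact absurd (hsupp j j h).2 (lt_irrefl _)
  have hcz : ∀ j l, j ≤ l → c j l = 0 := by
    intro j l hjl
    by_contra h
    exact absurd (hsupp j l h).2 (not_lt.mpr hjl)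
  have hPtri : P.BlockTriangular id := by
    intro l j hjl
    have hne : l ≠ j := fun h => by rw [h] at hjl; exact lt_irrefl _ hjl
    show (if l = j then 1 else c j l) = 0
    rw [if_neg hne]
    exact hcz j l (le_of_lt hjl)
  have hdetP : P.det = 1 := by
    rw [Matrix.det_of_upperTriangular hPtri]
    refine Finset.prod_eq_one fun j _ => ?_
    show (if j = j then 1 else c j j) = 1
    rw [if_pos rfl]
  have hPunit : IsUnit P := (Matrix.isUnit_iff_isUnit_det P).mpr (by rw [hdetP]; exact isUnit_one)
  have hkey : ∀ i j, (H * P) i j = H i j + ∑ l, H i l * c j l := by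
    intro i j
    rw [Matrix.mul_apply]
    have : ∀ l, H i l * P l j = (if l = j then H i l else 0) + H i l * c j l := by
      intro l
      show H i l * (if l = j then 1 else c j l) = _
      by_cases hlj : l = j
      · rw [if_pos hlj, if_pos hlj, hlj, hcjj, mul_one, mul_zero, add_zero]
      · rw [if_neg hlj, if_neg hlj, zero_add]
    rw [Finset.sum_congr rfl fun l _ => this l, Finset.sum_add_distrib,
      Finset.sum_ite_eq' Finset.univ j (fun l => H i l)]
    simp
  refine ⟨N, P, e, hN, hPunit, ?_, ?_, ?_, ?_⟩
  · intro l j n hn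
    show coeff n (if l = j then 1 else c j l) = 0
    split_ifs
    · exact InP.one p n hn
    · exact hinP j l n hn
  · intro j
    rw [hNM, hkey, hH.1 j]
    have : ∑ l, H j l * c j l = 0 := by
      refine Finset.sum_eq_zero fun l _ => ?_
      rcases lt_or_ge l j with h | h
      · rw [hH.2.1 j l h, zero_mul]
      · rw [hcz j l h, mul_zero]
    rw [this, add_zero]
  · intro i j hji
    rw [hNM, hkey, hH.2.1 i j hji]
    have : ∑ l, H i l * c j l = 0 := by
      refine Finset.sum_eq_zero fun l _ => ?_
      rcases lt_or_ge l j with h | h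
      · rw [hH.2.1 i l (lt_trans h hji), zero_mul]
      · rw [hcz j l h, mul_zero]
    rw [this, add_zero]
  · intro i j hij n hn
    rw [hNM, hkey]
    rcases hn with hn | ⟨hn1, hn2⟩
    · have hured : Red (e j) (H i j + ∑ l, H i l * c j l) := by
        refine (hH.2.2 i j hij).add (Red.sum _ _ fun l _ => ?_)
        rcases lt_trichotomy l i with h | h | h
        · rw [hH.2.1 i l h, zero_mul]; exact Red.zero _
        · rw [h, hH.1 i, mul_comm]; exact hred j i
        · exact Red_mul (hH.2.2 i l h) (hred j l)
      exact hured n hn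
    · exact hB j i hij (by have := j.2; omega) n hn1 hn2

end Groth.Agent.Lib.helper13.HermitePS
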