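import Mathlib

/-!
Ring endomorphisms acting on the powers of an ideal like multiplication by `c^d` on `I^d / I^(d+1)`
(helper13's helper library).
-/

set_option autoImplicit false

namespace Groth.Agent.Lib.helper13.IdealPsi

universe u

variable {R : Type u} [CommRing R] (φ : R →+* R) (I : Ideal R) (c : R)

theorem map_mem_pow (hI : ∀ h ∈ I, φ h ∈ I) (d : ℕ) {g : R} (hg : g ∈ I ^ d) : φ g ∈ I ^ d := by
  have h1 : Ideal.map φ I ≤ I := by
    rw [Ideal.map_le_iff_le_comap]
    intro x hx
    exact hI x hx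
  have h2 : Ideal.map φ (I ^ d) ≤ I ^ d := by
    rw [Ideal.map_pow]
    exact Ideal.pow_right_mono h1 d
  exact h2 (Ideal.mem_map_of_mem φ hg)

/-- From generators to the whole ideal. -/
theorem sub_mul_mem_sq_of_generators (G : Set R) (hG : I = Ideal.span G)
    (h0 : ∀ h : R, φ h - h ∈ I) (hgen : ∀ x ∈ G, φ x - c * x ∈ I ^ 2) {h : R} (hh : h ∈ I) :
    φ h - c * h ∈ I ^ 2 := by
  rw [hG] at hh
  induction hh using Submodule.span_induction with
  | mem x hx => exact hgen x hx
  | zero => simp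
  | add x y _ _ hx hy =>
    have e : φ (x + y) - c * (x + y) = (φ x - c * x) + (φ y - c * y) := by rw [map_add]; ring
    rw [e]
    exact Ideal.add_mem _ hx hy
  | smul r x hx hP =>
    have hxI : x ∈ I := by rw [hG]; exact hx
    have e : φ (r • x) - c * (r • x) = φ r * (φ x - c * x) + c * ((φ r - r) * x) := by
      rw [smul_eq_mul, map_mul]; ring
    rw [e]
    refine Ideal.add_mem _ (Ideal.mul_mem_left _ _ hP) (Ideal.mul_mem_left _ _ ?_)
    rw [pow_two]
    exact Ideal.mul_mem_mul (h0 r) hxI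

/-- `φ` acts as `c^d` on `I^d / I^(d+1)`. -/
theorem sub_pow_mul_mem (h0 : ∀ h : R, φ h - h ∈ I) (h1 : ∀ h ∈ I, φ h - c * h ∈ I ^ 2)
    (d : ℕ) {g : R} (hg : g ∈ I ^ d) : φ g - c ^ d * g ∈ I ^ (d + 1) := by
  have hI : ∀ h ∈ I, φ h ∈ I := by
    intro h hh
    have h2 := h1 h hh
    have h3 : φ h - c * h ∈ I := Ideal.pow_le_self (by norm_num) h2
    have e : φ h = (φ h - c * h) + c * h := by ring
    rw [e]
    exact Ideal.add_mem _ h3 (Ideal.mul_mem_left _ _ hh)
  induction d generalizing g with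
  | zero =>
    rw [pow_zero, one_mul, zero_add, pow_one]
    exact h0 g
  | succ d ih =>
    rw [pow_succ] at hg
    refine Submodule.mul_induction_on hg ?_ ?_
    · intro a ha b hb
      have e : φ (a * b) - c ^ (d + 1) * (a * b) =
          (φ a - c ^ d * a) * φ b + c ^ d * (a * (φ b - c * b)) := by
        rw [map_mul]; ring
      rw [e]
      refine Ideal.add_mem _ ?_ (Ideal.mul_mem_left _ _ ?_)
      · have := Ideal.mul_mem_mul (ih ha) (hI b hb)
        rwa [← pow_succ] at this
      · have := Ideal.mul_mem_mul ha (h1 b hb)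
        rwa [← pow_add] at this
    · intro x y hx hy
      have e : φ (x + y) - c ^ (d + 1) * (x + y) =
          (φ x - c ^ (d + 1) * x) + (φ y - c ^ (d + 1) * y) := by rw [map_add]; ring
      rw [e]
      exact Ideal.add_mem _ hx hy

theorem one_add_pow_sub (x : R) (j : ℕ) : (1 + x) ^ j - 1 - (j : R) * x ∈ Ideal.span {x} ^ 2 := by
  induction j with
  | zero => simp
  | succ j ih =>
    have e : (1 + x) ^ (j + 1) - 1 - ((j + 1 : ℕ) : R) * x =
        ((1 + x) ^ j - 1 - (j : R) * x) * (1 + x) + (j : R) * (x * x) := by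
      push_cast; ring
    rw [e]
    refine Ideal.add_mem _ (Ideal.mul_mem_right _ _ ih) (Ideal.mul_mem_left _ _ ?_)
    rw [pow_two]
    exact Ideal.mul_mem_mul (Ideal.mem_span_singleton_self x) (Ideal.mem_span_singleton_self x)

end Groth.Agent.Lib.helper13.IdealPsi
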