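import Mathlib

/-!
Invertible modules: the "rank one" identity `f x • y = f y • x`, and the description of the
colon ideal `(R τ : M)` as the set of values `f τ` (helper13's helper library).
-/

set_option autoImplicit false

namespace Groth.Agent.Lib.helper13.InvSwap

open Module TensorProduct

universe u v

section
variable (R : Type u) [CommRing R] (M : Type v) [AddCommGroup M] [Module R M] [Module.Invertible R M]

/-- In an invertible module there are finitely many `fᵢ, mᵢ` with `∑ fᵢ mᵢ = 1`. -/
theorem exists_sum_eq_one :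
    ∃ (s : Finset (Dual R M × M)), ∑ i ∈ s, i.1 i.2 = 1 := by
  obtain ⟨S, hS⟩ := ((Module.Invertible.linearEquiv R M).symm 1).exists_finset
  refine ⟨S, ?_⟩
  have := (LinearEquiv.symm_apply_eq _).mp hS
  simpa [Module.Invertible.linearEquiv] using this.symm

end

section
variable {R : Type u} [CommRing R] {M : Type v} [AddCommGroup M] [Module R M] [Module.Invertible R M]

/-- There is a scalar `a` with `f x • m = a • f m • x` for all `f, m, x`. -/
theorem exists_scalar :
    ∃ a : R, ∀ (f : Dual R M) (m x : M), f x • m = a • f m • x := by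
  -- the map `R → End M`, `r ↦ dualTensorHom (c⁻¹ r)`
  let c := Module.Invertible.linearEquiv R M
  let S : R →ₗ[R] Module.End R M := (dualTensorHom R M M) ∘ₗ c.symm.toLinearMap
  obtain ⟨a, ha⟩ := (Module.Invertible.toModuleEnd_bijective R M).2 (S 1)
  refine ⟨a, fun f m x => ?_⟩
  have h1 : S (c (f ⊗ₜ[R] m)) = dualTensorHom R M M (f ⊗ₜ[R] m) := by
    simp [S]
  have h2 : S (c (f ⊗ₜ[R] m)) = c (f ⊗ₜ[R] m) • S 1 := by
    rw [← map_smul, smul_eq_mul, mul_one]
  have h3 : c (f ⊗ₜ[R] m) = f m := by
    simp [c, Module.Invertible.linearEquiv]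
  have h4 := congrArg (fun φ : Module.End R M => φ x) (h1.symm.trans h2)
  simp only [dualTensorHom_apply, h3, LinearMap.smul_apply, ← ha] at h4
  rw [h4]
  simp [Module.toModuleEnd, smul_comm a]

/-- The rank one identity in an invertible module. -/
theorem apply_smul_comm (f : Dual R M) (x m : M) : f x • m = f m • x := by
  obtain ⟨a, ha⟩ := exists_scalar (R := R) (M := M)
  obtain ⟨s, hs⟩ := exists_sum_eq_one R M
  suffices h : a = 1 by rw [ha f m x, h, one_smul]
  have key : ∀ (g : Dual R M) (y : M), (1 - a) * (g y) ^ 2 = 0 := by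
    intro g y
    have h1 := ha g y y
    have h2 := congrArg g h1
    simp only [map_smul, smul_eq_mul] at h2
    linear_combination h2
  let I : Ideal R := LinearMap.ker (LinearMap.mul R R (1 - a))
  have hgen : Ideal.span (Set.range fun i : s => i.1.1 i.1.2) = ⊤ := by
    rw [Ideal.eq_top_iff_one, ← hs, ← Finset.sum_coe_sort]
    exact Ideal.sum_mem _ fun i _ => Ideal.subset_span ⟨i, rfl⟩
  have htop := Ideal.span_pow_eq_top _ hgen 2
  have hle : Ideal.span ((fun r : R => r ^ 2) '' (Set.range fun i : s => i.1.1 i.1.2)) ≤ I := by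
    rw [Ideal.span_le]
    rintro _ ⟨_, ⟨i, rfl⟩, rfl⟩
    exact key i.1.1 i.1.2
  have h1 : (1 : R) ∈ I := hle (htop ▸ Submodule.mem_top)
  have h2 : (1 - a) * 1 = 0 := h1
  linear_combination -h2

/-- Description of the colon ideal `(R τ : M)` for an invertible module `M`. -/
theorem mem_colon_iff (τ : M) (r : R) :
    (∀ m : M, ∃ c : R, c • τ = r • m) ↔ ∃ f : Dual R M, f τ = r := by
  constructor
  · intro h
    obtain ⟨s, hs⟩ := exists_sum_eq_one R M
    choose c hc using h
    refine ⟨∑ i ∈ s, c i.2 • i.1, ?_⟩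
    rw [LinearMap.sum_apply]
    calc ∑ i ∈ s, (c i.2 • i.1) τ = ∑ i ∈ s, i.1 (r • i.2) := by
          refine Finset.sum_congr rfl fun i _ => ?_
          rw [← hc, map_smul, LinearMap.smul_apply]
      _ = r * ∑ i ∈ s, i.1 i.2 := by
          rw [Finset.mul_sum]
          refine Finset.sum_congr rfl fun i _ => ?_
          rw [map_smul, smul_eq_mul]
      _ = r := by rw [hs, mul_one]
  · rintro ⟨f, rfl⟩ m
    exact ⟨f m, (apply_smul_comm f m τ)⟩

end

end Groth.Agent.Lib.helper13.InvSwap
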