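import Groth.Agent.Lib.helper13.AntisymmDet

/-!
# Characteristic polynomial of a `J`-symmetric matrix is a square (helper13)
-/

set_option autoImplicit false
open Matrix MvPolynomial

namespace Groth.Agent.Lib.helper13.JSymm

abbrev ι (m : ℕ) := Fin m ⊕ Fin m
abbrev σ (m : ℕ) := (Fin m ⊕ Fin m) × (Fin m ⊕ Fin m)

noncomputable def J (m : ℕ) : Matrix (ι m) (ι m) ℂ := Matrix.fromBlocks 0 1 (-1) 0

lemma J_transpose (m : ℕ) : (J m)ᵀ = - J m := by
  unfold J
  rw [Matrix.fromBlocks_transpose, Matrix.fromBlocks_neg]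
  simp

lemma J_det_ne_zero (m : ℕ) : (J m).det ≠ 0 := by
  have h1 : J m * (- J m) = 1 := by
    unfold J
    rw [Matrix.fromBlocks_neg, Matrix.fromBlocks_multiply]
    simp [Matrix.fromBlocks_one]
  intro h
  have h2 := congrArg Matrix.det h1
  rw [Matrix.det_mul, h, zero_mul, Matrix.det_one] at h2
  exact zero_ne_one h2

lemma J_anti (m : ℕ) (i j : ι m) : J m j i = - J m i j := by
  have := congrFun (congrFun (J_transpose m) i) j
  simpa using this

/-- the generic antisymmetric matrix `X J - S` -/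
noncomputable def M (m : ℕ) : Matrix (ι m) (ι m) (MvPolynomial (σ m) (Polynomial ℂ)) :=
  fun i j => C (Polynomial.X * Polynomial.C (J m i j)) - (X (i, j) - X (j, i))

lemma M_transpose (m : ℕ) : (M m)ᵀ = - M m := by
  refine Matrix.ext fun i j => ?_
  simp only [M, Matrix.transpose_apply, Matrix.neg_apply, J_anti m i j]
  simp only [map_neg, mul_neg]
  ring

noncomputable def lin (m : ℕ) (s : σ m) : MvPolynomial (σ m) (Polynomial ℂ) :=
  C (Polynomial.C (1/2 : ℂ)) * ∑ k, C (Polynomial.C (J m s.1 k)) * X (k, s.2)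

theorem main (m : ℕ) : ∃ P : MvPolynomial (σ m) (Polynomial ℂ), ∀ A : Matrix (ι m) (ι m) ℂ,
    Aᵀ * J m = J m * A →
      A.charpoly = (MvPolynomial.eval (fun ij => Polynomial.C (A ij.1 ij.2)) P) ^ 2 := by
  obtain ⟨Pf, hPf⟩ := AntisymmDet.isSquare_det_domain
    (R := MvPolynomial (σ m) (Polynomial ℂ)) two_ne_zero (M m) (M_transpose m)
  obtain ⟨δ, hδ⟩ := IsAlgClosed.exists_pow_nat_eq ((J m).det)⁻¹ (by norm_num : 0 < 2)
  refine ⟨C (Polynomial.C δ) * bind₁ (lin m) Pf, fun A hA => ?_⟩
  set g : σ m → Polynomial ℂ := fun ij => Polynomial.C (A ij.1 ij.2) with hg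
  set x : σ m → Polynomial ℂ := fun s => Polynomial.C ((J m * A) s.1 s.2 / 2) with hx
  have hxs : ∀ s, MvPolynomial.eval g (lin m s) = x s := by
    intro s
    simp only [lin, map_mul, map_sum, eval_C, eval_X, hg, hx]
    rw [Matrix.mul_apply]
    rw [show ∑ k, Polynomial.C (J m s.1 k) * Polynomial.C (A k s.2)
        = Polynomial.C (∑ k, J m s.1 k * A k s.2) by
      rw [map_sum]; simp only [Polynomial.C_mul], ← Polynomial.C_mul]
    congr 1
    ring
  have hbind : MvPolynomial.eval g (bind₁ (lin m) Pf) = MvPolynomial.eval x Pf := by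
    have h := eval₂Hom_bind₁ (RingHom.id (Polynomial ℂ)) g (lin m) Pf
    have h2 : (fun i => (eval₂Hom (RingHom.id (Polynomial ℂ)) g) (lin m i)) = x := by
      funext s
      exact hxs s
    rw [h2] at h
    exact h
  have hJA : ∀ i j, (J m * A) j i = - (J m * A) i j := by
    have h : (J m * A)ᵀ = -(J m * A) := by
      rw [Matrix.transpose_mul, J_transpose, Matrix.mul_neg, hA]
    intro i j
    have := congrFun (congrFun h i) j
    simpa using this
  have hmap : (MvPolynomial.eval x).mapMatrix (M m)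
      = (J m).map Polynomial.C * Matrix.charmatrix A := by
    refine Matrix.ext fun i j => ?_
    simp only [RingHom.mapMatrix_apply, Matrix.map_apply, M, map_sub, eval_C, eval_X, hx]
    have hR : ((J m).map Polynomial.C * Matrix.charmatrix A) i j
        = Polynomial.X * Polynomial.C (J m i j) - Polynomial.C ((J m * A) i j) := by
      rw [Matrix.mul_apply]
      simp only [Matrix.map_apply, Matrix.charmatrix_apply, Matrix.diagonal_apply, mul_sub,
        Finset.sum_sub_distrib, mul_ite, mul_zero, Finset.sum_ite_eq', Finset.mem_univ, if_true]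
      rw [Matrix.mul_apply, map_sum]
      simp only [Polynomial.C_mul]
      rw [mul_comm]
    rw [hJA i j, hR, ← Polynomial.C_sub]
    congr 2
    ring
  have hdetJ : ((J m).map Polynomial.C).det = Polynomial.C (J m).det := by
    have := RingHom.map_det (Polynomial.C : ℂ →+* Polynomial ℂ) (J m)
    rw [this]
    rfl
  have h1 : MvPolynomial.eval x Pf * MvPolynomial.eval x Pf
      = Polynomial.C (J m).det * A.charpoly := by
    rw [← map_mul, ← hPf, RingHom.map_det, hmap, Matrix.det_mul, hdetJ]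
    rfl
  rw [map_mul, eval_C, hbind, mul_pow, ← Polynomial.C_pow, hδ, pow_two, h1, ← mul_assoc,
    ← Polynomial.C_mul, inv_mul_cancel₀ (J_det_ne_zero m), Polynomial.C_1, one_mul]

theorem main_det (m : ℕ) : ∃ Q : MvPolynomial (σ m) ℂ, ∀ A : Matrix (ι m) (ι m) ℂ,
    Aᵀ * J m = J m * A →
      A.det = (MvPolynomial.eval (fun ij => A ij.1 ij.2) Q) ^ 2 := by
  obtain ⟨P, hP⟩ := main m
  refine ⟨MvPolynomial.map (Polynomial.evalRingHom 0) P, fun A hA => ?_⟩
  have h := hP A hA
  have hdet : A.det = A.charpoly.eval 0 := by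
    rw [Matrix.det_eq_sign_charpoly_coeff, Polynomial.coeff_zero_eq_eval_zero,
      Fintype.card_sum, Fintype.card_fin, Even.neg_one_pow ⟨m, rfl⟩, one_mul]
  rw [hdet, h, Polynomial.eval_pow]
  congr 1
  rw [MvPolynomial.eval_map]
  have := MvPolynomial.eval₂_comp_left (Polynomial.evalRingHom (0 : ℂ)) (RingHom.id _)
    (fun ij : σ m => Polynomial.C (A ij.1 ij.2)) P
  rw [RingHom.comp_id] at this
  have h3 : (⇑(Polynomial.evalRingHom (0 : ℂ)) ∘ fun ij : σ m => Polynomial.C (A ij.1 ij.2))
      = fun ij => A ij.1 ij.2 := by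
    funext ij
    simp
  rw [h3] at this
  exact this

end Groth.Agent.Lib.helper13.JSymm
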