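import Groth.Agent.Lib.helper13.Newton

/-!
# Integer Newton polynomials

`nuZ n : MvPolynomial ℕ ℤ` expresses `b n = p_{n+1}` through `a i = e_{i+1}` with integer
coefficients; converse existence statements for the Newton relation `NR`.
(helper13's helper library.)
-/

set_option autoImplicit false

namespace Groth.Agent.Lib.helper13.Newton

open MvPolynomial Finset

universe u

/-- `b n` as an integer polynomial in the `a`'s. -/
noncomputable def nuZ : ℕ → MvPolynomial ℕ ℤ
  | n => (-1 : MvPolynomial ℕ ℤ) ^ n *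
      (C ((n : ℤ) + 1) * X n -
        ∑ i : Fin n, (-1 : MvPolynomial ℕ ℤ) ^ (n - 1 - (i : ℕ)) * (X (i : ℕ) * nuZ (n - 1 - (i : ℕ))))
decreasing_by
  have := i.isLt
  omega

theorem nuZ_eq (n : ℕ) : nuZ n = (-1) ^ n *
    (C ((n : ℤ) + 1) * X n - ∑ i ∈ range n, (-1) ^ (n - 1 - i) * (X i * nuZ (n - 1 - i))) := by
  rw [nuZ, Finset.sum_range (fun i => (-1 : MvPolynomial ℕ ℤ) ^ (n - 1 - i) * (X i * nuZ (n - 1 - i)))]

section Eval

variable {R : Type u} [CommRing R]

theorem neg_one_pow_mul_self (n : ℕ) : ((-1 : R) ^ n) * (-1) ^ n = 1 := by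
  rw [← mul_pow]
  simp

theorem aeval_nuZ_eq (a : ℕ → R) (n : ℕ) : aeval a (nuZ n) = (-1) ^ n *
    (((n : R) + 1) * a n - ∑ i ∈ range n, (-1) ^ (n - 1 - i) * (a i * aeval a (nuZ (n - 1 - i)))) := by
  conv_lhs => rw [nuZ_eq]
  simp only [map_mul, map_pow, map_neg, map_one, map_sub, aeval_C, aeval_X, map_sum]
  congr 3
  simp

theorem eq_aeval_nuZ {a b : ℕ → R} (h : NR a b) : ∀ n, b n = aeval a (nuZ n) := by
  intro n
  induction n using Nat.strong_induction_on with
  | _ n ih =>
    rw [aeval_nuZ_eq]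
    have hs : ∀ i ∈ range n, (-1 : R) ^ (n - 1 - i) * (a i * aeval a (nuZ (n - 1 - i))) =
        (-1) ^ (n - 1 - i) * (a i * b (n - 1 - i)) := by
      intro i hi
      have hlt : n - 1 - i < n := by
        have := Finset.mem_range.mp hi
        omega
      rw [← ih _ hlt]
    rw [Finset.sum_congr rfl hs, h n, add_sub_cancel_right, ← mul_assoc, neg_one_pow_mul_self, one_mul]

/-- For every `a` there is a `b` in Newton relation with it. -/
theorem NR_aeval_nuZ (a : ℕ → R) : NR a (fun n => aeval a (nuZ n)) := by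
  intro n
  change ((n : R) + 1) * a n = (-1) ^ n * aeval a (nuZ n) +
    ∑ i ∈ range n, (-1) ^ (n - 1 - i) * (a i * aeval a (nuZ (n - 1 - i)))
  rw [aeval_nuZ_eq a n, ← mul_assoc, neg_one_pow_mul_self, one_mul, sub_add_cancel]

theorem NR_unique_right {a b b' : ℕ → R} (h : NR a b) (h' : NR a b') : b = b' := by
  funext n
  rw [eq_aeval_nuZ h n, eq_aeval_nuZ h' n]

theorem aeval_nuZ_congr {a a' : ℕ → R} (n : ℕ) (h : ∀ j, j ≤ n → a j = a' j) :
    aeval a (nuZ n) = aeval a' (nuZ n) := by
  induction n using Nat.strong_induction_on with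
  | _ n ih =>
    rw [aeval_nuZ_eq, aeval_nuZ_eq, h n le_rfl]
    congr 2
    apply Finset.sum_congr rfl
    intro i hi
    have hi' := Finset.mem_range.mp hi
    rw [ih (n - 1 - i) (by omega) (fun j hj => h j (by omega)), h i (by omega)]

variable [Algebra ℚ R]

/-- For every `b` (over ℚ) there is an `a` in Newton relation with it. -/
theorem NR_aeval_epsP (b : ℕ → R) : NR (fun n => aeval b (epsP n)) b := by
  intro n
  change ((n : R) + 1) * aeval b (epsP n) = (-1) ^ n * b n +
    ∑ i ∈ range n, (-1) ^ (n - 1 - i) * (aeval b (epsP i) * b (n - 1 - i))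
  conv_lhs => rw [epsP_eq]
  simp only [map_mul, map_pow, map_neg, map_one, map_add, aeval_C, aeval_X, map_sum]
  rw [← mul_assoc, mul_comm ((n : R) + 1), algebraMap_inv_mul, one_mul]

theorem NR_unique_left {a a' b : ℕ → R} (h : NR a b) (h' : NR a' b) : a = a' := by
  funext n
  rw [eq_aeval_epsP h n, eq_aeval_epsP h' n]

end Eval

/-- Ring homomorphisms commute with evaluation of integer polynomials. -/
theorem ringHom_aeval {σ : Type*} {S S' : Type*} [CommRing S] [CommRing S'] [Algebra ℤ S]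
    [Algebra ℤ S'] (φ : S →+* S')
    (g : σ → S) (p : MvPolynomial σ ℤ) : φ (aeval g p) = aeval (fun i => φ (g i)) p := by
  induction p using MvPolynomial.induction_on with
  | C a =>
    rw [aeval_C, aeval_C, eq_intCast (algebraMap ℤ S), eq_intCast (algebraMap ℤ S'), map_intCast]
  | add p q hp hq => rw [map_add, map_add, map_add, hp, hq]
  | mul_X p i hp => rw [map_mul, map_mul, map_mul, hp, aeval_X, aeval_X]

end Groth.Agent.Lib.helper13.Newton
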