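import Groth.Agent.Lib.helper13.UnivIdent
import Groth.Agent.Lib.helper13.NewtonLambda

/-!
A pre-λ-ring over ℚ whose Adams operations are unital, multiplicative and compose as
`ψ^k ψ^k' = ψ^(k k')` is special (helper13's helper library).
-/

set_option autoImplicit false

namespace Groth.Agent.Lib.helper13.SpecialOfAdams

open LambdaRing MvPolynomial Finset
open Groth.Agent.Lib.helper13.Newton Groth.Agent.Lib.helper13.NewtonLambda
  Groth.Agent.Lib.helper13.SymmUniv Groth.Agent.Lib.helper13.UnivIdent

universe u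

section General

theorem aeval_of_isEmpty {σ : Type*} [IsEmpty σ] {A : Type*} [CommRing A] [Algebra ℤ A] (f : σ → A)
    (P : MvPolynomial σ ℤ) : aeval f P = ((coeff 0 P : ℤ) : A) := by
  conv_lhs => rw [eq_C_of_isEmpty P]
  rw [aeval_C]
  exact eq_intCast (algebraMap ℤ A) _

theorem mulGen_zero (N : ℕ) : mulGen N 0 = 1 := by
  rw [mulGen_eq, esymm_zero, map_one]

theorem compGen_zero_right (N i : ℕ) : compGen N i 0 = 1 := by
  rw [compGen_eq, esymm_zero, map_one]

theorem compGen_zero_left (N j : ℕ) : compGen N 0 (j + 1) = if j = 0 then 1 else 0 := by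
  unfold compGen
  rw [Finset.powersetCard_zero]
  simp only [Finset.singleton_val, Multiset.map_singleton, Finset.prod_empty]
  unfold Multiset.esymm
  split_ifs with h
  · subst h
    simp [Multiset.powersetCard_one]
  · rw [Multiset.powersetCard_eq_empty]
    · simp
    · simp only [Multiset.card_singleton]
      omega

variable {K : Type u} [CommRing K]

theorem NR_delta : NR (fun i => if i = 0 then (1 : K) else 0) (fun _ => 1) := by
  intro n
  rcases n with _ | n
  · simp
  · rw [Finset.sum_eq_single 0]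
    · simp only [if_neg (Nat.succ_ne_zero n), mul_zero, if_true, mul_one, Nat.add_sub_cancel,
        Nat.sub_zero, pow_succ]
      ring
    · intro b _ hb
      simp [hb]
    · intro h
      simp at h

end General

variable {K : Type u} [CommRing K] [LambdaOps K] [Algebra ℚ K]

/-- The Adams operation as a ℚ-algebra homomorphism. -/
noncomputable def adamsHom (k : ℕ) (h1 : adamsOp k (1 : K) = 1)
    (hmul : ∀ x y : K, adamsOp k (x * y) = adamsOp k x * adamsOp k y) : K →ₐ[ℚ] K :=
  RingHom.toRatAlgHom
    { toFun := adamsOp k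
      map_one' := h1
      map_mul' := hmul
      map_zero' := by
        have h := adamsOp_add k (0 : K) 0
        rw [add_zero] at h
        exact left_eq_add.mp h
      map_add' := adamsOp_add k }

theorem adamsHom_apply (k : ℕ) (h1 : adamsOp k (1 : K) = 1)
    (hmul : ∀ x y : K, adamsOp k (x * y) = adamsOp k x * adamsOp k y) (x : K) :
    adamsHom k h1 hmul x = adamsOp k x := rfl

section Main

variable (h1 : ∀ k : ℕ, 1 ≤ k → adamsOp k (1 : K) = 1)
  (hmul : ∀ k : ℕ, 1 ≤ k → ∀ x y : K, adamsOp k (x * y) = adamsOp k x * adamsOp k y)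
  (hcomp : ∀ k k' : ℕ, 1 ≤ k → 1 ≤ k' → ∀ x : K, adamsOp k (adamsOp k' x) = adamsOp (k * k') x)

include h1 in
theorem lam_succ_one (n : ℕ) : LambdaOps.lam (n + 1) (1 : K) = if n = 0 then 1 else 0 := by
  have hNR : NR (fun i => LambdaOps.lam (i + 1) (1 : K)) (fun _ => 1) := by
    have h := NR_lam_adams (1 : K)
    have e : (fun j => adamsOp (j + 1) (1 : K)) = fun _ => 1 := by
      funext j
      exact h1 (j + 1) (by omega)
    rwa [e] at h
  have e1 := eq_aeval_epsP hNR n
  have e2 := eq_aeval_epsP (NR_delta (K := K)) n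
  exact e1.trans e2.symm

include h1 in
theorem lam_one_eq_zero (n : ℕ) (hn : 2 ≤ n) : LambdaOps.lam n (1 : K) = 0 := by
  obtain ⟨m, rfl⟩ : ∃ m, n = m + 1 := ⟨n - 1, by omega⟩
  rw [lam_succ_one h1, if_neg (by omega)]

include hmul in
theorem lam_mul (n : ℕ) (P : MvPolynomial (Fin n ⊕ Fin n) ℤ) (hP : IsMulPoly n P) (x y : K) :
    LambdaOps.lam n (x * y) =
      aeval (Sum.elim (fun k : Fin n => LambdaOps.lam ((k : ℕ) + 1) x)
        (fun k : Fin n => LambdaOps.lam ((k : ℕ) + 1) y)) P := by
  rcases n with _ | m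
  · rw [LambdaOps.lam_zero, aeval_of_isEmpty]
    have h := hP.1
    rw [aeval_of_isEmpty, mulGen_zero] at h
    have h' := congrArg (aeval (fun _ => (0 : K)) : MvPolynomial (Fin 0 ⊕ Fin 0) ℤ → K) h
    rw [map_intCast, map_one] at h'
    exact h'.symm
  · have hc : NR (fun i => LambdaOps.lam (i + 1) (x * y))
        (fun j => adamsOp (j + 1) x * adamsOp (j + 1) y) := by
      have h := NR_lam_adams (x * y)
      have e : (fun j => adamsOp (j + 1) (x * y)) =
          fun j => adamsOp (j + 1) x * adamsOp (j + 1) y := by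
        funext j
        exact hmul (j + 1) (by omega) x y
      rwa [e] at h
    exact (mul_eval (NR_lam_adams x) (NR_lam_adams y) hc m P hP.1).symm

include h1 hmul hcomp in
theorem lam_lam (i j : ℕ) (Q : MvPolynomial (Fin (i * j)) ℤ) (hQ : IsCompPoly i j Q) (x : K) :
    LambdaOps.lam j (LambdaOps.lam i x) =
      aeval (fun k : Fin (i * j) => LambdaOps.lam ((k : ℕ) + 1) x) Q := by
  rcases j with _ | j'
  · have : IsEmpty (Fin (i * 0)) := by
      rw [Nat.mul_zero]; infer_instance
    rw [LambdaOps.lam_zero, aeval_of_isEmpty]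
    have h := hQ.1
    rw [aeval_of_isEmpty, compGen_zero_right] at h
    have h' := congrArg (aeval (fun _ => (0 : K)) : MvPolynomial (Fin (i * 0)) ℤ → K) h
    rw [map_intCast, map_one] at h'
    exact h'.symm
  rcases i with _ | i'
  · have : IsEmpty (Fin (0 * (j' + 1))) := by
      rw [Nat.zero_mul]; infer_instance
    rw [LambdaOps.lam_zero, aeval_of_isEmpty, lam_succ_one h1]
    have h := hQ.1
    rw [aeval_of_isEmpty, compGen_zero_left] at h
    have h' := congrArg (aeval (fun _ => (0 : K)) : MvPolynomial (Fin (0 * (j' + 1))) ℤ → K) h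
    rw [map_intCast] at h'
    rw [h']
    split_ifs <;> simp
  · refine Eq.trans ?_ (comp_eval (NR_lam_adams x) i' j' Q hQ.1).symm
    have e1 : LambdaOps.lam (j' + 1) (LambdaOps.lam (i' + 1) x) =
        aeval (fun m => adamsOp (m + 1) (LambdaOps.lam (i' + 1) x)) (epsP j') :=
      eq_aeval_epsP (NR_lam_adams (LambdaOps.lam (i' + 1) x)) j'
    have e2 : LambdaOps.lam (i' + 1) x = aeval (fun l => adamsOp (l + 1) x) (epsP i') :=
      eq_aeval_epsP (NR_lam_adams x) i'
    rw [e1]
    congr 2
    funext m
    have e3 : adamsOp (m + 1) (LambdaOps.lam (i' + 1) x) =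
        adamsHom (m + 1) (h1 (m + 1) (by omega)) (hmul (m + 1) (by omega))
          (LambdaOps.lam (i' + 1) x) := rfl
    rw [e3, e2, comp_aeval_apply]
    congr 2
    funext l
    rw [adamsHom_apply, hcomp (m + 1) (l + 1) (by omega) (by omega),
      Nat.sub_add_cancel (Nat.mul_pos (Nat.succ_pos m) (Nat.succ_pos l))]

include h1 hmul hcomp in
theorem isSpecial : IsSpecial K where
  lam_one_eq_zero := lam_one_eq_zero h1
  lam_mul := lam_mul hmul
  lam_lam := lam_lam h1 hmul hcomp

end Main

end Groth.Agent.Lib.helper13.SpecialOfAdams
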