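import Groth.Agent.S8702
import Groth.Agent.Lib.helper13.SpecialOfAdams
import Groth.Agent.Lib.helper13.NewtonLambda
import Groth.Agent.Lib.helper13.NewtonZ
import Groth.Agent.S8649

/-!
λ-structures on ℚ-algebras built from a system of commuting ring endomorphisms `ψ^k`
("ghost" construction), helper13's helper library.
-/

set_option autoImplicit false
set_option linter.style.haveILetI false
set_option warn.classDefReducibility false

namespace Groth.Agent.Lib.helper13.LamGhost

open LambdaRing PowerSeries Finset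
open Groth.Agent.Lib.helper13.Lam Groth.Agent.Lib.helper13.LogDeriv
  Groth.Agent.Lib.helper13.Newton Groth.Agent.Lib.helper13.NewtonLambda

universe u

/-- A system of Adams-type ring endomorphisms. -/
structure PsiSys (R : Type u) [CommRing R] where
  ψ : ℕ → R →+* R
  ψ_one : ψ 1 = RingHom.id R
  ψ_mul : ∀ j k : ℕ, 1 ≤ j → 1 ≤ k → ψ (j * k) = (ψ j).comp (ψ k)

variable {R : Type u} [CommRing R] [Algebra ℚ R]

/-- The λ-operations attached to a system of Adams operations on a ℚ-algebra. -/
noncomputable def PsiSys.lambdaOps (P : PsiSys R) : LambdaOps R :=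
  Groth.Agent.S8702.lamOfPsi (fun k => (P.ψ k).toAddMonoidHom) (by
    rw [P.ψ_one]; rfl)

theorem PsiSys.adamsOp_eq (P : PsiSys R) (k : ℕ) (hk : 1 ≤ k) (x : R) :
    @adamsOp R _ P.lambdaOps k x = P.ψ k x := by
  obtain ⟨k, rfl⟩ : ∃ j, k = j + 1 := ⟨k - 1, by omega⟩
  letI : LambdaOps R := P.lambdaOps
  have hlam : lamSeries x =
      Groth.Agent.S8702.lamSol (fun k => (P.ψ k).toAddMonoidHom) x := by
    ext n
    rw [coeff_lamSeries]
    rfl
  have hd : d⁄dX R (lamSeries x) =
      lamSeries x * Groth.Agent.S8702.psiSeries (fun k => (P.ψ k).toAddMonoidHom) x := by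
    rw [hlam]
    exact derivative_odeSol _
  have hlog := logDerivSeries_eq_of_derivative hd
  rw [adamsOp_succ, hlog, Groth.Agent.S8702.psiSeries, coeff_mk, ← mul_assoc, ← pow_add,
    ← two_mul, pow_mul]
  simp

theorem PsiSys.isSpecial (P : PsiSys R) : @IsSpecial R _ P.lambdaOps := by
  letI : LambdaOps R := P.lambdaOps
  refine Groth.Agent.Lib.helper13.SpecialOfAdams.isSpecial ?_ ?_ ?_
  · intro k hk
    rw [P.adamsOp_eq k hk, map_one]
  · intro k hk x y
    rw [P.adamsOp_eq k hk, P.adamsOp_eq k hk, P.adamsOp_eq k hk, map_mul]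
  · intro k k' hk hk' x
    rw [P.adamsOp_eq k hk, P.adamsOp_eq k' hk', P.adamsOp_eq (k * k') (Nat.mul_pos hk hk'),
      P.ψ_mul k k' hk hk']
    rfl

section Elements

variable {K : Type u} [CommRing K] [LambdaOps K]

/-- Elements on which the Adams operations act by `ψ^j(y) = c L^j` satisfy a two-term recursion. -/
theorem succ_mul_lam_succ_of_adams (y c L : K)
    (h : ∀ j : ℕ, adamsOp (j + 1) y = c * L ^ (j + 1)) (m : ℕ) :
    ((m : K) + 1) * LambdaOps.lam (m + 1) y = (c - m) * L * LambdaOps.lam m y := by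
  have h1 : (1 + C L * X) * logDerivSeries y = C (c * L) := by
    ext n
    rw [add_mul, one_mul, map_add, mul_assoc, coeff_C_mul]
    rcases n with _ | n
    · rw [coeff_logDerivSeries, h 0]
      simp
    · rw [coeff_succ_X_mul, coeff_logDerivSeries, coeff_logDerivSeries, h (n + 1), h n, coeff_C,
        if_neg (Nat.succ_ne_zero n)]
      ring
  have h2 : (1 + C L * X) * d⁄dX K (lamSeries y) = C (c * L) * lamSeries y := by
    rw [derivative_lamSeries, ← h1]
    ring
  have h3 := congrArg (coeff m) h2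
  rw [coeff_C_mul, coeff_lamSeries, add_mul, one_mul, map_add, mul_assoc, coeff_C_mul,
    coeff_derivative, coeff_lamSeries] at h3
  rcases m with _ | m
  · rw [coeff_zero_X_mul] at h3
    simp only [Nat.cast_zero, zero_add, mul_zero, add_zero, sub_zero] at h3 ⊢
    rw [one_mul]
    simpa using h3
  · rw [coeff_succ_X_mul, coeff_derivative, coeff_lamSeries] at h3
    push_cast at h3 ⊢
    linear_combination h3

theorem factorial_mul_lam_of_adams (y c L : K)
    (h : ∀ j : ℕ, adamsOp (j + 1) y = c * L ^ (j + 1)) (m : ℕ) :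
    (m.factorial : K) * LambdaOps.lam m y = (∏ r ∈ range m, (c - r)) * L ^ m := by
  induction m with
  | zero => simp [LambdaOps.lam_zero]
  | succ m ih =>
    have hrec := succ_mul_lam_succ_of_adams y c L h m
    rw [Nat.factorial_succ, Nat.cast_mul, Finset.prod_range_succ, pow_succ]
    push_cast
    calc ((m : K) + 1) * (m.factorial : K) * LambdaOps.lam (m + 1) y
        = (m.factorial : K) * (((m : K) + 1) * LambdaOps.lam (m + 1) y) := by ring
      _ = (m.factorial : K) * ((c - m) * L * LambdaOps.lam m y) := by rw [hrec]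
      _ = ((m.factorial : K) * LambdaOps.lam m y) * ((c - m) * L) := by ring
      _ = ((∏ r ∈ range m, (c - r)) * L ^ m) * ((c - m) * L) := by rw [ih]
      _ = (∏ x ∈ range m, (c - ↑x)) * (c - ↑m) * (L ^ m * L) := by ring

variable [Algebra ℚ K]

/-- A "line element": `ψ^j(y) = y^j` forces `λ^n(y) = 0` for `n ≥ 2`. -/
theorem lam_eq_zero_of_adams_pow (y : K) (h : ∀ j : ℕ, adamsOp (j + 1) y = y ^ (j + 1))
    (n : ℕ) (hn : 2 ≤ n) : LambdaOps.lam n y = 0 := by
  have h' : ∀ j : ℕ, adamsOp (j + 1) y = 1 * y ^ (j + 1) := fun j => by rw [h j, one_mul]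
  have hf := factorial_mul_lam_of_adams y 1 y h' n
  have hz : ∏ r ∈ range n, ((1 : K) - r) = 0 := by
    apply Finset.prod_eq_zero (i := 1) (by simp; omega)
    simp
  rw [hz, zero_mul] at hf
  have hu : IsUnit ((n.factorial : ℕ) : K) := by
    have : ((n.factorial : ℕ) : K) = algebraMap ℚ K (n.factorial : ℚ) := by simp
    rw [this]
    exact (IsUnit.mk0 _ (by positivity)).map _
  exact (hu.mul_right_eq_zero).mp hf

end Elements

section G1

variable {R : Type u} [CommRing R] [Algebra ℚ R]

omit [Algebra ℚ R] in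
theorem prod_reflect_aux (c : R) (i m : ℕ) (hm : m ≤ i) :
    ∏ r ∈ range (i - m), ((i : R) - 1 - c - r) = (-1) ^ (i - m) * ∏ r ∈ Finset.Ico m i, (c - r) := by
  rw [Finset.prod_Ico_eq_prod_range]
  have h1 : ∏ r ∈ range (i - m), ((i : R) - 1 - c - r) =
      ∏ j ∈ range (i - m), (fun j : ℕ => -(c - ((m + j : ℕ) : R))) (i - m - 1 - j) := by
    refine Finset.prod_congr rfl fun j hj => ?_
    have hj' := Finset.mem_range.mp hj
    have e : ((m + (i - m - 1 - j) : ℕ) : R) = (i : R) - 1 - j := by
      have : m + (i - m - 1 - j) + 1 + j = i := by omega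
      have h2 := congrArg (Nat.cast : ℕ → R) this
      push_cast at h2 ⊢
      linear_combination h2
    simp only [e]
    ring
  rw [h1, Finset.prod_range_reflect (fun j : ℕ => -(c - ((m + j : ℕ) : R))) (i - m)]
  rw [Finset.prod_neg]
  simp

/-- `γ^i(c (L - 1))` for a scalar-like `c` (fixed by all `ψ`) and a line element `L`. -/
theorem PsiSys.factorial_mul_gamma (P : PsiSys R) (c L : R)
    (hc : ∀ j : ℕ, 1 ≤ j → P.ψ j c = c) (hL : ∀ j : ℕ, 1 ≤ j → P.ψ j L = L ^ j) (i : ℕ) :
    (i.factorial : R) * @gamma R _ P.lambdaOps i (c * (L - 1)) =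
      (∏ r ∈ range i, (c - r)) * (L - 1) ^ i := by
  letI : LambdaOps R := P.lambdaOps
  have h1 : ∀ k : ℕ, 2 ≤ k → LambdaOps.lam k (1 : R) = 0 := P.isSpecial.lam_one_eq_zero
  have hy1 : ∀ j : ℕ, adamsOp (j + 1) (c * L) = c * L ^ (j + 1) := by
    intro j
    rw [P.adamsOp_eq (j + 1) (by omega), map_mul, hc _ (by omega), hL _ (by omega)]
  have hy2 : ∀ j : ℕ, adamsOp (j + 1) ((i : R) - 1 - c) = ((i : R) - 1 - c) * 1 ^ (j + 1) := by
    intro j
    rw [P.adamsOp_eq (j + 1) (by omega), map_sub, map_sub, map_natCast, map_one,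
      hc _ (by omega), one_pow, mul_one]
  have e0 : c * (L - 1) + (i : R) - 1 = c * L + ((i : R) - 1 - c) := by ring
  rw [Groth.Agent.S8649.result R h1 i, e0, LambdaOps.lam_add, Finset.mul_sum]
  have hterm : ∀ m ∈ range (i + 1),
      (i.factorial : R) * (LambdaOps.lam m (c * L) * LambdaOps.lam (i - m) ((i : R) - 1 - c)) =
      (∏ r ∈ range i, (c - r)) * (L ^ m * (-1) ^ (i - m) * (i.choose m : R)) := by
    intro m hm
    have hmi : m ≤ i := Nat.lt_succ_iff.mp (Finset.mem_range.mp hm)
    have hf : (i.factorial : R) = (i.choose m : R) * (m.factorial : R) * ((i - m).factorial : R) := by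
      rw [← Nat.choose_mul_factorial_mul_factorial hmi]
      push_cast
      ring
    have f1 := factorial_mul_lam_of_adams (c * L) c L hy1 m
    have f2 := factorial_mul_lam_of_adams ((i : R) - 1 - c) ((i : R) - 1 - c) 1 hy2 (i - m)
    rw [one_pow, mul_one, prod_reflect_aux c i m hmi] at f2
    calc (i.factorial : R) * (LambdaOps.lam m (c * L) * LambdaOps.lam (i - m) ((i : R) - 1 - c))
        = (i.choose m : R) * ((m.factorial : R) * LambdaOps.lam m (c * L)) *
            (((i - m).factorial : R) * LambdaOps.lam (i - m) ((i : R) - 1 - c)) := by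
          rw [hf]; ring
      _ = (i.choose m : R) * ((∏ r ∈ range m, (c - r)) * L ^ m) *
            ((-1) ^ (i - m) * ∏ r ∈ Finset.Ico m i, (c - r)) := by rw [f1, f2]
      _ = ((∏ r ∈ range m, (c - r)) * ∏ r ∈ Finset.Ico m i, (c - r)) *
            (L ^ m * (-1) ^ (i - m) * (i.choose m : R)) := by ring
      _ = _ := by rw [Finset.prod_range_mul_prod_Ico (fun r : ℕ => c - (r : R)) hmi]
  rw [Finset.sum_congr rfl hterm, ← Finset.mul_sum, sub_eq_add_neg L 1, add_pow]

end G1

end Groth.Agent.Lib.helper13.LamGhost
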