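import Mathlib

/-!
# Laurent series: coefficientwise description of a compatible map, membership in power series
-/

namespace Groth.Agent.Lib.helper13.LaurentExt

open PowerSeries HahnSeries

variable {R R' : Type*} [CommRing R] [CommRing R']

theorem coeff_theta (φ : R →+* R') (θ : LaurentSeries R →+* LaurentSeries R')
    (hθ : θ.comp (algebraMap (PowerSeries R) (LaurentSeries R))
      = (algebraMap (PowerSeries R') (LaurentSeries R')).comp (PowerSeries.map φ))
    (f : LaurentSeries R) (j : ℤ) : (θ f).coeff j = φ (f.coeff j) := by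
  obtain ⟨⟨g, ⟨_, N, rfl⟩⟩, hg⟩ :=
    IsLocalization.surj (Submonoid.powers (PowerSeries.X : PowerSeries R)) f
  simp only at hg
  have h1 : f * (HahnSeries.single (N : ℤ) (1 : R)) = HahnSeries.ofPowerSeries ℤ R g := by
    have hg' := hg
    rw [LaurentSeries.coe_algebraMap, HahnSeries.ofPowerSeries_X_pow] at hg'
    exact hg'
  have h2 : θ f * (HahnSeries.single (N : ℤ) (1 : R'))
      = HahnSeries.ofPowerSeries ℤ R' (PowerSeries.map φ g) := by
    have e1 := congrArg θ hg
    rw [map_mul] at e1
    have e2 : ∀ p : PowerSeries R, θ (algebraMap (PowerSeries R) (LaurentSeries R) p)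
        = algebraMap (PowerSeries R') (LaurentSeries R') (PowerSeries.map φ p) := fun p =>
      congrArg (fun h => h p) hθ
    rw [e2, e2, map_pow, PowerSeries.map_X, LaurentSeries.coe_algebraMap,
      HahnSeries.ofPowerSeries_X_pow] at e1
    exact e1
  have h3 : (θ f).coeff j = (HahnSeries.ofPowerSeries ℤ R' (PowerSeries.map φ g)).coeff (j + N) := by
    rw [← h2, HahnSeries.coeff_mul_single_add, mul_one]
  have h4 : f.coeff j = (HahnSeries.ofPowerSeries ℤ R g).coeff (j + N) := by
    rw [← h1, HahnSeries.coeff_mul_single_add, mul_one]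
  rw [h3, h4, PowerSeries.coeff_coe, PowerSeries.coeff_coe]
  split_ifs
  · rw [map_zero]
  · rw [PowerSeries.coeff_map]

theorem mem_range_iff (y : LaurentSeries R') :
    y ∈ (algebraMap (PowerSeries R') (LaurentSeries R')).range ↔ ∀ j : ℤ, j < 0 → y.coeff j = 0 := by
  constructor
  · rintro ⟨g, rfl⟩ j hj
    rw [LaurentSeries.coe_algebraMap, PowerSeries.coeff_coe, if_pos hj]
  · intro h
    refine ⟨PowerSeries.mk (fun n => y.coeff n), ?_⟩
    ext j
    rw [LaurentSeries.coe_algebraMap, PowerSeries.coeff_coe]
    split_ifs with hj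
    · exact (h j hj).symm
    · rw [PowerSeries.coeff_mk]
      congr 1
      omega

end Groth.Agent.Lib.helper13.LaurentExt
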