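import Mathlib

/-!
# Subspaces of monomial spans determined by leading monomials (helper13)
-/

set_option autoImplicit false
open MvPolynomial

namespace Groth.Agent.Lib.helper13.LeadMono

open scoped MonomialOrder

variable {σ : Type*} {k : Type*} [Field k]

/-- If every monomial of `D` is the leading monomial of a nonzero element of `V ≤ restrictSupport D`,
then `V = restrictSupport D`. -/
theorem eq_restrictSupport_of_leading (mo : MonomialOrder σ) (D : Set (σ →₀ ℕ))
    (V : Submodule k (MvPolynomial σ k)) (hV : V ≤ restrictSupport k D)
    (hlead : ∀ e ∈ D, ∃ v ∈ V, v ≠ 0 ∧ mo.degree v = e) : V = restrictSupport k D := by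
  refine le_antisymm hV ?_
  suffices h : ∀ s : mo.syn, ∀ f ∈ restrictSupport k D, mo.toSyn (mo.degree f) = s → f ∈ V by
    intro f hf
    exact h _ f hf rfl
  intro s
  induction s using WellFoundedLT.induction with
  | ind s ih =>
  intro f hf hs
  by_cases hf0 : f = 0
  · rw [hf0]; exact V.zero_mem
  · have hμ : mo.degree f ∈ D := hf (mo.degree_mem_support hf0)
    obtain ⟨v, hvV, hv0, hvdeg⟩ := hlead _ hμ
    have hlcv : mo.leadingCoeff v ≠ 0 := mo.leadingCoeff_ne_zero_iff.mpr hv0
    set c := mo.leadingCoeff f / mo.leadingCoeff v with hc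
    set g := f - c • v with hg
    have hgT : g ∈ restrictSupport k D := Submodule.sub_mem _ hf (Submodule.smul_mem _ _ (hV hvV))
    have hcoeff : g.coeff (mo.degree f) = 0 := by
      rw [hg, coeff_sub, coeff_smul, smul_eq_mul]
      have : v.coeff (mo.degree f) = mo.leadingCoeff v := by
        rw [← hvdeg]; rfl
      rw [this, hc, div_mul_cancel₀ _ hlcv]
      exact sub_self _
    have hfg : f = g + c • v := by rw [hg]; ring
    by_cases hg0 : g = 0
    · rw [hfg, hg0, zero_add]
      exact V.smul_mem _ hvV
    · have hle : mo.toSyn (mo.degree g) ≤ mo.toSyn (mo.degree f) := by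
        refine le_trans mo.degree_sub_le (sup_le le_rfl ?_)
        have := mo.degree_smul_le (r := c) (f := v)
        rw [hvdeg] at this
        exact this
      have hne : mo.degree g ≠ mo.degree f := by
        intro h
        have := mo.coeff_degree_ne_zero_iff.mpr hg0
        rw [h] at this
        exact this hcoeff
      have hlt : mo.toSyn (mo.degree g) < s := by
        rw [← hs]
        exact lt_of_le_of_ne hle (fun h => hne (mo.toSyn.injective h))
      have hgV := ih _ hlt g hgT rfl
      rw [hfg]
      exact V.add_mem hgV (V.smul_mem _ hvV)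

end Groth.Agent.Lib.helper13.LeadMono
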