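import Mathlib

/-!
# Restriction of a multivariate polynomial to a line and its derivative
-/

namespace Groth.Agent.Lib.helper13.LineDeriv

variable {k : Type*} [Field k] {σ : Type*} [Fintype σ] [DecidableEq σ]

/-- restriction to the line `u + λ v` -/
noncomputable def line (u v : σ → k) : MvPolynomial σ k →ₐ[k] Polynomial k :=
  MvPolynomial.aeval (fun i => Polynomial.C (u i) + Polynomial.C (v i) * Polynomial.X)

theorem eval_line (u v : σ → k) (c : k) (p : MvPolynomial σ k) :
    Polynomial.eval c (line u v p) = MvPolynomial.eval (fun i => u i + v i * c) p := by
  induction p using MvPolynomial.induction_on with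
  | C a => simp [line]
  | add p q hp hq => simp only [map_add, Polynomial.eval_add, hp, hq]
  | mul_X p j hp =>
    rw [map_mul, Polynomial.eval_mul, hp, map_mul]
    simp [line]

theorem derivative_line (u v : σ → k) (p : MvPolynomial σ k) :
    Polynomial.derivative (line u v p)
      = ∑ i, Polynomial.C (v i) * line u v (MvPolynomial.pderiv i p) := by
  induction p using MvPolynomial.induction_on with
  | C a => simp [line]
  | add p q hp hq => simp only [map_add, hp, hq, mul_add, Finset.sum_add_distrib]
  | mul_X p j hp =>
    have e1 : ∀ i, MvPolynomial.pderiv i (p * MvPolynomial.X j)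
        = MvPolynomial.pderiv i p * MvPolynomial.X j + (if i = j then p else 0) := by
      intro i
      by_cases h : i = j
      · subst h
        simp [Derivation.leibniz, MvPolynomial.pderiv_X_self, mul_comm, add_comm]
      · simp [Derivation.leibniz, MvPolynomial.pderiv_X_of_ne (Ne.symm h), h, mul_comm]
    have e2 : ∑ i, Polynomial.C (v i) * line u v (if i = j then p else 0)
        = Polynomial.C (v j) * line u v p := by
      rw [Finset.sum_eq_single j]
      · simp
      · intro b _ hb
        simp [hb]
      · intro h
        exact absurd (Finset.mem_univ _) h
    have e3 : Polynomial.derivative (line u v (MvPolynomial.X j)) = Polynomial.C (v j) := by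
      simp [line]
    rw [map_mul, Polynomial.derivative_mul, hp, e3]
    simp_rw [e1, map_add, map_mul, mul_add, Finset.sum_add_distrib]
    rw [e2, Finset.sum_mul]
    congr 1
    · apply Finset.sum_congr rfl
      intro i _
      ring
    · ring

/-- If `f` vanishes on the line through `u` in direction `v`, the directional derivative
vanishes at `u`. -/
theorem dir_deriv_eq_zero [Infinite k] (u v : σ → k) (f : MvPolynomial σ k)
    (h : ∀ c : k, MvPolynomial.eval (fun i => u i + v i * c) f = 0) :
    ∑ i, v i * MvPolynomial.eval u (MvPolynomial.pderiv i f) = 0 := by
  have h0 : line u v f = 0 := by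
    apply Polynomial.funext
    intro c
    rw [eval_line, h c, Polynomial.eval_zero]
  have h1 := derivative_line u v f
  rw [h0, Polynomial.derivative_zero] at h1
  have h2 := congrArg (Polynomial.eval 0) h1
  rw [Polynomial.eval_zero, Polynomial.eval_finset_sum] at h2
  simp_rw [Polynomial.eval_mul, Polynomial.eval_C, eval_line, mul_zero, add_zero] at h2
  exact h2.symm

end Groth.Agent.Lib.helper13.LineDeriv
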