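import Mathlib

/-!
Logarithmic connections on the trivial bundle over the affine line with poles along disjoint
sections `θ_i` (S15502, S15503): reduction of pole order using non-resonant residues.
-/

set_option autoImplicit false
universe u

namespace Groth.Agent.Lib.helper13.LogConn

open Polynomial

variable {R : Type u} [CommRing R] {d r : ℕ}

section roots

variable (θ : Fin r → R)

theorem eval_prod_eq_zero (i : Fin r) : (∏ k, (X - C (θ k)) : R[X]).eval (θ i) = 0 := by
  rw [eval_prod]
  exact Finset.prod_eq_zero (Finset.mem_univ i) (by simp)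

theorem eval_derivative_prod (i : Fin r) :
    (derivative (∏ k, (X - C (θ k)) : R[X])).eval (θ i) =
      ∏ k ∈ Finset.univ.erase i, (θ i - θ k) := by
  rw [← Finset.mul_prod_erase Finset.univ (fun k => (X - C (θ k) : R[X])) (Finset.mem_univ i),
    derivative_mul]
  simp [eval_prod]

theorem prod_dvd (hθ : ∀ i k, i ≠ k → IsUnit (θ i - θ k)) (p : R[X])
    (hp : ∀ i, p.eval (θ i) = 0) : (∏ k, (X - C (θ k)) : R[X]) ∣ p := by
  refine Finset.prod_dvd_of_coprime (fun i _ k _ hik => ?_) (fun i _ => dvd_iff_isRoot.mpr (hp i))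
  exact isCoprime_X_sub_C_of_isUnit_sub (hθ i k hik)

theorem isUnit_c (hθ : ∀ i k, i ≠ k → IsUnit (θ i - θ k)) (i : Fin r) :
    IsUnit (∏ k ∈ Finset.univ.erase i, (θ i - θ k)) := by
  rw [IsUnit.prod_iff]
  intro k hk
  exact hθ i k (Finset.ne_of_mem_erase hk).symm

theorem exists_interp (hθ : ∀ i k, i ≠ k → IsUnit (θ i - θ k)) (m : Fin r → Fin d → R) :
    ∃ v' : Fin d → R[X], ∀ k j, (v' j).eval (θ k) = m k j := by
  have hc := isUnit_c θ hθ
  choose cu hcu using hc
  refine ⟨fun j => ∑ i, C (↑(cu i)⁻¹ * m i j) * ∏ l ∈ Finset.univ.erase i, (X - C (θ l)), ?_⟩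
  intro k j
  rw [eval_finsetSum, Finset.sum_eq_single k]
  · rw [eval_mul, eval_C, eval_prod]
    simp only [eval_sub, eval_X, eval_C]
    rw [← hcu k, mul_right_comm, Units.inv_mul, one_mul]
  · intro i _ hik
    rw [eval_mul, eval_prod,
      Finset.prod_eq_zero (Finset.mem_erase.mpr ⟨Ne.symm hik, Finset.mem_univ k⟩) (by simp),
      mul_zero]
  · intro h
    exact absurd (Finset.mem_univ k) h

end roots

theorem resolvent_bijective (Res : (Fin d → R) →ₗ[R] (Fin d → R)) (t : R)
    (h : IsUnit (Res.charpoly.eval t)) :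
    Function.Bijective (fun m : Fin d → R => t • m - Res m) := by
  rw [LinearMap.eval_charpoly, ← LinearMap.isUnit_iff_isUnit_det, Module.End.isUnit_iff] at h
  have e : (fun m : Fin d → R => t • m - Res m) =
      ⇑(algebraMap R (Module.End R (Fin d → R)) t - Res) := by
    funext m
    simp [Module.algebraMap_end_apply]
  rw [e]
  exact h

theorem eval_D₀ (Θ : R[X]) (D₀ : (Fin d → R[X]) →+ (Fin d → R[X]))
    (hD₀ : ∀ (p : R[X]) (v : Fin d → R[X]), D₀ (p • v) = (Θ * derivative p) • v + p • D₀ v)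
    (a : R) (ha : Θ.eval a = 0) (v : Fin d → R[X]) (j : Fin d) :
    (D₀ v j).eval a = (D₀ (fun j => C ((v j).eval a)) j).eval a := by
  have hu : ∀ j, ∃ u : R[X], v j - C ((v j).eval a) = (X - C a) * u :=
    fun j => X_sub_C_dvd_sub_C_eval
  choose u hu using hu
  have hv : v = (fun j => C ((v j).eval a)) + (X - C a) • u := by
    funext j
    simp only [Pi.add_apply, Pi.smul_apply, smul_eq_mul, ← hu j]
    ring
  have h1 : D₀ v = D₀ (fun j => C ((v j).eval a)) + D₀ ((X - C a) • u) := by
    conv_lhs => rw [hv]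
    rw [map_add]
  rw [h1, hD₀]
  simp [ha]

section loc

variable (Θ : R[X])

/-- coordinatewise inclusion of `R[X]^d` into `(R[X][1/Θ])^d` -/
noncomputable abbrev inc (v : Fin d → R[X]) : Fin d → Localization.Away Θ :=
  fun j => algebraMap R[X] (Localization.Away Θ) (v j)

theorem smul_inc (p : R[X]) (v : Fin d → R[X]) : p • inc Θ v = inc Θ (p • v) := by
  funext j
  change p • (algebraMap R[X] (Localization.Away Θ) (v j)) =
    algebraMap R[X] (Localization.Away Θ) (p • v j)
  rw [Algebra.smul_def, smul_eq_mul, map_mul]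

theorem inc_add (v v' : Fin d → R[X]) : inc Θ (v + v') = inc Θ v + inc Θ v' := by
  funext j
  exact map_add (algebraMap R[X] (Localization.Away Θ)) (v j) (v' j)

theorem inc_sub (v v' : Fin d → R[X]) : inc Θ (v - v') = inc Θ v - inc Θ v' := by
  funext j
  exact map_sub (algebraMap R[X] (Localization.Away Θ)) (v j) (v' j)

theorem exists_clear (w : Fin d → Localization.Away Θ) :
    ∃ (n : ℕ) (v : Fin d → R[X]), Θ ^ n • w = inc Θ v := by
  obtain ⟨⟨b, n, hn⟩, hb⟩ :=
    IsLocalization.exist_integer_multiples_of_finite (Submonoid.powers Θ) w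
  have hb' : ∀ i, ∃ x : R[X], algebraMap R[X] (Localization.Away Θ) x = b • w i := fun i => hb i
  choose v hv using hb'
  refine ⟨n, v, ?_⟩
  funext j
  simp only [Pi.smul_apply, hv j]
  rw [show Θ ^ n = b from hn]

theorem cancel (x y : Fin d → Localization.Away Θ) (h : Θ • x = Θ • y) : x = y := by
  funext j
  have h1 := congrFun h j
  simp only [Pi.smul_apply, Algebra.smul_def] at h1
  exact (IsLocalization.Away.algebraMap_isUnit (S := Localization.Away Θ) Θ).mul_left_cancel h1

theorem exists_div (n : ℕ) (v : Fin d → R[X]) :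
    ∃ w : Fin d → Localization.Away Θ, Θ ^ n • w = inc Θ v := by
  have hU : IsUnit (algebraMap R[X] (Localization.Away Θ) (Θ ^ n)) := by
    rw [map_pow]
    exact (IsLocalization.Away.algebraMap_isUnit (S := Localization.Away Θ) Θ).pow n
  obtain ⟨u, hu⟩ := hU
  refine ⟨fun j => ↑u⁻¹ * algebraMap R[X] (Localization.Away Θ) (v j), ?_⟩
  funext j
  simp only [Pi.smul_apply, Algebra.smul_def]
  rw [← hu, ← mul_assoc, Units.mul_inv, one_mul]

theorem inc_injective (hΘ : Θ.Monic) : Function.Injective (inc (d := d) Θ) := by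
  intro v v' h
  funext j
  have h1 := congrFun h j
  exact IsLocalization.injective (Localization.Away Θ)
    (Submonoid.powers_le.mpr hΘ.mem_nonZeroDivisors) h1

variable (D₀ : (Fin d → R[X]) →+ (Fin d → R[X]))
  (D : (Fin d → Localization.Away Θ) →+ (Fin d → Localization.Away Θ))
  (hD : ∀ (p : R[X]) (w : Fin d → Localization.Away Θ),
      D (p • w) = (Θ * derivative p) • w + p • D w)
  (hDD₀ : ∀ v : Fin d → R[X], D (inc Θ v) = inc Θ (D₀ v))

include hD hDD₀ in
theorem key (n : ℕ) (w₁ : Fin d → Localization.Away Θ) (v' : Fin d → R[X])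
    (h : Θ ^ (n + 1) • w₁ = inc Θ v') :
    inc Θ (D₀ v') = inc Θ ((C ((n : R) + 1) * derivative Θ) • v') + Θ ^ (n + 1) • D w₁ := by
  have h1 := hD (Θ ^ (n + 1)) w₁
  rw [h, hDD₀] at h1
  rw [h1, derivative_pow_succ]
  congr 1
  rw [← smul_inc, ← h, smul_smul]
  congr 1
  ring

end loc

section main

variable (θ : Fin r → R) (hθ : ∀ i k, i ≠ k → IsUnit (θ i - θ k))
  (Θ : R[X]) (hΘ : Θ = ∏ i, (X - C (θ i)))
  (D₀ : (Fin d → R[X]) →+ (Fin d → R[X]))
  (hD₀ : ∀ (p : R[X]) (v : Fin d → R[X]), D₀ (p • v) = (Θ * derivative p) • v + p • D₀ v)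
  (D : (Fin d → Localization.Away Θ) →+ (Fin d → Localization.Away Θ))
  (hD : ∀ (p : R[X]) (w : Fin d → Localization.Away Θ),
      D (p • w) = (Θ * derivative p) • w + p • D w)
  (hDD₀ : ∀ v : Fin d → R[X], D (inc Θ v) = inc Θ (D₀ v))
  (Res : Fin r → ((Fin d → R) →ₗ[R] (Fin d → R)))
  (hRes : ∀ (i : Fin r) (m : Fin d → R) (j : Fin d),
      (D₀ (fun j => C (m j)) j).eval (θ i) =
        (∏ k ∈ Finset.univ.erase i, (θ i - θ k)) * Res i m j)
  (hψ : ∀ (i : Fin r) (n : ℕ), IsUnit ((Res i).charpoly.eval ((n : R) + 1)))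

include hΘ hD₀ hRes in
theorem eval_D₀_full (i : Fin r) (v : Fin d → R[X]) (j : Fin d) :
    (D₀ v j).eval (θ i) =
      (∏ k ∈ Finset.univ.erase i, (θ i - θ k)) * Res i (fun j => (v j).eval (θ i)) j := by
  rw [eval_D₀ Θ D₀ hD₀ (θ i) (by rw [hΘ]; exact eval_prod_eq_zero θ i) v j, hRes]

include hθ hΘ hD₀ hD hDD₀ hRes hψ in
theorem main02 : ∀ (n : ℕ) (w : Fin d → Localization.Away Θ) (v : Fin d → R[X]),
    Θ ^ n • w = inc Θ v →
    ∃ (w' : Fin d → Localization.Away Θ) (v' : Fin d → R[X]), w = D w' + inc Θ v' := by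
  intro n
  induction n with
  | zero =>
    intro w v h
    rw [pow_zero, one_smul] at h
    exact ⟨0, v, by rw [map_zero, zero_add, h]⟩
  | succ n ih =>
    intro w v h
    have hc := isUnit_c θ hθ
    choose cu hcu using hc
    -- solve the residue equations
    have hm : ∀ i, ∃ m : Fin d → R, ((n : R) + 1) • m - Res i m =
        fun j => -(↑(cu i)⁻¹ * (v j).eval (θ i)) :=
      fun i => (resolvent_bijective (Res i) ((n : R) + 1) (hψ i n)).2 _
    choose m hm using hm
    obtain ⟨v', hv'⟩ := exists_interp θ hθ m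
    -- the correction term vanishes at all `θ i`
    have hu : ∀ j, Θ ∣ (v - D₀ v' + (C ((n : R) + 1) * derivative Θ) • v') j := by
      intro j
      rw [hΘ]
      refine prod_dvd θ hθ _ (fun i => ?_)
      have e1 := eval_D₀_full θ Θ hΘ D₀ hD₀ Res hRes i v' j
      have e2 : (fun j => (v' j).eval (θ i)) = m i := funext (hv' i)
      rw [e2] at e1
      have e3 := congrFun (hm i) j
      simp only [Pi.sub_apply, Pi.smul_apply, smul_eq_mul] at e3
      simp only [Pi.add_apply, Pi.sub_apply, Pi.smul_apply, smul_eq_mul, eval_add, eval_sub,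
        eval_mul, eval_C]
      rw [← hΘ, e1, hv' i j]
      have e4 : (derivative Θ).eval (θ i) = ∏ k ∈ Finset.univ.erase i, (θ i - θ k) := by
        rw [hΘ]
        exact eval_derivative_prod θ i
      rw [e4, ← hcu i]
      have e5 : (cu i : R) * (↑(cu i)⁻¹ * (v j).eval (θ i)) = (v j).eval (θ i) := by
        rw [← mul_assoc, Units.mul_inv, one_mul]
      linear_combination (cu i : R) * e3 - e5
    choose v'' hv'' using hu
    obtain ⟨w₁, hw₁⟩ := exists_div Θ (n + 1) v'
    have hk := key Θ D₀ D hD hDD₀ n w₁ v' hw₁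
    have h2 : Θ ^ n • (w - D w₁) = inc Θ v'' := by
      apply cancel Θ
      rw [smul_smul, ← pow_succ', smul_sub, h, smul_inc]
      have e6 : Θ • v'' = v - D₀ v' + (C ((n : R) + 1) * derivative Θ) • v' := by
        funext j
        rw [hv'' j]
        rfl
      rw [e6, inc_add, inc_sub, hk]
      abel
    obtain ⟨w₂, v₃, h3⟩ := ih (w - D w₁) v'' h2
    refine ⟨w₁ + w₂, v₃, ?_⟩
    rw [map_add, add_assoc, ← h3]
    abel

include hθ hΘ hD₀ hD hDD₀ hRes hψ in
theorem main03 : ∀ (n : ℕ) (f : Fin d → Localization.Away Θ) (v : Fin d → R[X]),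
    Θ ^ n • f = inc Θ v → (∃ v₀ : Fin d → R[X], D f = inc Θ v₀) →
    ∃ v' : Fin d → R[X], f = inc Θ v' := by
  intro n
  induction n with
  | zero =>
    intro f v h _
    rw [pow_zero, one_smul] at h
    exact ⟨v, h⟩
  | succ n ih =>
    intro f v h hf
    obtain ⟨v₀, hv₀⟩ := hf
    have hmonic : Θ.Monic := by
      rw [hΘ]
      exact monic_prod_of_monic _ _ (fun i _ => monic_X_sub_C _)
    have hk := key Θ D₀ D hD hDD₀ n f v h
    rw [hv₀, smul_inc, ← inc_add] at hk
    have hk' := inc_injective Θ hmonic hk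
    have hc := isUnit_c θ hθ
    choose cu hcu using hc
    have hu : ∀ j, Θ ∣ v j := by
      intro j
      rw [hΘ]
      refine prod_dvd θ hθ _ (fun i => ?_)
      have hz : (fun j => (v j).eval (θ i)) = 0 := by
        apply (resolvent_bijective (Res i) ((n : R) + 1) (hψ i n)).1
        simp only [smul_zero, map_zero, sub_zero]
        funext l
        have e1 := eval_D₀_full θ Θ hΘ D₀ hD₀ Res hRes i v l
        have e2 := congrArg (fun p => eval (θ i) p) (congrFun hk' l)
        simp only [Pi.add_apply, Pi.smul_apply, smul_eq_mul, eval_add, eval_mul, eval_C,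
          eval_pow] at e2
        have e4 : (derivative Θ).eval (θ i) = ∏ k ∈ Finset.univ.erase i, (θ i - θ k) := by
          rw [hΘ]
          exact eval_derivative_prod θ i
        have e0 : Θ.eval (θ i) = 0 := by
          rw [hΘ]
          exact eval_prod_eq_zero θ i
        rw [e1, e4, e0, zero_pow (Nat.succ_ne_zero n), zero_mul, add_zero, ← hcu i] at e2
        simp only [Pi.sub_apply, Pi.smul_apply, smul_eq_mul, Pi.zero_apply]
        have e5 : (cu i : R) * (((n : R) + 1) * (v l).eval (θ i) -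
            Res i (fun j => (v j).eval (θ i)) l) = 0 := by
          linear_combination -e2
        exact (cu i).isUnit.mul_right_eq_zero.mp e5
      exact congrFun hz j
    choose v'' hv'' using hu
    have h2 : Θ ^ n • f = inc Θ v'' := by
      apply cancel Θ
      rw [smul_smul, ← pow_succ', h, smul_inc]
      congr 1
      funext j
      rw [hv'' j]
      rfl
    exact ih f v'' h2 ⟨v₀, hv₀⟩

end main

end Groth.Agent.Lib.helper13.LogConn
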