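import Groth.Prelude.Def_LambdaSp
import Groth.Agent.Lib.helper13.LamSeries
import Mathlib

/-!
Logarithmic derivative of `λ_t(x)` and the differential equation `F' = F * P` over a ℚ-algebra
(helper13's helper library, used for S8702, S8703).
-/

set_option autoImplicit false
universe u

namespace Groth.Agent.Lib.helper13.LogDeriv

open LambdaRing PowerSeries Finset
open Groth.Agent.Lib.helper13.Lam

section ODE

variable {K : Type u} [CommRing K] [Algebra ℚ K]

theorem isUnit_natCast_succ (n : ℕ) : IsUnit ((n : K) + 1) := by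
  have h : ((n : K) + 1) = algebraMap ℚ K ((n : ℚ) + 1) := by simp
  rw [h]
  exact (IsUnit.mk0 _ (by positivity)).map _

/-- Uniqueness of solutions of `F' = F * P` with prescribed constant coefficient. -/
theorem ode_unique {F G P : K⟦X⟧}
    (h0 : constantCoeff F = constantCoeff G) (hF : d⁄dX K F = F * P) (hG : d⁄dX K G = G * P) :
    F = G := by
  ext n
  induction n using Nat.strong_induction_on with
  | _ n ih =>
    cases n with
    | zero => simpa using h0
    | succ n =>
      have h1 := congrArg (coeff n) hF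
      have h2 := congrArg (coeff n) hG
      rw [coeff_derivative, coeff_mul] at h1 h2
      have hsum : ∑ p ∈ antidiagonal n, coeff p.1 F * coeff p.2 P =
          ∑ p ∈ antidiagonal n, coeff p.1 G * coeff p.2 P := by
        apply Finset.sum_congr rfl
        intro p hp
        rw [ih p.1 (by have := Finset.HasAntidiagonal.mem_antidiagonal.mp hp; omega)]
      rw [hsum, ← h2] at h1
      exact (isUnit_natCast_succ (K := K) n).mul_left_injective h1

/-- Coefficients of the solution of `F' = F * P`, `F(0) = 1`. -/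
noncomputable def odeCoeff (p : ℕ → K) : ℕ → K
  | 0 => 1
  | n + 1 => algebraMap ℚ K (1 / ((n : ℚ) + 1)) * ∑ i : Fin (n + 1), odeCoeff p i * p (n - i)
decreasing_by exact i.isLt

theorem odeCoeff_zero (p : ℕ → K) : odeCoeff p 0 = 1 := by
  rw [odeCoeff]

theorem odeCoeff_succ (p : ℕ → K) (n : ℕ) :
    odeCoeff p (n + 1) =
      algebraMap ℚ K (1 / ((n : ℚ) + 1)) * ∑ i ∈ range (n + 1), odeCoeff p i * p (n - i) := by
  rw [odeCoeff, Finset.sum_range]

/-- The solution of `F' = F * P` with constant coefficient `1`. -/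
noncomputable def odeSol (P : K⟦X⟧) : K⟦X⟧ := PowerSeries.mk (odeCoeff fun n => coeff n P)

theorem constantCoeff_odeSol (P : K⟦X⟧) : constantCoeff (odeSol P) = 1 := by
  rw [← coeff_zero_eq_constantCoeff_apply, odeSol, coeff_mk, odeCoeff_zero]

theorem coeff_zero_odeSol (P : K⟦X⟧) : coeff 0 (odeSol P) = 1 := by
  rw [odeSol, coeff_mk, odeCoeff_zero]

theorem derivative_odeSol (P : K⟦X⟧) : d⁄dX K (odeSol P) = odeSol P * P := by
  ext n
  rw [coeff_derivative, coeff_mul, Finset.Nat.sum_antidiagonal_eq_sum_range_succ_mk, odeSol,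
    coeff_mk, odeCoeff_succ]
  simp only [coeff_mk]
  have h : algebraMap ℚ K (1 / ((n : ℚ) + 1)) * ((n : K) + 1) = 1 := by
    have h' : ((n : K) + 1) = algebraMap ℚ K ((n : ℚ) + 1) := by simp
    rw [h', ← map_mul, one_div, inv_mul_cancel₀ (by positivity), map_one]
  rw [mul_comm (algebraMap ℚ K _), mul_assoc, h, mul_one]

end ODE

section LogDeriv

variable {K : Type u} [CommRing K] [LambdaOps K]

theorem lamSeries_mul_invOfUnit (x : K) : lamSeries x * (lamSeries x).invOfUnit 1 = 1 :=
  PowerSeries.mul_invOfUnit _ _ (by simp [constantCoeff_lamSeries])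

theorem derivative_lamSeries (x : K) :
    d⁄dX K (lamSeries x) = lamSeries x * logDerivSeries x := by
  unfold logDerivSeries
  rw [mul_comm (d⁄dX K (lamSeries x)), ← mul_assoc, lamSeries_mul_invOfUnit, one_mul]

theorem adamsOp_succ (k : ℕ) (x : K) :
    adamsOp (k + 1) x = (-1) ^ k * coeff k (logDerivSeries x) := rfl

theorem coeff_logDerivSeries (k : ℕ) (x : K) :
    coeff k (logDerivSeries x) = (-1) ^ k * adamsOp (k + 1) x := by
  rw [adamsOp_succ, ← mul_assoc, ← pow_add, ← two_mul, pow_mul]
  simp

/-- If `λ_t(x) = F` where `F' = F * P`, then the log-derivative series is `P`. -/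
theorem logDerivSeries_eq_of_derivative {x : K} {P : K⟦X⟧}
    (h : d⁄dX K (lamSeries x) = lamSeries x * P) : logDerivSeries x = P := by
  unfold logDerivSeries
  rw [h, mul_comm (lamSeries x), mul_assoc, lamSeries_mul_invOfUnit, mul_one]

end LogDeriv

end Groth.Agent.Lib.helper13.LogDeriv
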