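import Groth.Agent.Lib.helper13.LogTrunc
import Groth.Agent.Lib.helper5.Adams

/-!
`log u` is an eigenvector of `ψ^j` for a line element `u` (S8132).
-/

set_option autoImplicit false
universe u

namespace Groth.Agent.Lib.helper13.LogEigen

open Finset TensorProduct LambdaRing

variable {K : Type u} [CommRing K] [LambdaOps K] (P : PosStructure K)

theorem gamma_one (x : K) : gamma 1 x = x := by
  simp [gamma, Finset.sum_range_succ, LambdaOps.lam_one]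

theorem pow_sub_one_mem {u : K} (hu : P.IsLine u) (N n : ℕ) (hN : N ≤ n) :
    (u - 1) ^ n ∈ gammaFiltration P N := by
  unfold gammaFiltration
  split_ifs with h0
  · exact AddSubgroup.mem_top _
  · refine AddSubgroup.subset_closure ⟨List.replicate n (1, u - 1), ?_, ?_, ?_⟩
    · intro p hp
      rw [List.eq_of_mem_replicate hp]
      simp [hu.2]
    · simp [hN]
    · simp [gamma_one]

theorem main (hK : HasSplitting K P) (d : ℕ) (hd : gammaFiltration P (d + 1) = ⊥)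
    (j : ℕ) (Ψ : ℚ ⊗[ℤ] K →ₗ[ℚ] ℚ ⊗[ℤ] K)
    (hΨ : ∀ x : K, Ψ (1 ⊗ₜ[ℤ] x) = 1 ⊗ₜ[ℤ] adams P j x)
    (u : K) (hu : P.IsLine u) :
    (∑ n ∈ range (d + 1), ((-1 : ℚ) ^ n / ((n : ℚ) + 1)) ⊗ₜ[ℤ] ((u - 1) ^ (n + 1))) ∈
        Module.End.eigenspace Ψ (j : ℚ) ∧
      (∑ n ∈ range (d + 1), ((-1 : ℚ) ^ n / ((n : ℚ) + 1)) ⊗ₜ[ℤ] ((u - 1) ^ (n + 1))) -
          (1 : ℚ) ⊗ₜ[ℤ] (u - 1) ∈
        Submodule.span ℚ ((fun x : K => (1 : ℚ) ⊗ₜ[ℤ] x) '' (gammaFiltration P 2 : Set K)) := by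
  have hpow0 : (u - 1) ^ (d + 1) = 0 := by
    have := pow_sub_one_mem P hu (d + 1) (d + 1) le_rfl
    rwa [hd, AddSubgroup.mem_bot] at this
  obtain ⟨a, ha⟩ : ∃ a : ℚ ⊗[ℤ] K, a = (1 : ℚ) ⊗ₜ[ℤ] (u - 1) := ⟨_, rfl⟩
  have hterm : ∀ (c : ℚ) (x : K), c ⊗ₜ[ℤ] x = c • ((1 : ℚ) ⊗ₜ[ℤ] x) := by
    intro c x
    rw [TensorProduct.smul_tmul', smul_eq_mul, mul_one]
  have hpw : ∀ (x : K) (n : ℕ), ((1 : ℚ) ⊗ₜ[ℤ] x) ^ n = (1 : ℚ) ⊗ₜ[ℤ] (x ^ n) := by
    intro x n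
    rw [Algebra.TensorProduct.tmul_pow, one_pow]
  have hnil : a ^ (d + 1) = 0 := by
    rw [ha, hpw, hpow0, TensorProduct.tmul_zero]
  have h1a : (1 + a) ^ j - 1 = (1 : ℚ) ⊗ₜ[ℤ] (u ^ j - 1) := by
    have e1 : (1 : ℚ ⊗[ℤ] K) + a = (1 : ℚ) ⊗ₜ[ℤ] u := by
      rw [ha, Algebra.TensorProduct.one_def, ← TensorProduct.tmul_add]
      congr 1
      ring
    rw [e1, hpw, TensorProduct.tmul_sub, Algebra.TensorProduct.one_def]
  have hadams : ∀ n : ℕ, adams P j ((u - 1) ^ n) = (u ^ j - 1) ^ n := by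
    intro n
    have h := map_pow (Groth.Agent.H5.Adams.adamsRingHom P hK j) (u - 1) n
    have h2 := map_sub (Groth.Agent.H5.Adams.adamsRingHom P hK j) u 1
    have h3 := map_one (Groth.Agent.H5.Adams.adamsRingHom P hK j)
    have e : ∀ x, Groth.Agent.H5.Adams.adamsRingHom P hK j x = adams P j x := fun _ => rfl
    rw [e, e] at h
    rw [e, e, e] at h2
    rw [e] at h3
    rw [h, h2, h3, Groth.Agent.H5.Adams.adams_of_isLine P u hu j]
  have hΨterm : ∀ n : ℕ, Ψ (((-1 : ℚ) ^ n / ((n : ℚ) + 1)) ⊗ₜ[ℤ] ((u - 1) ^ (n + 1))) =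
      ((-1 : ℚ) ^ n / ((n : ℚ) + 1)) • ((1 + a) ^ j - 1) ^ (n + 1) := by
    intro n
    rw [hterm, map_smul, hΨ, hadams, h1a, hpw]
  constructor
  · rw [Module.End.mem_eigenspace_iff, map_sum, Finset.sum_congr rfl (fun n _ => hΨterm n),
      LogTrunc.log_identity a d j hnil]
    congr 1
    refine Finset.sum_congr rfl (fun n _ => ?_)
    rw [hterm, ha, hpw]
  · rw [Finset.sum_range_succ', pow_zero, Nat.cast_zero, zero_add, div_one, zero_add, pow_one,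
      add_sub_cancel_right]
    refine Submodule.sum_mem _ (fun n _ => ?_)
    rw [hterm]
    refine Submodule.smul_mem _ _ (Submodule.subset_span ⟨(u - 1) ^ (n + 1 + 1), ?_, rfl⟩)
    exact pow_sub_one_mem P hu 2 (n + 1 + 1) (by omega)

end Groth.Agent.Lib.helper13.LogEigen
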