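import Mathlib

/-!
The truncated logarithm `L(y) = ∑_{n ≤ d} (-1)^n y^(n+1)/(n+1)` and the identity
`L((1+x)^j - 1) ≡ j L(x) mod x^(d+1)` (used for S8132).
-/

set_option autoImplicit false

namespace Groth.Agent.Lib.helper13.LogTrunc

open Polynomial Finset

/-- truncated logarithm polynomial in `y` -/
noncomputable def Lg (d : ℕ) (y : ℚ[X]) : ℚ[X] :=
  ∑ n ∈ range (d + 1), C ((-1 : ℚ) ^ n / ((n : ℚ) + 1)) * y ^ (n + 1)

theorem derivative_Lg (d : ℕ) (y : ℚ[X]) :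
    derivative (Lg d y) = (∑ n ∈ range (d + 1), (-y) ^ n) * derivative y := by
  unfold Lg
  rw [derivative_sum, Finset.sum_mul]
  refine Finset.sum_congr rfl (fun n _ => ?_)
  rw [derivative_mul, derivative_C, zero_mul, zero_add, derivative_pow_succ]
  have h : C ((-1 : ℚ) ^ n / ((n : ℚ) + 1)) * C ((n : ℚ) + 1) = (-1 : ℚ[X]) ^ n := by
    rw [← C_mul, div_mul_cancel₀ _ (by positivity : ((n : ℚ) + 1) ≠ 0), C_pow, C_neg, C_1]
  rw [neg_pow y n, ← h]
  simp only [Nat.cast_add, Nat.cast_one, map_add, map_natCast, map_one]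
  ring

theorem one_add_mul_geom (d : ℕ) (y : ℚ[X]) :
    (1 + y) * ∑ n ∈ range (d + 1), (-y) ^ n = 1 - (-y) ^ (d + 1) := by
  have := mul_neg_geom_sum (-y) (d + 1)
  rwa [sub_neg_eq_add] at this

theorem main_poly (d j : ℕ) :
    (X : ℚ[X]) ^ (d + 1) ∣ Lg d ((1 + X) ^ j - 1) - C (j : ℚ) * Lg d X := by
  obtain ⟨y, hy⟩ : ∃ y : ℚ[X], y = (1 + X) ^ j - 1 := ⟨_, rfl⟩
  rw [← hy]
  have hy1 : 1 + y = (1 + X) ^ j := by rw [hy]; ring
  have hX1 : (1 + X : ℚ[X]) ≠ 0 := by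
    intro h0
    have := congrArg (eval 0) h0
    simp at this
  have hy' : (1 + X) * derivative y = C (j : ℚ) * (1 + y) := by
    rw [hy1, hy, derivative_sub, derivative_one, sub_zero]
    rcases j with _ | j'
    · simp
    · rw [derivative_pow_succ, derivative_add, derivative_one, derivative_X, zero_add, mul_one,
        pow_succ]
      simp only [Nat.cast_add, Nat.cast_one, map_add, map_natCast, map_one]
      ring
  have h1 : (1 + y) * ((1 + X) * derivative (Lg d y)) =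
      (1 + y) * (C (j : ℚ) * (1 - (-y) ^ (d + 1))) := by
    rw [derivative_Lg, ← one_add_mul_geom d y]
    linear_combination ((1 + y) * ∑ n ∈ range (d + 1), (-y) ^ n) * hy'
  have hy0 : (1 + y) ≠ 0 := by
    rw [hy1]
    exact pow_ne_zero _ hX1
  have h2 := mul_left_cancel₀ hy0 h1
  have h3 : (1 + X) * derivative (Lg d X) = 1 - (-X) ^ (d + 1) := by
    rw [derivative_Lg, derivative_X, mul_one, one_add_mul_geom]
  obtain ⟨F, hF⟩ : ∃ F : ℚ[X], F = Lg d y - C (j : ℚ) * Lg d X := ⟨_, rfl⟩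
  rw [← hF]
  have h4 : (1 + X) * derivative F = C (j : ℚ) * ((-X) ^ (d + 1) - (-y) ^ (d + 1)) := by
    rw [hF, derivative_sub, derivative_mul, derivative_C, zero_mul, zero_add]
    linear_combination h2 - C (j : ℚ) * h3
  have hXy : (X : ℚ[X]) ∣ y := by
    rw [X_dvd_iff, coeff_zero_eq_eval_zero, hy]
    simp
  have h5 : (X : ℚ[X]) ^ (d + 1) ∣ (1 + X) * derivative F := by
    rw [h4]
    refine Dvd.dvd.mul_left (dvd_sub ?_ ?_) _
    · rw [neg_pow]
      exact Dvd.intro_left _ rfl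
    · rw [neg_pow]
      exact Dvd.dvd.mul_left (pow_dvd_pow_of_dvd hXy _) _
  have hcop : IsCoprime ((X : ℚ[X]) ^ (d + 1)) (1 + X) :=
    IsCoprime.pow_left ⟨-1, 1, by ring⟩
  have h6 : (X : ℚ[X]) ^ (d + 1) ∣ derivative F := hcop.dvd_of_dvd_mul_left h5
  have h7 : F.coeff 0 = 0 := by
    rw [coeff_zero_eq_eval_zero, hF, hy]
    unfold Lg
    simp [eval_finsetSum]
  have h8 : (X : ℚ[X]) ^ (d + 2) ∣ F := by
    rw [X_pow_dvd_iff]
    intro n hn
    rcases n with _ | m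
    · exact h7
    · have hm := (X_pow_dvd_iff.mp h6) m (by omega)
      rw [coeff_derivative] at hm
      have hne : ((m : ℚ) + 1) ≠ 0 := by positivity
      exact (mul_eq_zero.mp hm).resolve_right hne
  exact (pow_dvd_pow _ (Nat.le_succ _)).trans h8

variable {A : Type*} [CommRing A] [Algebra ℚ A]

theorem aeval_Lg (a : A) (d : ℕ) (y : ℚ[X]) :
    aeval a (Lg d y) =
      ∑ n ∈ range (d + 1), ((-1 : ℚ) ^ n / ((n : ℚ) + 1)) • (aeval a y) ^ (n + 1) := by
  unfold Lg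
  rw [map_sum]
  refine Finset.sum_congr rfl (fun n _ => ?_)
  rw [map_mul, aeval_C, map_pow, Algebra.smul_def]

/-- the logarithm identity for a nilpotent element -/
theorem log_identity (a : A) (d j : ℕ) (ha : a ^ (d + 1) = 0) :
    ∑ n ∈ range (d + 1), ((-1 : ℚ) ^ n / ((n : ℚ) + 1)) • ((1 + a) ^ j - 1) ^ (n + 1) =
      (j : ℚ) • ∑ n ∈ range (d + 1), ((-1 : ℚ) ^ n / ((n : ℚ) + 1)) • a ^ (n + 1) := by
  obtain ⟨Q, hQ⟩ := main_poly d j
  have h := congrArg (aeval a) hQ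
  rw [map_sub, map_mul, aeval_C, aeval_Lg, aeval_Lg, map_mul, map_pow, aeval_X, ha, zero_mul,
    sub_eq_zero] at h
  simp only [map_sub, map_pow, map_add, map_one, aeval_X] at h
  rw [h, Algebra.smul_def]

end Groth.Agent.Lib.helper13.LogTrunc
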