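import Mathlib
import Groth.Prelude.Def_W4c3cyccovratcurvTree

/-!
# Marked trees and conic deformations (helper13)

Trees presented by parent functions; slides; all marked trees on `n` vertices are connected
by conic deformations to the star with all marks at the centre.
-/

set_option autoImplicit false

namespace Groth.Agent.Lib.helper13.MTree

open W4c3cyccovratcurv SimpleGraph

variable {V : Type*}

/-- the graph of a parent function -/
def pg (par : V → V) (r : V) : SimpleGraph V :=
  SimpleGraph.fromRel (fun a b => a ≠ r ∧ par a = b)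

lemma pg_adj {par : V → V} {r a b : V} :
    (pg par r).Adj a b ↔ a ≠ b ∧ ((a ≠ r ∧ par a = b) ∨ (b ≠ r ∧ par b = a)) := by
  simp [pg, SimpleGraph.fromRel_adj]

lemma pg_reachable {par : V → V} {r : V} {rank : V → ℕ}
    (h : ∀ v, v ≠ r → rank (par v) < rank v) (v : V) : (pg par r).Reachable v r := by
  induction' hn : rank v using Nat.strong_induction_on with n ih generalizing v
  by_cases hv : v = r
  · subst hv; exact Reachable.refl _
  · have hadj : (pg par r).Adj v (par v) := by
      refine pg_adj.mpr ⟨fun e => ?_, Or.inl ⟨hv, rfl⟩⟩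
      have := h v hv
      rw [← e] at this
      exact lt_irrefl _ this
    exact hadj.reachable.trans (ih _ (hn ▸ h v hv) (par v) rfl)

lemma pg_connected {par : V → V} {r : V} {rank : V → ℕ}
    (h : ∀ v, v ≠ r → rank (par v) < rank v) : (pg par r).Connected := by
  have : Nonempty V := ⟨r⟩
  exact (connected_iff _).mpr ⟨fun a b => (pg_reachable h a).trans (pg_reachable h b).symm, ⟨r⟩⟩

lemma pg_isTree [Finite V] {par : V → V} {r : V} {rank : V → ℕ}
    (h : ∀ v, v ≠ r → rank (par v) < rank v) : (pg par r).IsTree := by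
  classical
  rw [isTree_iff_connected_and_card]
  refine ⟨pg_connected h, ?_⟩
  have hc := (pg_connected h).card_vert_le_card_edgeSet_add_one
  have hsub : (pg par r).edgeSet ⊆ (fun v => s(v, par v)) '' ({r}ᶜ : Set V) := by
    intro e he
    induction e using Sym2.ind with | _ a b =>
    rw [mem_edgeSet, pg_adj] at he
    rcases he.2 with ⟨ha, rfl⟩ | ⟨hb, rfl⟩
    · exact ⟨a, ha, rfl⟩
    · exact ⟨b, hb, Sym2.eq_swap⟩
  have h1 : (pg par r).edgeSet.ncard ≤ ({r}ᶜ : Set V).ncard :=
    (Set.ncard_le_ncard hsub (Set.toFinite _)).trans (Set.ncard_image_le (Set.toFinite _))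
  have h2 := Set.ncard_add_ncard_compl ({r} : Set V)
  rw [Set.ncard_singleton] at h2
  rw [_root_.Nat.card_coe_set_eq] at hc ⊢
  omega

lemma exists_par [Finite V] {T : SimpleGraph V} (hT : T.IsTree) (r : V) :
    ∃ (par : V → V) (rank : V → ℕ), (∀ v, v ≠ r → rank (par v) < rank v) ∧ T = pg par r := by
  classical
  have hex : ∀ v, v ≠ r → ∃ w, T.Adj v w ∧ T.dist w r + 1 = T.dist v r := by
    intro v hv
    obtain ⟨p, hp⟩ := hT.connected.exists_walk_length_eq_dist v r
    cases p with
    | nil => exact absurd rfl hv
    | cons hadj q =>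
      rename_i w
      refine ⟨w, hadj, ?_⟩
      have h1 : T.dist w r ≤ q.length := dist_le q
      have h2 : T.dist v r ≤ T.dist v w + T.dist w r := hT.connected.dist_triangle
      have h3 : T.dist v w = 1 := dist_eq_one_iff_adj.mpr hadj
      simp only [Walk.length_cons] at hp
      omega
  choose! par hpar using hex
  have hinv : ∀ v, v ≠ r → T.dist (par v) r < T.dist v r := fun v hv => by
    have := (hpar v hv).2; omega
  refine ⟨par, fun v => T.dist v r, hinv, ?_⟩
  have hle : pg par r ≤ T := by
    intro a b hab
    rw [pg_adj] at hab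
    rcases hab.2 with ⟨ha, rfl⟩ | ⟨hb, rfl⟩
    · exact (hpar a ha).1
    · exact (hpar b hb).1.symm
  have hmin := isTree_iff_minimal_connected.mp hT
  exact le_antisymm (hmin.le_of_le (pg_connected (rank := fun v => T.dist v r) hinv) hle) hle

end Groth.Agent.Lib.helper13.MTree
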