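import Groth.Agent.Lib.helper13.MTree

/-!
# Marked trees and conic deformations, part 2 (helper13)
-/

set_option autoImplicit false

namespace Groth.Agent.Lib.helper13.MTree

open W4c3cyccovratcurv SimpleGraph

/-- the collapsed parent function -/
def qf {n : ℕ} (par : Fin n → Fin n) (u w : Fin n) (v : Fin n) : Fin n :=
  if par v = w then u else par v

lemma contract_adj {n : ℕ} (G : SimpleGraph (Fin n)) (u w : Fin n) (a b : {v : Fin n // v ≠ w}) :
    (contract G u w).Adj a b ↔ a ≠ b ∧ ((G.Adj a.1 b.1 ∨ (a.1 = u ∧ G.Adj w b.1)) ∨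
      (G.Adj b.1 a.1 ∨ (b.1 = u ∧ G.Adj w a.1))) := by
  simp [contract, SimpleGraph.fromRel_adj]

lemma contract_pg {n : ℕ} (par : Fin n → Fin n) (r w : Fin n) (_hw : w ≠ r) (_hne : par w ≠ w) :
    contract (pg par r) (par w) w =
      SimpleGraph.fromRel (fun a b : {v : Fin n // v ≠ w} =>
        a.1 ≠ r ∧ qf par (par w) w a.1 = b.1) := by
  ext a b
  rw [contract_adj, SimpleGraph.fromRel_adj]
  have hab : a ≠ b ↔ a.1 ≠ b.1 := by
    constructor
    · intro h e; exact h (Subtype.ext e)
    · intro h e; exact h (congrArg Subtype.val e)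
  obtain ⟨a, ha⟩ := a
  obtain ⟨b, hb⟩ := b
  simp only [hab, pg_adj, qf]
  constructor
  · rintro ⟨hne', h⟩
    refine ⟨hne', ?_⟩
    rcases h with (h | ⟨rfl, h⟩) | (h | ⟨rfl, h⟩)
    · rcases h.2 with ⟨h1, h2⟩ | ⟨h1, h2⟩
      · left; refine ⟨h1, ?_⟩; rw [if_neg (by rw [h2]; exact hb)]; exact h2
      · right; refine ⟨h1, ?_⟩; rw [if_neg (by rw [h2]; exact ha)]; exact h2
    · rcases h.2 with ⟨_, h2⟩ | ⟨h1, h2⟩
      · exact absurd h2 hne'
      · right; exact ⟨h1, by rw [if_pos h2]⟩
    · rcases h.2 with ⟨h1, h2⟩ | ⟨h1, h2⟩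
      · right; refine ⟨h1, ?_⟩; rw [if_neg (by rw [h2]; exact ha)]; exact h2
      · left; refine ⟨h1, ?_⟩; rw [if_neg (by rw [h2]; exact hb)]; exact h2
    · rcases h.2 with ⟨_, h2⟩ | ⟨h1, h2⟩
      · exact absurd h2.symm hne'
      · left; exact ⟨h1, by rw [if_pos h2]⟩
  · rintro ⟨hne', h⟩
    refine ⟨hne', ?_⟩
    rcases h with ⟨h1, h2⟩ | ⟨h1, h2⟩
    · by_cases hp : par a = w
      · rw [if_pos hp] at h2
        right; right
        exact ⟨h2.symm, Ne.symm ha, Or.inr ⟨h1, hp⟩⟩
      · rw [if_neg hp] at h2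
        left; left
        exact ⟨hne', Or.inl ⟨h1, h2⟩⟩
    · by_cases hp : par b = w
      · rw [if_pos hp] at h2
        left; right
        exact ⟨h2.symm, Ne.symm hb, Or.inr ⟨h1, hp⟩⟩
      · rw [if_neg hp] at h2
        right; left
        exact ⟨Ne.symm hne', Or.inl ⟨h1, h2⟩⟩

lemma isoOfEq {W : Type*} {G G' : SimpleGraph W} (h : G = G') :
    ∃ φ : G ≃g G', ∀ v, φ v = v := by
  subst h; exact ⟨Iso.refl, fun _ => rfl⟩

lemma conicAdj_of_eq {n k : ℕ} {G G' : SimpleGraph (Fin n)} (hG : G.IsTree) (hG' : G'.IsTree)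
    (m m' : Fin k → Fin n) (u w : Fin n) (h₁ : G.Adj u w) (h₂ : G'.Adj u w)
    (heq : contract G u w = contract G' u w)
    (hm : ∀ i, contractMark m u w h₁.ne i = contractMark m' u w h₂.ne i) :
    ConicAdj ⟨n, G, hG, m⟩ ⟨n, G', hG', m'⟩ := by
  obtain ⟨φ, hφ⟩ := isoOfEq heq
  exact ⟨u, w, u, w, h₁, h₂, φ, hφ _, fun i => by rw [hφ]; exact hm i⟩

lemma conicAdj_symm {k : ℕ} : ∀ T₁ T₂ : MarkedTree k, ConicAdj T₁ T₂ → ConicAdj T₂ T₁ := by
  rintro T₁ T₂ ⟨u₁, w₁, u₂, w₂, h₁, h₂, φ, hu, hm⟩
  refine ⟨u₂, w₂, u₁, w₁, h₂, h₁, φ.symm, ?_, fun i => ?_⟩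
  · rw [← hu, φ.symm_apply_apply]
  · rw [← hm i, φ.symm_apply_apply]

lemma rtg_symm {k : ℕ} {a b : MarkedTree k} (h : Relation.ReflTransGen ConicAdj a b) :
    Relation.ReflTransGen ConicAdj b a := by
  induction h with
  | refl => exact Relation.ReflTransGen.refl
  | tail _ hbc ih => exact Relation.ReflTransGen.head (conicAdj_symm _ _ hbc) ih

lemma mk_congr {n k : ℕ} {G G' : SimpleGraph (Fin n)} (hG : G.IsTree) (hG' : G'.IsTree)
    (m : Fin k → Fin n) (h : G = G') :
    (⟨n, G, hG, m⟩ : MarkedTree k) = ⟨n, G', hG', m⟩ := by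
  subst h; rfl

/-- the star is a tree -/
lemma star_isTree {n : ℕ} (r : Fin n) : (pg (fun _ : Fin n => r) r).IsTree := by
  refine pg_isTree (rank := fun v : Fin n => if v = r then 0 else 1) (par := fun _ => r) ?_
  intro v hv
  simp [hv]

/-- sliding down to the star -/
theorem slide_chain {n k : ℕ} (r : Fin n) (rank : Fin n → ℕ) (m : Fin k → Fin n) :
    ∀ (N : ℕ) (par : Fin n → Fin n) (hinv : ∀ v, v ≠ r → rank (par v) < rank v),
      (∑ v, rank (par v)) = N →
      Relation.ReflTransGen ConicAdj (⟨n, pg par r, pg_isTree hinv, m⟩ : MarkedTree k)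
        ⟨n, pg (fun _ => r) r, star_isTree r, m⟩ := by
  intro N
  induction N using Nat.strong_induction_on with
  | _ N ih =>
    intro par hinv hN
    by_cases hex : ∃ x, x ≠ r ∧ par x ≠ r
    · obtain ⟨x, hx, hwr⟩ := hex
      set w := par x with hwdef
      set u := par w with hudef
      have hwx : w ≠ x := fun e => by
        have := hinv x hx; rw [← hwdef, e] at this; exact lt_irrefl _ this
      have huw : u ≠ w := fun e => by
        have := hinv w hwr; rw [← hudef, e] at this; exact lt_irrefl _ this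
      set par' := Function.update par x u with hpar'
      have hp'w : par' w = u := by rw [hpar', Function.update_of_ne hwx]
      have hp'x : par' x = u := by rw [hpar', Function.update_self]
      have hinv' : ∀ v, v ≠ r → rank (par' v) < rank v := by
        intro v hv
        by_cases hvx : v = x
        · subst hvx
          rw [hp'x]
          exact (hinv w hwr).trans (hinv v hv)
        · rw [hpar', Function.update_of_ne hvx]; exact hinv v hv
      have hlt : (∑ v, rank (par' v)) < N := by
        rw [← hN]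
        refine Finset.sum_lt_sum (fun v _ => ?_) ⟨x, Finset.mem_univ _, ?_⟩
        · by_cases hvx : v = x
          · subst hvx; rw [hp'x]; exact (hinv w hwr).le
          · rw [hpar', Function.update_of_ne hvx]
        · rw [hp'x]; exact hinv w hwr
      have hq : qf par u w = qf par' u w := by
        funext v
        by_cases hvx : v = x
        · subst hvx
          rw [qf, qf, hp'x, if_pos hwdef.symm, if_neg huw]
        · rw [qf, qf, hpar', Function.update_of_ne hvx]
      have heq : contract (pg par r) u w = contract (pg par' r) u w := by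
        have e1 := contract_pg par r w hwr huw
        have e2 := contract_pg par' r w hwr (by rw [hp'w]; exact huw)
        rw [hp'w] at e2
        rw [e1, e2, hq]
      have hadj1 : (pg par r).Adj u w := pg_adj.mpr ⟨huw, Or.inr ⟨hwr, rfl⟩⟩
      have hadj2 : (pg par' r).Adj u w := pg_adj.mpr ⟨huw, Or.inr ⟨hwr, hp'w⟩⟩
      have hstep : ConicAdj (⟨n, pg par r, pg_isTree hinv, m⟩ : MarkedTree k)
          ⟨n, pg par' r, pg_isTree hinv', m⟩ :=
        conicAdj_of_eq _ _ m m u w hadj1 hadj2 heq (fun i => rfl)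
      exact Relation.ReflTransGen.head hstep (ih _ hlt par' hinv' rfl)
    · push Not at hex
      have hG : pg par r = pg (fun _ => r) r := by
        ext a b
        rw [pg_adj, pg_adj]
        constructor
        · rintro ⟨hne, h⟩
          refine ⟨hne, ?_⟩
          rcases h with ⟨h1, h2⟩ | ⟨h1, h2⟩
          · left; exact ⟨h1, by rw [← h2, hex a h1]⟩
          · right; exact ⟨h1, by rw [← h2, hex b h1]⟩
        · rintro ⟨hne, h⟩
          refine ⟨hne, ?_⟩
          rcases h with ⟨h1, h2⟩ | ⟨h1, h2⟩
          · left; exact ⟨h1, by rw [hex a h1, h2]⟩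
          · right; exact ⟨h1, by rw [hex b h1, h2]⟩
      rw [mk_congr (pg_isTree hinv) (star_isTree r) m hG]

/-- moving the marks to the centre of the star -/
theorem mark_chain {n k : ℕ} (r : Fin n) :
    ∀ (N : ℕ) (m : Fin k → Fin n), (Finset.univ.filter (fun i => m i ≠ r)).card = N →
      Relation.ReflTransGen ConicAdj
        (⟨n, pg (fun _ => r) r, star_isTree r, m⟩ : MarkedTree k)
        ⟨n, pg (fun _ => r) r, star_isTree r, fun _ => r⟩ := by
  intro N
  induction N using Nat.strong_induction_on with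
  | _ N ih =>
    intro m hN
    by_cases hex : ∃ i, m i ≠ r
    · obtain ⟨i, hi⟩ := hex
      set w := m i with hw
      set m' := Function.update m i r with hm'
      have hlt : (Finset.univ.filter (fun j => m' j ≠ r)).card < N := by
        rw [← hN]
        refine Finset.card_lt_card ?_
        rw [Finset.ssubset_iff_of_subset]
        · refine ⟨i, by simp [hi, ← hw], by simp [hm']⟩
        · intro j hj
          simp only [Finset.mem_filter, Finset.mem_univ, true_and] at hj ⊢
          by_cases hji : j = i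
          · subst hji; simp [hm'] at hj
          · rwa [hm', Function.update_of_ne hji] at hj
      have hadj : (pg (fun _ : Fin n => r) r).Adj r w :=
        pg_adj.mpr ⟨Ne.symm hi, Or.inr ⟨hi, rfl⟩⟩
      have hstep : ConicAdj
          (⟨n, pg (fun _ => r) r, star_isTree r, m⟩ : MarkedTree k)
          ⟨n, pg (fun _ => r) r, star_isTree r, m'⟩ := by
        refine conicAdj_of_eq _ _ m m' r w hadj hadj rfl (fun j => ?_)
        by_cases hji : j = i
        · subst hji
          have h1 : m j = w := hw.symm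
          have h2 : ¬ m' j = w := by rw [hm', Function.update_self]; exact Ne.symm hi
          rw [contractMark, contractMark, dif_pos h1, dif_neg h2]
          exact Subtype.ext (by show r = m' j; rw [hm', Function.update_self])
        · have h3 : m' j = m j := by rw [hm', Function.update_of_ne hji]
          unfold contractMark
          by_cases h1 : m j = w
          · rw [dif_pos h1, dif_pos (by rw [h3]; exact h1)]
          · rw [dif_neg h1, dif_neg (by rw [h3]; exact h1)]
            exact Subtype.ext h3.symm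
      exact Relation.ReflTransGen.head hstep (ih _ hlt m' rfl)
    · push Not at hex
      have : m = fun _ => r := funext hex
      rw [this]

theorem main {k : ℕ} (T₁ T₂ : MarkedTree k) (h : T₁.n = T₂.n) :
    Relation.ReflTransGen ConicAdj T₁ T₂ := by
  obtain ⟨n, G₁, h₁, m₁⟩ := T₁
  obtain ⟨n₂, G₂, h₂, m₂⟩ := T₂
  simp only at h
  subst h
  have hne : Nonempty (Fin n) := h₁.connected.nonempty
  obtain ⟨r⟩ := hne
  have key : ∀ (G : SimpleGraph (Fin n)) (hG : G.IsTree) (m : Fin k → Fin n),
      Relation.ReflTransGen ConicAdj (⟨n, G, hG, m⟩ : MarkedTree k)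
        ⟨n, pg (fun _ => r) r, star_isTree r, fun _ => r⟩ := by
    intro G hG m
    obtain ⟨par, rank, hinv, rfl⟩ := exists_par hG r
    exact (slide_chain r rank m _ par hinv rfl).trans (mark_chain r _ m rfl)
  exact (key G₁ h₁ m₁).trans
    (rtg_symm (key G₂ h₂ m₂))

end Groth.Agent.Lib.helper13.MTree
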