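import Mathlib

/-!
# A primary decomposition of a monomial ideal (helper13)
-/

set_option autoImplicit false

namespace Groth.Agent.Lib.helper13.MonDec

open MvPolynomial

variable {k : Type*} [Field k]

lemma X_mul_X_eq {σ : Type*} (p q : σ) :
    (X p * X q : MvPolynomial σ k) = monomial (Finsupp.single p 1 + Finsupp.single q 1) 1 := by
  rw [X, X, monomial_mul, one_mul]

lemma X_eq {σ : Type*} (p : σ) :
    (X p : MvPolynomial σ k) = monomial (Finsupp.single p 1) 1 := rfl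

lemma X_pow_two_eq {σ : Type*} (p : σ) :
    (X p ^ 2 : MvPolynomial σ k) = monomial (Finsupp.single p 2) 1 := by
  rw [X_pow_eq_monomial]

lemma le_pair {σ : Type*} (p q : σ) (β : σ →₀ ℕ) :
    Finsupp.single p 1 + Finsupp.single q 1 ≤ β ↔
      (p = q ∧ 2 ≤ β p) ∨ (p ≠ q ∧ 1 ≤ β p ∧ 1 ≤ β q) := by
  classical
  rw [Finsupp.le_def]
  constructor
  · intro h
    by_cases hpq : p = q
    · subst hpq
      left
      refine ⟨rfl, ?_⟩
      have := h p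
      simpa using this
    · right
      refine ⟨hpq, ?_, ?_⟩
      · have := h p
        rw [Finsupp.add_apply, Finsupp.single_eq_same, Finsupp.single_eq_of_ne hpq] at this
        omega
      · have := h q
        rw [Finsupp.add_apply, Finsupp.single_eq_same, Finsupp.single_eq_of_ne (Ne.symm hpq)] at this
        omega
  · rintro (⟨rfl, h⟩ | ⟨hpq, h1, h2⟩) i
    · simp only [Finsupp.add_apply, Finsupp.single_apply]
      split_ifs with hi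
      · subst hi; omega
      · omega
    · simp only [Finsupp.add_apply, Finsupp.single_apply]
      split_ifs with hi hj hj
      · subst hi; subst hj; exact absurd rfl hpq
      · subst hi; omega
      · subst hj; omega
      · omega

/-- the combinatorial heart -/
lemma comb (n k0 e1 e2 : ℕ) (hn : 2 * k0 ≤ n + 1) (he : e1 ≤ e2) (he2 : e2 + 1 ≤ k0)
    (β : Fin (n + 1) →₀ ℕ) :
    ((∃ p q : Fin (n + 1), e1 ≤ p.val ∧ p.val ≤ e2 ∧ e1 ≤ q.val ∧ q.val ≤ e2 ∧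
        Finsupp.single p 1 + Finsupp.single q 1 ≤ β) ∨
      (∃ p q m : Fin (n + 1), e1 ≤ p.val ∧ p.val < q.val ∧ q.val ≤ e2 ∧
        m.val + k0 = n + 1 + q.val ∧ Finsupp.single p 1 + Finsupp.single m 1 ≤ β)) ↔
    ∀ j : Fin (n + 1), e1 ≤ j.val ∧ j.val ≤ e2 →
      ((∃ i : Fin (n + 1), e1 ≤ i.val ∧ i.val ≤ e2 ∧ i ≠ j ∧ Finsupp.single i 1 ≤ β) ∨
        Finsupp.single j 2 ≤ β ∨
        (∃ q m : Fin (n + 1), j.val < q.val ∧ q.val ≤ e2 ∧ m.val + k0 = n + 1 + q.val ∧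
          Finsupp.single m 1 ≤ β)) := by
  simp only [le_pair, Finsupp.single_le_iff]
  constructor
  · rintro (⟨p, q, hp1, hp2, hq1, hq2, h⟩ | ⟨p, q, m, hp1, hpq, hq2, hm, h⟩) j ⟨hj1, hj2⟩
    · rcases h with ⟨rfl, h2⟩ | ⟨hne, h1, h2⟩
      · by_cases hpj : p = j
        · subst hpj; right; left; exact h2
        · left; exact ⟨p, hp1, hp2, hpj, by omega⟩
      · by_cases hpj : p = j
        · subst hpj; left; exact ⟨q, hq1, hq2, Ne.symm hne, h2⟩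
        · left; exact ⟨p, hp1, hp2, hpj, h1⟩
    · have hpm : p ≠ m := by
        intro e; rw [e] at hpq; omega
      rcases h with ⟨e, _⟩ | ⟨_, h1, h2⟩
      · exact absurd e hpm
      · by_cases hpj : p = j
        · subst hpj; right; right; exact ⟨q, m, hpq, hq2, hm, h2⟩
        · left; exact ⟨p, hp1, by omega, hpj, h1⟩
  · intro h
    by_cases hex : ∃ p : Fin (n + 1), e1 ≤ p.val ∧ p.val ≤ e2 ∧ 1 ≤ β p
    · obtain ⟨p, hp1, hp2, hp⟩ := hex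
      rcases h p ⟨hp1, hp2⟩ with ⟨i, hi1, hi2, hip, hi⟩ | h2 | ⟨q, m, hpq, hq2, hm, hβm⟩
      · left; exact ⟨p, i, hp1, hp2, hi1, hi2, Or.inr ⟨Ne.symm hip, hp, hi⟩⟩
      · left; exact ⟨p, p, hp1, hp2, hp1, hp2, Or.inl ⟨rfl, h2⟩⟩
      · right
        have hpm : p ≠ m := by
          intro e; rw [e] at hpq; omega
        exact ⟨p, q, m, hp1, hpq, hq2, hm, Or.inr ⟨hpm, hp, hβm⟩⟩
    · push Not at hex
      exfalso
      have hlt : e2 < n + 1 := by omega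
      rcases h ⟨e2, hlt⟩ ⟨he, le_rfl⟩ with ⟨i, hi1, hi2, _, hi⟩ | h2 | ⟨q, m, hq1, hq2, _, _⟩
      · exact absurd hi (by have := hex i hi1 hi2; omega)
      · have := hex ⟨e2, hlt⟩ he le_rfl; omega
      · simp only at hq1; omega

theorem main (n k0 e1 e2 : ℕ) (hn : 2 * k0 ≤ n + 1) (he : e1 ≤ e2) (he2 : e2 + 1 ≤ k0) :
    Ideal.span ({f : MvPolynomial (Fin (n + 1)) k | ∃ p q : Fin (n + 1), e1 ≤ p.val ∧ p.val ≤ e2 ∧ e1 ≤ q.val ∧ q.val ≤ e2 ∧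
        f = MvPolynomial.X p * MvPolynomial.X q} ∪
      {f : MvPolynomial (Fin (n + 1)) k | ∃ p q m : Fin (n + 1), e1 ≤ p.val ∧ p.val < q.val ∧ q.val ≤ e2 ∧
        m.val + k0 = n + 1 + q.val ∧ f = MvPolynomial.X p * MvPolynomial.X m}) =
    ⨅ j : Fin (n + 1), ⨅ (_ : e1 ≤ j.val ∧ j.val ≤ e2),
      Ideal.span ({f : MvPolynomial (Fin (n + 1)) k | ∃ i : Fin (n + 1), e1 ≤ i.val ∧ i.val ≤ e2 ∧ i ≠ j ∧ f = MvPolynomial.X i} ∪
        {MvPolynomial.X j ^ 2} ∪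
        {f : MvPolynomial (Fin (n + 1)) k | ∃ q m : Fin (n + 1), j.val < q.val ∧ q.val ≤ e2 ∧ m.val + k0 = n + 1 + q.val ∧
          f = MvPolynomial.X m}) := by
  classical
  have hL : ({f : MvPolynomial (Fin (n + 1)) k | ∃ p q : Fin (n + 1), e1 ≤ p.val ∧ p.val ≤ e2 ∧ e1 ≤ q.val ∧ q.val ≤ e2 ∧
        f = MvPolynomial.X p * MvPolynomial.X q} ∪
      {f : MvPolynomial (Fin (n + 1)) k | ∃ p q m : Fin (n + 1), e1 ≤ p.val ∧ p.val < q.val ∧ q.val ≤ e2 ∧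
        m.val + k0 = n + 1 + q.val ∧ f = MvPolynomial.X p * MvPolynomial.X m}) =
      (fun s => monomial s (1 : k)) '' ({s | ∃ p q : Fin (n + 1), e1 ≤ p.val ∧ p.val ≤ e2 ∧ e1 ≤ q.val ∧ q.val ≤ e2 ∧
        s = Finsupp.single p 1 + Finsupp.single q 1} ∪
        {s | ∃ p q m : Fin (n + 1), e1 ≤ p.val ∧ p.val < q.val ∧ q.val ≤ e2 ∧
        m.val + k0 = n + 1 + q.val ∧ s = Finsupp.single p 1 + Finsupp.single m 1}) := by
    ext f
    simp only [Set.mem_union, Set.mem_ofPred_eq, Set.mem_image]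
    constructor
    · rintro (⟨p, q, h1, h2, h3, h4, rfl⟩ | ⟨p, q, m, h1, h2, h3, h4, rfl⟩)
      · exact ⟨_, Or.inl ⟨p, q, h1, h2, h3, h4, rfl⟩, (X_mul_X_eq p q).symm⟩
      · exact ⟨_, Or.inr ⟨p, q, m, h1, h2, h3, h4, rfl⟩, (X_mul_X_eq p m).symm⟩
    · rintro ⟨s, (⟨p, q, h1, h2, h3, h4, rfl⟩ | ⟨p, q, m, h1, h2, h3, h4, rfl⟩), rfl⟩
      · exact Or.inl ⟨p, q, h1, h2, h3, h4, (X_mul_X_eq p q).symm⟩
      · exact Or.inr ⟨p, q, m, h1, h2, h3, h4, (X_mul_X_eq p m).symm⟩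
  have hR : ∀ j : Fin (n + 1),
      ({f : MvPolynomial (Fin (n + 1)) k | ∃ i : Fin (n + 1), e1 ≤ i.val ∧ i.val ≤ e2 ∧ i ≠ j ∧ f = MvPolynomial.X i} ∪
        {MvPolynomial.X j ^ 2} ∪
        {f : MvPolynomial (Fin (n + 1)) k | ∃ q m : Fin (n + 1), j.val < q.val ∧ q.val ≤ e2 ∧ m.val + k0 = n + 1 + q.val ∧
          f = MvPolynomial.X m}) =
      (fun s => monomial s (1 : k)) '' ({s | ∃ i : Fin (n + 1), e1 ≤ i.val ∧ i.val ≤ e2 ∧ i ≠ j ∧ s = Finsupp.single i 1} ∪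
        {Finsupp.single j 2} ∪
        {s | ∃ q m : Fin (n + 1), j.val < q.val ∧ q.val ≤ e2 ∧ m.val + k0 = n + 1 + q.val ∧
          s = Finsupp.single m 1}) := by
    intro j
    ext f
    simp only [Set.mem_union, Set.mem_ofPred_eq, Set.mem_image, Set.mem_singleton_iff]
    constructor
    · rintro ((⟨i, h1, h2, h3, rfl⟩ | rfl) | ⟨q, m, h1, h2, h3, rfl⟩)
      · exact ⟨_, Or.inl (Or.inl ⟨i, h1, h2, h3, rfl⟩), rfl⟩
      · exact ⟨_, Or.inl (Or.inr rfl), (X_pow_two_eq j).symm⟩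
      · exact ⟨_, Or.inr ⟨q, m, h1, h2, h3, rfl⟩, rfl⟩
    · rintro ⟨s, ((⟨i, h1, h2, h3, rfl⟩ | rfl) | ⟨q, m, h1, h2, h3, rfl⟩), rfl⟩
      · exact Or.inl (Or.inl ⟨i, h1, h2, h3, rfl⟩)
      · exact Or.inl (Or.inr (X_pow_two_eq j).symm)
      · exact Or.inr ⟨q, m, h1, h2, h3, rfl⟩
  rw [hL]
  simp only [hR]
  ext x
  rw [mem_ideal_span_monomial_image]
  simp only [Ideal.mem_iInf, mem_ideal_span_monomial_image]
  have key := comb n k0 e1 e2 hn he he2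
  constructor
  · intro h j hj xi hxi
    obtain ⟨si, hsi, hle⟩ := h xi hxi
    have h1 : ((∃ p q : Fin (n + 1), e1 ≤ p.val ∧ p.val ≤ e2 ∧ e1 ≤ q.val ∧ q.val ≤ e2 ∧
        Finsupp.single p 1 + Finsupp.single q 1 ≤ xi) ∨
      (∃ p q m : Fin (n + 1), e1 ≤ p.val ∧ p.val < q.val ∧ q.val ≤ e2 ∧
        m.val + k0 = n + 1 + q.val ∧ Finsupp.single p 1 + Finsupp.single m 1 ≤ xi)) := by
      rcases hsi with ⟨p, q, a1, a2, a3, a4, rfl⟩ | ⟨p, q, m, a1, a2, a3, a4, rfl⟩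
      · exact Or.inl ⟨p, q, a1, a2, a3, a4, hle⟩
      · exact Or.inr ⟨p, q, m, a1, a2, a3, a4, hle⟩
    rcases (key xi).mp h1 j hj with ⟨i, a1, a2, a3, a4⟩ | a | ⟨q, m, a1, a2, a3, a4⟩
    · exact ⟨_, Or.inl (Or.inl ⟨i, a1, a2, a3, rfl⟩), a4⟩
    · exact ⟨_, Or.inl (Or.inr rfl), a⟩
    · exact ⟨_, Or.inr ⟨q, m, a1, a2, a3, rfl⟩, a4⟩
  · intro h xi hxi
    have h1 : ∀ j : Fin (n + 1), e1 ≤ j.val ∧ j.val ≤ e2 →
      ((∃ i : Fin (n + 1), e1 ≤ i.val ∧ i.val ≤ e2 ∧ i ≠ j ∧ Finsupp.single i 1 ≤ xi) ∨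
        Finsupp.single j 2 ≤ xi ∨
        (∃ q m : Fin (n + 1), j.val < q.val ∧ q.val ≤ e2 ∧ m.val + k0 = n + 1 + q.val ∧
          Finsupp.single m 1 ≤ xi)) := by
      intro j hj
      obtain ⟨si, hsi, hle⟩ := h j hj xi hxi
      rcases hsi with (⟨i, a1, a2, a3, rfl⟩ | rfl) | ⟨q, m, a1, a2, a3, rfl⟩
      · exact Or.inl ⟨i, a1, a2, a3, hle⟩
      · exact Or.inr (Or.inl hle)
      · exact Or.inr (Or.inr ⟨q, m, a1, a2, a3, hle⟩)
    rcases (key xi).mpr h1 with ⟨p, q, a1, a2, a3, a4, a5⟩ | ⟨p, q, m, a1, a2, a3, a4, a5⟩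
    · exact ⟨_, Or.inl ⟨p, q, a1, a2, a3, a4, rfl⟩, a5⟩
    · exact ⟨_, Or.inr ⟨p, q, m, a1, a2, a3, a4, rfl⟩, a5⟩

end Groth.Agent.Lib.helper13.MonDec
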