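import Mathlib

/-!
# Moore's horn-filling algorithm for simplicial groups, abstract form (helper13)

Three consecutive levels `A = G_{n+2}`, `B = G_{n+1}`, `C = G_n` of a simplicial group, with faces and
degeneracies indexed by natural numbers (only the values in range matter).
-/

set_option autoImplicit false

namespace Groth.Agent.Lib.helper13.Moore

variable {A B C : Type*} [Group A] [Group B] [Group C]

/-- Moore's algorithm: a compatible family of faces `x i` (`i ≠ k`) lying in a family of subgroups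
stable under faces and degeneracies has a filler lying in the subgroups. -/
@[to_additive moore_fill_add /-- Moore algorithm, additive version. -/]
theorem moore_fill (n : ℕ)
    (dA : ℕ → A →* B) (dB : ℕ → B →* C) (sB : ℕ → B →* A) (sC : ℕ → C →* B)
    (hdd : ∀ i j, i < j → j ≤ n + 2 → ∀ a, dB i (dA j a) = dB (j - 1) (dA i a))
    (hds_lt : ∀ i j, i < j → j ≤ n + 1 → ∀ b, dA i (sB j b) = sC (j - 1) (dB i b))
    (hds_self : ∀ j, j ≤ n + 1 → ∀ b, dA j (sB j b) = b)
    (hds_succ : ∀ j, j ≤ n + 1 → ∀ b, dA (j + 1) (sB j b) = b)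
    (hds_gt : ∀ i j, j + 1 < i → i ≤ n + 2 → ∀ b, dA i (sB j b) = sC j (dB (i - 1) b))
    (PA : Subgroup A) (PB : Subgroup B)
    (hsP : ∀ j, j ≤ n + 1 → ∀ b ∈ PB, sB j b ∈ PA)
    (hdP : ∀ i, i ≤ n + 2 → ∀ a ∈ PA, dA i a ∈ PB)
    (k : ℕ) (hk : k ≤ n + 2) (x : ℕ → B)
    (hxP : ∀ i, i ≤ n + 2 → i ≠ k → x i ∈ PB)
    (hx : ∀ i j, i < j → j ≤ n + 2 → i ≠ k → j ≠ k → dB i (x j) = dB (j - 1) (x i)) :
    ∃ w ∈ PA, ∀ i, i ≤ n + 2 → i ≠ k → dA i w = x i := by
  -- Step 1: the faces below `k`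
  have step1 : ∀ r, r ≤ k → ∃ w ∈ PA, ∀ i, i < r → dA i w = x i := by
    intro r
    induction r with
    | zero => intro _; exact ⟨1, PA.one_mem, fun i hi => absurd hi (Nat.not_lt_zero i)⟩
    | succ r ih =>
      intro hr
      obtain ⟨w, hwP, hw⟩ := ih (by omega)
      have hrk : r ≠ k := by omega
      have hrn : r ≤ n + 1 := by omega
      have huP : (dA r w)⁻¹ * x r ∈ PB :=
        PB.mul_mem (PB.inv_mem (hdP r (by omega) w hwP)) (hxP r (by omega) hrk)
      refine ⟨w * sB r ((dA r w)⁻¹ * x r), PA.mul_mem hwP (hsP r hrn _ huP), ?_⟩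
      intro i hi
      rcases Nat.lt_succ_iff_lt_or_eq.mp hi with hlt | rfl
      · rw [map_mul, hw i hlt, hds_lt i r hlt hrn]
        have : dB i ((dA r w)⁻¹ * x r) = 1 := by
          rw [map_mul, map_inv, hdd i r hlt (by omega), hw i hlt,
            hx i r hlt (by omega) (by omega) hrk]
          exact inv_mul_cancel _
        rw [this, map_one, mul_one]
      · rw [map_mul, hds_self i hrn, mul_inv_cancel_left]
  -- Step 2: the faces above `k`, from the top
  have step2 : ∀ m, k + m ≤ n + 2 → ∃ w ∈ PA, (∀ i, i < k → dA i w = x i) ∧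
      (∀ i, n + 2 - m < i → i ≤ n + 2 → dA i w = x i) := by
    intro m
    induction m with
    | zero =>
      intro _
      obtain ⟨w, hwP, hw⟩ := step1 k le_rfl
      exact ⟨w, hwP, hw, fun i h1 h2 => by omega⟩
    | succ m ih =>
      intro hm
      obtain ⟨w, hwP, hw1, hw2⟩ := ih (by omega)
      obtain ⟨r, hr⟩ : ∃ r, r + m = n + 2 := ⟨n + 2 - m, by omega⟩
      have hkr : k < r := by omega
      have hrk : r ≠ k := by omega
      have hr1 : r - 1 ≤ n + 1 := by omega
      have huP : (dA r w)⁻¹ * x r ∈ PB :=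
        PB.mul_mem (PB.inv_mem (hdP r (by omega) w hwP)) (hxP r (by omega) hrk)
      refine ⟨w * sB (r - 1) ((dA r w)⁻¹ * x r), PA.mul_mem hwP (hsP (r - 1) hr1 _ huP), ?_, ?_⟩
      · intro i hi
        have hlt : i < r - 1 := by omega
        rw [map_mul, hw1 i hi, hds_lt i (r - 1) hlt hr1]
        have : dB i ((dA r w)⁻¹ * x r) = 1 := by
          rw [map_mul, map_inv, hdd i r (by omega) (by omega), hw1 i hi,
            hx i r (by omega) (by omega) (by omega) hrk]
          exact inv_mul_cancel _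
        rw [this, map_one, mul_one]
      · intro i h1 h2
        have hri : r ≤ i := by omega
        rcases Nat.eq_or_lt_of_le hri with heq | hlt
        · subst heq
          have h := hds_succ (r - 1) hr1 ((dA r w)⁻¹ * x r)
          rw [Nat.sub_add_cancel (by omega)] at h
          rw [map_mul, h, mul_inv_cancel_left]
        · have hwi : dA i w = x i := hw2 i (by omega) h2
          rw [map_mul, hwi, hds_gt i (r - 1) (by omega) h2]
          have : dB (i - 1) ((dA r w)⁻¹ * x r) = 1 := by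
            rw [map_mul, map_inv, ← hdd r i hlt h2, hwi, hx r i hlt h2 hrk (by omega)]
            exact inv_mul_cancel _
          rw [this, map_one, mul_one]
  obtain ⟨w, hwP, hw1, hw2⟩ := step2 (n + 2 - k) (by omega)
  refine ⟨w, hwP, fun i hi hik => ?_⟩
  rcases Nat.lt_or_gt_of_ne hik with h | h
  · exact hw1 i h
  · exact hw2 i (by omega) hi

/-- Moore's algorithm, relative version: a degreewise surjective homomorphism of simplicial groups
has the horn lifting property. -/
@[to_additive moore_lift_add /-- Moore algorithm, relative additive version. -/]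
theorem moore_lift {A' B' : Type*} [Group A'] [Group B'] (n : ℕ)
    (dA : ℕ → A →* B) (dB : ℕ → B →* C) (sB : ℕ → B →* A) (sC : ℕ → C →* B)
    (hdd : ∀ i j, i < j → j ≤ n + 2 → ∀ a, dB i (dA j a) = dB (j - 1) (dA i a))
    (hds_lt : ∀ i j, i < j → j ≤ n + 1 → ∀ b, dA i (sB j b) = sC (j - 1) (dB i b))
    (hds_self : ∀ j, j ≤ n + 1 → ∀ b, dA j (sB j b) = b)
    (hds_succ : ∀ j, j ≤ n + 1 → ∀ b, dA (j + 1) (sB j b) = b)
    (hds_gt : ∀ i j, j + 1 < i → i ≤ n + 2 → ∀ b, dA i (sB j b) = sC j (dB (i - 1) b))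
    (dA' : ℕ → A' →* B') (sB' : ℕ → B' →* A') (fA : A →* A') (fB : B →* B')
    (hfd : ∀ i, i ≤ n + 2 → ∀ a, fB (dA i a) = dA' i (fA a))
    (hfs : ∀ j, j ≤ n + 1 → ∀ b, fA (sB j b) = sB' j (fB b))
    (hsurj : Function.Surjective fA)
    (k : ℕ) (hk : k ≤ n + 2) (x : ℕ → B)
    (hx : ∀ i j, i < j → j ≤ n + 2 → i ≠ k → j ≠ k → dB i (x j) = dB (j - 1) (x i))
    (b : A') (hb : ∀ i, i ≤ n + 2 → i ≠ k → fB (x i) = dA' i b) :
    ∃ w, (∀ i, i ≤ n + 2 → i ≠ k → dA i w = x i) ∧ fA w = b := by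
  obtain ⟨w₀, -, hw₀⟩ := moore_fill n dA dB sB sC hdd hds_lt hds_self hds_succ hds_gt ⊤ ⊤
    (fun _ _ _ _ => Subgroup.mem_top _) (fun _ _ _ _ => Subgroup.mem_top _) k hk x
    (fun _ _ _ => Subgroup.mem_top _) hx
  obtain ⟨z, hz⟩ := hsurj ((fA w₀)⁻¹ * b)
  have hzk : ∀ i, i ≤ n + 2 → i ≠ k → dA i z ∈ fB.ker := by
    intro i hi hik
    rw [MonoidHom.mem_ker, hfd i hi, hz, map_mul, map_inv, ← hfd i hi, hw₀ i hi hik, hb i hi hik]
    exact inv_mul_cancel _
  obtain ⟨u, huP, hu⟩ := moore_fill n dA dB sB sC hdd hds_lt hds_self hds_succ hds_gt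
    fA.ker fB.ker
    (fun j hj b hb => by
      rw [MonoidHom.mem_ker] at hb ⊢
      rw [hfs j hj, hb, map_one])
    (fun i hi a ha => by
      rw [MonoidHom.mem_ker] at ha ⊢
      rw [hfd i hi, ha, map_one])
    k hk (fun i => dA i z) hzk
    (fun i j hij hj _ _ => hdd i j hij hj z)
  refine ⟨w₀ * (z * u⁻¹), fun i hi hik => ?_, ?_⟩
  · rw [map_mul, map_mul, map_inv, hu i hi hik, hw₀ i hi hik, mul_inv_cancel, mul_one]
  · rw [MonoidHom.mem_ker] at huP
    rw [map_mul, map_mul, map_inv, huP, inv_one, mul_one, hz, mul_inv_cancel_left]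

end Groth.Agent.Lib.helper13.Moore
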