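import Mathlib

/-!
# Simplicial identities indexed by natural numbers (helper13)
-/

set_option autoImplicit false

open CategoryTheory Simplicial Opposite

namespace Groth.Agent.Lib.helper13.Moore

universe u

/-- face maps of a simplicial set indexed by natural numbers -/
def dN (Z : SSet.{u}) (n i : ℕ) : Z _⦋n + 1⦌ → Z _⦋n⦌ :=
  if h : i < n + 2 then Z.δ ⟨i, h⟩ else Z.δ 0

/-- degeneracy maps of a simplicial set indexed by natural numbers -/
def sN (Z : SSet.{u}) (n i : ℕ) : Z _⦋n⦌ → Z _⦋n + 1⦌ :=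
  if h : i < n + 1 then Z.σ ⟨i, h⟩ else Z.σ 0

lemma dN_eq (Z : SSet.{u}) (n i : ℕ) (h : i < n + 2) : dN Z n i = Z.δ ⟨i, h⟩ := dif_pos h

lemma sN_eq (Z : SSet.{u}) (n i : ℕ) (h : i < n + 1) : sN Z n i = Z.σ ⟨i, h⟩ := dif_pos h

lemma dN_dN (Z : SSet.{u}) (n i j : ℕ) (hij : i < j) (hj : j ≤ n + 2) (a : Z _⦋n + 1 + 1⦌) :
    dN Z n i (dN Z (n + 1) j a) = dN Z n (j - 1) (dN Z (n + 1) i a) := by
  rw [dN_eq Z n i (by omega), dN_eq Z (n + 1) j (by omega), dN_eq Z n (j - 1) (by omega),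
    dN_eq Z (n + 1) i (by omega)]
  have H : (⟨i, by omega⟩ : Fin (n + 2)) ≤ ⟨j - 1, by omega⟩ := by
    rw [Fin.mk_le_mk]; omega
  have h := types_congr_hom (Z.δ_comp_δ H) a
  simp only [types_comp_apply] at h
  have e1 : (⟨j - 1, by omega⟩ : Fin (n + 2)).succ = ⟨j, by omega⟩ := Fin.ext (by simp; omega)
  rw [e1] at h
  exact h

lemma dN_sN_lt (Z : SSet.{u}) (n i j : ℕ) (hij : i < j) (hj : j ≤ n + 1) (b : Z _⦋n + 1⦌) :
    dN Z (n + 1) i (sN Z (n + 1) j b) = sN Z n (j - 1) (dN Z n i b) := by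
  rw [dN_eq Z (n + 1) i (by omega), sN_eq Z (n + 1) j (by omega), sN_eq Z n (j - 1) (by omega),
    dN_eq Z n i (by omega)]
  have H : (⟨i, by omega⟩ : Fin (n + 2)) ≤ Fin.castSucc (⟨j - 1, by omega⟩ : Fin (n + 1)) := by
    rw [Fin.le_def]; simp; omega
  have h := types_congr_hom (Z.δ_comp_σ_of_le H) b
  simp only [types_comp_apply] at h
  have e1 : (⟨j - 1, by omega⟩ : Fin (n + 1)).succ = ⟨j, by omega⟩ := Fin.ext (by simp; omega)
  rw [e1] at h
  exact h

lemma dN_sN_self (Z : SSet.{u}) (n j : ℕ) (hj : j ≤ n + 1) (b : Z _⦋n + 1⦌) :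
    dN Z (n + 1) j (sN Z (n + 1) j b) = b := by
  rw [dN_eq Z (n + 1) j (by omega), sN_eq Z (n + 1) j (by omega)]
  have h := types_congr_hom (Z.δ_comp_σ_self (i := (⟨j, by omega⟩ : Fin (n + 2)))) b
  simp only [types_comp_apply, types_id_apply] at h
  exact h

lemma dN_sN_succ (Z : SSet.{u}) (n j : ℕ) (hj : j ≤ n + 1) (b : Z _⦋n + 1⦌) :
    dN Z (n + 1) (j + 1) (sN Z (n + 1) j b) = b := by
  rw [dN_eq Z (n + 1) (j + 1) (by omega), sN_eq Z (n + 1) j (by omega)]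
  have h := types_congr_hom (Z.δ_comp_σ_succ (i := (⟨j, by omega⟩ : Fin (n + 2)))) b
  simp only [types_comp_apply, types_id_apply] at h
  exact h

lemma dN_sN_gt (Z : SSet.{u}) (n i j : ℕ) (hij : j + 1 < i) (hi : i ≤ n + 2) (b : Z _⦋n + 1⦌) :
    dN Z (n + 1) i (sN Z (n + 1) j b) = sN Z n j (dN Z n (i - 1) b) := by
  rw [dN_eq Z (n + 1) i (by omega), sN_eq Z (n + 1) j (by omega), sN_eq Z n j (by omega),
    dN_eq Z n (i - 1) (by omega)]
  have H : Fin.castSucc (⟨j, by omega⟩ : Fin (n + 1)) < (⟨i - 1, by omega⟩ : Fin (n + 2)) := by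
    rw [Fin.lt_def]; simp; omega
  have h := types_congr_hom (Z.δ_comp_σ_of_gt H) b
  simp only [types_comp_apply] at h
  have e1 : (⟨i - 1, by omega⟩ : Fin (n + 2)).succ = ⟨i, by omega⟩ := Fin.ext (by simp; omega)
  rw [e1] at h
  exact h

/-- the two identities needed in the lowest degree -/
lemma δ_σ_zero (Z : SSet.{u}) (j : Fin 2) (b : Z _⦋0⦌) : Z.δ j (Z.σ 0 b) = b := by
  fin_cases j
  · have h := types_congr_hom (Z.δ_comp_σ_self (i := (0 : Fin 1))) b
    simp only [types_comp_apply, types_id_apply] at h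
    exact h
  · have h := types_congr_hom (Z.δ_comp_σ_succ (i := (0 : Fin 1))) b
    simp only [types_comp_apply, types_id_apply] at h
    exact h

end Groth.Agent.Lib.helper13.Moore
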