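import Groth.Agent.Lib.helper13.Moore1
import Groth.Agent.Lib.helper13.Moore2

/-!
# Simplicial groups are Kan complexes (helper13)
-/

set_option autoImplicit false

open CategoryTheory Simplicial Opposite SSet

namespace Groth.Agent.Lib.helper13.Moore

universe u

section grp

variable (X : SimplicialObject GrpCat.{u})

/-- face homomorphisms indexed by natural numbers -/
noncomputable def dH (n i : ℕ) : X _⦋n + 1⦌ →* X _⦋n⦌ :=
  if h : i < n + 2 then (X.δ ⟨i, h⟩).hom else (X.δ 0).hom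

/-- degeneracy homomorphisms indexed by natural numbers -/
noncomputable def sH (n i : ℕ) : X _⦋n⦌ →* X _⦋n + 1⦌ :=
  if h : i < n + 1 then (X.σ ⟨i, h⟩).hom else (X.σ 0).hom

lemma dH_apply (n i : ℕ) (a : X _⦋n + 1⦌) :
    dH X n i a = dN (X ⋙ forget GrpCat.{u}) n i a := by
  unfold dH dN
  split_ifs <;> rfl

lemma sH_apply (n i : ℕ) (a : X _⦋n⦌) :
    sH X n i a = sN (X ⋙ forget GrpCat.{u}) n i a := by
  unfold sH sN
  split_ifs <;> rfl

/-- a simplicial group is a Kan complex -/
theorem kan_grp : SSet.KanComplex (X ⋙ forget GrpCat.{u}) := by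
  rw [SSet.KanComplex.iff]
  intro n i f hf
  obtain _ | n := n
  · -- horns of dimension one
    obtain ⟨j₀, hj₀⟩ : ∃ j₀ : Fin 2, j₀ ≠ i := ⟨i.rev, by fin_cases i <;> decide⟩
    refine ⟨SSet.yonedaEquiv.symm (SimplicialObject.σ (X ⋙ forget GrpCat.{u}) 0
      (SSet.yonedaEquiv (f j₀ hj₀))), ?_⟩
    intro j hj
    have hjj : j = j₀ := by
      fin_cases i <;> fin_cases j <;> fin_cases j₀ <;> simp_all
    subst hjj
    rw [stdSimplex.δ_comp_yonedaEquiv_symm, δ_σ_zero, Equiv.symm_apply_apply]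
  · classical
    let Z : SSet.{u} := X ⋙ forget GrpCat.{u}
    let x : ℕ → X _⦋n + 1⦌ := fun j =>
      if h : j < n + 3 then
        (if h' : (⟨j, h⟩ : Fin (n + 3)) ≠ i then (SSet.yonedaEquiv (f ⟨j, h⟩ h') : Z _⦋n + 1⦌) else 1)
      else 1
    have hxj : ∀ (j : Fin (n + 3)) (hj : j ≠ i), x j.val = SSet.yonedaEquiv (f j hj) := by
      intro j hj
      simp only [x]
      rw [dif_pos j.isLt, dif_pos hj]
    have compat : ∀ a b, a < b → b ≤ n + 2 → a ≠ i.val → b ≠ i.val →
        dH X n a (x b) = dH X n (b - 1) (x a) := by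
      intro a b hab hb ha' hb'
      have hja : (⟨a, by omega⟩ : Fin (n + 3)) ≠ i := fun h => ha' (by rw [← h])
      have hjb : (⟨b, by omega⟩ : Fin (n + 3)) ≠ i := fun h => hb' (by rw [← h])
      have hlt : (⟨a, by omega⟩ : Fin (n + 3)) < ⟨b, by omega⟩ := by
        rw [Fin.mk_lt_mk]; exact hab
      have h := (horn.isCompatible_iff f).mp hf _ _ hja hjb hlt
      have h2 := congrArg SSet.yonedaEquiv h
      rw [stdSimplex.yonedaEquiv_δ_comp, stdSimplex.yonedaEquiv_δ_comp, ← hxj, ← hxj] at h2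
      rw [dH_apply, dH_apply, dN_eq Z n a (by omega), dN_eq Z n (b - 1) (by omega)]
      exact h2.symm
    obtain ⟨w, -, hw⟩ := moore_fill n (dH X (n + 1)) (dH X n) (sH X (n + 1)) (sH X n)
      (fun i j hij hj a => by simp only [dH_apply]; exact dN_dN Z n i j hij hj a)
      (fun i j hij hj b => by simp only [dH_apply, sH_apply]; exact dN_sN_lt Z n i j hij hj b)
      (fun j hj b => by simp only [dH_apply, sH_apply]; exact dN_sN_self Z n j hj b)
      (fun j hj b => by simp only [dH_apply, sH_apply]; exact dN_sN_succ Z n j hj b)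
      (fun i j hij hi b => by simp only [dH_apply, sH_apply]; exact dN_sN_gt Z n i j hij hi b)
      ⊤ ⊤ (fun _ _ _ _ => Subgroup.mem_top _) (fun _ _ _ _ => Subgroup.mem_top _)
      i.val (by omega) x (fun _ _ _ => Subgroup.mem_top _) compat
    refine ⟨SSet.yonedaEquiv.symm (w : Z _⦋n + 2⦌), fun j hj => ?_⟩
    rw [stdSimplex.δ_comp_yonedaEquiv_symm]
    have h := hw j.val (by omega) (fun h => hj (Fin.ext h))
    rw [dH_apply, dN_eq Z (n + 1) j.val j.isLt, hxj j hj] at h
    exact (Equiv.symm_apply_eq _).mpr h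

end grp

end Groth.Agent.Lib.helper13.Moore
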