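import Groth.Agent.Lib.helper13.Moore1
import Groth.Agent.Lib.helper13.Moore2

/-!
# Surjections of simplicial abelian groups are Kan fibrations (helper13)
-/

set_option autoImplicit false

open CategoryTheory Simplicial Opposite SSet

namespace Groth.Agent.Lib.helper13.Moore

universe u

/-- the lifting property in the lowest degree -/
@[to_additive moore_lift_zero_add /-- the lifting property in the lowest degree, additive -/]
theorem moore_lift_zero {A B A' B' : Type*} [Group A] [Group B] [Group A'] [Group B']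
    (d : A →* B) (s : B →* A) (hds : ∀ b, d (s b) = b)
    (d' : A' →* B') (s' : B' →* A') (fA : A →* A') (fB : B →* B')
    (hfd : ∀ a, fB (d a) = d' (fA a)) (hfs : ∀ b, fA (s b) = s' (fB b))
    (hsurj : Function.Surjective fA)
    (x : B) (b : A') (hb : fB x = d' b) : ∃ w, d w = x ∧ fA w = b := by
  obtain ⟨z, hz⟩ := hsurj ((fA (s x))⁻¹ * b)
  have h1 : fA (s (d z)) = 1 := by
    rw [hfs, hfd, hz, map_mul, map_inv, ← hfd, hds, hb, inv_mul_cancel, map_one]
  refine ⟨s x * (z * (s (d z))⁻¹), ?_, ?_⟩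
  · rw [map_mul, map_mul, map_inv, hds, hds, mul_inv_cancel, mul_one]
  · rw [map_mul, map_mul, map_inv, h1, inv_one, mul_one, hz, mul_inv_cancel_left]

section addgrp

variable (X : SimplicialObject AddCommGrpCat.{u})

/-- face homomorphisms indexed by natural numbers -/
noncomputable def dHa (n i : ℕ) : X _⦋n + 1⦌ →+ X _⦋n⦌ :=
  if h : i < n + 2 then (X.δ ⟨i, h⟩).hom else (X.δ 0).hom

/-- degeneracy homomorphisms indexed by natural numbers -/
noncomputable def sHa (n i : ℕ) : X _⦋n⦌ →+ X _⦋n + 1⦌ :=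
  if h : i < n + 1 then (X.σ ⟨i, h⟩).hom else (X.σ 0).hom

lemma dHa_eq (n i : ℕ) (h : i < n + 2) : dHa X n i = (X.δ ⟨i, h⟩).hom := dif_pos h

lemma sHa_eq (n i : ℕ) (h : i < n + 1) : sHa X n i = (X.σ ⟨i, h⟩).hom := dif_pos h

lemma dHa_apply (n i : ℕ) (a : X _⦋n + 1⦌) :
    dHa X n i a = dN (X ⋙ forget AddCommGrpCat.{u}) n i a := by
  unfold dHa dN
  split_ifs <;> rfl

lemma sHa_apply (n i : ℕ) (a : X _⦋n⦌) :
    sHa X n i a = sN (X ⋙ forget AddCommGrpCat.{u}) n i a := by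
  unfold sHa sN
  split_ifs <;> rfl

end addgrp

section fib

variable {X Y : SimplicialObject AddCommGrpCat.{u}} (f : X ⟶ Y)

lemma map_dHa (n i : ℕ) (hi : i < n + 2) (a : X _⦋n + 1⦌) :
    (f.app (op ⦋n⦌)).hom (dHa X n i a) = dHa Y n i ((f.app (op ⦋n + 1⦌)).hom a) := by
  rw [dHa_eq X n i hi, dHa_eq Y n i hi]
  exact ConcreteCategory.congr_hom (SimplicialObject.δ_naturality f ⟨i, hi⟩) a

lemma map_sHa (n i : ℕ) (hi : i < n + 1) (a : X _⦋n⦌) :
    (f.app (op ⦋n + 1⦌)).hom (sHa X n i a) = sHa Y n i ((f.app (op ⦋n⦌)).hom a) := by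
  rw [sHa_eq X n i hi, sHa_eq Y n i hi]
  exact ConcreteCategory.congr_hom (SimplicialObject.σ_naturality f ⟨i, hi⟩) a

end fib

section main

variable {X₀ Y₀ : SimplicialObject AddCommGrpCat.{u}} (f : X₀ ⟶ Y₀)

/-- a degreewise surjective homomorphism of simplicial abelian groups is a Kan fibration -/
theorem fib_addgrp (hf : ∀ n : SimplexCategoryᵒᵖ, Function.Surjective (f.app n)) :
    SSet.modelCategoryQuillen.J.rlp (X := X₀ ⋙ forget AddCommGrpCat.{u})
      (Y := Y₀ ⋙ forget AddCommGrpCat.{u})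
      (Functor.whiskerRight f (forget AddCommGrpCat.{u})) := by
  intro A B g hg
  simp only [SSet.modelCategoryQuillen.J, MorphismProperty.iSup_iff] at hg
  obtain ⟨n, ⟨i⟩⟩ := hg
  refine ⟨fun {t b} sq ↦ ?_⟩
  let X' : SSet.{u} := X₀ ⋙ forget AddCommGrpCat.{u}
  let Y' : SSet.{u} := Y₀ ⋙ forget AddCommGrpCat.{u}
  let p : X' ⟶ Y' := Functor.whiskerRight f (forget AddCommGrpCat.{u})
  have hcomm : ∀ (j : Fin (n + 2)) (hj : j ≠ i),
      (horn.ι i j hj ≫ t) ≫ p = stdSimplex.δ j ≫ b := by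
    intro j hj
    rw [Category.assoc, sq.w, horn.ι_ι_assoc]
  have hcomm' : ∀ (j : Fin (n + 2)) (hj : j ≠ i),
      (f.app (op ⦋n⦌)).hom (SSet.yonedaEquiv (horn.ι i j hj ≫ t) : X' _⦋n⦌) =
        SimplicialObject.δ Y' j (SSet.yonedaEquiv b) := by
    intro j hj
    have h := congrArg SSet.yonedaEquiv (hcomm j hj)
    rw [stdSimplex.yonedaEquiv_δ_comp] at h
    exact h
  suffices h : ∃ w : X' _⦋n + 1⦌, (∀ (j : Fin (n + 2)) (hj : j ≠ i),
      SimplicialObject.δ X' j w = SSet.yonedaEquiv (horn.ι i j hj ≫ t)) ∧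
      (f.app (op ⦋n + 1⦌)).hom w = SSet.yonedaEquiv b by
    obtain ⟨w, hw1, hw2⟩ := h
    refine ⟨⟨{
      l := SSet.yonedaEquiv.symm w
      fac_left := horn.hom_ext' (fun j hj => ?_)
      fac_right := ?_ }⟩⟩
    · rw [horn.ι_ι_assoc, stdSimplex.δ_comp_yonedaEquiv_symm, hw1 j hj, Equiv.symm_apply_apply]
    · apply SSet.yonedaEquiv.injective
      rw [SSet.yonedaEquiv_comp, Equiv.apply_symm_apply]
      exact hw2
  obtain _ | n := n
  · -- horns of dimension one
    obtain ⟨j₀, hj₀⟩ : ∃ j₀ : Fin 2, j₀ ≠ i := ⟨i.rev, by fin_cases i <;> decide⟩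
    obtain ⟨w, hw1, hw2⟩ := moore_lift_zero_add (X₀.δ j₀).hom (X₀.σ 0).hom
      (fun b => δ_σ_zero X' j₀ b) (Y₀.δ j₀).hom (Y₀.σ 0).hom
      (f.app (op ⦋1⦌)).hom (f.app (op ⦋0⦌)).hom
      (fun a => ConcreteCategory.congr_hom (SimplicialObject.δ_naturality f j₀) a)
      (fun a => ConcreteCategory.congr_hom (SimplicialObject.σ_naturality f 0) a)
      (hf _) (SSet.yonedaEquiv (horn.ι i j₀ hj₀ ≫ t) : X' _⦋0⦌) (SSet.yonedaEquiv b : Y' _⦋1⦌)
      (hcomm' j₀ hj₀)
    refine ⟨w, fun j hj => ?_, hw2⟩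
    have hjj : j = j₀ := by
      apply Fin.ext
      have h1 : j.val ≠ i.val := fun h => hj (Fin.ext h)
      have h2 : j₀.val ≠ i.val := fun h => hj₀ (Fin.ext h)
      have := j.isLt
      have := j₀.isLt
      have := i.isLt
      omega
    subst hjj
    exact hw1
  · classical
    let x : ℕ → X₀ _⦋n + 1⦌ := fun j =>
      if h : j < n + 3 then
        (if h' : (⟨j, h⟩ : Fin (n + 3)) ≠ i then
          (SSet.yonedaEquiv (horn.ι i ⟨j, h⟩ h' ≫ t) : X' _⦋n + 1⦌) else 0)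
      else 0
    have hxj : ∀ (j : Fin (n + 3)) (hj : j ≠ i),
        x j.val = SSet.yonedaEquiv (horn.ι i j hj ≫ t) := by
      intro j hj
      simp only [x]
      rw [dif_pos j.isLt, dif_pos hj]
    have compat : ∀ a b, a < b → b ≤ n + 2 → a ≠ i.val → b ≠ i.val →
        dHa X₀ n a (x b) = dHa X₀ n (b - 1) (x a) := by
      intro a b hab hb ha' hb'
      have hja : (⟨a, by omega⟩ : Fin (n + 3)) ≠ i := fun h => ha' (by rw [← h])
      have hjb : (⟨b, by omega⟩ : Fin (n + 3)) ≠ i := fun h => hb' (by rw [← h])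
      have hlt : (⟨a, by omega⟩ : Fin (n + 3)) < ⟨b, by omega⟩ := by
        rw [Fin.mk_lt_mk]; exact hab
      have h := (horn.isCompatible_iff _).mp (horn.IsCompatible.of_hom t) _ _ hja hjb hlt
      have h2 := congrArg SSet.yonedaEquiv h
      rw [stdSimplex.yonedaEquiv_δ_comp, stdSimplex.yonedaEquiv_δ_comp, ← hxj, ← hxj] at h2
      rw [dHa_apply, dHa_apply, dN_eq X' n a (by omega), dN_eq X' n (b - 1) (by omega)]
      exact h2.symm
    obtain ⟨w, hw1, hw2⟩ := moore_lift_add n (dHa X₀ (n + 1)) (dHa X₀ n) (sHa X₀ (n + 1)) (sHa X₀ n)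
      (fun i j hij hj a => by simp only [dHa_apply]; exact dN_dN X' n i j hij hj a)
      (fun i j hij hj b => by simp only [dHa_apply, sHa_apply]; exact dN_sN_lt X' n i j hij hj b)
      (fun j hj b => by simp only [dHa_apply, sHa_apply]; exact dN_sN_self X' n j hj b)
      (fun j hj b => by simp only [dHa_apply, sHa_apply]; exact dN_sN_succ X' n j hj b)
      (fun i j hij hi b => by simp only [dHa_apply, sHa_apply]; exact dN_sN_gt X' n i j hij hi b)
      (dHa Y₀ (n + 1)) (sHa Y₀ (n + 1)) (f.app (op ⦋n + 2⦌)).hom (f.app (op ⦋n + 1⦌)).hom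
      (fun i hi a => map_dHa f (n + 1) i (by omega) a)
      (fun j hj b => map_sHa f (n + 1) j (by omega) b)
      (hf _) i.val (by omega) x compat (SSet.yonedaEquiv b : Y' _⦋n + 2⦌)
      (fun j hj hji => by
        have hne : (⟨j, by omega⟩ : Fin (n + 3)) ≠ i := fun h => hji (by rw [← h])
        have h := hcomm' ⟨j, by omega⟩ hne
        rw [← hxj ⟨j, by omega⟩ hne] at h
        rw [dHa_apply, dN_eq Y' (n + 1) j (by omega)]
        exact h)
    refine ⟨w, fun j hj => ?_, hw2⟩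
    have h := hw1 j.val (by omega) (fun h => hj (Fin.ext h))
    rw [dHa_apply, dN_eq X' (n + 1) j.val j.isLt, hxj j hj] at h
    exact h

end main

end Groth.Agent.Lib.helper13.Moore
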