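import Groth.Agent.Lib.helper13.Moore4

/-!
# Boundary lifting for simplicial abelian groups, abstract form (helper13)
-/

set_option autoImplicit false

namespace Groth.Agent.Lib.helper13.Moore

/-- boundary lifting, given horn lifting and normalised preimages in the kernel -/
theorem boundary_lift_add {A B C A' B' : Type*} [AddCommGroup A] [AddCommGroup B] [AddCommGroup C]
    [AddCommGroup A'] [AddCommGroup B'] (n : ℕ)
    (dA : ℕ → A →+ B) (dB : ℕ → B →+ C) (sB : ℕ → B →+ A) (sC : ℕ → C →+ B)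
    (hdd : ∀ i j, i < j → j ≤ n + 2 → ∀ a, dB i (dA j a) = dB (j - 1) (dA i a))
    (hds_lt : ∀ i j, i < j → j ≤ n + 1 → ∀ b, dA i (sB j b) = sC (j - 1) (dB i b))
    (hds_self : ∀ j, j ≤ n + 1 → ∀ b, dA j (sB j b) = b)
    (hds_succ : ∀ j, j ≤ n + 1 → ∀ b, dA (j + 1) (sB j b) = b)
    (hds_gt : ∀ i j, j + 1 < i → i ≤ n + 2 → ∀ b, dA i (sB j b) = sC j (dB (i - 1) b))
    (dA' : ℕ → A' →+ B') (sB' : ℕ → B' →+ A') (fA : A →+ A') (fB : B →+ B')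
    (hfd : ∀ i, i ≤ n + 2 → ∀ a, fB (dA i a) = dA' i (fA a))
    (hfs : ∀ j, j ≤ n + 1 → ∀ b, fA (sB j b) = sB' j (fB b))
    (hsurj : Function.Surjective fA)
    (hnorm : ∀ z : B, fB z = 0 → (∀ i, i ≤ n + 1 → dB i z = 0) →
      ∃ y : A, fA y = 0 ∧ dA 0 y = z ∧ ∀ j, 1 ≤ j → j ≤ n + 2 → dA j y = 0)
    (x : ℕ → B)
    (hx : ∀ i j, i < j → j ≤ n + 2 → dB i (x j) = dB (j - 1) (x i))
    (b : A') (hb : ∀ i, i ≤ n + 2 → fB (x i) = dA' i b) :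
    ∃ w, (∀ i, i ≤ n + 2 → dA i w = x i) ∧ fA w = b := by
  obtain ⟨w₀, hw₀, hfw₀⟩ := moore_lift_add n dA dB sB sC hdd hds_lt hds_self hds_succ hds_gt
    dA' sB' fA fB hfd hfs hsurj 0 (by omega) x (fun i j hij hj _ _ => hx i j hij hj) b
    (fun i hi _ => hb i hi)
  have hz1 : fB (x 0 - dA 0 w₀) = 0 := by
    rw [map_sub, hfd 0 (by omega), hfw₀, hb 0 (by omega), sub_self]
  have hz2 : ∀ i, i ≤ n + 1 → dB i (x 0 - dA 0 w₀) = 0 := by
    intro i hi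
    have h1 := hdd 0 (i + 1) (by omega) (by omega) w₀
    have h2 := hx 0 (i + 1) (by omega) (by omega)
    rw [Nat.add_sub_cancel] at h1 h2
    rw [map_sub, ← h1, hw₀ (i + 1) (by omega) (by omega), h2, sub_self]
  obtain ⟨y, hy1, hy2, hy3⟩ := hnorm _ hz1 hz2
  refine ⟨w₀ + y, fun i hi => ?_, ?_⟩
  · rcases Nat.eq_zero_or_pos i with rfl | hpos
    · rw [map_add, hy2]
      abel
    · rw [map_add, hy3 i hpos hi, hw₀ i hi (by omega), add_zero]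
  · rw [map_add, hy1, hfw₀, add_zero]

/-- boundary lifting in the lowest degree -/
theorem boundary_lift_zero_add {A B A' B' : Type*} [AddCommGroup A] [AddCommGroup B]
    [AddCommGroup A'] [AddCommGroup B']
    (d0 d1 : A →+ B) (s : B →+ A) (hds0 : ∀ b, d0 (s b) = b) (hds1 : ∀ b, d1 (s b) = b)
    (d0' d1' : A' →+ B') (s' : B' →+ A') (fA : A →+ A') (fB : B →+ B')
    (hfd0 : ∀ a, fB (d0 a) = d0' (fA a)) (hfd1 : ∀ a, fB (d1 a) = d1' (fA a))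
    (hfs : ∀ b, fA (s b) = s' (fB b))
    (hsurj : Function.Surjective fA)
    (hnorm : ∀ z : B, fB z = 0 → ∃ y : A, fA y = 0 ∧ d0 y = z ∧ d1 y = 0)
    (x0 x1 : B) (b : A') (hb0 : fB x0 = d0' b) (hb1 : fB x1 = d1' b) :
    ∃ w, d0 w = x0 ∧ d1 w = x1 ∧ fA w = b := by
  obtain ⟨w₀, hw₀, hfw₀⟩ := moore_lift_zero_add d1 s hds1 d1' s' fA fB hfd1 hfs hsurj x1 b hb1
  have hz1 : fB (x0 - d0 w₀) = 0 := by
    rw [map_sub, hfd0, hfw₀, hb0, sub_self]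
  obtain ⟨y, hy1, hy2, hy3⟩ := hnorm _ hz1
  refine ⟨w₀ + y, ?_, ?_, ?_⟩
  · rw [map_add, hy2]
    abel
  · rw [map_add, hy3, hw₀, add_zero]
  · rw [map_add, hy1, hfw₀, add_zero]

end Groth.Agent.Lib.helper13.Moore
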