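import Groth.Agent.Lib.helper13.QIso2

/-!
# Normalised boundaries in the kernel of a surjective quasi-isomorphism of simplicial abelian groups
(helper13)
-/

set_option autoImplicit false

open CategoryTheory Simplicial Opposite AlgebraicTopology AlgebraicTopology.DoldKan

namespace Groth.Agent.Lib.helper13.QIso

universe u

section one

variable (X : SimplicialObject AddCommGrpCat.{u})

/-- the Dold-Kan projector -/
noncomputable abbrev PI : AlternatingFaceMapComplex.obj X ⟶ AlternatingFaceMapComplex.obj X :=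
  PInfty

/-- the elements all of whose faces vanish -/
def Zsub (m : ℕ) : AddSubgroup (X _⦋m + 1⦌) := ⨅ i : Fin (m + 2), (X.δ i).hom.ker

/-- the inclusion of the elements all of whose faces vanish -/
def Zincl (m : ℕ) : AddCommGrpCat.of (Zsub X m) ⟶ X _⦋m + 1⦌ :=
  AddCommGrpCat.ofHom (Zsub X m).subtype

lemma Zincl_δ (m : ℕ) (i : Fin (m + 2)) : Zincl X m ≫ X.δ i = 0 := by
  ext ⟨z, hz⟩
  exact (AddSubgroup.mem_iInf.mp hz i)

lemma Zincl_P (m : ℕ) : Zincl X m ≫ (PI X).f (m + 1) = Zincl X m := by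
  rw [PInfty_f]
  apply HigherFacesVanish.comp_P_eq_self
  intro j _
  exact Zincl_δ X m j.succ

lemma Zincl_d (m k : ℕ) : Zincl X m ≫ (AlternatingFaceMapComplex.obj X).d (m + 1) k = 0 := by
  by_cases hk : k = m
  · subst hk
    rw [AlternatingFaceMapComplex.obj_d_eq, Preadditive.comp_sum]
    apply Finset.sum_eq_zero
    intro i _
    rw [Preadditive.comp_zsmul, Zincl_δ, smul_zero]
  · rw [(AlternatingFaceMapComplex.obj X).shape (m + 1) k (by
      simp only [ComplexShape.down_Rel]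
      omega), Limits.comp_zero]

lemma PInfty_δ_succ (m : ℕ) (j : Fin (m + 1)) :
    (PI X).f (m + 1) ≫ X.δ j.succ = 0 := by
  rw [PInfty_f]
  exact HigherFacesVanish.of_P (m + 1) m j (by omega)

lemma PInfty_δ_zero (m : ℕ) :
    (PI X).f (m + 1) ≫ X.δ 0 =
      (AlternatingFaceMapComplex.obj X).d (m + 1) m ≫ (PI X).f m := by
  rw [← (PI X).comm (m + 1) m, AlternatingFaceMapComplex.obj_d_eq,
    Preadditive.comp_sum, Fin.sum_univ_succ]
  rw [Finset.sum_eq_zero (fun j _ => by rw [Preadditive.comp_zsmul, PInfty_δ_succ, smul_zero]),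
    add_zero, Fin.val_zero, pow_zero, one_smul]

end one

section two

variable {X Y : SimplicialObject AddCommGrpCat.{u}} (f : X ⟶ Y)
  (hq : QuasiIso ((alternatingFaceMapComplex AddCommGrpCat.{u}).map f))
  (hsurj : ∀ n : SimplexCategoryᵒᵖ, Function.Surjective (f.app n))

include hq hsurj in
theorem exists_norm_succ (m : ℕ) (z : X _⦋m + 1⦌) (hfz : (f.app (op ⦋m + 1⦌)).hom z = 0)
    (hz : ∀ i : Fin (m + 2), (X.δ i).hom z = 0) :
    ∃ y : X _⦋m + 2⦌, (f.app (op ⦋m + 2⦌)).hom y = 0 ∧ (X.δ 0).hom y = z ∧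
      ∀ j : Fin (m + 2), (X.δ j.succ).hom y = 0 := by
  let zz : Zsub X m := ⟨z, AddSubgroup.mem_iInf.mpr (fun i => hz i)⟩
  have hd : ∀ k, (AlternatingFaceMapComplex.obj X).d (m + 1) k z = 0 :=
    fun k => ConcreteCategory.congr_hom (Zincl_d X m k) zz
  obtain ⟨c, hc1, hc2⟩ := kernel_acyclic ((alternatingFaceMapComplex AddCommGrpCat.{u}).map f) hq
    (fun n => hsurj (op ⦋n⦌)) (m + 1) z hfz hd
  refine ⟨(PI X).f (m + 2) c, ?_, ?_, ?_⟩
  · have h := ConcreteCategory.congr_hom (PInfty_f_naturality (m + 2) f) c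
    have h' : (f.app (op ⦋m + 2⦌)).hom ((PI X).f (m + 2) c) =
        (PI Y).f (m + 2) ((f.app (op ⦋m + 2⦌)).hom c) := h.symm
    rw [h']
    have hc1' : (f.app (op ⦋m + 2⦌)).hom c = 0 := hc1
    rw [hc1', map_zero]
  · have h := ConcreteCategory.congr_hom (PInfty_δ_zero X (m + 1)) c
    have h' : (X.δ 0).hom ((PI X).f (m + 2) c) =
        (PI X).f (m + 1) ((AlternatingFaceMapComplex.obj X).d (m + 2) (m + 1) c) := h
    rw [h']
    have hc2' : (AlternatingFaceMapComplex.obj X).d (m + 2) (m + 1) c = z := hc2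
    rw [hc2']
    exact ConcreteCategory.congr_hom (Zincl_P X m) zz
  · intro j
    exact ConcreteCategory.congr_hom (PInfty_δ_succ X (m + 1) j) c

include hq hsurj in
theorem exists_norm_zero (z : X _⦋0⦌) (hfz : (f.app (op ⦋0⦌)).hom z = 0) :
    ∃ y : X _⦋1⦌, (f.app (op ⦋1⦌)).hom y = 0 ∧ (X.δ 0).hom y = z ∧
      ∀ j : Fin 1, (X.δ j.succ).hom y = 0 := by
  have hd : ∀ k, (AlternatingFaceMapComplex.obj X).d 0 k z = 0 := by
    intro k
    rw [(AlternatingFaceMapComplex.obj X).shape 0 k (by simp)]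
    rfl
  obtain ⟨c, hc1, hc2⟩ := kernel_acyclic ((alternatingFaceMapComplex AddCommGrpCat.{u}).map f) hq
    (fun n => hsurj (op ⦋n⦌)) 0 z hfz hd
  refine ⟨(PI X).f 1 c, ?_, ?_, ?_⟩
  · have h := ConcreteCategory.congr_hom (PInfty_f_naturality 1 f) c
    have h' : (f.app (op ⦋1⦌)).hom ((PI X).f 1 c) =
        (PI Y).f 1 ((f.app (op ⦋1⦌)).hom c) := h.symm
    rw [h']
    have hc1' : (f.app (op ⦋1⦌)).hom c = 0 := hc1
    rw [hc1', map_zero]
  · have h := ConcreteCategory.congr_hom (PInfty_δ_zero X 0) c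
    have h' : (X.δ 0).hom ((PI X).f 1 c) =
        (PI X).f 0 ((AlternatingFaceMapComplex.obj X).d 1 0 c) := h
    rw [h']
    have hc2' : (AlternatingFaceMapComplex.obj X).d 1 0 c = z := hc2
    rw [hc2']
    rfl
  · intro j
    exact ConcreteCategory.congr_hom (PInfty_δ_succ X 0 j) c

end two

end Groth.Agent.Lib.helper13.QIso
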