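import Groth.Agent.Lib.helper13.Moore5
import Groth.Agent.Lib.helper13.QIso3

/-!
# Surjective quasi-isomorphisms of simplicial abelian groups are trivial Kan fibrations (helper13)
-/

set_option autoImplicit false

open CategoryTheory Simplicial Opposite SSet

namespace Groth.Agent.Lib.helper13.Moore

universe u

section main

variable {X₀ Y₀ : SimplicialObject AddCommGrpCat.{u}} (f : X₀ ⟶ Y₀)

/-- a degreewise surjective quasi-isomorphism of simplicial abelian groups is a trivial Kan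
fibration -/
theorem trivfib_addgrp (hf : ∀ n : SimplexCategoryᵒᵖ, Function.Surjective (f.app n))
    (hq : QuasiIso ((AlgebraicTopology.alternatingFaceMapComplex AddCommGrpCat.{u}).map f)) :
    SSet.modelCategoryQuillen.I.rlp (X := X₀ ⋙ forget AddCommGrpCat.{u})
      (Y := Y₀ ⋙ forget AddCommGrpCat.{u})
      (Functor.whiskerRight f (forget AddCommGrpCat.{u})) := by
  intro A B g hg
  obtain ⟨n⟩ := hg
  refine ⟨fun {t b} sq ↦ ?_⟩
  let X' : SSet.{u} := X₀ ⋙ forget AddCommGrpCat.{u}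
  let Y' : SSet.{u} := Y₀ ⋙ forget AddCommGrpCat.{u}
  let p : X' ⟶ Y' := Functor.whiskerRight f (forget AddCommGrpCat.{u})
  obtain _ | n := n
  · -- the empty boundary
    obtain ⟨w, hw⟩ := hf (op ⦋0⦌) (SSet.yonedaEquiv b : Y' _⦋0⦌)
    refine ⟨⟨{
      l := SSet.yonedaEquiv.symm (w : X' _⦋0⦌)
      fac_left := boundary.hom_ext₀
      fac_right := ?_ }⟩⟩
    apply SSet.yonedaEquiv.injective
    rw [SSet.yonedaEquiv_comp, Equiv.apply_symm_apply]
    exact hw
  have hcomm : ∀ (j : Fin (n + 2)), (boundary.ι j ≫ t) ≫ p = stdSimplex.δ j ≫ b := by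
    intro j
    rw [Category.assoc, sq.w, boundary.ι_ι_assoc]
  have hcomm' : ∀ (j : Fin (n + 2)),
      (f.app (op ⦋n⦌)).hom (SSet.yonedaEquiv (boundary.ι j ≫ t) : X' _⦋n⦌) =
        SimplicialObject.δ Y' j (SSet.yonedaEquiv b) := by
    intro j
    have h := congrArg SSet.yonedaEquiv (hcomm j)
    rw [stdSimplex.yonedaEquiv_δ_comp] at h
    exact h
  suffices h : ∃ w : X' _⦋n + 1⦌, (∀ (j : Fin (n + 2)),
      SimplicialObject.δ X' j w = SSet.yonedaEquiv (boundary.ι j ≫ t)) ∧
      (f.app (op ⦋n + 1⦌)).hom w = SSet.yonedaEquiv b by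
    obtain ⟨w, hw1, hw2⟩ := h
    refine ⟨⟨{
      l := SSet.yonedaEquiv.symm w
      fac_left := boundary.hom_ext (fun j => ?_)
      fac_right := ?_ }⟩⟩
    · rw [boundary.ι_ι_assoc, stdSimplex.δ_comp_yonedaEquiv_symm, hw1 j, Equiv.symm_apply_apply]
    · apply SSet.yonedaEquiv.injective
      rw [SSet.yonedaEquiv_comp, Equiv.apply_symm_apply]
      exact hw2
  obtain _ | m := n
  · -- the boundary of the one-simplex
    obtain ⟨w, hw0, hw1, hw2⟩ := boundary_lift_zero_add (X₀.δ 0).hom (X₀.δ 1).hom (X₀.σ 0).hom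
      (fun b => δ_σ_zero X' 0 b) (fun b => δ_σ_zero X' 1 b)
      (Y₀.δ 0).hom (Y₀.δ 1).hom (Y₀.σ 0).hom
      (f.app (op ⦋1⦌)).hom (f.app (op ⦋0⦌)).hom
      (fun a => ConcreteCategory.congr_hom (SimplicialObject.δ_naturality f 0) a)
      (fun a => ConcreteCategory.congr_hom (SimplicialObject.δ_naturality f 1) a)
      (fun a => ConcreteCategory.congr_hom (SimplicialObject.σ_naturality f 0) a)
      (hf _)
      (fun z hz => by
        obtain ⟨y, hy1, hy2, hy3⟩ := QIso.exists_norm_zero f hq hf z hz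
        exact ⟨y, hy1, hy2, hy3 0⟩)
      (SSet.yonedaEquiv (boundary.ι 0 ≫ t) : X' _⦋0⦌)
      (SSet.yonedaEquiv (boundary.ι 1 ≫ t) : X' _⦋0⦌) (SSet.yonedaEquiv b : Y' _⦋1⦌)
      (hcomm' 0) (hcomm' 1)
    refine ⟨w, fun j => ?_, hw2⟩
    fin_cases j
    · exact hw0
    · exact hw1
  · -- higher boundaries
    let x : ℕ → X₀ _⦋m + 1⦌ := fun j =>
      if h : j < m + 3 then (SSet.yonedaEquiv (boundary.ι ⟨j, h⟩ ≫ t) : X' _⦋m + 1⦌) else 0
    have hxj : ∀ (j : Fin (m + 3)), x j.val = SSet.yonedaEquiv (boundary.ι j ≫ t) := by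
      intro j
      simp only [x]
      rw [dif_pos j.isLt]
    have compat : ∀ a b, a < b → b ≤ m + 2 → dHa X₀ m a (x b) = dHa X₀ m (b - 1) (x a) := by
      intro a b hab hb
      have hle : (⟨a, by omega⟩ : Fin (m + 2)) ≤ ⟨b - 1, by omega⟩ := by
        rw [Fin.mk_le_mk]; omega
      have h0 : stdSimplex.δ (⟨a, by omega⟩ : Fin (m + 2)) ≫
          boundary.ι (Fin.succ (⟨b - 1, by omega⟩ : Fin (m + 2))) =
          stdSimplex.δ (⟨b - 1, by omega⟩ : Fin (m + 2)) ≫
            (boundary.ι (Fin.castSucc (⟨a, by omega⟩ : Fin (m + 2))) :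
              Δ[m + 1] ⟶ (∂Δ[m + 2] : SSet.{u})) := by
        rw [← cancel_mono (Subcomplex.ι _), Category.assoc, Category.assoc, boundary.ι_ι,
          boundary.ι_ι]
        exact CosimplicialObject.δ_comp_δ stdSimplex hle
      have e1 : (⟨b - 1, by omega⟩ : Fin (m + 2)).succ = (⟨b, by omega⟩ : Fin (m + 3)) :=
        Fin.ext (by simp; omega)
      rw [e1] at h0
      have h2 := congrArg SSet.yonedaEquiv (h0 =≫ t)
      rw [Category.assoc, Category.assoc, stdSimplex.yonedaEquiv_δ_comp,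
        stdSimplex.yonedaEquiv_δ_comp] at h2
      rw [dHa_apply, dHa_apply, dN_eq X' m a (by omega), dN_eq X' m (b - 1) (by omega),
        hxj ⟨b, by omega⟩, hxj ⟨a, by omega⟩]
      exact h2
    obtain ⟨w, hw1, hw2⟩ := boundary_lift_add m (dHa X₀ (m + 1)) (dHa X₀ m) (sHa X₀ (m + 1))
      (sHa X₀ m)
      (fun i j hij hj a => by simp only [dHa_apply]; exact dN_dN X' m i j hij hj a)
      (fun i j hij hj b => by simp only [dHa_apply, sHa_apply]; exact dN_sN_lt X' m i j hij hj b)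
      (fun j hj b => by simp only [dHa_apply, sHa_apply]; exact dN_sN_self X' m j hj b)
      (fun j hj b => by simp only [dHa_apply, sHa_apply]; exact dN_sN_succ X' m j hj b)
      (fun i j hij hi b => by simp only [dHa_apply, sHa_apply]; exact dN_sN_gt X' m i j hij hi b)
      (dHa Y₀ (m + 1)) (sHa Y₀ (m + 1)) (f.app (op ⦋m + 2⦌)).hom (f.app (op ⦋m + 1⦌)).hom
      (fun i hi a => map_dHa f (m + 1) i (by omega) a)
      (fun j hj b => map_sHa f (m + 1) j (by omega) b)
      (hf _)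
      (fun z hz hzd => by
        obtain ⟨y, hy1, hy2, hy3⟩ := QIso.exists_norm_succ f hq hf m z hz (fun i => by
          have := hzd i.val (by omega)
          rw [dHa_eq X₀ m i.val i.isLt] at this
          exact this)
        refine ⟨y, hy1, ?_, fun j hj1 hj2 => ?_⟩
        · rw [dHa_eq X₀ (m + 1) 0 (by omega)]
          exact hy2
        · rw [dHa_eq X₀ (m + 1) j (by omega)]
          have e : (⟨j, by omega⟩ : Fin (m + 3)) = Fin.succ (⟨j - 1, by omega⟩ : Fin (m + 2)) :=
            Fin.ext (by simp; omega)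
          rw [e]
          exact hy3 _)
      x compat (SSet.yonedaEquiv b : Y' _⦋m + 2⦌)
      (fun j hj => by
        have h := hcomm' ⟨j, by omega⟩
        rw [← hxj ⟨j, by omega⟩] at h
        rw [dHa_apply, dN_eq Y' (m + 1) j (by omega)]
        exact h)
    refine ⟨w, fun j => ?_, hw2⟩
    have h := hw1 j.val (by omega)
    rw [dHa_apply, dN_eq X' (m + 1) j.val j.isLt, hxj j] at h
    exact h

end main

end Groth.Agent.Lib.helper13.Moore
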