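import Mathlib

/-!
# Formal Morse lemma, part 1 (helper13)

Order filtration on `MvPowerSeries`, division by the variables, quadratic polynomials.
-/

set_option autoImplicit false
universe u

namespace Groth.Agent.Lib.helper13.Morse

open MvPowerSeries

variable {n : ℕ} {k : Type u} [Field k]

/-- `f` has no terms of degree `< d` -/
def OrdGE (d : ℕ) (f : MvPowerSeries (Fin n) k) : Prop :=
  ∀ m : Fin n →₀ ℕ, m.degree < d → MvPowerSeries.coeff m f = 0

lemma ordGE_iff_le_order (d : ℕ) (f : MvPowerSeries (Fin n) k) :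
    OrdGE d f ↔ (d : ℕ∞) ≤ f.order := by
  constructor
  · intro h
    exact MvPowerSeries.nat_le_order h
  · intro h m hm
    apply MvPowerSeries.coeff_of_lt_order
    exact lt_of_lt_of_le (by exact_mod_cast hm) h

lemma OrdGE.mul {a b : ℕ} {f g : MvPowerSeries (Fin n) k} (hf : OrdGE a f) (hg : OrdGE b g) :
    OrdGE (a + b) (f * g) := by
  rw [ordGE_iff_le_order] at *
  calc ((a + b : ℕ) : ℕ∞) = (a : ℕ∞) + b := by push_cast; rfl
    _ ≤ f.order + g.order := add_le_add hf hg
    _ ≤ (f * g).order := MvPowerSeries.le_order_mul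

lemma OrdGE.add {d : ℕ} {f g : MvPowerSeries (Fin n) k} (hf : OrdGE d f) (hg : OrdGE d g) :
    OrdGE d (f + g) := by
  intro m hm
  rw [map_add, hf m hm, hg m hm, add_zero]

lemma OrdGE.neg {d : ℕ} {f : MvPowerSeries (Fin n) k} (hf : OrdGE d f) : OrdGE d (-f) := by
  intro m hm
  rw [map_neg, hf m hm, neg_zero]

lemma OrdGE.sub {d : ℕ} {f g : MvPowerSeries (Fin n) k} (hf : OrdGE d f) (hg : OrdGE d g) :
    OrdGE d (f - g) := by
  rw [sub_eq_add_neg]
  exact hf.add hg.neg

lemma OrdGE.zero (d : ℕ) : OrdGE d (0 : MvPowerSeries (Fin n) k) := by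
  intro m _
  rw [map_zero]

lemma OrdGE.mono {d d' : ℕ} (h : d' ≤ d) {f : MvPowerSeries (Fin n) k} (hf : OrdGE d f) :
    OrdGE d' f := fun m hm => hf m (lt_of_lt_of_le hm h)

lemma ordGE_zero (f : MvPowerSeries (Fin n) k) : OrdGE 0 f := fun _ hm => absurd hm (Nat.not_lt_zero _)

lemma OrdGE.mul_left {d : ℕ} {f : MvPowerSeries (Fin n) k} (hf : OrdGE d f)
    (g : MvPowerSeries (Fin n) k) : OrdGE d (g * f) := by
  have := (ordGE_zero g).mul hf
  rwa [zero_add] at this

lemma OrdGE.mul_right {d : ℕ} {f : MvPowerSeries (Fin n) k} (hf : OrdGE d f)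
    (g : MvPowerSeries (Fin n) k) : OrdGE d (f * g) := by
  rw [mul_comm]; exact hf.mul_left g

lemma OrdGE.sum {ι : Type*} {d : ℕ} (s : Finset ι) (f : ι → MvPowerSeries (Fin n) k)
    (hf : ∀ i ∈ s, OrdGE d (f i)) : OrdGE d (∑ i ∈ s, f i) := by
  intro m hm
  rw [map_sum]
  exact Finset.sum_eq_zero fun i hi => hf i hi m hm

lemma eq_zero_of_forall_ordGE {f : MvPowerSeries (Fin n) k} (h : ∀ d, OrdGE d f) : f = 0 := by
  ext m
  rw [map_zero]
  exact h (m.degree + 1) m (Nat.lt_succ_self _)

/-- the ideal of power series of order `≥ d` -/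
def ordIdeal (n : ℕ) (k : Type u) [Field k] (d : ℕ) : Ideal (MvPowerSeries (Fin n) k) where
  carrier := {f | OrdGE d f}
  add_mem' := fun ha hb => OrdGE.add ha hb
  zero_mem' := OrdGE.zero d
  smul_mem' := fun c _ hx => OrdGE.mul_left hx c

lemma mem_ordIdeal {d : ℕ} {f : MvPowerSeries (Fin n) k} : f ∈ ordIdeal n k d ↔ OrdGE d f := Iff.rfl

lemma ordGE_X (i : Fin n) : OrdGE 1 (MvPowerSeries.X i : MvPowerSeries (Fin n) k) := by
  classical
  intro m hm
  rw [MvPowerSeries.coeff_X, if_neg]
  intro h
  rw [h, Finsupp.degree_single] at hm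
  exact absurd hm (lt_irrefl _)

lemma ordGE_one_iff (f : MvPowerSeries (Fin n) k) :
    OrdGE 1 f ↔ MvPowerSeries.constantCoeff f = 0 := by
  constructor
  · intro h
    have := h 0 (by simp)
    rwa [MvPowerSeries.coeff_zero_eq_constantCoeff_apply] at this
  · intro h m hm
    have hm0 : m = 0 := by
      have : m.degree = 0 := by omega
      exact (Finsupp.degree_eq_zero_iff m).mp this
    rw [hm0, MvPowerSeries.coeff_zero_eq_constantCoeff_apply, h]

lemma single_le {m : Fin n →₀ ℕ} {a : Fin n} (ha : m a ≠ 0) : Finsupp.single a 1 ≤ m := by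
  rw [Finsupp.single_le_iff]
  exact Nat.one_le_iff_ne_zero.mpr ha

/-- splitting off one variable from a multi-index of positive degree -/
lemma exists_add_single {d : ℕ} (m : Fin n →₀ ℕ) (hm : m.degree = d + 1) :
    ∃ (a : Fin n) (m' : Fin n →₀ ℕ), m = m' + Finsupp.single a 1 ∧ m'.degree = d := by
  have hne : m ≠ 0 := by
    intro h
    rw [h, map_zero] at hm
    omega
  obtain ⟨a, ha⟩ := Finsupp.ne_iff.mp hne
  rw [Finsupp.zero_apply] at ha
  have hle : Finsupp.single a 1 ≤ m := single_le ha
  refine ⟨a, m - Finsupp.single a 1, (tsub_add_cancel_of_le hle).symm, ?_⟩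
  have := congrArg Finsupp.degree (tsub_add_cancel_of_le hle)
  rw [map_add, Finsupp.degree_single, hm] at this
  omega

lemma exists_single_of_degree_one (m : Fin n →₀ ℕ) (hm : m.degree = 1) :
    ∃ a : Fin n, m = Finsupp.single a 1 := by
  obtain ⟨a, m', h1, h2⟩ := exists_add_single (d := 0) m hm
  have : m' = 0 := (Finsupp.degree_eq_zero_iff m').mp h2
  exact ⟨a, by rw [h1, this, zero_add]⟩

lemma exists_single_add_single_of_degree_two (m : Fin n →₀ ℕ) (hm : m.degree = 2) :
    ∃ a b : Fin n, m = Finsupp.single a 1 + Finsupp.single b 1 := by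
  obtain ⟨a, m', h1, h2⟩ := exists_add_single (d := 1) m hm
  obtain ⟨b, hb⟩ := exists_single_of_degree_one m' h2
  exact ⟨b, a, by rw [h1, hb]⟩

/-- division by the variables -/
lemma exists_eq_sum_X_mul {d : ℕ} (h : MvPowerSeries (Fin n) k) (hh : OrdGE (d + 1) h) :
    ∃ g : Fin n → MvPowerSeries (Fin n) k, (∀ j, OrdGE d (g j)) ∧
      h = ∑ j, MvPowerSeries.X j * g j := by
  classical
  let g : Fin n → MvPowerSeries (Fin n) k := fun j m =>
    if (∀ i, i < j → m i = 0) then MvPowerSeries.coeff (m + Finsupp.single j 1) h else 0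
  have hgc : ∀ j m, MvPowerSeries.coeff m (g j) =
      if (∀ i, i < j → m i = 0) then MvPowerSeries.coeff (m + Finsupp.single j 1) h else 0 :=
    fun j m => rfl
  refine ⟨g, ?_, ?_⟩
  · intro j m hm
    rw [hgc]
    split_ifs
    · apply hh
      rw [map_add, Finsupp.degree_single]
      omega
    · rfl
  · ext m
    rw [map_sum]
    by_cases hm0 : m = 0
    · subst hm0
      rw [hh 0 (by simp)]
      symm
      apply Finset.sum_eq_zero
      intro j _
      rw [MvPowerSeries.X, MvPowerSeries.coeff_monomial_mul, if_neg]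
      intro hle
      have := Finsupp.le_def.mp hle j
      simp at this
    · -- the least index in the support
      have hsupp : m.support.Nonempty := Finsupp.support_nonempty_iff.mpr hm0
      set j₀ := m.support.min' hsupp with hj₀
      have hj₀mem : j₀ ∈ m.support := Finset.min'_mem _ _
      have hj₀ne : m j₀ ≠ 0 := Finsupp.mem_support_iff.mp hj₀mem
      rw [Finset.sum_eq_single j₀]
      · rw [MvPowerSeries.X, MvPowerSeries.coeff_monomial_mul, if_pos, one_mul, hgc, if_pos]
        · rw [tsub_add_cancel_of_le (single_le hj₀ne)]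
        · intro i hi
          rw [Finsupp.tsub_apply, Finsupp.single_apply, if_neg (ne_of_gt hi), Nat.sub_zero]
          by_contra hne
          have : i ∈ m.support := Finsupp.mem_support_iff.mpr hne
          have := Finset.min'_le _ _ this
          exact absurd (lt_of_lt_of_le hi this) (lt_irrefl _)
        · exact single_le hj₀ne
      · intro j _ hj
        rw [MvPowerSeries.X, MvPowerSeries.coeff_monomial_mul]
        split_ifs with hle
        · rw [one_mul, hgc, if_neg]
          intro hall
          have hmj : m j ≠ 0 := by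
            have := Finsupp.le_def.mp hle j
            simp at this
            omega
          have hjmem : j ∈ m.support := Finsupp.mem_support_iff.mpr hmj
          have hle' : j₀ ≤ j := Finset.min'_le _ _ hjmem
          have hlt : j₀ < j := lt_of_le_of_ne hle' (Ne.symm hj)
          have := hall j₀ hlt
          rw [Finsupp.tsub_apply, Finsupp.single_apply, if_neg (ne_of_gt hlt), Nat.sub_zero] at this
          exact hj₀ne this
        · rfl
      · intro h
        exact absurd (Finset.mem_univ _) h

end Groth.Agent.Lib.helper13.Morse
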