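import Groth.Agent.Lib.helper13.Morse1

/-!
# Formal Morse lemma, part 2 (helper13)

Quadratic polynomials: induction principle, Taylor formula, order estimates.
-/

set_option autoImplicit false
universe u

namespace Groth.Agent.Lib.helper13.Morse

open MvPowerSeries

variable {n : ℕ} {k : Type u} [Field k]

/-- induction principle for quadratic forms -/
lemma quad_induction (P : MvPolynomial (Fin n) k → Prop) (h0 : P 0)
    (hadd : ∀ p p', P p → P p' → P (p + p'))
    (hmon : ∀ (c : k) (a b : Fin n), P (MvPolynomial.C c * (MvPolynomial.X a * MvPolynomial.X b)))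
    (q : MvPolynomial (Fin n) k) (hq : q.IsHomogeneous 2) : P q := by
  classical
  rw [← MvPolynomial.support_sum_monomial_coeff q]
  have key : ∀ s : Finset (Fin n →₀ ℕ), (∀ m ∈ s, m.degree = 2) →
      P (∑ m ∈ s, MvPolynomial.monomial m (q.coeff m)) := by
    intro s
    induction s using Finset.induction_on with
    | empty => intro _; simpa using h0
    | insert m s hm ih =>
      intro hs
      rw [Finset.sum_insert hm]
      apply hadd
      · obtain ⟨a, b, hab⟩ :=
          exists_single_add_single_of_degree_two m (hs m (Finset.mem_insert_self _ _))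
        have : MvPolynomial.monomial m (q.coeff m) =
            MvPolynomial.C (q.coeff m) * (MvPolynomial.X a * MvPolynomial.X b) := by
          rw [hab, MvPolynomial.X, MvPolynomial.X, MvPolynomial.monomial_mul,
            MvPolynomial.C_mul_monomial, mul_one, mul_one]
        rw [this]
        exact hmon _ _ _
      · exact ih (fun m' hm' => hs m' (Finset.mem_insert_of_mem hm'))
  apply key
  intro m hm
  have hc : q.coeff m ≠ 0 := MvPolynomial.mem_support_iff.mp hm
  by_contra h
  exact hc (hq.coeff_eq_zero h)

/-- induction principle for linear forms -/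
lemma lin_induction (P : MvPolynomial (Fin n) k → Prop) (h0 : P 0)
    (hadd : ∀ p p', P p → P p' → P (p + p'))
    (hmon : ∀ (c : k) (a : Fin n), P (MvPolynomial.C c * MvPolynomial.X a))
    (q : MvPolynomial (Fin n) k) (hq : q.IsHomogeneous 1) : P q := by
  classical
  rw [← MvPolynomial.support_sum_monomial_coeff q]
  have key : ∀ s : Finset (Fin n →₀ ℕ), (∀ m ∈ s, m.degree = 1) →
      P (∑ m ∈ s, MvPolynomial.monomial m (q.coeff m)) := by
    intro s
    induction s using Finset.induction_on with
    | empty => intro _; simpa using h0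
    | insert m s hm ih =>
      intro hs
      rw [Finset.sum_insert hm]
      apply hadd
      · obtain ⟨a, hab⟩ :=
          exists_single_of_degree_one m (hs m (Finset.mem_insert_self _ _))
        have : MvPolynomial.monomial m (q.coeff m) =
            MvPolynomial.C (q.coeff m) * MvPolynomial.X a := by
          rw [hab, MvPolynomial.X, MvPolynomial.C_mul_monomial, mul_one]
        rw [this]
        exact hmon _ _
      · exact ih (fun m' hm' => hs m' (Finset.mem_insert_of_mem hm'))
  apply key
  intro m hm
  have hc : q.coeff m ≠ 0 := MvPolynomial.mem_support_iff.mp hm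
  by_contra h
  exact hc (hq.coeff_eq_zero h)

section general

variable {A : Type*} [CommRing A] [Algebra k A]

/-- Taylor formula for a quadratic form -/
lemma taylor (q : MvPolynomial (Fin n) k) (hq : q.IsHomogeneous 2) (y η : Fin n → A) :
    MvPolynomial.aeval (y + η) q = MvPolynomial.aeval y q +
      ∑ i, MvPolynomial.aeval y (MvPolynomial.pderiv i q) * η i + MvPolynomial.aeval η q := by
  classical
  revert y η
  refine quad_induction (fun q => ∀ y η : Fin n → A, MvPolynomial.aeval (y + η) q =
    MvPolynomial.aeval y q +
      ∑ i, MvPolynomial.aeval y (MvPolynomial.pderiv i q) * η i + MvPolynomial.aeval η q)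
    ?_ ?_ ?_ q hq
  · intro y η
    simp
  · intro p p' hp hp' y η
    simp only [map_add, add_mul, Finset.sum_add_distrib]
    rw [hp y η, hp' y η]
    ring
  · intro c a b y η
    have hp : ∀ i, MvPolynomial.pderiv i
        (MvPolynomial.C c * (MvPolynomial.X a * MvPolynomial.X b) : MvPolynomial (Fin n) k) =
        MvPolynomial.C c * ((if a = i then 1 else 0) * MvPolynomial.X b +
          MvPolynomial.X a * (if b = i then 1 else 0)) := by
      intro i
      rw [MvPolynomial.pderiv_C_mul, Derivation.leibniz, MvPolynomial.pderiv_X,
        MvPolynomial.pderiv_X, Pi.single_apply, Pi.single_apply, smul_eq_mul, smul_eq_mul]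
      ring
    have hp' : ∀ i, MvPolynomial.aeval y (MvPolynomial.pderiv i
        (MvPolynomial.C c * (MvPolynomial.X a * MvPolynomial.X b) : MvPolynomial (Fin n) k)) =
        algebraMap k A c * ((if a = i then 1 else 0) * y b + y a * (if b = i then 1 else 0)) := by
      intro i
      rw [hp]
      split_ifs <;> simp
    simp only [hp', map_mul, MvPolynomial.aeval_C, MvPolynomial.aeval_X, Pi.add_apply]
    have h1 : ∑ i, algebraMap k A c * ((if a = i then 1 else 0) * y b +
        y a * (if b = i then 1 else 0)) * η i =
        algebraMap k A c * (η a * y b + y a * η b) := by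
      have : ∀ i, algebraMap k A c * ((if a = i then 1 else 0) * y b +
          y a * (if b = i then 1 else 0)) * η i =
          (if a = i then algebraMap k A c * y b * η i else 0) +
            (if b = i then algebraMap k A c * y a * η i else 0) := by
        intro i
        split_ifs <;> ring
      simp_rw [this]
      rw [Finset.sum_add_distrib, Finset.sum_ite_eq, Finset.sum_ite_eq, if_pos (Finset.mem_univ _),
        if_pos (Finset.mem_univ _)]
      ring
    rw [h1]
    ring

/-- first order: `P(y + η) - P(y)` lies in the ideal generated by the `η i` -/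
lemma aeval_add_sub_mem_span (P : MvPolynomial (Fin n) k) (y η : Fin n → A) :
    MvPolynomial.aeval (y + η) P - MvPolynomial.aeval y P ∈ Ideal.span (Set.range η) := by
  induction P using MvPolynomial.induction_on with
  | C c => simp
  | add p p' hp hp' =>
    rw [map_add, map_add, add_sub_add_comm]
    exact Ideal.add_mem _ hp hp'
  | mul_X p i hp =>
    rw [map_mul, map_mul, MvPolynomial.aeval_X, MvPolynomial.aeval_X, Pi.add_apply]
    have : MvPolynomial.aeval (y + η) p * (y i + η i) - MvPolynomial.aeval y p * y i =
        (MvPolynomial.aeval (y + η) p - MvPolynomial.aeval y p) * (y i + η i) +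
          MvPolynomial.aeval y p * η i := by ring
    rw [this]
    exact Ideal.add_mem _ (Ideal.mul_mem_right _ _ hp)
      (Ideal.mul_mem_left _ _ (Ideal.subset_span ⟨i, rfl⟩))

end general

/-- a quadratic form evaluated on series of order `≥ d` has order `≥ 2d` -/
lemma ordGE_aeval_quad (q : MvPolynomial (Fin n) k) (hq : q.IsHomogeneous 2) {d : ℕ}
    (η : Fin n → MvPowerSeries (Fin n) k) (hη : ∀ i, OrdGE d (η i)) :
    OrdGE (d + d) (MvPolynomial.aeval η q) := by
  refine quad_induction (fun q => OrdGE (d + d) (MvPolynomial.aeval η q)) ?_ ?_ ?_ q hq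
  · rw [map_zero]; exact OrdGE.zero _
  · intro p p' hp hp'
    rw [map_add]; exact hp.add hp'
  · intro c a b
    rw [map_mul, map_mul, MvPolynomial.aeval_X, MvPolynomial.aeval_X]
    exact ((hη a).mul (hη b)).mul_left _

/-- `aeval X q` is the coercion of `q` -/
lemma aeval_X_eq_coe (q : MvPolynomial (Fin n) k) :
    MvPolynomial.aeval (fun i => (MvPowerSeries.X i : MvPowerSeries (Fin n) k)) q =
      (q : MvPowerSeries (Fin n) k) := by
  induction q using MvPolynomial.induction_on with
  | C c =>
    rw [MvPolynomial.aeval_C, MvPolynomial.coe_C]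
    rfl
  | add p p' hp hp' => rw [map_add, hp, hp', MvPolynomial.coe_add]
  | mul_X p i hp => rw [map_mul, hp, MvPolynomial.aeval_X, MvPolynomial.coe_mul, MvPolynomial.coe_X]

/-- a linear form has order `≥ 1` -/
lemma ordGE_coe_lin (l : MvPolynomial (Fin n) k) (hl : l.IsHomogeneous 1) :
    OrdGE 1 (l : MvPowerSeries (Fin n) k) := by
  intro m hm
  rw [MvPolynomial.coeff_coe]
  apply hl.coeff_eq_zero
  omega

/-- a linear form of order `≥ 2` vanishes -/
lemma lin_eq_zero_of_ordGE (l : MvPolynomial (Fin n) k) (hl : l.IsHomogeneous 1)
    (h : OrdGE 2 (l : MvPowerSeries (Fin n) k)) : l = 0 := by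
  ext m
  rw [MvPolynomial.coeff_zero]
  by_cases hm : m.degree = 1
  · have := h m (by omega)
    rwa [MvPolynomial.coeff_coe] at this
  · exact hl.coeff_eq_zero hm

/-- partial derivatives lower the order by at most one -/
lemma OrdGE.pderiv {d : ℕ} {g : MvPowerSeries (Fin n) k} (hg : OrdGE (d + 1) g) (i : Fin n) :
    OrdGE d (MvPowerSeries.pderiv k i g) := by
  intro m hm
  rw [MvPowerSeries.coeff_pderiv, hg _ (by rw [map_add, Finsupp.degree_single]; omega), zero_mul]

end Groth.Agent.Lib.helper13.Morse
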