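import Groth.Agent.Lib.helper13.Morse2

/-!
# Formal Morse lemma, part 3 (helper13)

The successive approximation.
-/

set_option autoImplicit false
universe u

namespace Groth.Agent.Lib.helper13.Morse

open MvPowerSeries

variable {n : ℕ} {k : Type u} [Field k]

/-- the quadratic part of a power series, as a polynomial -/
noncomputable def quadPart (f : MvPowerSeries (Fin n) k) : MvPolynomial (Fin n) k :=
  MvPolynomial.homogeneousComponent 2
    (MvPowerSeries.trunc' k (Finsupp.equivFunOnFinite.symm (fun _ : Fin n => 2)) f)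

lemma quadPart_isHomogeneous (f : MvPowerSeries (Fin n) k) : (quadPart f).IsHomogeneous 2 :=
  MvPolynomial.homogeneousComponent_isHomogeneous 2 _

lemma coeff_quadPart (f : MvPowerSeries (Fin n) k) (m : Fin n →₀ ℕ) :
    (quadPart f).coeff m = if m.degree = 2 then MvPowerSeries.coeff m f else 0 := by
  unfold quadPart
  rw [MvPolynomial.coeff_homogeneousComponent]
  split_ifs with h
  · rw [MvPowerSeries.coeff_trunc', if_pos]
    intro i
    have := Finsupp.le_degree i m
    rw [h] at this
    simpa using this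
  · rfl

variable (f : MvPowerSeries (Fin n) k)

lemma constantCoeff_pderiv_eq_zero
    (hJ : Ideal.span (Set.range fun i : Fin n => MvPowerSeries.pderiv k i f) =
      IsLocalRing.maximalIdeal (MvPowerSeries (Fin n) k)) (i : Fin n) :
    MvPowerSeries.constantCoeff (MvPowerSeries.pderiv k i f) = 0 := by
  have hmem : MvPowerSeries.pderiv k i f ∈ IsLocalRing.maximalIdeal (MvPowerSeries (Fin n) k) := by
    rw [← hJ]
    exact Ideal.subset_span ⟨i, rfl⟩
  rw [IsLocalRing.mem_maximalIdeal, mem_nonunits_iff, MvPowerSeries.isUnit_iff_constantCoeff,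
    isUnit_iff_ne_zero, not_not] at hmem
  exact hmem

lemma ordGE_three_sub_quadPart (hf0 : MvPowerSeries.constantCoeff f = 0)
    (hJ : Ideal.span (Set.range fun i : Fin n => MvPowerSeries.pderiv k i f) =
      IsLocalRing.maximalIdeal (MvPowerSeries (Fin n) k)) :
    OrdGE 3 (f - (quadPart f : MvPowerSeries (Fin n) k)) := by
  intro m hm
  rw [map_sub, MvPolynomial.coeff_coe, coeff_quadPart]
  have hcases : m.degree = 0 ∨ m.degree = 1 ∨ m.degree = 2 := by omega
  rcases hcases with h | h | h
  · rw [if_neg (by omega), sub_zero]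
    have : m = 0 := (Finsupp.degree_eq_zero_iff m).mp h
    rw [this, MvPowerSeries.coeff_zero_eq_constantCoeff_apply, hf0]
  · rw [if_neg (by omega), sub_zero]
    obtain ⟨a, rfl⟩ := exists_single_of_degree_one m h
    have h1 := constantCoeff_pderiv_eq_zero f hJ a
    rw [← MvPowerSeries.coeff_zero_eq_constantCoeff_apply, MvPowerSeries.coeff_pderiv, zero_add] at h1
    simpa using h1
  · rw [if_pos h, sub_self]

/-- the linear forms `∂q/∂x_i` -/
noncomputable def ell (i : Fin n) : MvPowerSeries (Fin n) k :=
  ((MvPolynomial.pderiv i (quadPart f) : MvPolynomial (Fin n) k) : MvPowerSeries (Fin n) k)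

lemma pderiv_quadPart_isHomogeneous (i : Fin n) :
    (MvPolynomial.pderiv i (quadPart f)).IsHomogeneous 1 :=
  (quadPart_isHomogeneous f).pderiv

lemma ordGE_ell (i : Fin n) : OrdGE 1 (ell f i) :=
  ordGE_coe_lin _ (pderiv_quadPart_isHomogeneous f i)

/-- nondegeneracy: every variable is a combination of the `ℓ_i` -/
lemma exists_X_eq_sum (hf0 : MvPowerSeries.constantCoeff f = 0)
    (hJ : Ideal.span (Set.range fun i : Fin n => MvPowerSeries.pderiv k i f) =
      IsLocalRing.maximalIdeal (MvPowerSeries (Fin n) k)) (j : Fin n) :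
    ∃ c : Fin n → k, (MvPowerSeries.X j : MvPowerSeries (Fin n) k) =
      ∑ i, MvPowerSeries.C (c i) * ell f i := by
  have hXmem : (MvPowerSeries.X j : MvPowerSeries (Fin n) k) ∈
      Ideal.span (Set.range fun i : Fin n => MvPowerSeries.pderiv k i f) := by
    rw [hJ, IsLocalRing.mem_maximalIdeal, mem_nonunits_iff, MvPowerSeries.isUnit_iff_constantCoeff,
      MvPowerSeries.constantCoeff_X]
    exact not_isUnit_zero
  obtain ⟨a, ha⟩ := Ideal.mem_span_range_iff_exists_fun.mp hXmem
  let c : Fin n → k := fun i => MvPowerSeries.constantCoeff (a i)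
  refine ⟨c, ?_⟩
  let P : MvPolynomial (Fin n) k :=
    MvPolynomial.X j - ∑ i, MvPolynomial.C (c i) * MvPolynomial.pderiv i (quadPart f)
  have hPhom : P.IsHomogeneous 1 := by
    apply MvPolynomial.IsHomogeneous.sub (MvPolynomial.isHomogeneous_X _ _)
    apply MvPolynomial.IsHomogeneous.sum
    intro i _
    have := (MvPolynomial.isHomogeneous_C (Fin n) (c i)).mul (pderiv_quadPart_isHomogeneous f i)
    rwa [zero_add] at this
  have hPcoe : (P : MvPowerSeries (Fin n) k) =
      MvPowerSeries.X j - ∑ i, MvPowerSeries.C (c i) * ell f i := by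
    show MvPolynomial.coeToMvPowerSeries.ringHom P = _
    simp only [P, map_sub, map_sum, map_mul]
    simp only [MvPolynomial.coeToMvPowerSeries.ringHom_apply, MvPolynomial.coe_X, MvPolynomial.coe_C]
    rfl
  have hord : OrdGE 2 (P : MvPowerSeries (Fin n) k) := by
    rw [hPcoe, ← ha, ← Finset.sum_sub_distrib]
    apply OrdGE.sum
    intro i _
    have hsplit : a i * MvPowerSeries.pderiv k i f - MvPowerSeries.C (c i) * ell f i =
        (a i - MvPowerSeries.C (c i)) * MvPowerSeries.pderiv k i f +
          MvPowerSeries.C (c i) * (MvPowerSeries.pderiv k i f - ell f i) := by ring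
    rw [hsplit]
    apply OrdGE.add
    · have h1 : OrdGE 1 (a i - MvPowerSeries.C (c i)) := by
        rw [ordGE_one_iff, map_sub, MvPowerSeries.constantCoeff_C, sub_self]
      have h2 : OrdGE 1 (MvPowerSeries.pderiv k i f) := by
        rw [ordGE_one_iff]
        exact constantCoeff_pderiv_eq_zero f hJ i
      exact h1.mul h2
    · apply OrdGE.mul_left
      have : MvPowerSeries.pderiv k i f - ell f i =
          MvPowerSeries.pderiv k i (f - (quadPart f : MvPowerSeries (Fin n) k)) := by
        rw [map_sub, MvPowerSeries.pderiv_coe]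
        rfl
      rw [this]
      exact (ordGE_three_sub_quadPart f hf0 hJ).pderiv i
  have hP0 : P = 0 := lin_eq_zero_of_ordGE P hPhom hord
  rw [hP0, MvPolynomial.coe_zero] at hPcoe
  exact (sub_eq_zero.mp hPcoe.symm)

/-- representation of series of order `≥ d+1` through the linear forms -/
lemma exists_eq_sum_ell_mul (hf0 : MvPowerSeries.constantCoeff f = 0)
    (hJ : Ideal.span (Set.range fun i : Fin n => MvPowerSeries.pderiv k i f) =
      IsLocalRing.maximalIdeal (MvPowerSeries (Fin n) k)) {d : ℕ}
    (h : MvPowerSeries (Fin n) k) (hh : OrdGE (d + 1) h) :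
    ∃ η : Fin n → MvPowerSeries (Fin n) k, (∀ i, OrdGE d (η i)) ∧ h = ∑ i, ell f i * η i := by
  obtain ⟨g, hg, hsum⟩ := exists_eq_sum_X_mul h hh
  choose c hc using exists_X_eq_sum f hf0 hJ
  refine ⟨fun i => ∑ j, MvPowerSeries.C (c j i) * g j, ?_, ?_⟩
  · intro i
    apply OrdGE.sum
    intro j _
    exact (hg j).mul_left _
  · rw [hsum]
    simp_rw [Finset.mul_sum]
    rw [Finset.sum_comm]
    apply Finset.sum_congr rfl
    intro j _
    rw [hc j, Finset.sum_mul]
    apply Finset.sum_congr rfl
    intro i _
    ring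

end Groth.Agent.Lib.helper13.Morse
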