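import Groth.Agent.Lib.helper13.Morse3

/-!
# Formal Morse lemma, part 4 (helper13)

Iteration and passage to the limit.
-/

set_option autoImplicit false
universe u

namespace Groth.Agent.Lib.helper13.Morse

open MvPowerSeries

variable {n : ℕ} {k : Type u} [Field k]

/-- the vector of variables -/
noncomputable def XX (n : ℕ) (k : Type u) [Field k] : Fin n → MvPowerSeries (Fin n) k :=
  fun i => MvPowerSeries.X i

variable (f : MvPowerSeries (Fin n) k)

/-- the remainder -/
noncomputable def Rem (ε : Fin n → MvPowerSeries (Fin n) k) : MvPowerSeries (Fin n) k :=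
  f - MvPolynomial.aeval (XX n k + ε) (quadPart f)

lemma span_le_ordIdeal {d : ℕ} (η : Fin n → MvPowerSeries (Fin n) k) (hη : ∀ i, OrdGE d (η i)) :
    Ideal.span (Set.range η) ≤ ordIdeal n k d := by
  rw [Ideal.span_le]
  rintro _ ⟨i, rfl⟩
  exact hη i

/-- changing `ε` by something of order `≥ d` changes the remainder by something of order `≥ d` -/
lemma ordGE_Rem_sub {d : ℕ} (ε η : Fin n → MvPowerSeries (Fin n) k) (hη : ∀ i, OrdGE d (η i)) :
    OrdGE d (Rem f (ε + η) - Rem f ε) := by
  unfold Rem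
  have h1 := aeval_add_sub_mem_span (quadPart f) (XX n k + ε) η
  have h2 := span_le_ordIdeal η hη h1
  rw [mem_ordIdeal] at h2
  have : f - MvPolynomial.aeval (XX n k + (ε + η)) (quadPart f) -
      (f - MvPolynomial.aeval (XX n k + ε) (quadPart f)) =
      - (MvPolynomial.aeval (XX n k + ε + η) (quadPart f) -
        MvPolynomial.aeval (XX n k + ε) (quadPart f)) := by
    rw [add_assoc]; ring
  rw [this]
  exact h2.neg

/-- the iteration step -/
lemma step (hf0 : MvPowerSeries.constantCoeff f = 0)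
    (hJ : Ideal.span (Set.range fun i : Fin n => MvPowerSeries.pderiv k i f) =
      IsLocalRing.maximalIdeal (MvPowerSeries (Fin n) k)) (t : ℕ)
    (ε : Fin n → MvPowerSeries (Fin n) k) (hε : ∀ i, OrdGE 2 (ε i))
    (hR : OrdGE (t + 3) (Rem f ε)) :
    ∃ ε' : Fin n → MvPowerSeries (Fin n) k, (∀ i, OrdGE 2 (ε' i)) ∧ OrdGE (t + 4) (Rem f ε') ∧
      ∀ i, OrdGE (t + 2) (ε' i - ε i) := by
  obtain ⟨η, hη, hsum⟩ := exists_eq_sum_ell_mul f hf0 hJ (d := t + 2) (Rem f ε) hR
  refine ⟨ε + η, ?_, ?_, ?_⟩
  · intro i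
    exact (hε i).add ((hη i).mono (by omega))
  · have hT := taylor (quadPart f) (quadPart_isHomogeneous f) (XX n k + ε) η
    have hkey : Rem f (ε + η) =
        ∑ i, (ell f i - MvPolynomial.aeval (XX n k + ε) (MvPolynomial.pderiv i (quadPart f))) * η i -
          MvPolynomial.aeval η (quadPart f) := by
      have h1 : Rem f (ε + η) = Rem f ε -
          ∑ i, MvPolynomial.aeval (XX n k + ε) (MvPolynomial.pderiv i (quadPart f)) * η i -
            MvPolynomial.aeval η (quadPart f) := by
        unfold Rem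
        rw [← add_assoc, hT]
        ring
      rw [h1, hsum, ← Finset.sum_sub_distrib]
      congr 1
      apply Finset.sum_congr rfl
      intro i _
      ring
    rw [hkey]
    apply OrdGE.sub
    · apply OrdGE.sum
      intro i _
      have h2 : OrdGE 2 (ell f i -
          MvPolynomial.aeval (XX n k + ε) (MvPolynomial.pderiv i (quadPart f))) := by
        have h3 := aeval_add_sub_mem_span (MvPolynomial.pderiv i (quadPart f)) (XX n k) ε
        have h4 := span_le_ordIdeal ε hε h3
        rw [mem_ordIdeal] at h4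
        have : ell f i - MvPolynomial.aeval (XX n k + ε) (MvPolynomial.pderiv i (quadPart f)) =
            - (MvPolynomial.aeval (XX n k + ε) (MvPolynomial.pderiv i (quadPart f)) -
              MvPolynomial.aeval (XX n k) (MvPolynomial.pderiv i (quadPart f))) := by
          rw [show MvPolynomial.aeval (XX n k) (MvPolynomial.pderiv i (quadPart f)) = ell f i from
            aeval_X_eq_coe _]
          ring
        rw [this]
        exact h4.neg
      have := h2.mul (hη i)
      exact this.mono (by omega)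
    · exact (ordGE_aeval_quad (quadPart f) (quadPart_isHomogeneous f) η hη).mono (by omega)
  · intro i
    rw [Pi.add_apply, add_sub_cancel_left]
    exact hη i

/-- the state at stage `t` -/
def Good (t : ℕ) (ε : Fin n → MvPowerSeries (Fin n) k) : Prop :=
  (∀ i, OrdGE 2 (ε i)) ∧ OrdGE (t + 3) (Rem f ε)

lemma good_zero (hf0 : MvPowerSeries.constantCoeff f = 0)
    (hJ : Ideal.span (Set.range fun i : Fin n => MvPowerSeries.pderiv k i f) =
      IsLocalRing.maximalIdeal (MvPowerSeries (Fin n) k)) : Good f 0 0 := by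
  refine ⟨fun i => OrdGE.zero _, ?_⟩
  unfold Rem
  rw [add_zero, show MvPolynomial.aeval (XX n k) (quadPart f) = (quadPart f : MvPowerSeries (Fin n) k)
    from aeval_X_eq_coe _]
  exact ordGE_three_sub_quadPart f hf0 hJ

/-- the sequence of approximations -/
noncomputable def seq (hf0 : MvPowerSeries.constantCoeff f = 0)
    (hJ : Ideal.span (Set.range fun i : Fin n => MvPowerSeries.pderiv k i f) =
      IsLocalRing.maximalIdeal (MvPowerSeries (Fin n) k)) :
    (t : ℕ) → {ε : Fin n → MvPowerSeries (Fin n) k // Good f t ε}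
  | 0 => ⟨0, good_zero f hf0 hJ⟩
  | t + 1 =>
    let s := seq hf0 hJ t
    ⟨Classical.choose (step f hf0 hJ t s.1 s.2.1 s.2.2),
      (Classical.choose_spec (step f hf0 hJ t s.1 s.2.1 s.2.2)).1,
      (Classical.choose_spec (step f hf0 hJ t s.1 s.2.1 s.2.2)).2.1⟩

lemma seq_succ_sub (hf0 : MvPowerSeries.constantCoeff f = 0)
    (hJ : Ideal.span (Set.range fun i : Fin n => MvPowerSeries.pderiv k i f) =
      IsLocalRing.maximalIdeal (MvPowerSeries (Fin n) k)) (t : ℕ) (i : Fin n) :
    OrdGE (t + 2) ((seq f hf0 hJ (t + 1)).1 i - (seq f hf0 hJ t).1 i) :=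
  (Classical.choose_spec (step f hf0 hJ t (seq f hf0 hJ t).1 (seq f hf0 hJ t).2.1
    (seq f hf0 hJ t).2.2)).2.2 i

/-- coefficients stabilise -/
lemma coeff_seq_eq (hf0 : MvPowerSeries.constantCoeff f = 0)
    (hJ : Ideal.span (Set.range fun i : Fin n => MvPowerSeries.pderiv k i f) =
      IsLocalRing.maximalIdeal (MvPowerSeries (Fin n) k)) (i : Fin n) (m : Fin n →₀ ℕ) (t : ℕ)
    (ht : m.degree ≤ t) :
    MvPowerSeries.coeff m ((seq f hf0 hJ t).1 i) =
      MvPowerSeries.coeff m ((seq f hf0 hJ m.degree).1 i) := by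
  induction t with
  | zero =>
    have : m.degree = 0 := by omega
    rw [this]
  | succ t ih =>
    by_cases h : m.degree = t + 1
    · rw [h]
    · have hle : m.degree ≤ t := by omega
      rw [← ih hle]
      have := seq_succ_sub f hf0 hJ t i m (by omega)
      rw [map_sub, sub_eq_zero] at this
      exact this

/-- the limit -/
noncomputable def lim (hf0 : MvPowerSeries.constantCoeff f = 0)
    (hJ : Ideal.span (Set.range fun i : Fin n => MvPowerSeries.pderiv k i f) =
      IsLocalRing.maximalIdeal (MvPowerSeries (Fin n) k)) : Fin n → MvPowerSeries (Fin n) k :=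
  fun i m => MvPowerSeries.coeff m ((seq f hf0 hJ m.degree).1 i)

lemma coeff_lim (hf0 : MvPowerSeries.constantCoeff f = 0)
    (hJ : Ideal.span (Set.range fun i : Fin n => MvPowerSeries.pderiv k i f) =
      IsLocalRing.maximalIdeal (MvPowerSeries (Fin n) k)) (i : Fin n) (m : Fin n →₀ ℕ) :
    MvPowerSeries.coeff m (lim f hf0 hJ i) =
      MvPowerSeries.coeff m ((seq f hf0 hJ m.degree).1 i) := rfl

lemma ordGE_lim_sub (hf0 : MvPowerSeries.constantCoeff f = 0)
    (hJ : Ideal.span (Set.range fun i : Fin n => MvPowerSeries.pderiv k i f) =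
      IsLocalRing.maximalIdeal (MvPowerSeries (Fin n) k)) (t : ℕ) (i : Fin n) :
    OrdGE (t + 1) (lim f hf0 hJ i - (seq f hf0 hJ t).1 i) := by
  intro m hm
  rw [map_sub, coeff_lim, coeff_seq_eq f hf0 hJ i m t (by omega), sub_self]

lemma ordGE_lim (hf0 : MvPowerSeries.constantCoeff f = 0)
    (hJ : Ideal.span (Set.range fun i : Fin n => MvPowerSeries.pderiv k i f) =
      IsLocalRing.maximalIdeal (MvPowerSeries (Fin n) k)) (i : Fin n) :
    OrdGE 2 (lim f hf0 hJ i) := by
  intro m hm
  rw [coeff_lim]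
  exact (seq f hf0 hJ m.degree).2.1 i m hm

lemma Rem_lim (hf0 : MvPowerSeries.constantCoeff f = 0)
    (hJ : Ideal.span (Set.range fun i : Fin n => MvPowerSeries.pderiv k i f) =
      IsLocalRing.maximalIdeal (MvPowerSeries (Fin n) k)) :
    Rem f (lim f hf0 hJ) = 0 := by
  apply eq_zero_of_forall_ordGE
  intro d
  -- use stage `t = d`
  have h1 : OrdGE (d + 1) (Rem f ((seq f hf0 hJ d).1 + (lim f hf0 hJ - (seq f hf0 hJ d).1)) -
      Rem f (seq f hf0 hJ d).1) :=
    ordGE_Rem_sub f _ _ (fun i => ordGE_lim_sub f hf0 hJ d i)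
  rw [add_sub_cancel] at h1
  have h2 : OrdGE (d + 3) (Rem f (seq f hf0 hJ d).1) := (seq f hf0 hJ d).2.2
  have h3 := (h1.mono (Nat.le_succ d)).add (h2.mono (by omega : d ≤ d + 3))
  rwa [sub_add_cancel] at h3

/-- **Formal Morse lemma.** -/
theorem morse (hf0 : MvPowerSeries.constantCoeff f = 0)
    (hJ : Ideal.span (Set.range fun i : Fin n => MvPowerSeries.pderiv k i f) =
      IsLocalRing.maximalIdeal (MvPowerSeries (Fin n) k)) :
    ∃ (ε : Fin n → MvPowerSeries (Fin n) k) (q : MvPolynomial (Fin n) k),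
      (∀ i, OrdGE 2 (ε i)) ∧ q.IsHomogeneous 2 ∧
      f = MvPolynomial.aeval (fun i => MvPowerSeries.X i + ε i) q := by
  refine ⟨lim f hf0 hJ, quadPart f, ordGE_lim f hf0 hJ, quadPart_isHomogeneous f, ?_⟩
  have := Rem_lim f hf0 hJ
  unfold Rem at this
  exact sub_eq_zero.mp this

end Groth.Agent.Lib.helper13.Morse
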