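import Mathlib

/-!
Injectivity and gradedness of the substitution of elementary symmetric polynomials in several
families of variables (helper13's helper library).
-/

set_option autoImplicit false

namespace Groth.Agent.Lib.helper13.MultiSym

open MvPolynomial

universe u v w

section Sum

variable (R : Type u) [CommRing R] {σ : Type v} {τ : Type w}

/-- Apply an endomorphism to the right block of variables. -/
noncomputable def sumRight (E₂ : MvPolynomial τ R →ₐ[R] MvPolynomial τ R) :
    MvPolynomial (σ ⊕ τ) R →ₐ[R] MvPolynomial (σ ⊕ τ) R :=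
  aeval (Sum.elim (fun i => X (Sum.inl i)) (fun j => rename Sum.inr (E₂ (X j))))

theorem sumRight_injective (E₂ : MvPolynomial τ R →ₐ[R] MvPolynomial τ R)
    (h : Function.Injective E₂) : Function.Injective (sumRight R (σ := σ) E₂) := by
  classical
  let A := sumAlgEquiv R σ τ
  let M : MvPolynomial σ (MvPolynomial τ R) →+* MvPolynomial σ (MvPolynomial τ R) :=
    MvPolynomial.map (E₂ : MvPolynomial τ R →+* MvPolynomial τ R)
  have hM : Function.Injective M := MvPolynomial.map_injective _ h
  have key : ((A : MvPolynomial (σ ⊕ τ) R →+* MvPolynomial σ (MvPolynomial τ R)).comp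
      (sumRight R (σ := σ) E₂ : MvPolynomial (σ ⊕ τ) R →+* MvPolynomial (σ ⊕ τ) R)) =
      M.comp (A : MvPolynomial (σ ⊕ τ) R →+* MvPolynomial σ (MvPolynomial τ R)) := by
    apply MvPolynomial.ringHom_ext
    · intro r
      simp [A, M, sumRight]
    · intro i
      rcases i with k | k
      · simp [A, M, sumRight]
      · have h1 : (sumAlgEquiv R σ τ) ((rename Sum.inr) (E₂ (X k))) =
            (IsScalarTower.toAlgHom R (MvPolynomial τ R)
              (MvPolynomial σ (MvPolynomial τ R))) (E₂ (X k)) :=
          DFunLike.congr_fun (sumAlgEquiv_comp_rename_inr (R := R) (S₁ := σ) (S₂ := τ)) (E₂ (X k))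
        simp only [RingHom.coe_comp, Function.comp_apply, RingHom.coe_coe, sumRight, aeval_X,
          Sum.elim_inr, A, sumAlgEquiv_X_inr, M, map_C]
        rw [h1]
        simp
  intro p q hpq
  have h1 := DFunLike.congr_fun key p
  have h2 := DFunLike.congr_fun key q
  simp only [RingHom.coe_comp, Function.comp_apply, RingHom.coe_coe] at h1 h2
  rw [hpq, h2] at h1
  exact A.injective (hM h1).symm

/-- Apply an endomorphism to the left block of variables. -/
noncomputable def sumLeft (E₁ : MvPolynomial σ R →ₐ[R] MvPolynomial σ R) :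
    MvPolynomial (σ ⊕ τ) R →ₐ[R] MvPolynomial (σ ⊕ τ) R :=
  aeval (Sum.elim (fun i => rename Sum.inl (E₁ (X i))) (fun j => X (Sum.inr j)))

theorem sumLeft_injective (E₁ : MvPolynomial σ R →ₐ[R] MvPolynomial σ R)
    (h : Function.Injective E₁) : Function.Injective (sumLeft R (τ := τ) E₁) := by
  let sw : MvPolynomial (σ ⊕ τ) R →ₐ[R] MvPolynomial (τ ⊕ σ) R := rename Sum.swap
  have hsw : Function.Injective sw := rename_injective _ Sum.swap_leftInverse.injective
  have key : (sw.comp (sumLeft R (τ := τ) E₁)) = (sumRight R (σ := τ) E₁).comp sw := by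
    apply MvPolynomial.algHom_ext
    intro i
    rcases i with k | k
    · simp only [AlgHom.coe_comp, Function.comp_apply, sumLeft, aeval_X, Sum.elim_inl, sw,
        rename_X, Sum.swap_inl, sumRight, Sum.elim_inr, rename_rename]
      rfl
    · simp [sumLeft, sw, sumRight]
  intro p q hpq
  have h1 := DFunLike.congr_fun key p
  have h2 := DFunLike.congr_fun key q
  simp only [AlgHom.coe_comp, Function.comp_apply] at h1 h2
  rw [hpq, h2] at h1
  exact hsw (sumRight_injective R E₁ h h1).symm

/-- Apply endomorphisms to both blocks of variables. -/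
noncomputable def sumBoth (E₁ : MvPolynomial σ R →ₐ[R] MvPolynomial σ R)
    (E₂ : MvPolynomial τ R →ₐ[R] MvPolynomial τ R) :
    MvPolynomial (σ ⊕ τ) R →ₐ[R] MvPolynomial (σ ⊕ τ) R :=
  aeval (Sum.elim (fun i => rename Sum.inl (E₁ (X i))) (fun j => rename Sum.inr (E₂ (X j))))

theorem sumLeft_rename_inr (E₁ : MvPolynomial σ R →ₐ[R] MvPolynomial σ R)
    (p : MvPolynomial τ R) :
    sumLeft R (τ := τ) E₁ (rename Sum.inr p) = rename Sum.inr p := by
  have h : (sumLeft R (τ := τ) E₁).comp (rename Sum.inr) = rename Sum.inr := by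
    apply MvPolynomial.algHom_ext
    intro j
    simp [sumLeft]
  exact DFunLike.congr_fun h p

theorem sumBoth_eq (E₁ : MvPolynomial σ R →ₐ[R] MvPolynomial σ R)
    (E₂ : MvPolynomial τ R →ₐ[R] MvPolynomial τ R) :
    sumBoth R E₁ E₂ = (sumLeft R E₁).comp (sumRight R E₂) := by
  apply MvPolynomial.algHom_ext
  intro i
  rcases i with k | k
  · simp [sumBoth, sumLeft, sumRight]
  · simp only [sumBoth, aeval_X, Sum.elim_inr, AlgHom.coe_comp, Function.comp_apply, sumRight]
    rw [sumLeft_rename_inr]

theorem sumBoth_injective (E₁ : MvPolynomial σ R →ₐ[R] MvPolynomial σ R)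
    (E₂ : MvPolynomial τ R →ₐ[R] MvPolynomial τ R)
    (h₁ : Function.Injective E₁) (h₂ : Function.Injective E₂) :
    Function.Injective (sumBoth R E₁ E₂) := by
  rw [sumBoth_eq]
  exact (sumLeft_injective R E₁ h₁).comp (sumRight_injective R E₂ h₂)

end Sum

section Single

variable (R : Type u) [CommRing R] (n : ℕ)

/-- Substitution `X_i ↦ e_{i+1}` in `n` variables. -/
noncomputable def esub : MvPolynomial (Fin n) R →ₐ[R] MvPolynomial (Fin n) R :=
  aeval (fun i : Fin n => esymm (Fin n) R ((i : ℕ) + 1))

theorem esub_injective : Function.Injective (esub R n) := by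
  intro p q h
  apply esymmAlgHom_fin_injective R (le_refl n)
  apply Subtype.ext
  rw [esymmAlgHom_apply, esymmAlgHom_apply]
  exact h

end Single

section Multi

variable (R : Type u) [CommRing R] (S : Type v) (N : ℕ)

/-- The `(j+1)`-st elementary symmetric polynomial of the family `s`. -/
noncomputable def eFam (s : S) (j : ℕ) : MvPolynomial (S × Fin N) R :=
  rename (fun l : Fin N => (s, l)) (esymm (Fin N) R (j + 1))

/-- Substitution of the elementary symmetric polynomials in all families. -/
noncomputable def EAll : MvPolynomial (S × Fin N) R →ₐ[R] MvPolynomial (S × Fin N) R :=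
  aeval (fun v : S × Fin N => eFam R S N v.1 v.2)

variable [DecidableEq S]

/-- Substitution in the single family `s₀`. -/
noncomputable def DOne (s₀ : S) : MvPolynomial (S × Fin N) R →ₐ[R] MvPolynomial (S × Fin N) R :=
  aeval (fun v : S × Fin N => if v.1 = s₀ then eFam R S N s₀ v.2 else X v)

/-- Splitting off the family `s₀`. -/
def splitEquiv (s₀ : S) : S × Fin N ≃ ({s : S // s ≠ s₀} × Fin N) ⊕ Fin N where
  toFun v := if h : v.1 = s₀ then Sum.inr v.2 else Sum.inl (⟨v.1, h⟩, v.2)
  invFun w := Sum.elim (fun u => (u.1.1, u.2)) (fun l => (s₀, l)) w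
  left_inv := by
    rintro ⟨s, l⟩
    by_cases h : s = s₀
    · subst h; simp
    · simp [h]
  right_inv := by
    rintro (⟨⟨s, hs⟩, l⟩ | l)
    · simp [hs]
    · simp

theorem splitEquiv_self (s₀ : S) (l : Fin N) : splitEquiv S N s₀ (s₀, l) = Sum.inr l := by
  simp [splitEquiv]

theorem splitEquiv_of_ne (s₀ s : S) (h : s ≠ s₀) (l : Fin N) :
    splitEquiv S N s₀ (s, l) = Sum.inl (⟨s, h⟩, l) := by
  simp [splitEquiv, h]

theorem DOne_injective (s₀ : S) : Function.Injective (DOne R S N s₀) := by
  let q := splitEquiv S N s₀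
  let rq : MvPolynomial (S × Fin N) R →ₐ[R] MvPolynomial (({s : S // s ≠ s₀} × Fin N) ⊕ Fin N) R :=
    rename q
  have hrq : Function.Injective rq := rename_injective _ q.injective
  have key : rq.comp (DOne R S N s₀) =
      (sumRight R (σ := {s : S // s ≠ s₀} × Fin N) (esub R N)).comp rq := by
    apply MvPolynomial.algHom_ext
    rintro ⟨s, j⟩
    by_cases h : s = s₀
    · subst h
      simp only [AlgHom.coe_comp, Function.comp_apply, DOne, aeval_X, if_true, rq, rename_X, q,
        splitEquiv_self, sumRight, Sum.elim_inr, eFam, rename_rename, esub]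
      have e : (⇑(splitEquiv S N s) ∘ fun l : Fin N => (s, l)) = Sum.inr := by
        funext l
        simp [splitEquiv_self]
      rw [e]
    · simp only [AlgHom.coe_comp, Function.comp_apply, DOne, aeval_X, if_neg h, rq, rename_X, q,
        splitEquiv_of_ne S N s₀ s h, sumRight, Sum.elim_inl]
  intro p p' hpp
  have h1 := DFunLike.congr_fun key p
  have h2 := DFunLike.congr_fun key p'
  simp only [AlgHom.coe_comp, Function.comp_apply] at h1 h2
  rw [hpp, h2] at h1
  exact hrq (sumRight_injective R (esub R N) (esub_injective R N) h1).symm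

/-- Substitution in the families belonging to a finite set. -/
noncomputable def EFin (F : Finset S) : MvPolynomial (S × Fin N) R →ₐ[R] MvPolynomial (S × Fin N) R :=
  aeval (fun v : S × Fin N => if v.1 ∈ F then eFam R S N v.1 v.2 else X v)

theorem DOne_eFam_of_ne (s₀ s : S) (h : s ≠ s₀) (j : ℕ) :
    DOne R S N s₀ (eFam R S N s j) = eFam R S N s j := by
  unfold eFam
  have e : (DOne R S N s₀).comp (rename (fun l : Fin N => (s, l))) =
      rename (fun l : Fin N => (s, l)) := by
    apply MvPolynomial.algHom_ext
    intro l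
    simp [DOne, h]
  exact DFunLike.congr_fun e _

theorem EFin_insert (s₀ : S) (F : Finset S) (h : s₀ ∉ F) :
    EFin R S N (insert s₀ F) = (DOne R S N s₀).comp (EFin R S N F) := by
  apply MvPolynomial.algHom_ext
  rintro ⟨s, j⟩
  simp only [EFin, aeval_X, AlgHom.coe_comp, Function.comp_apply, Finset.mem_insert]
  by_cases hs : s = s₀
  · subst hs
    simp [h, DOne]
  · by_cases hF : s ∈ F
    · simp only [hs, hF, or_true, if_true]
      rw [DOne_eFam_of_ne R S N s₀ s hs]
    · simp [hs, hF, DOne]

theorem EFin_injective (F : Finset S) : Function.Injective (EFin R S N F) := by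
  induction F using Finset.induction_on with
  | empty =>
    have : EFin R S N ∅ = AlgHom.id R _ := by
      apply MvPolynomial.algHom_ext
      intro v
      simp [EFin]
    rw [this]
    exact Function.injective_id
  | insert a F ha ih =>
    rw [EFin_insert R S N a F ha]
    exact (DOne_injective R S N a).comp ih

theorem EAll_eq_EFin (p : MvPolynomial (S × Fin N) R) (F : Finset S)
    (hF : ∀ v ∈ p.vars, v.1 ∈ F) : EAll R S N p = EFin R S N F p := by
  refine hom_congr_vars
    (f₁ := (EAll R S N : MvPolynomial (S × Fin N) R →+* MvPolynomial (S × Fin N) R))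
    (f₂ := (EFin R S N F : MvPolynomial (S × Fin N) R →+* MvPolynomial (S × Fin N) R)) ?_ ?_ rfl
  · ext r
    simp [EAll, EFin]
  · intro v hv _
    simp [EAll, EFin, hF v hv]

theorem EAll_injective : Function.Injective (EAll R S N) := by
  intro p q hpq
  let F : Finset S := (p.vars ∪ q.vars).image Prod.fst
  have hp : ∀ v ∈ p.vars, v.1 ∈ F := fun v hv =>
    Finset.mem_image_of_mem _ (Finset.mem_union_left _ hv)
  have hq : ∀ v ∈ q.vars, v.1 ∈ F := fun v hv =>
    Finset.mem_image_of_mem _ (Finset.mem_union_right _ hv)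
  rw [EAll_eq_EFin R S N p F hp, EAll_eq_EFin R S N q F hq] at hpq
  exact EFin_injective R S N F hpq

end Multi

section Graded

variable {R : Type u} [CommRing R] {σ : Type v} {τ : Type w}

/-- The weight of an exponent vector. -/
def wt (wf : σ → ℕ) (t : σ →₀ ℕ) : ℕ := ∑ i ∈ t.support, wf i * t i

theorem aeval_monomial_isHomogeneous (wf : σ → ℕ)
    (E : MvPolynomial σ R →ₐ[R] MvPolynomial τ R)
    (hhom : ∀ i, (E (X i)).IsHomogeneous (wf i)) (t : σ →₀ ℕ) (c : R) :
    (E (monomial t c)).IsHomogeneous (wt wf t) := by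
  have e : E (monomial t c) = C c * ∏ i ∈ t.support, E (X i) ^ t i := by
    rw [monomial_eq, map_mul, Finsupp.prod, map_prod]
    congr 1
    · exact E.commutes c
    · refine Finset.prod_congr rfl fun i _ => ?_
      rw [map_pow]
  rw [e]
  have h1 := IsHomogeneous.prod t.support (fun i => E (X i) ^ t i) (fun i => wf i * t i)
    (fun i _ => (hhom i).pow _)
  have h2 := (isHomogeneous_C τ c).mul h1
  rwa [zero_add] at h2

/-- Graded injectivity (the argument follows helper6's `SymmWeight.weight_of_mem_pow`): if an
injective substitution by homogeneous polynomials maps `p` into the `d`-th power of the ideal of the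
variables, then all monomials of `p` have weight at least `d`. -/
theorem wt_le_of_mem_pow (wf : σ → ℕ) (E : MvPolynomial σ R →ₐ[R] MvPolynomial τ R)
    (hinj : Function.Injective E) (hhom : ∀ i, (E (X i)).IsHomogeneous (wf i))
    (p : MvPolynomial σ R) (d : ℕ) (h : E p ∈ idealOfVars τ R ^ d) :
    ∀ t ∈ p.support, d ≤ wt wf t := by
  classical
  set plo := ∑ t ∈ p.support.filter (fun t => wt wf t < d), monomial t (coeff t p) with hplo
  set phi := ∑ t ∈ p.support.filter (fun t => ¬ wt wf t < d), monomial t (coeff t p) with hphi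
  have hp : p = plo + phi := by
    rw [hplo, hphi, Finset.sum_filter_add_sum_filter_not]
    exact (support_sum_monomial_coeff p).symm
  have hhi : E phi ∈ idealOfVars τ R ^ d := by
    rw [hphi, map_sum]
    refine Ideal.sum_mem _ fun t ht => ?_
    rw [mem_pow_idealOfVars_iff]
    intro x hx
    have hh := aeval_monomial_isHomogeneous wf E hhom t (coeff t p)
    have hne : coeff x (E (monomial t (coeff t p))) ≠ 0 := mem_support_iff.mp hx
    have hdeg : x.degree = wt wf t := by
      by_contra hd
      exact hne (hh.coeff_eq_zero hd)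
    have := (Finset.mem_filter.mp ht).2
    omega
  have hlo : E plo ∈ idealOfVars τ R ^ d := by
    rw [hp, map_add] at h
    exact (Ideal.add_mem_iff_left _ hhi).mp h
  have hlo0 : E plo = 0 := by
    ext x
    rw [coeff_zero]
    by_cases hx : d ≤ x.degree
    · rw [hplo, map_sum, coeff_sum]
      apply Finset.sum_eq_zero
      intro t ht
      refine (aeval_monomial_isHomogeneous wf E hhom t _).coeff_eq_zero ?_
      have := (Finset.mem_filter.mp ht).2
      omega
    · exact (mem_pow_idealOfVars_iff' d _).mp hlo x (by omega)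
  have hplo0 : plo = 0 := hinj (by rw [hlo0, map_zero])
  intro t ht
  by_contra hlt
  have hc : coeff t plo = coeff t p := by
    rw [hplo, coeff_sum, Finset.sum_eq_single t]
    · simp
    · intro b _ hb
      rw [coeff_monomial, if_neg hb]
    · intro hnot
      exfalso
      exact hnot (Finset.mem_filter.mpr ⟨ht, by omega⟩)
  rw [hplo0, coeff_zero] at hc
  exact (mem_support_iff.mp ht) hc.symm

end Graded

section Homog

variable (R : Type u) [CommRing R] (S : Type v) (N : ℕ)

theorem esymm_isHomogeneous (σ : Type*) [Fintype σ] (n : ℕ) :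
    (esymm σ R n).IsHomogeneous n := by
  rw [esymm]
  refine IsHomogeneous.sum _ _ _ fun t ht => ?_
  have := IsHomogeneous.prod t (fun i => (X i : MvPolynomial σ R)) (fun _ => 1)
    (fun i _ => isHomogeneous_X R i)
  simpa [(Finset.mem_powersetCard.mp ht).2] using this

theorem eFam_isHomogeneous (s : S) (j : ℕ) : (eFam R S N s j).IsHomogeneous (j + 1) :=
  (esymm_isHomogeneous R (Fin N) (j + 1)).rename_isHomogeneous

end Homog

end Groth.Agent.Lib.helper13.MultiSym
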