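import Groth.Agent.Lib.helper13.Newton

/-!
Weights of the Newton polynomials and composition of weighted homogeneous polynomials
(helper13's helper library).
-/

set_option autoImplicit false

namespace Groth.Agent.Lib.helper13.Newton

open MvPolynomial Finset

theorem neg_one_pow_eq_C (σ : Type*) (R : Type*) [CommRing R] (n : ℕ) :
    ((-1 : MvPolynomial σ R) ^ n) = C ((-1 : R) ^ n) := by
  simp

theorem isWeightedHomogeneous_nuP (n : ℕ) :
    IsWeightedHomogeneous (fun i : ℕ => i + 1) (nuP n) (n + 1) := by
  induction n using Nat.strong_induction_on with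
  | _ n ih =>
    rw [nuP_eq, neg_one_pow_eq_C]
    apply IsWeightedHomogeneous.C_mul
    apply IsWeightedHomogeneous.sub
    · exact (isWeightedHomogeneous_X ℚ (fun i : ℕ => i + 1) n).C_mul _
    · apply IsWeightedHomogeneous.sum
      intro i hi
      have hi' := Finset.mem_range.mp hi
      rw [neg_one_pow_eq_C]
      apply IsWeightedHomogeneous.C_mul
      have h := (isWeightedHomogeneous_X ℚ (fun i : ℕ => i + 1) i).mul (ih (n - 1 - i) (by omega))
      have e : (fun i : ℕ => i + 1) i + (n - 1 - i + 1) = n + 1 := by
        change i + 1 + (n - 1 - i + 1) = n + 1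
        omega
      rwa [e] at h

theorem isWeightedHomogeneous_epsP (n : ℕ) :
    IsWeightedHomogeneous (fun i : ℕ => i + 1) (epsP n) (n + 1) := by
  induction n using Nat.strong_induction_on with
  | _ n ih =>
    rw [epsP_eq]
    apply IsWeightedHomogeneous.C_mul
    apply IsWeightedHomogeneous.add
    · rw [neg_one_pow_eq_C]
      exact (isWeightedHomogeneous_X ℚ (fun i : ℕ => i + 1) n).C_mul _
    · apply IsWeightedHomogeneous.sum
      intro i hi
      have hi' := Finset.mem_range.mp hi
      rw [neg_one_pow_eq_C]
      apply IsWeightedHomogeneous.C_mul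
      have h := (ih i hi').mul (isWeightedHomogeneous_X ℚ (fun i : ℕ => i + 1) (n - 1 - i))
      have e : i + 1 + (fun i : ℕ => i + 1) (n - 1 - i) = n + 1 := by
        change i + 1 + (n - 1 - i + 1) = n + 1
        omega
      rwa [e] at h

/-- Substituting weighted homogeneous polynomials of weights `w i • v` in a polynomial isobaric of
weight `N` for the weights `w` gives a weighted homogeneous polynomial of weight `N • v`. -/
theorem isWeightedHomogeneous_aeval {σ τ R M : Type*} [CommRing R] [AddCommMonoid M]
    {w : σ → ℕ} {w' : τ → M} {F : MvPolynomial σ R} {N : ℕ} (hF : IsWeightedHomogeneous w F N)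
    (g : σ → MvPolynomial τ R) (v : M) (hg : ∀ i, IsWeightedHomogeneous w' (g i) (w i • v)) :
    IsWeightedHomogeneous w' (aeval g F) (N • v) := by
  induction hF using IsWeightedHomogeneous.induction_on with
  | zero =>
    rw [map_zero]
    exact isWeightedHomogeneous_zero R w' _
  | add p q hp hq ihp ihq =>
    rw [map_add]
    exact ihp.add ihq
  | monomial d r hr =>
    rw [aeval_monomial, algebraMap_eq]
    apply IsWeightedHomogeneous.C_mul
    rw [Finsupp.prod]
    have h := IsWeightedHomogeneous.prod d.support (fun i => g i ^ d i)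
      (fun i => d i • (w i • v)) (w := w') (fun i _ => (hg i).pow (d i))
    have e : ∑ i ∈ d.support, d i • (w i • v) = N • v := by
      rw [← hr, Finsupp.weight_apply, Finsupp.sum, Finset.sum_smul]
      apply Finset.sum_congr rfl
      intro i _
      rw [smul_eq_mul, mul_smul]
    rwa [e] at h

/-- Weighted homogeneity descends from ℚ to ℤ. -/
theorem isWeightedHomogeneous_of_map {σ M : Type*} [AddCommMonoid M] {w : σ → M}
    {P : MvPolynomial σ ℤ} {m : M}
    (h : IsWeightedHomogeneous w (map (Int.castRingHom ℚ) P) m) : IsWeightedHomogeneous w P m := by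
  intro d hd
  apply h
  rw [coeff_map]
  simpa using hd

end Groth.Agent.Lib.helper13.Newton
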