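import Mathlib

/-!
# Norm from `R[X]/(χ)` of the class of `P` equals `det P(U)` when `χ = charpoly U`
-/

open Polynomial Matrix

namespace Groth.Agent.Lib.helper13.NormDet

universe u

section Defs

variable {R : Type u} [CommRing R]

/-- matrix of multiplication by `P` on `R[X]/(χ)` in the power basis -/
noncomputable def mulMat (χ P : R[X]) (n : ℕ) : Matrix (Fin n) (Fin n) R :=
  Matrix.of fun i j => ((P * X ^ (j : ℕ)) %ₘ χ).coeff i

noncomputable def N (χ P : R[X]) (n : ℕ) : R := (mulMat χ P n).det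

lemma norm_eq_N {χ : R[X]} (hχ : χ.Monic) (P : R[X]) :
    Algebra.norm R (AdjoinRoot.mk χ P) = N χ P χ.natDegree := by
  rw [Algebra.norm_eq_matrix_det (AdjoinRoot.powerBasis' hχ).basis]
  unfold N
  congr 1
  ext i j
  rw [Algebra.leftMulMatrix_eq_repr_mul]
  change (AdjoinRoot.powerBasisAux' hχ).repr _ i = _
  rw [AdjoinRoot.powerBasisAux'_repr_apply_to_fun]
  have : (AdjoinRoot.powerBasis' hχ).basis j = AdjoinRoot.mk χ (X ^ (j : ℕ)) := by
    rw [PowerBasis.basis_eq_pow]
    simp
  rw [this, ← map_mul, AdjoinRoot.modByMonicHom_mk]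
  rfl

lemma map_N {S : Type*} [CommRing S] (φ : R →+* S) {χ : R[X]} (hχ : χ.Monic) (P : R[X]) (n : ℕ) :
    φ (N χ P n) = N (χ.map φ) (P.map φ) n := by
  unfold N
  rw [RingHom.map_det]
  congr 1
  ext i j
  simp only [mulMat, RingHom.mapMatrix_apply, Matrix.map_apply, Matrix.of_apply]
  rw [← Polynomial.coeff_map, Polynomial.map_modByMonic _ hχ]
  simp

end Defs


lemma det_sub_scalar {R : Type*} [CommRing R] {n : ℕ} (M : Matrix (Fin n) (Fin n) R) (a : R) :
    (M - Matrix.scalar (Fin n) a).det = (-1) ^ n * M.charpoly.eval a := by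
  rw [Matrix.eval_charpoly, ← neg_sub, Matrix.det_neg, Fintype.card_fin]

lemma norm_eq_det_field {K : Type u} [Field K] {n : ℕ} (U : Matrix (Fin n) (Fin n) K)
    (P : K[X]) (hP : P.Splits) :
    Algebra.norm K (AdjoinRoot.mk U.charpoly P) = (aeval U P).det := by
  set χ := U.charpoly with hχdef
  have hχ : χ.Monic := Matrix.charpoly_monic U
  have hn : χ.natDegree = n := by
    rw [hχdef, Matrix.charpoly_natDegree_eq_dim, Fintype.card_fin]
  have hfr : Module.finrank K (AdjoinRoot χ) = n := by
    rw [(AdjoinRoot.powerBasis' hχ).finrank]; exact hn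
  -- constants
  have hC : ∀ c : K, Algebra.norm K (AdjoinRoot.mk χ (C c)) = (aeval U (C c)).det := by
    intro c
    rw [AdjoinRoot.mk_C, ← AdjoinRoot.algebraMap_eq, Algebra.norm_algebraMap, hfr, aeval_C,
      Matrix.algebraMap_eq_diagonal]
    simp
  have hX : ∀ a : K, Algebra.norm K (AdjoinRoot.mk χ (X - C a)) = (aeval U (X - C a)).det := by
    intro a
    have h1 : (aeval U (X - C a)) = U - Matrix.scalar (Fin n) a := by
      simp [Matrix.algebraMap_eq_diagonal, Matrix.scalar_apply]
    rw [h1, det_sub_scalar]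
    rw [Algebra.norm_eq_matrix_det (AdjoinRoot.powerBasis' hχ).basis]
    have h2 : Algebra.leftMulMatrix (AdjoinRoot.powerBasis' hχ).basis
        (AdjoinRoot.mk χ (X - C a)) =
        Algebra.leftMulMatrix (AdjoinRoot.powerBasis' hχ).basis (AdjoinRoot.root χ) -
          Matrix.scalar _ a := by
      rw [map_sub, AdjoinRoot.mk_X, AdjoinRoot.mk_C, ← AdjoinRoot.algebraMap_eq, map_sub,
        AlgHom.commutes, Matrix.algebraMap_eq_diagonal]
      rfl
    rw [h2]
    have h3 := det_sub_scalar (Algebra.leftMulMatrix (AdjoinRoot.powerBasis' hχ).basis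
        (AdjoinRoot.root χ)) a
    have h4 : (Algebra.leftMulMatrix (AdjoinRoot.powerBasis' hχ).basis
        (AdjoinRoot.root χ)).charpoly = χ := by
      have := charpoly_leftMulMatrix (AdjoinRoot.powerBasis' hχ)
      rw [AdjoinRoot.powerBasis'_gen, AdjoinRoot.minpoly_root hχ.ne_zero, hχ.leadingCoeff] at this
      simpa using this
    rw [h4] at h3
    rw [h3]
    change (-1) ^ χ.natDegree * _ = _
    rw [hn]
  -- general split P
  let f : K[X] →* K := (Algebra.norm K).comp ((AdjoinRoot.mk χ : K[X] →+* AdjoinRoot χ) : K[X] →* AdjoinRoot χ)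
  let g : K[X] →* K := (Matrix.detMonoidHom).comp
    ((aeval U : K[X] →ₐ[K] Matrix (Fin n) (Fin n) K) : K[X] →* Matrix (Fin n) (Fin n) K)
  have hfg : ∀ Q : K[X], Q.Splits → f Q = g Q := by
    intro Q hQ
    rw [hQ.eq_prod_roots, map_mul, map_mul, map_multiset_prod, map_multiset_prod,
      Multiset.map_map, Multiset.map_map]
    congr 1
    · exact hC _
    · congr 1
      apply Multiset.map_congr rfl
      intro a _
      exact hX a
  exact hfg P hP

lemma mapMatrix_aeval {R S : Type*} [CommRing R] [CommRing S] (φ : R →+* S) {n : ℕ}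
    (U : Matrix (Fin n) (Fin n) R) (P : R[X]) :
    φ.mapMatrix (aeval U P) = aeval (U.map φ) (P.map φ) := by
  have h : (algebraMap S (Matrix (Fin n) (Fin n) S)).comp φ =
      (φ.mapMatrix).comp (algebraMap R (Matrix (Fin n) (Fin n) R)) := by
    ext r i j
    simp [Matrix.algebraMap_eq_diagonal, Matrix.diagonal_apply, apply_ite φ]
  exact Polynomial.map_aeval_eq_aeval_map h P U

theorem N_charpoly {R : Type u} [CommRing R] (P : R[X]) :
    ∀ (n : ℕ) (U : Matrix (Fin n) (Fin n) R), N U.charpoly P n = (aeval U P).det := by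
  induction P using induction_of_Splits_of_injective_of_surjective with
  | Splits K P hP =>
    intro n U
    have hχ := Matrix.charpoly_monic U
    have hn : U.charpoly.natDegree = n := by
      rw [Matrix.charpoly_natDegree_eq_dim, Fintype.card_fin]
    rw [← norm_eq_det_field U P hP, norm_eq_N hχ, hn]
  | injective R S φ hφ P IH =>
    intro n U
    apply hφ
    rw [map_N φ (Matrix.charpoly_monic U), ← Matrix.charpoly_map, IH n (U.map φ),
      RingHom.map_det, mapMatrix_aeval]
  | surjective R S φ hφ P IH =>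
    intro n U
    obtain ⟨P', rfl⟩ := Polynomial.map_surjective φ hφ P
    obtain ⟨U', rfl⟩ : ∃ U' : Matrix (Fin n) (Fin n) R, U'.map φ = U :=
      ⟨Matrix.of fun i j => (hφ (U i j)).choose, by
        ext i j; simpa using (hφ (U i j)).choose_spec⟩
    rw [Matrix.charpoly_map, ← map_N φ (Matrix.charpoly_monic U'), IH P' n U', RingHom.map_det,
      mapMatrix_aeval]

theorem norm_adjoinRoot_charpoly {R : Type u} [CommRing R] {n : ℕ} (U : Matrix (Fin n) (Fin n) R)
    (P : R[X]) : Algebra.norm R (AdjoinRoot.mk U.charpoly P) = (aeval U P).det := by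
  rcases subsingleton_or_nontrivial R with h | h
  · exact Subsingleton.elim _ _
  have hn : U.charpoly.natDegree = n := by
    rw [Matrix.charpoly_natDegree_eq_dim, Fintype.card_fin]
  rw [norm_eq_N (Matrix.charpoly_monic U), hn, N_charpoly]


end Groth.Agent.Lib.helper13.NormDet
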