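import Groth.Agent.Lib.helper13.NumTop2

/-!
Numerical types: contraction of a `(-1)`-index placed last.  Basic formulas and the map
`Pic(T) → Pic(T')` (injective, cokernel killed by `2`).
-/

set_option autoImplicit false

namespace Groth.Agent.Lib.helper13.NumContr

open Models Finset Groth.Agent.Lib.helper11.NumType

variable {n : ℕ} (T : NumericalType (n + 1))

/-- `b_i = a_{il} / w_l` -/
def b (i : Fin n) : ℤ := T.a i.castSucc (Fin.last n) / T.w (Fin.last n)

/-- `c_i = a_{il} / w_i` -/
def c (i : Fin n) : ℤ := T.a i.castSucc (Fin.last n) / T.w i.castSucc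

theorem a_eq_b (i : Fin n) : T.a i.castSucc (Fin.last n) = T.w (Fin.last n) * b T i := by
  unfold b
  rw [Int.mul_ediv_cancel']
  rw [T.symm.apply (Fin.last n) i.castSucc]
  exact T.w_dvd (Fin.last n) i.castSucc

theorem a_eq_c (i : Fin n) : T.a i.castSucc (Fin.last n) = T.w i.castSucc * c T i := by
  unfold c
  rw [Int.mul_ediv_cancel' (T.w_dvd i.castSucc (Fin.last n))]

theorem a_last_eq_b (i : Fin n) : T.a (Fin.last n) i.castSucc = T.w (Fin.last n) * b T i := by
  rw [← T.symm.apply (Fin.last n) i.castSucc, a_eq_b]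

theorem castSucc_ne_last (i : Fin n) : i.castSucc ≠ Fin.last n := (Fin.castSucc_lt_last i).ne

theorem b_nonneg (i : Fin n) : 0 ≤ b T i :=
  Int.ediv_nonneg (T.offDiag_nonneg _ _ (castSucc_ne_last i)) (T.w_pos _).le

theorem c_nonneg (i : Fin n) : 0 ≤ c T i :=
  Int.ediv_nonneg (T.offDiag_nonneg _ _ (castSucc_ne_last i)) (T.w_pos _).le

variable {T}

section contraction

variable {T' : NumericalType n} (h : T.IsMinusOne (Fin.last n)) (hT' : T.IsContraction T')

include hT' in
theorem w'_eq (i : Fin n) : T'.w i =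
    if 2 ∣ b T i ∧ ¬ 2 ∣ c T i then T.w i.castSucc / 2 else T.w i.castSucc :=
  hT'.2.2.1 i

include hT' in
/-- `w_i = w'_i * r` with `r ∈ {1, 2}`, and `r = 2` exactly in the halving case -/
theorem exists_ratio (i : Fin n) : ∃ r : ℤ, (r = 1 ∨ r = 2) ∧ T.w i.castSucc = T'.w i * r ∧
    (r = 2 ↔ (2 ∣ b T i ∧ ¬ 2 ∣ c T i)) := by
  rw [w'_eq hT' i]
  by_cases hc : 2 ∣ b T i ∧ ¬ 2 ∣ c T i
  · rw [if_pos hc]
    have h1 : T.w (Fin.last n) * b T i = T.w i.castSucc * c T i := by rw [← a_eq_b, a_eq_c]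
    have h2 : (2 : ℤ) ∣ T.w i.castSucc * c T i := by
      rw [← h1]; exact Dvd.dvd.mul_left hc.1 _
    have h3 : (2 : ℤ) ∣ T.w i.castSucc :=
      (Int.prime_two.dvd_or_dvd h2).resolve_right hc.2
    refine ⟨2, Or.inr rfl, ?_, ?_⟩
    · rw [Int.ediv_mul_cancel h3]
    · simp [hc]
  · rw [if_neg hc]
    refine ⟨1, Or.inl rfl, by ring, ?_⟩
    constructor
    · intro h; norm_num at h
    · intro h; exact absurd h hc

include h hT' in
theorem a'_eq (i j : Fin n) : T'.a i j =
    T.a i.castSucc j.castSucc + T.a i.castSucc (Fin.last n) * b T j := by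
  rw [hT'.2.1 i j, h.2, a_eq_b T j, Int.ediv_neg]
  have hw : T.w (Fin.last n) ≠ 0 := (T.w_pos _).ne'
  have : T.a i.castSucc (Fin.last n) * (T.w (Fin.last n) * b T j) =
      (T.a i.castSucc (Fin.last n) * b T j) * T.w (Fin.last n) := by ring
  rw [this, Int.mul_ediv_cancel _ hw]
  ring

/-- entries of the Picard matrix of `T` -/
theorem pic_castSucc_last (i : Fin n) : T.picMatrix i.castSucc (Fin.last n) = c T i := rfl

include h in
theorem pic_last_last : T.picMatrix (Fin.last n) (Fin.last n) = -1 := by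
  unfold NumericalType.picMatrix
  rw [h.2, Int.neg_ediv_of_dvd (dvd_refl _), Int.ediv_self (T.w_pos _).ne']

theorem pic_last_castSucc (j : Fin n) : T.picMatrix (Fin.last n) j.castSucc = b T j := by
  unfold NumericalType.picMatrix b
  rw [T.symm.apply (Fin.last n) j.castSucc]

include h hT' in
theorem pic'_eq (i j : Fin n) (r : ℤ) (hr : T.w i.castSucc = T'.w i * r) :
    T'.picMatrix i j = r * (T.picMatrix i.castSucc j.castSucc + c T i * b T j) := by
  unfold NumericalType.picMatrix
  rw [a'_eq h hT', a_eq_c T i]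
  have h1 : T.a i.castSucc j.castSucc =
      T.w i.castSucc * (T.a i.castSucc j.castSucc / T.w i.castSucc) := by
    rw [Int.mul_ediv_cancel' (T.w_dvd _ _)]
  have h2 : T.a i.castSucc j.castSucc + T.w i.castSucc * c T i * b T j =
      T'.w i * (r * (T.a i.castSucc j.castSucc / T.w i.castSucc + c T i * b T j)) := by
    rw [mul_add]
    conv_lhs => rw [h1]
    rw [hr]
    ring
  rw [h2, Int.mul_ediv_cancel_left _ (T'.w_pos i).ne']

end contraction

/-- the linear map `ℤ^{n+1} → ℤ^n`, `y ↦ (r_i (y_i + c_i y_l))_i` -/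
def F (T : NumericalType (n + 1)) (r : Fin n → ℤ) : (Fin (n + 1) → ℤ) →ₗ[ℤ] (Fin n → ℤ) :=
  LinearMap.pi fun i => r i • (LinearMap.proj i.castSucc + c T i • LinearMap.proj (Fin.last n))

theorem F_apply (T : NumericalType (n + 1)) (r : Fin n → ℤ) (y : Fin (n + 1) → ℤ) (i : Fin n) :
    F T r y i = r i * (y i.castSucc + c T i * y (Fin.last n)) := by
  simp [F, mul_add]

section main

variable {T' : NumericalType n} (h : T.IsMinusOne (Fin.last n)) (hT' : T.IsContraction T')
  (r : Fin n → ℤ) (hr : ∀ i, T.w i.castSucc = T'.w i * r i)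

include h hT' hr in
theorem F_mulVec (x : Fin (n + 1) → ℤ) :
    F T r (T.picMatrix.mulVec x) = T'.picMatrix.mulVec (fun j => x j.castSucc) := by
  funext i
  rw [F_apply]
  simp only [Matrix.mulVec, dotProduct]
  rw [Fin.sum_univ_castSucc, Fin.sum_univ_castSucc, pic_castSucc_last, pic_last_last h]
  simp only [pic_last_castSucc]
  have : ∀ j : Fin n, T'.picMatrix i j * x j.castSucc =
      r i * (T.picMatrix i.castSucc j.castSucc * x j.castSucc) +
        r i * c T i * (b T j * x j.castSucc) := by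
    intro j
    rw [pic'_eq h hT' i j (r i) (hr i)]
    ring
  simp only [this]
  rw [Finset.sum_add_distrib, ← Finset.mul_sum, ← Finset.mul_sum]
  ring

include hr in
theorem r_ne_zero (i : Fin n) : r i ≠ 0 := by
  intro h0
  have := hr i
  rw [h0, mul_zero] at this
  exact absurd this (T.w_pos _).ne'

include h hr in
theorem ker_F_le (y : Fin (n + 1) → ℤ) (hy : F T r y = 0) :
    y ∈ LinearMap.range (Matrix.mulVecLin T.picMatrix) := by
  refine ⟨fun j => if j = Fin.last n then -y (Fin.last n) else 0, ?_⟩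
  rw [Matrix.mulVecLin_apply]
  have hy' : ∀ i : Fin n, y i.castSucc = -(c T i * y (Fin.last n)) := by
    intro i
    have := congrFun hy i
    rw [F_apply, Pi.zero_apply] at this
    rcases mul_eq_zero.mp this with h1 | h1
    · exact absurd h1 (r_ne_zero r hr i)
    · linarith
  funext i
  simp only [Matrix.mulVec, dotProduct]
  rw [Fin.sum_univ_castSucc]
  simp only [castSucc_ne_last, if_false, mul_zero, Finset.sum_const_zero, zero_add, if_true]
  refine Fin.lastCases ?_ (fun i' => ?_) i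
  · rw [pic_last_last h]; ring
  · rw [pic_castSucc_last, hy' i']; ring

include h hT' hr in
theorem range_le_comap :
    LinearMap.range (Matrix.mulVecLin T.picMatrix) ≤
      (LinearMap.range (Matrix.mulVecLin T'.picMatrix)).comap (F T r) := by
  rintro _ ⟨x, rfl⟩
  rw [Submodule.mem_comap, Matrix.mulVecLin_apply, F_mulVec h hT' r hr]
  exact ⟨_, Matrix.mulVecLin_apply _ _⟩

include h hT' hr in
theorem exists_pic_hom (hr12 : ∀ i, r i = 1 ∨ r i = 2) :
    ∃ f : T.Pic →+ T'.Pic, Function.Injective f ∧ ∀ y : T'.Pic, ∃ x : T.Pic, 2 • y = f x := by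
  let f : T.Pic →ₗ[ℤ] T'.Pic := Submodule.mapQ _ _ (F T r) (range_le_comap h hT' r hr)
  refine ⟨f.toAddMonoidHom, ?_, ?_⟩
  · rw [injective_iff_map_eq_zero]
    intro x hx
    obtain ⟨y, rfl⟩ := Submodule.Quotient.mk_surjective _ x
    have hx' : f (Submodule.Quotient.mk y) = 0 := hx
    rw [Submodule.mapQ_apply, Submodule.Quotient.mk_eq_zero] at hx'
    obtain ⟨x', hx'⟩ := hx'
    rw [Matrix.mulVecLin_apply] at hx'
    -- extend x' by zero
    have h1 : F T r (T.picMatrix.mulVec (Fin.snoc x' 0 : Fin (n + 1) → ℤ)) = F T r y := by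
      rw [F_mulVec h hT' r hr, ← hx']
      congr 1
      funext j
      simp
    have h2 : F T r (y - T.picMatrix.mulVec (Fin.snoc x' 0 : Fin (n + 1) → ℤ)) = 0 := by
      rw [map_sub, h1, sub_self]
    have h3 := ker_F_le h r hr _ h2
    rw [Submodule.Quotient.mk_eq_zero]
    have h4 : T.picMatrix.mulVec (Fin.snoc x' 0 : Fin (n + 1) → ℤ) ∈
        LinearMap.range (Matrix.mulVecLin T.picMatrix) := ⟨_, Matrix.mulVecLin_apply _ _⟩
    have := Submodule.add_mem _ h3 h4
    simpa using this
  · intro y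
    obtain ⟨z, rfl⟩ := Submodule.Quotient.mk_surjective _ y
    refine ⟨Submodule.Quotient.mk
      (Fin.snoc (fun i => (2 / r i) * z i) 0 : Fin (n + 1) → ℤ), ?_⟩
    change _ = f (Submodule.Quotient.mk _)
    rw [Submodule.mapQ_apply, ← Submodule.Quotient.mk_smul]
    congr 1
    funext i
    rw [F_apply]
    simp only [Fin.snoc_castSucc, Fin.snoc_last, mul_zero, add_zero, Pi.smul_apply]
    rcases hr12 i with h1 | h1 <;> rw [h1] <;> norm_num

end main

end Groth.Agent.Lib.helper13.NumContr
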