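import Groth.Agent.Lib.helper13.NumContr

/-!
Numerical types: existence of the contraction of a `(-1)`-index placed last, and invariance of
the genus.
-/

set_option autoImplicit false

namespace Groth.Agent.Lib.helper13.NumContr

open Models Finset Groth.Agent.Lib.helper11.NumType Groth.Agent.Lib.helper13.NumTop

variable {n : ℕ} (T : NumericalType (n + 1))

/-- raw contracted weights -/
def w' (i : Fin n) : ℤ :=
  if 2 ∣ T.a i.castSucc (Fin.last n) / T.w (Fin.last n) ∧
      ¬ 2 ∣ T.a i.castSucc (Fin.last n) / T.w i.castSucc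
  then T.w i.castSucc / 2 else T.w i.castSucc

/-- raw contracted matrix -/
def a' (i j : Fin n) : ℤ :=
  T.a i.castSucc j.castSucc -
    T.a i.castSucc (Fin.last n) * T.a j.castSucc (Fin.last n) / T.a (Fin.last n) (Fin.last n)

/-- raw contracted genera -/
def g' (i : Fin n) : ℤ :=
  T.w i.castSucc / w' T i * (T.g i.castSucc - 1) + 1 +
    (T.a i.castSucc (Fin.last n) ^ 2 - T.w (Fin.last n) * T.a i.castSucc (Fin.last n)) /
      (2 * w' T i * T.w (Fin.last n))

theorem ratio_raw (i : Fin n) : ∃ r : ℤ, (r = 1 ∨ r = 2) ∧ T.w i.castSucc = w' T i * r ∧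
    (r = 2 ↔ (2 ∣ b T i ∧ ¬ 2 ∣ c T i)) := by
  change ∃ r : ℤ, (r = 1 ∨ r = 2) ∧ T.w i.castSucc =
    (if 2 ∣ b T i ∧ ¬ 2 ∣ c T i then T.w i.castSucc / 2 else T.w i.castSucc) * r ∧ _
  by_cases hc : 2 ∣ b T i ∧ ¬ 2 ∣ c T i
  · rw [if_pos hc]
    have h1 : T.w (Fin.last n) * b T i = T.w i.castSucc * c T i := by rw [← a_eq_b, a_eq_c]
    have h2 : (2 : ℤ) ∣ T.w i.castSucc * c T i := by
      rw [← h1]; exact Dvd.dvd.mul_left hc.1 _
    have h3 : (2 : ℤ) ∣ T.w i.castSucc :=
      (Int.prime_two.dvd_or_dvd h2).resolve_right hc.2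
    refine ⟨2, Or.inr rfl, ?_, ?_⟩
    · rw [Int.ediv_mul_cancel h3]
    · simp [hc]
  · rw [if_neg hc]
    refine ⟨1, Or.inl rfl, by ring, ?_⟩
    constructor
    · intro h; norm_num at h
    · intro h; exact absurd h hc

theorem w'_pos (i : Fin n) : 0 < w' T i := by
  obtain ⟨r, hr12, hr, _⟩ := ratio_raw T i
  have := T.w_pos i.castSucc
  rw [hr] at this
  rcases hr12 with h1 | h1 <;> rw [h1] at this <;> linarith

theorem w'_dvd_w (i : Fin n) : w' T i ∣ T.w i.castSucc := by
  obtain ⟨r, _, hr, _⟩ := ratio_raw T i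
  exact ⟨r, hr⟩

variable {T}

theorem a'_raw (h : T.IsMinusOne (Fin.last n)) (i j : Fin n) : a' T i j =
    T.a i.castSucc j.castSucc + T.a i.castSucc (Fin.last n) * b T j := by
  unfold a'
  rw [h.2, a_eq_b T j, Int.ediv_neg]
  have hw : T.w (Fin.last n) ≠ 0 := (T.w_pos _).ne'
  have : T.a i.castSucc (Fin.last n) * (T.w (Fin.last n) * b T j) =
      (T.a i.castSucc (Fin.last n) * b T j) * T.w (Fin.last n) := by ring
  rw [this, Int.mul_ediv_cancel _ hw]
  ring

variable (T)

theorem b_eq_zero_iff (i : Fin n) : b T i = 0 ↔ c T i = 0 := by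
  have h1 := a_eq_b T i
  have h2 := a_eq_c T i
  have hw1 := (T.w_pos (Fin.last n)).ne'
  have hw2 := (T.w_pos i.castSucc).ne'
  constructor
  · intro hb
    rw [hb, mul_zero] at h1
    rw [h1] at h2
    rcases mul_eq_zero.mp h2.symm with h3 | h3
    · exact absurd h3 hw2
    · exact h3
  · intro hc
    rw [hc, mul_zero] at h2
    rw [h2] at h1
    rcases mul_eq_zero.mp h1.symm with h3 | h3
    · exact absurd h3 hw1
    · exact h3

/-- the value of `g'` in terms of the ratio `r` -/
theorem g'_eq (i : Fin n) (r : ℤ) (hr : T.w i.castSucc = w' T i * r) :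
    g' T i = r * (T.g i.castSucc - 1) + 1 + (r * c T i * (b T i - 1)) / 2 := by
  unfold g'
  have hw' := w'_pos T i
  have hwl := T.w_pos (Fin.last n)
  have h1 : T.w i.castSucc / w' T i = r := by
    rw [hr, Int.mul_ediv_cancel_left _ hw'.ne']
  have h2 : T.a i.castSucc (Fin.last n) ^ 2 - T.w (Fin.last n) * T.a i.castSucc (Fin.last n) =
      (w' T i * T.w (Fin.last n)) * (r * c T i * (b T i - 1)) := by
    have ec := a_eq_c T i
    have eb := a_eq_b T i
    have e1 : T.a i.castSucc (Fin.last n) ^ 2 -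
        T.w (Fin.last n) * T.a i.castSucc (Fin.last n) =
        (T.w i.castSucc * c T i) * (T.w (Fin.last n) * b T i) -
          T.w (Fin.last n) * (T.w i.castSucc * c T i) := by
      rw [← ec, ← eb]
      ring
    rw [e1, hr]
    ring
  have h3 : 2 * w' T i * T.w (Fin.last n) = (w' T i * T.w (Fin.last n)) * 2 := by ring
  rw [h1, h2, h3, Int.mul_ediv_mul_of_pos _ _ (mul_pos hw' hwl)]

theorem cb_nonneg (i : Fin n) : 0 ≤ c T i * (b T i - 1) := by
  have hb := b_nonneg T i
  have hc := c_nonneg T i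
  rcases hb.lt_or_eq with h1 | h1
  · exact mul_nonneg hc (by omega)
  · have : c T i = 0 := (b_eq_zero_iff T i).mp h1.symm
    rw [this, zero_mul]

theorem g'_nonneg (i : Fin n) : 0 ≤ g' T i := by
  obtain ⟨r, hr12, hr, hiff⟩ := ratio_raw T i
  rw [g'_eq T i r hr]
  have hg := T.g_nonneg i.castSucc
  have hcb := cb_nonneg T i
  rcases hr12 with h1 | h1
  · rw [h1]
    have : 0 ≤ (1 * c T i * (b T i - 1)) / 2 := Int.ediv_nonneg (by rw [one_mul]; exact hcb) (by norm_num)
    linarith
  · rw [h1]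
    have hh := hiff.mp h1
    have e : 2 * c T i * (b T i - 1) / 2 = c T i * (b T i - 1) := by
      rw [mul_assoc, Int.mul_ediv_cancel_left _ two_ne_zero]
    rw [e]
    -- c odd hence ≥ 1; b even and nonzero hence ≥ 2
    have hc := c_nonneg T i
    have hb := b_nonneg T i
    have hc0 : c T i ≠ 0 := by
      intro h0; apply hh.2; rw [h0]; exact dvd_zero _
    have hb0 : b T i ≠ 0 := fun h0 => hc0 ((b_eq_zero_iff T i).mp h0)
    have hb2 : 2 ≤ b T i := by
      obtain ⟨k, hk⟩ := hh.1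
      omega
    have hc1 : 1 ≤ c T i := by omega
    nlinarith

/-- the key formula for the genus -/
theorem two_w'_g' (i : Fin n) : 2 * w' T i * (g' T i - 1) =
    2 * T.w i.castSucc * (T.g i.castSucc - 1) + T.a i.castSucc (Fin.last n) * (b T i - 1) := by
  obtain ⟨r, hr12, hr, hiff⟩ := ratio_raw T i
  rw [g'_eq T i r hr]
  rcases hr12 with h1 | h1
  · -- `c (b - 1)` is even
    have hnot : ¬ (2 ∣ b T i ∧ ¬ 2 ∣ c T i) := by
      intro hh
      have := hiff.mpr hh
      omega
    have heven : (2 : ℤ) ∣ c T i * (b T i - 1) := by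
      by_cases hb : (2 : ℤ) ∣ b T i
      · have hc : (2 : ℤ) ∣ c T i := by
          by_contra hc
          exact hnot ⟨hb, hc⟩
        exact Dvd.dvd.mul_right hc _
      · have : (2 : ℤ) ∣ b T i - 1 := by omega
        exact Dvd.dvd.mul_left this _
    obtain ⟨k, hk⟩ := heven
    rw [h1] at hr ⊢
    simp only [one_mul]
    rw [hk, Int.mul_ediv_cancel_left _ two_ne_zero]
    have hw : w' T i = T.w i.castSucc := by linarith
    rw [hw, a_eq_c T i]
    have : T.w i.castSucc * c T i * (b T i - 1) = T.w i.castSucc * (2 * k) := by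
      rw [← hk]; ring
    rw [this]
    ring
  · rw [h1] at hr ⊢
    have e : 2 * c T i * (b T i - 1) / 2 = c T i * (b T i - 1) := by
      rw [mul_assoc, Int.mul_ediv_cancel_left _ two_ne_zero]
    rw [e, a_eq_c T i, hr]
    ring

end Groth.Agent.Lib.helper13.NumContr
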