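import Groth.Agent.Lib.helper13.NumContr2

/-!
Numerical types: the contraction `contr T h` of a `(-1)`-index placed last is a numerical type,
and every contraction has the same genus.
-/

set_option autoImplicit false

namespace Groth.Agent.Lib.helper13.NumContr

open Models Finset Groth.Agent.Lib.helper11.NumType Groth.Agent.Lib.helper13.NumTop

variable {n : ℕ} {T : NumericalType (n + 1)}

theorem n_pos (h : T.IsMinusOne (Fin.last n)) : 0 < n := by
  by_contra hn
  have hn0 : n = 0 := by omega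
  subst hn0
  have h1 := row_sum T (Fin.last 0)
  rw [Fin.sum_univ_castSucc] at h1
  simp only [Finset.univ_eq_empty, Finset.sum_empty, zero_add] at h1
  rw [h.2] at h1
  have := T.w_pos (Fin.last 0)
  have := T.m_pos (Fin.last 0)
  nlinarith

/-- `∑_j b_j m_j = m_l` -/
theorem sum_b_m (h : T.IsMinusOne (Fin.last n)) : ∑ j : Fin n, b T j * T.m j.castSucc =
    T.m (Fin.last n) := by
  have h1 := row_sum T (Fin.last n)
  rw [Fin.sum_univ_castSucc, h.2] at h1
  simp only [a_last_eq_b] at h1
  have h2 : ∑ j : Fin n, T.w (Fin.last n) * b T j * T.m j.castSucc =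
      T.w (Fin.last n) * ∑ j : Fin n, b T j * T.m j.castSucc := by
    rw [Finset.mul_sum]
    refine Finset.sum_congr rfl fun j _ => by ring
  rw [h2] at h1
  have hw := T.w_pos (Fin.last n)
  have h3 : T.w (Fin.last n) * (∑ j : Fin n, b T j * T.m j.castSucc - T.m (Fin.last n)) = 0 := by
    linarith
  rcases mul_eq_zero.mp h3 with h4 | h4
  · exact absurd h4 hw.ne'
  · linarith

/-- `∑_i m_i a_il = m_l w_l` -/
theorem sum_m_a_last (h : T.IsMinusOne (Fin.last n)) :
    ∑ i : Fin n, T.m i.castSucc * T.a i.castSucc (Fin.last n) =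
      T.m (Fin.last n) * T.w (Fin.last n) := by
  rw [← sum_b_m h, Finset.sum_mul]
  refine Finset.sum_congr rfl fun j _ => ?_
  rw [a_eq_b]
  ring

theorem a'_symm (h : T.IsMinusOne (Fin.last n)) (i j : Fin n) : a' T i j = a' T j i := by
  rw [a'_raw h, a'_raw h, T.symm.apply i.castSucc j.castSucc, a_eq_b T i, a_eq_b T j]
  ring

theorem a'_ge_left (h : T.IsMinusOne (Fin.last n)) (i j : Fin n) (_hij : i ≠ j) :
    T.a i.castSucc j.castSucc ≤ a' T i j := by
  rw [a'_raw h]
  have := mul_nonneg (T.offDiag_nonneg _ _ (castSucc_ne_last i)) (b_nonneg T j)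
  linarith

theorem a'_ge_right (h : T.IsMinusOne (Fin.last n)) (i j : Fin n) (hij : i ≠ j) :
    T.a i.castSucc (Fin.last n) * b T j ≤ a' T i j := by
  rw [a'_raw h]
  have := T.offDiag_nonneg i.castSucc j.castSucc (fun h => hij (Fin.castSucc_injective _ h))
  linarith

theorem a'_connected (h : T.IsMinusOne (Fin.last n)) (I : Finset (Fin n)) (hI : I.Nonempty)
    (hI' : I ≠ univ) : ∃ i ∈ I, ∃ j ∉ I, a' T i j ≠ 0 := by
  classical
  -- positivity helper
  have key : ∀ i ∈ I, ∀ j ∉ I, T.a i.castSucc j.castSucc ≠ 0 → a' T i j ≠ 0 := by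
    intro i hi j hj hne
    have hij : i ≠ j := fun h => hj (h ▸ hi)
    have h1 := a'_ge_left h i j hij
    have h2 := T.offDiag_nonneg i.castSucc j.castSucc (fun h => hij (Fin.castSucc_injective _ h))
    have : 0 < T.a i.castSucc j.castSucc := lt_of_le_of_ne h2 (Ne.symm hne)
    omega
  set I1 : Finset (Fin (n + 1)) := I.map Fin.castSuccEmb with hI1
  have hmem1 : ∀ i : Fin n, i.castSucc ∈ I1 ↔ i ∈ I := by
    intro i
    rw [hI1, Finset.mem_map]
    constructor
    · rintro ⟨i', hi', he⟩
      have : i' = i := Fin.castSucc_injective _ he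
      exact this ▸ hi'
    · intro hi; exact ⟨i, hi, rfl⟩
  have hlast1 : Fin.last n ∉ I1 := by
    rw [hI1, Finset.mem_map]
    rintro ⟨i', _, he⟩
    exact castSucc_ne_last i' he
  have hI1ne : I1.Nonempty := hI.map
  have hI1univ : I1 ≠ univ := fun h => hlast1 (h ▸ Finset.mem_univ _)
  obtain ⟨i, hi, j, hj, hij⟩ := T.connected I1 hI1ne hI1univ
  -- i is a castSucc
  obtain ⟨i0, rfl⟩ : ∃ i0 : Fin n, i0.castSucc = i := by
    refine Fin.lastCases (motive := fun i => i ∈ I1 → ∃ i0 : Fin n, i0.castSucc = i) ?_ ?_ i hi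
    · intro h; exact absurd h hlast1
    · intro i0 _; exact ⟨i0, rfl⟩
  have hi0 : i0 ∈ I := (hmem1 i0).mp hi
  revert hj hij
  refine Fin.lastCases ?_ (fun j0 => ?_) j
  · intro _ hil
    -- second application with `insert last I1`
    set I2 : Finset (Fin (n + 1)) := insert (Fin.last n) I1 with hI2
    have hI2ne : I2.Nonempty := ⟨Fin.last n, Finset.mem_insert_self _ _⟩
    have hI2univ : I2 ≠ univ := by
      intro h2
      apply hI'
      rw [Finset.eq_univ_iff_forall]
      intro k
      have : k.castSucc ∈ I2 := h2 ▸ Finset.mem_univ _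
      rw [hI2, Finset.mem_insert] at this
      rcases this with h3 | h3
      · exact absurd h3 (castSucc_ne_last k)
      · exact (hmem1 k).mp h3
    obtain ⟨i2, hi2, j2, hj2, hij2⟩ := T.connected I2 hI2ne hI2univ
    rw [hI2, Finset.mem_insert, not_or] at hj2
    obtain ⟨j20, rfl⟩ : ∃ j20 : Fin n, j20.castSucc = j2 := by
      refine Fin.lastCases (motive := fun j => j ≠ Fin.last n → ∃ j0 : Fin n, j0.castSucc = j)
        ?_ ?_ j2 hj2.1
      · intro h; exact absurd rfl h
      · intro j0 _; exact ⟨j0, rfl⟩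
    have hj20 : j20 ∉ I := fun h => hj2.2 ((hmem1 j20).mpr h)
    rw [hI2, Finset.mem_insert] at hi2
    rcases hi2 with h3 | h3
    · -- i2 = last
      subst h3
      refine ⟨i0, hi0, j20, hj20, ?_⟩
      have hne : i0 ≠ j20 := fun h => hj20 (h ▸ hi0)
      have h4 := a'_ge_right h i0 j20 hne
      have h5 : 0 < T.a i0.castSucc (Fin.last n) :=
        lt_of_le_of_ne (T.offDiag_nonneg _ _ (castSucc_ne_last i0)) (Ne.symm hil)
      have h6 : 0 < b T j20 := by
        have h7 := b_nonneg T j20
        rcases h7.lt_or_eq with h8 | h8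
        · exact h8
        · exfalso
          apply hij2
          rw [a_last_eq_b, ← h8, mul_zero]
      have := mul_pos h5 h6
      omega
    · obtain ⟨i20, rfl⟩ : ∃ i20 : Fin n, i20.castSucc = i2 := by
        refine Fin.lastCases (motive := fun i => i ∈ I1 → ∃ i0 : Fin n, i0.castSucc = i) ?_ ?_ i2 h3
        · intro h; exact absurd h hlast1
        · intro i0 _; exact ⟨i0, rfl⟩
      exact ⟨i20, (hmem1 i20).mp h3, j20, hj20, key _ ((hmem1 i20).mp h3) _ hj20 hij2⟩
  · intro hj hij
    have hj0 : j0 ∉ I := fun h => hj ((hmem1 j0).mpr h)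
    exact ⟨i0, hi0, j0, hj0, key i0 hi0 j0 hj0 hij⟩

theorem a'_mulVec (h : T.IsMinusOne (Fin.last n)) (i : Fin n) :
    ∑ j : Fin n, a' T i j * T.m j.castSucc = 0 := by
  have h1 := row_sum T i.castSucc
  rw [Fin.sum_univ_castSucc] at h1
  have h2 : ∑ j : Fin n, a' T i j * T.m j.castSucc =
      ∑ j : Fin n, T.a i.castSucc j.castSucc * T.m j.castSucc +
        T.a i.castSucc (Fin.last n) * ∑ j : Fin n, b T j * T.m j.castSucc := by
    rw [Finset.mul_sum, ← Finset.sum_add_distrib]
    refine Finset.sum_congr rfl fun j _ => ?_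
    rw [a'_raw h]
    ring
  rw [h2, sum_b_m h]
  linarith

theorem w'_dvd_a' (h : T.IsMinusOne (Fin.last n)) (i j : Fin n) : w' T i ∣ a' T i j := by
  rw [a'_raw h]
  refine dvd_add ((w'_dvd_w T i).trans (T.w_dvd _ _)) ?_
  exact Dvd.dvd.mul_right ((w'_dvd_w T i).trans (T.w_dvd _ _)) _

/-- the contraction of the last index -/
def contr (T : NumericalType (n + 1)) (h : T.IsMinusOne (Fin.last n)) : NumericalType n where
  m i := T.m i.castSucc
  a i j := a' T i j
  w i := w' T i
  g i := g' T i
  pos := n_pos h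
  m_pos i := T.m_pos _
  w_pos i := w'_pos T i
  g_nonneg i := g'_nonneg T i
  symm := Matrix.IsSymm.ext fun i j => a'_symm h j i
  offDiag_nonneg i j hij := by
    have h1 := a'_ge_left h i j hij
    have h2 := T.offDiag_nonneg i.castSucc j.castSucc (fun h => hij (Fin.castSucc_injective _ h))
    exact le_trans h2 h1
  connected := a'_connected h
  mulVec_m := by
    funext i
    simp only [Matrix.mulVec, dotProduct, Pi.zero_apply]
    exact a'_mulVec h i
  w_dvd := w'_dvd_a' h

theorem isContraction_contr (h : T.IsMinusOne (Fin.last n)) : T.IsContraction (contr T h) :=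
  ⟨fun _ => rfl, fun _ _ => rfl, fun _ => rfl, fun _ => rfl⟩

/-- `2 g - 2` as a sum -/
theorem two_genus_eq {k : ℕ} (S : NumericalType k) : 2 * S.genus - 2 =
    2 * (∑ i, S.m i * S.w i * (S.g i - 1)) - ∑ i, S.m i * S.a i i := by
  rw [two_genus_sub_two, sum_t_eq]

theorem genus_eq_of_isContraction (h : T.IsMinusOne (Fin.last n)) (T' : NumericalType n)
    (hT' : T.IsContraction T') : T'.genus = T.genus := by
  have hm : ∀ i, T'.m i = T.m i.castSucc := hT'.1
  have ha : ∀ i j, T'.a i j = a' T i j := hT'.2.1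
  have hw : ∀ i, T'.w i = w' T i := hT'.2.2.1
  have hg : ∀ i, T'.g i = g' T i := by
    intro i
    have := hT'.2.2.2 i
    rw [hw i] at this
    exact this
  have h1 := two_genus_eq T'
  have h2 := two_genus_eq T
  rw [Fin.sum_univ_castSucc, Fin.sum_univ_castSucc (f := fun i => T.m i * T.a i i), h.1, h.2] at h2
  have h3 : 2 * (∑ i, T'.m i * T'.w i * (T'.g i - 1)) - ∑ i, T'.m i * T'.a i i =
      2 * (∑ i : Fin n, T.m i.castSucc * T.w i.castSucc * (T.g i.castSucc - 1)) -
        ∑ i : Fin n, T.m i.castSucc * T.a i.castSucc i.castSucc -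
        ∑ i : Fin n, T.m i.castSucc * T.a i.castSucc (Fin.last n) := by
    rw [Finset.mul_sum, Finset.mul_sum, ← Finset.sum_sub_distrib, ← Finset.sum_sub_distrib,
      ← Finset.sum_sub_distrib]
    refine Finset.sum_congr rfl fun i _ => ?_
    rw [hm, ha, hw, hg, a'_raw h]
    have := two_w'_g' T i
    linear_combination (T.m i.castSucc) * this
  rw [h3, sum_m_a_last h] at h1
  linarith

end Groth.Agent.Lib.helper13.NumContr
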