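import Groth.Agent.Lib.helper13.NumContr3
import Groth.Agent.S2176
import Groth.Agent.S2178

/-!
Numerical types: permuting the indices, and `Pic ≃ ℤ` when the genus is `≤ 0`.
-/

set_option autoImplicit false

namespace Groth.Agent.Lib.helper13.NumContr

open Models Finset Groth.Agent.Lib.helper11.NumType Groth.Agent.Lib.helper13.NumTop

variable {n : ℕ}

/-- permute the indices of a numerical type -/
def perm (T : NumericalType n) (σ : Equiv.Perm (Fin n)) : NumericalType n where
  m i := T.m (σ i)
  a i j := T.a (σ i) (σ j)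
  w i := T.w (σ i)
  g i := T.g (σ i)
  pos := T.pos
  m_pos _ := T.m_pos _
  w_pos _ := T.w_pos _
  g_nonneg _ := T.g_nonneg _
  symm := Matrix.IsSymm.ext fun i j => T.symm.apply (σ i) (σ j)
  offDiag_nonneg i j hij := T.offDiag_nonneg _ _ (fun h => hij (σ.injective h))
  connected I hI hI' := by
    classical
    have h1 : (I.map σ.toEmbedding).Nonempty := hI.map
    have h2 : I.map σ.toEmbedding ≠ univ := by
      intro h
      apply hI'
      rw [Finset.eq_univ_iff_forall]
      intro k
      have : σ k ∈ I.map σ.toEmbedding := h ▸ Finset.mem_univ _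
      rw [Finset.mem_map] at this
      obtain ⟨k', hk', he⟩ := this
      have : k' = k := σ.injective he
      exact this ▸ hk'
    obtain ⟨i, hi, j, hj, hij⟩ := T.connected _ h1 h2
    rw [Finset.mem_map] at hi
    obtain ⟨i0, hi0, rfl⟩ := hi
    refine ⟨i0, hi0, σ.symm j, ?_, ?_⟩
    · intro hj'
      apply hj
      rw [Finset.mem_map]
      exact ⟨σ.symm j, hj', by simp⟩
    · simpa using hij
  mulVec_m := by
    funext i
    simp only [Matrix.mulVec, dotProduct, Pi.zero_apply]
    have := row_sum T (σ i)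
    rw [← Equiv.sum_comp σ] at this
    exact this
  w_dvd _ _ := T.w_dvd _ _

theorem perm_genus (T : NumericalType n) (σ : Equiv.Perm (Fin n)) :
    (perm T σ).genus = T.genus := by
  unfold NumericalType.genus
  have h1 : ∑ i, (perm T σ).m i * (perm T σ).w i * ((perm T σ).g i - 1) =
      ∑ i, T.m i * T.w i * (T.g i - 1) :=
    Equiv.sum_comp σ (fun i => T.m i * T.w i * (T.g i - 1))
  have h2 : ∑ i, (perm T σ).m i * (perm T σ).a i i = ∑ i, T.m i * T.a i i :=
    Equiv.sum_comp σ (fun i => T.m i * T.a i i)
  rw [h1, h2]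

theorem perm_picMatrix (T : NumericalType n) (σ : Equiv.Perm (Fin n)) (i j : Fin n) :
    (perm T σ).picMatrix i j = T.picMatrix (σ i) (σ j) := rfl

/-- `Pic` is unchanged by a permutation of the indices. -/
noncomputable def permPicEquiv (T : NumericalType n) (σ : Equiv.Perm (Fin n)) :
    T.Pic ≃ₗ[ℤ] (perm T σ).Pic :=
  Submodule.Quotient.equiv _ _ (LinearEquiv.funCongrLeft ℤ ℤ σ) (by
    apply le_antisymm
    · rw [Submodule.map_le_iff_le_comap]
      rintro _ ⟨x, rfl⟩
      rw [Submodule.mem_comap]
      refine ⟨fun j => x (σ j), ?_⟩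
      rw [Matrix.mulVecLin_apply, Matrix.mulVecLin_apply]
      funext i
      change ∑ j, T.picMatrix (σ i) (σ j) * x (σ j) = ∑ j, T.picMatrix (σ i) j * x j
      exact Equiv.sum_comp σ (fun j => T.picMatrix (σ i) j * x j)
    · rintro _ ⟨x, rfl⟩
      rw [Submodule.mem_map]
      refine ⟨T.picMatrix.mulVec (fun j => x (σ.symm j)), ⟨_, Matrix.mulVecLin_apply _ _⟩, ?_⟩
      rw [Matrix.mulVecLin_apply]
      funext i
      change ∑ j, T.picMatrix (σ i) j * x (σ.symm j) = ∑ j, T.picMatrix (σ i) (σ j) * x j
      rw [← Equiv.sum_comp σ (fun j => T.picMatrix (σ i) j * x (σ.symm j))]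
      simp)

theorem equiv_int_of_injective {G : Type*} [AddCommGroup G] [Nontrivial G] (φ : G →+ ℤ)
    (hφ : Function.Injective φ) : Nonempty (G ≃+ ℤ) := by
  let ψ : G →ₗ[ℤ] ℤ := φ.toIntLinearMap
  have hψ : Function.Injective ψ := hφ
  obtain ⟨d, hd⟩ := (IsPrincipalIdealRing.principal (LinearMap.range ψ : Submodule ℤ ℤ)).principal
  have hd0 : d ≠ 0 := by
    intro h0
    rw [h0, Submodule.span_singleton_eq_bot.mpr rfl, LinearMap.range_eq_bot] at hd
    obtain ⟨x, y, hxy⟩ := exists_pair_ne G
    apply hxy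
    apply hψ
    rw [hd]
    rfl
  let e1 : G ≃ₗ[ℤ] LinearMap.range ψ := LinearEquiv.ofInjective ψ hψ
  let e2 : LinearMap.range ψ ≃ₗ[ℤ] Submodule.span ℤ {d} := LinearEquiv.ofEq _ _ hd
  let e3 : ℤ ≃ₗ[ℤ] Submodule.span ℤ {d} := LinearEquiv.toSpanNonzeroSingleton ℤ ℤ d hd0
  exact ⟨(e1.trans (e2.trans e3.symm)).toAddEquiv⟩

theorem pic_nontrivial (T : NumericalType n) : Nontrivial T.Pic := by
  have h := Groth.Agent.S2178.result T
  exact Module.nontrivial_of_finrank_pos (R := ℤ) (by rw [h]; exact one_pos)

theorem pic_equiv_int_one (T : NumericalType 1) : Nonempty (T.Pic ≃+ ℤ) := by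
  have ha : T.a 0 0 = 0 := by
    have h1 := row_sum T 0
    rw [Fin.sum_univ_one] at h1
    rcases mul_eq_zero.mp h1 with h2 | h2
    · exact h2
    · exact absurd h2 (T.m_pos 0).ne'
  have hbot : LinearMap.range (Matrix.mulVecLin T.picMatrix) = ⊥ := by
    rw [LinearMap.range_eq_bot]
    apply LinearMap.ext
    intro x
    rw [Matrix.mulVecLin_apply]
    funext i
    simp only [Matrix.mulVec, dotProduct, Fin.sum_univ_one, LinearMap.zero_apply, Pi.zero_apply]
    have hi : i = 0 := Subsingleton.elim _ _
    subst hi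
    unfold NumericalType.picMatrix
    rw [ha]
    simp
  exact ⟨((Submodule.quotEquivOfEqBot _ hbot).trans
    (LinearEquiv.funUnique (Fin 1) ℤ ℤ)).toAddEquiv⟩

theorem pic_equiv_int : ∀ (n : ℕ) (T : NumericalType n), T.genus ≤ 0 → Nonempty (T.Pic ≃+ ℤ) := by
  intro n
  induction n with
  | zero => intro T; exact absurd T.pos (lt_irrefl 0)
  | succ k ih =>
    intro T hg
    by_cases hk : k = 0
    · subst hk
      exact pic_equiv_int_one T
    · have hn : 1 < k + 1 := by omega
      have hmin : ¬T.IsMinimal := by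
        intro hmin
        have := Groth.Agent.S2176.result T hmin hn
        omega
      unfold NumericalType.IsMinimal at hmin
      push Not at hmin
      obtain ⟨i, hi⟩ := hmin
      set σ : Equiv.Perm (Fin (k + 1)) := Equiv.swap i (Fin.last k) with hσ
      have hlast : (perm T σ).IsMinusOne (Fin.last k) := by
        have : σ (Fin.last k) = i := Equiv.swap_apply_right _ _
        unfold NumericalType.IsMinusOne
        change T.g (σ (Fin.last k)) = 0 ∧ T.a (σ (Fin.last k)) (σ (Fin.last k)) = -T.w (σ (Fin.last k))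
        rw [this]
        exact hi
      have hT' := isContraction_contr hlast
      have hg' : (contr (perm T σ) hlast).genus ≤ 0 := by
        rw [genus_eq_of_isContraction hlast _ hT', perm_genus]
        exact hg
      obtain ⟨e'⟩ := ih _ hg'
      have hex := fun i => exists_ratio hT' i
      choose r hr12 hr _ using hex
      obtain ⟨f, hf, _⟩ := exists_pic_hom hlast hT' r hr hr12
      have := pic_nontrivial T
      refine equiv_int_of_injective
        ((e'.toAddMonoidHom.comp f).comp (permPicEquiv T σ).toAddEquiv.toAddMonoidHom) ?_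
      intro x y hxy
      simp only [AddMonoidHom.coe_comp, Function.comp_apply] at hxy
      have h1 := e'.injective hxy
      have h2 := hf h1
      exact (permPicEquiv T σ).injective h2

end Groth.Agent.Lib.helper13.NumContr
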