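import Groth.Agent.Lib.helper11.NumType

/-!
Numerical types: the topological genus is bounded by the genus for minimal numerical types
(`topGenus_le_genus`).  The key inequality is `2 e ≤ ∑ k_i` where `a_ii = - k_i w_i`.
-/

set_option autoImplicit false

namespace Groth.Agent.Lib.helper13.NumTop

open Models Finset Groth.Agent.Lib.helper11.NumType

variable {n : ℕ} (T : NumericalType n)

/-- the integer `k_i` with `a_ii = - k_i w_i` -/
def k (i : Fin n) : ℤ := -(T.a i i / T.w i)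

theorem a_diag (i : Fin n) : T.a i i = -(k T i * T.w i) := by
  unfold k
  rw [neg_mul, neg_neg, Int.ediv_mul_cancel (T.w_dvd i i)]

/-- off-diagonal row sum -/
theorem off_row_sum (i : Fin n) :
    ∑ j ∈ univ.erase i, T.a i j * T.m j = k T i * T.w i * T.m i := by
  have h := row_sum T i
  rw [← Finset.add_sum_erase _ _ (Finset.mem_univ i), a_diag] at h
  linarith

/-- the set of ordered pairs of distinct adjacent indices -/
def E : Finset (Fin n × Fin n) := univ.filter fun p : Fin n × Fin n => p.1 ≠ p.2 ∧ 0 < T.a p.1 p.2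

theorem mem_E (p : Fin n × Fin n) : p ∈ E T ↔ p.1 ≠ p.2 ∧ 0 < T.a p.1 p.2 := by
  simp [E]

theorem card_E : (E T).card = 2 * T.edgeCount := by
  classical
  unfold NumericalType.edgeCount
  have h1 : E T = (univ.filter fun p : Fin n × Fin n => p.1 < p.2 ∧ 0 < T.a p.1 p.2) ∪
      (univ.filter fun p : Fin n × Fin n => p.2 < p.1 ∧ 0 < T.a p.1 p.2) := by
    ext p
    simp only [mem_E, mem_union, mem_filter, mem_univ, true_and]
    constructor
    · rintro ⟨h1, h2⟩
      rcases lt_or_gt_of_ne h1 with h | h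
      · exact Or.inl ⟨h, h2⟩
      · exact Or.inr ⟨h, h2⟩
    · rintro (⟨h1, h2⟩ | ⟨h1, h2⟩)
      · exact ⟨ne_of_lt h1, h2⟩
      · exact ⟨ne_of_gt h1, h2⟩
  have h2 : Disjoint (univ.filter fun p : Fin n × Fin n => p.1 < p.2 ∧ 0 < T.a p.1 p.2)
      (univ.filter fun p : Fin n × Fin n => p.2 < p.1 ∧ 0 < T.a p.1 p.2) := by
    rw [Finset.disjoint_left]
    intro p hp hq
    simp only [mem_filter, mem_univ, true_and] at hp hq
    exact absurd hp.1 (not_lt_of_gt hq.1)
  have h3 : (univ.filter fun p : Fin n × Fin n => p.2 < p.1 ∧ 0 < T.a p.1 p.2).card =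
      (univ.filter fun p : Fin n × Fin n => p.1 < p.2 ∧ 0 < T.a p.1 p.2).card := by
    refine Finset.card_equiv (Equiv.prodComm _ _) ?_
    intro p
    simp only [mem_filter, mem_univ, true_and, Equiv.prodComm_apply, Prod.fst_swap, Prod.snd_swap]
    rw [T.symm.apply p.1 p.2]
  rw [h1, Finset.card_union_of_disjoint h2, h3, two_mul]

theorem sum_E_swap (f : Fin n → Fin n → ℚ) :
    ∑ p ∈ E T, f p.1 p.2 = ∑ p ∈ E T, f p.2 p.1 := by
  refine Finset.sum_equiv (Equiv.prodComm _ _) ?_ ?_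
  · intro p
    simp only [mem_E, Equiv.prodComm_apply, Prod.fst_swap, Prod.snd_swap]
    rw [T.symm.apply p.1 p.2]
    constructor
    · rintro ⟨h1, h2⟩; exact ⟨fun h => h1 h.symm, h2⟩
    · rintro ⟨h1, h2⟩; exact ⟨fun h => h1 h.symm, h2⟩
  · intro p _
    simp

theorem two_le_div_add_div {x y : ℚ} (hx : 0 < x) (hy : 0 < y) : 2 ≤ x / y + y / x := by
  rw [div_add_div _ _ hy.ne' hx.ne', le_div_iff₀ (by positivity)]
  nlinarith [sq_nonneg (x - y)]

/-- AM-GM on the ordered pairs. -/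
theorem card_E_le_sum : ((E T).card : ℚ) ≤ ∑ p ∈ E T, (T.m p.2 : ℚ) / (T.m p.1 : ℚ) := by
  have h1 := sum_E_swap T (fun i j => (T.m j : ℚ) / (T.m i : ℚ))
  have h2 : ∑ p ∈ E T, (2 : ℚ) ≤
      ∑ p ∈ E T, ((T.m p.2 : ℚ) / (T.m p.1 : ℚ) + (T.m p.1 : ℚ) / (T.m p.2 : ℚ)) := by
    refine Finset.sum_le_sum fun p _ => ?_
    refine two_le_div_add_div ?_ ?_
    · exact_mod_cast T.m_pos p.2
    · exact_mod_cast T.m_pos p.1
  rw [Finset.sum_add_distrib, ← h1, Finset.sum_const, nsmul_eq_mul] at h2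
  linarith

/-- `k_i m_i ≥` the sum of the multiplicities of the neighbours. -/
theorem k_mul_m_ge (i : Fin n) :
    ∑ j, (if i ≠ j ∧ 0 < T.a i j then T.m j else 0) ≤ k T i * T.m i := by
  have h := off_row_sum T i
  have h2 : T.w i * ∑ j, (if i ≠ j ∧ 0 < T.a i j then T.m j else 0) ≤
      ∑ j ∈ univ.erase i, T.a i j * T.m j := by
    rw [Finset.mul_sum, ← Finset.add_sum_erase _ _ (Finset.mem_univ i)]
    simp only [ne_eq, not_true_eq_false, false_and, if_false, mul_zero, zero_add]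
    refine Finset.sum_le_sum fun j hj => ?_
    have hji : j ≠ i := Finset.ne_of_mem_erase hj
    by_cases hpos : 0 < T.a i j
    · rw [if_pos ⟨fun h => hji h.symm, hpos⟩]
      have := Int.le_of_dvd hpos (T.w_dvd i j)
      exact mul_le_mul_of_nonneg_right this (T.m_pos j).le
    · rw [if_neg (fun h => hpos h.2), mul_zero]
      exact mul_nonneg (T.offDiag_nonneg i j (fun h => hji h.symm)) (T.m_pos j).le
  rw [h] at h2
  have hw := T.w_pos i
  have h3 : T.w i * ∑ j, (if i ≠ j ∧ 0 < T.a i j then T.m j else 0) ≤ T.w i * (k T i * T.m i) := by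
    linarith
  exact le_of_mul_le_mul_left h3 hw

theorem sum_E_eq (f : Fin n → Fin n → ℚ) :
    ∑ p ∈ E T, f p.1 p.2 = ∑ i, ∑ j, (if i ≠ j ∧ 0 < T.a i j then f i j else 0) := by
  unfold E
  rw [Finset.sum_filter, ← Finset.sum_product']
  simp

/-- The key inequality: twice the number of edges is at most `∑ k_i`. -/
theorem two_edgeCount_le : 2 * (T.edgeCount : ℤ) ≤ ∑ i, k T i := by
  have h1 := card_E_le_sum T
  rw [card_E, sum_E_eq T (fun i j => (T.m j : ℚ) / (T.m i : ℚ))] at h1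
  have h2 : ∀ i, ∑ j, (if i ≠ j ∧ 0 < T.a i j then (T.m j : ℚ) / (T.m i : ℚ) else 0) ≤
      (k T i : ℚ) := by
    intro i
    have hm : (0 : ℚ) < (T.m i : ℚ) := by exact_mod_cast T.m_pos i
    have h3 : ((∑ j, (if i ≠ j ∧ 0 < T.a i j then T.m j else 0) : ℤ) : ℚ) ≤
        ((k T i * T.m i : ℤ) : ℚ) := by exact_mod_cast k_mul_m_ge T i
    push_cast at h3
    have h4 : ∑ j, (if i ≠ j ∧ 0 < T.a i j then (T.m j : ℚ) / (T.m i : ℚ) else 0) =
        (∑ j, (if i ≠ j ∧ 0 < T.a i j then (T.m j : ℚ) else 0)) / (T.m i : ℚ) := by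
      rw [Finset.sum_div]
      refine Finset.sum_congr rfl fun j _ => ?_
      split_ifs <;> simp
    rw [h4, div_le_iff₀ hm]
    exact h3
  have h5 : ((2 * T.edgeCount : ℕ) : ℚ) ≤ ((∑ i, k T i : ℤ) : ℚ) := by
    push_cast
    push_cast at h1
    exact h1.trans (Finset.sum_le_sum fun i _ => h2 i)
  have h6 : ((2 * (T.edgeCount : ℤ) : ℤ) : ℚ) ≤ ((∑ i, k T i : ℤ) : ℚ) := by
    push_cast
    push_cast at h5
    exact h5
  exact_mod_cast h6

theorem k_pos (hn : 1 < n) (i : Fin n) : 0 < k T i := by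
  classical
  obtain ⟨i', hi', j, hj, hij⟩ := T.connected {i} ⟨i, Finset.mem_singleton_self i⟩ (by
    intro h
    have := congrArg Finset.card h
    simp at this
    omega)
  rw [Finset.mem_singleton] at hi' hj
  subst hi'
  have hji : j ≠ i' := hj
  have hpos : 0 < T.a i' j := lt_of_le_of_ne (T.offDiag_nonneg i' j (fun h => hji h.symm)) hij.symm
  have h := off_row_sum T i'
  have h2 : 0 < ∑ j ∈ univ.erase i', T.a i' j * T.m j := by
    refine Finset.sum_pos' (fun l hl => ?_) ⟨j, Finset.mem_erase.mpr ⟨hji, Finset.mem_univ _⟩, ?_⟩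
    · exact mul_nonneg (T.offDiag_nonneg i' l (fun h => (Finset.ne_of_mem_erase hl) h.symm))
        (T.m_pos l).le
    · exact mul_pos hpos (T.m_pos j)
  rw [h] at h2
  have hwm : 0 < T.w i' * T.m i' := mul_pos (T.w_pos i') (T.m_pos i')
  rw [mul_assoc] at h2
  exact (mul_pos_iff_of_pos_right hwm).mp h2

theorem topGenus_le_genus (hmin : T.IsMinimal) (hn : 1 < n) : T.topGenus ≤ T.genus := by
  have h1 := two_edgeCount_le T
  -- termwise
  have h2 : ∀ i, k T i - 2 ≤ T.m i * T.w i * (2 * T.g i - 2 + k T i) := by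
    intro i
    have hk := k_pos T hn i
    have hg := T.g_nonneg i
    have hM : 1 ≤ T.m i * T.w i := by
      have := T.m_pos i
      have := T.w_pos i
      nlinarith
    have ht : 0 ≤ 2 * T.g i - 2 + k T i := by
      by_contra hcon
      push Not at hcon
      have hg0 : T.g i = 0 := by omega
      have hk1 : k T i = 1 := by omega
      apply hmin i
      refine ⟨hg0, ?_⟩
      rw [a_diag, hk1, one_mul]
    nlinarith
  have h3 : ∑ i, (k T i - 2) ≤ ∑ i, T.m i * T.w i * (2 * T.g i - 2 + k T i) :=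
    Finset.sum_le_sum fun i _ => h2 i
  have h4 : ∑ i, T.m i * T.w i * (2 * T.g i - 2 + k T i) =
      2 * (∑ i, T.m i * T.w i * (T.g i - 1)) - ∑ i, T.m i * T.a i i := by
    rw [Finset.mul_sum, ← Finset.sum_sub_distrib]
    refine Finset.sum_congr rfl fun i _ => ?_
    rw [a_diag]
    ring
  have h5 : ∑ i, (k T i - 2) = (∑ i, k T i) - 2 * n := by
    rw [Finset.sum_sub_distrib]
    simp [mul_comm]
  unfold NumericalType.topGenus NumericalType.genus
  have h6 : 2 * ((∑ i, T.m i * T.a i i) / 2) ≤ ∑ i, T.m i * T.a i i :=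
    Int.mul_ediv_self_le (by norm_num)
  omega

end Groth.Agent.Lib.helper13.NumTop
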