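import Groth.Agent.Lib.helper13.NumTop
import Groth.Agent.S2173
import Groth.Agent.S2182

/-!
Numerical types: `2 g - 2 = ∑ m_i w_i t_i` with `t_i = 2 g_i - 2 + k_i`, and the resulting
bounds for the indices which are not `(-2)`-indices.
-/

set_option autoImplicit false

namespace Groth.Agent.Lib.helper13.NumTop

open Models Finset Groth.Agent.Lib.helper11.NumType

variable {n : ℕ} (T : NumericalType n)

/-- `t_i = 2 g_i - 2 + k_i`, the contribution of `i` to `2g - 2` divided by `m_i w_i`. -/
def t (i : Fin n) : ℤ := 2 * T.g i - 2 + k T i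

theorem sum_t_eq : ∑ i, T.m i * T.w i * t T i =
    2 * (∑ i, T.m i * T.w i * (T.g i - 1)) - ∑ i, T.m i * T.a i i := by
  rw [Finset.mul_sum, ← Finset.sum_sub_distrib]
  refine Finset.sum_congr rfl fun i _ => ?_
  rw [a_diag, t]
  ring

theorem two_genus_sub_two : 2 * T.genus - 2 = ∑ i, T.m i * T.w i * t T i := by
  obtain ⟨c, hc⟩ := Groth.Agent.S2173.result T
  rw [sum_t_eq]
  unfold NumericalType.genus
  rw [hc, Int.mul_ediv_cancel_left _ two_ne_zero]
  ring

theorem t_nonneg (hmin : T.IsMinimal) (hn : 1 < n) (i : Fin n) : 0 ≤ t T i := by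
  have hk := k_pos T hn i
  have hg := T.g_nonneg i
  unfold t
  by_contra hcon
  push Not at hcon
  have hg0 : T.g i = 0 := by omega
  have hk1 : k T i = 1 := by omega
  apply hmin i
  refine ⟨hg0, ?_⟩
  rw [a_diag, hk1, one_mul]

theorem t_pos (hmin : T.IsMinimal) (hn : 1 < n) (i : Fin n) (h : ¬T.IsMinusTwo i) :
    0 < t T i := by
  have h0 := t_nonneg T hmin hn i
  have hk := k_pos T hn i
  have hg := T.g_nonneg i
  rcases h0.lt_or_eq with h1 | h1
  · exact h1
  · exfalso
    apply h
    unfold t at h1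
    have hg0 : T.g i = 0 := by omega
    have hk2 : k T i = 2 := by omega
    refine ⟨hg0, ?_⟩
    rw [a_diag, hk2]
    ring

theorem M_pos (i : Fin n) : 1 ≤ T.m i * T.w i := by
  have := T.m_pos i
  have := T.w_pos i
  nlinarith

theorem term_le (hmin : T.IsMinimal) (hn : 1 < n) (j : Fin n) :
    T.m j * T.w j * t T j ≤ 2 * T.genus - 2 := by
  rw [two_genus_sub_two]
  exact Finset.single_le_sum (f := fun i => T.m i * T.w i * t T i)
    (fun i _ => mul_nonneg (le_trans zero_le_one (M_pos T i)) (t_nonneg T hmin hn i))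
    (Finset.mem_univ j)

theorem abs_a_diag (hn : 1 < n) (j : Fin n) : |T.a j j| = k T j * T.w j := by
  rw [a_diag, abs_neg, abs_of_nonneg]
  exact mul_nonneg (k_pos T hn j).le (T.w_pos j).le

open Classical in
theorem nonMinusTwo_bounds (hmin : T.IsMinimal) (hn : 1 < n) (hg : 2 ≤ T.genus) :
    ((univ.filter fun j => ¬T.IsMinusTwo j).card : ℤ) ≤ 2 * T.genus - 2 ∧
      ∀ j, ¬T.IsMinusTwo j →
        T.g j < T.genus ∧ T.m j * |T.a j j| ≤ 6 * T.genus - 6 ∧
          ∀ i, T.m i * T.a i j ≤ 6 * T.genus - 6 := by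
  refine ⟨?_, ?_⟩
  · rw [two_genus_sub_two]
    have h1 : ((univ.filter fun j => ¬T.IsMinusTwo j).card : ℤ) =
        ∑ j ∈ univ.filter (fun j => ¬T.IsMinusTwo j), (1 : ℤ) := by simp
    rw [h1]
    refine le_trans (Finset.sum_le_sum (g := fun i => T.m i * T.w i * t T i) ?_) ?_
    · intro j hj
      have hj' : ¬T.IsMinusTwo j := (Finset.mem_filter.mp hj).2
      have h2 := t_pos T hmin hn j hj'
      have h3 := M_pos T j
      nlinarith
    · refine Finset.sum_le_sum_of_subset_of_nonneg (Finset.subset_univ _) ?_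
      intro i _ _
      exact mul_nonneg (le_trans zero_le_one (M_pos T i)) (t_nonneg T hmin hn i)
  · intro j hj
    have h1 := term_le T hmin hn j
    have h2 := t_pos T hmin hn j hj
    have h3 := M_pos T j
    have hk := k_pos T hn j
    have hgj := T.g_nonneg j
    have hdiag : T.m j * |T.a j j| ≤ 6 * T.genus - 6 := by
      rw [abs_a_diag T hn]
      -- k_j ≤ 3 t_j
      have h4 : k T j ≤ 3 * t T j := by
        unfold t at h2 ⊢
        omega
      have h5 : T.m j * (k T j * T.w j) = T.m j * T.w j * k T j := by ring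
      rw [h5]
      nlinarith
    refine ⟨?_, hdiag, ?_⟩
    · by_contra hcon
      push Not at hcon
      have h4 : 2 * T.genus - 1 ≤ t T j := by
        unfold t
        omega
      nlinarith
    · intro i
      by_cases hpos : 0 < T.a i j
      · exact le_trans (Groth.Agent.S2182.result T i j hpos).1 hdiag
      · push Not at hpos
        have : T.m i * T.a i j ≤ 0 := mul_nonpos_of_nonneg_of_nonpos (T.m_pos i).le hpos
        omega

end Groth.Agent.Lib.helper13.NumTop
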