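import Mathlib

open Finset Polynomial

namespace Groth.Agent.Lib.helper13.PLinear

universe u

section Basic

variable {p : ℕ} [hp : Fact p.Prime] {k : Type u} [Field k] [CharP k p]
variable {V : Type u} [AddCommGroup V] [Module k V]

/-- a `p`-linear map as a semilinear map for the Frobenius -/
abbrev PLin (p : ℕ) [Fact p.Prime] (k : Type u) [Field k] [CharP k p] (V : Type u)
    [AddCommGroup V] [Module k V] := V →ₛₗ[frobenius k p] V

lemma map_smul' (F : PLin p k V) (a : k) (v : V) : F (a • v) = a ^ p • F v := by
  rw [LinearMap.map_smulₛₗ]; rfl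

lemma iter_add (F : PLin p k V) (m : ℕ) (v w : V) : (⇑F)^[m] (v + w) = (⇑F)^[m] v + (⇑F)^[m] w := by
  induction m generalizing v w with
  | zero => rfl
  | succ m ih => rw [Function.iterate_succ_apply, Function.iterate_succ_apply,
      Function.iterate_succ_apply, map_add, ih]

lemma iter_zero (F : PLin p k V) (m : ℕ) : (⇑F)^[m] 0 = 0 := by
  induction m with
  | zero => rfl
  | succ m ih => rw [Function.iterate_succ_apply, map_zero, ih]

lemma iter_smul (F : PLin p k V) (m : ℕ) (a : k) (v : V) :
    (⇑F)^[m] (a • v) = a ^ (p ^ m) • (⇑F)^[m] v := by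
  induction m generalizing a v with
  | zero => simp
  | succ m ih =>
    rw [Function.iterate_succ_apply, Function.iterate_succ_apply, map_smul', ih, pow_succ',
      pow_mul]

lemma iter_sum (F : PLin p k V) (m : ℕ) {ι : Type*} (s : Finset ι) (g : ι → V) :
    (⇑F)^[m] (∑ i ∈ s, g i) = ∑ i ∈ s, (⇑F)^[m] (g i) := by
  classical
  induction s using Finset.induction_on with
  | empty => simp
  | insert a s ha ih => rw [Finset.sum_insert ha, Finset.sum_insert ha, iter_add, ih]

lemma iter_fixed (F : PLin p k V) (m : ℕ) {v : V} (hv : F v = v) : (⇑F)^[m] v = v := by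
  induction m with
  | zero => rfl
  | succ m ih => rw [Function.iterate_succ_apply, hv, ih]

/-- the nilpotent part is a submodule -/
def nilPart (F : PLin p k V) : Submodule k V where
  carrier := {v | ∃ m : ℕ, (⇑F)^[m] v = 0}
  add_mem' := by
    rintro v w ⟨m, hm⟩ ⟨n, hn⟩
    refine ⟨m + n, ?_⟩
    rw [iter_add, add_comm m n, Function.iterate_add_apply, hm, iter_zero, zero_add,
      add_comm n m, Function.iterate_add_apply, hn, iter_zero]
  zero_mem' := ⟨0, rfl⟩
  smul_mem' := by
    rintro a v ⟨m, hm⟩
    exact ⟨m, by rw [iter_smul, hm, smul_zero]⟩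

lemma mem_nilPart {F : PLin p k V} {v : V} : v ∈ nilPart F ↔ ∃ m : ℕ, (⇑F)^[m] v = 0 := Iff.rfl

lemma span_nil_eq (F : PLin p k V) :
    Submodule.span k {v : V | ∃ m : ℕ, (⇑F)^[m] v = 0} = nilPart F :=
  Submodule.span_eq (nilPart F)

/-- elements of `k` fixed by Frobenius are integers -/
lemma exists_int_of_pow_eq (a : k) (ha : a ^ p = a) : ∃ n : ℤ, (n : k) = a := by
  classical
  -- the roots of X^p - X are the images of 0..p-1
  have hpoly : (Polynomial.X ^ p - Polynomial.X : Polynomial k) ≠ 0 :=
    FiniteField.X_pow_card_sub_X_ne_zero k hp.out.one_lt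
  by_contra hcon
  push Not at hcon
  -- `Finset.image` of the `p` integers together with `a` are `p+1` distinct roots
  have hroots : ∀ x ∈ insert a ((Finset.range p).image (fun n : ℕ => (n : k))),
      x ∈ (Polynomial.X ^ p - Polynomial.X : Polynomial k).roots := by
    intro x hx
    rw [Polynomial.mem_roots hpoly, Polynomial.IsRoot, Polynomial.eval_sub, Polynomial.eval_pow,
      Polynomial.eval_X, sub_eq_zero]
    rcases Finset.mem_insert.mp hx with rfl | hx
    · exact ha
    · obtain ⟨n, -, rfl⟩ := Finset.mem_image.mp hx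
      rw [← Nat.cast_pow]
      exact (CharP.natCast_eq_natCast' k p (by
        have := ZMod.pow_card (n : ZMod p)
        rw [← Nat.cast_pow, ZMod.natCast_eq_natCast_iff] at this  
        exact this))
  have hcard : (insert a ((Finset.range p).image (fun n : ℕ => (n : k)))).card = p + 1 := by
    rw [Finset.card_insert_of_notMem, Finset.card_image_of_injOn, Finset.card_range]
    · intro x hx y hy hxy
      simp only [Finset.coe_range, Set.mem_Iio] at hx hy
      have := (CharP.natCast_eq_natCast k p).mp hxy
      exact Nat.ModEq.eq_of_lt_of_lt this hx hy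
    · intro hmem
      obtain ⟨n, -, hn⟩ := Finset.mem_image.mp hmem
      exact hcon n (by simpa using hn)
  have hle := Multiset.card_le_card (Finset.val_le_iff_val_subset.mpr
    (fun x hx => hroots x (by simpa using hx)) : (insert a ((Finset.range p).image (fun n : ℕ => (n : k)))).val ≤ _)
  have hdeg := Polynomial.card_roots' (Polynomial.X ^ p - Polynomial.X : Polynomial k)
  have hnat : (Polynomial.X ^ p - Polynomial.X : Polynomial k).natDegree ≤ p :=
    (FiniteField.X_pow_card_sub_X_natDegree_eq k hp.out.one_lt).le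
  have : p + 1 ≤ p := by
    calc p + 1 = _ := hcard.symm
      _ ≤ _ := hle
      _ ≤ _ := hdeg
      _ ≤ p := hnat
  omega

/-- fixed vectors independent over `𝔽_p` are independent over `k` -/
theorem indep_of_fixed {ι : Type*} [Fintype ι] (F : PLin p k V) (v : ι → V)
    (hv : ∀ i, F (v i) = v i)
    (hZ : ∀ c : ι → ℤ, (∑ i, c i • v i) = 0 → ∀ i, (p : ℤ) ∣ c i) : LinearIndependent k v := by
  classical
  rw [Fintype.linearIndependent_iff]
  suffices h : ∀ n : ℕ, ∀ g : ι → k, (Finset.univ.filter (fun i => g i ≠ 0)).card = n →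
      ∑ i, g i • v i = 0 → ∀ i, g i = 0 from fun g hg => h _ g rfl hg
  intro n
  induction n using Nat.strong_induction_on with
  | _ n ih =>
    intro g hcard hg
    by_contra hne
    push Not at hne
    obtain ⟨i0, hi0⟩ := hne
    set h : ι → k := fun i => g i / g i0 with hdef
    have hh0 : h i0 = 1 := div_self hi0
    have hh : ∑ i, h i • v i = 0 := by
      have : ∑ i, h i • v i = (g i0)⁻¹ • ∑ i, g i • v i := by
        rw [Finset.smul_sum]
        apply Finset.sum_congr rfl
        intro i _
        simp only [hdef, div_eq_inv_mul, mul_smul]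
      rw [this, hg, smul_zero]
    have hF : ∑ i, (h i) ^ p • v i = 0 := by
      have := congrArg F hh
      rw [map_sum, map_zero] at this
      rw [← this]
      apply Finset.sum_congr rfl
      intro i _
      rw [map_smul', hv]
    set h' : ι → k := fun i => h i ^ p - h i with hdef'
    have hh' : ∑ i, h' i • v i = 0 := by
      simp only [hdef', sub_smul, Finset.sum_sub_distrib, hF, hh, sub_zero]
    have hsupp : (Finset.univ.filter (fun i => h' i ≠ 0)).card < n := by
      rw [← hcard]
      apply Finset.card_lt_card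
      rw [Finset.ssubset_iff_of_subset]
      · refine ⟨i0, by simp [hi0], ?_⟩
        simp [hdef', hh0]
      · intro i hi
        simp only [Finset.mem_filter, Finset.mem_univ, true_and] at hi ⊢
        intro hgi
        apply hi
        simp [hdef', hdef, hgi, hp.out.ne_zero]
    have hz := ih _ hsupp h' rfl hh'
    have hint : ∀ i, ∃ n : ℤ, (n : k) = h i :=
      fun i => exists_int_of_pow_eq (h i) (sub_eq_zero.mp (hz i))
    choose c hc using hint
    have hrel : ∑ i, c i • v i = 0 := by
      rw [← hh]
      apply Finset.sum_congr rfl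
      intro i _
      rw [← hc i, Int.cast_smul_eq_zsmul]
    have hdvd := hZ c hrel i0
    have h0 : ((c i0 : ℤ) : k) = 0 := by
      obtain ⟨m, hm⟩ := hdvd
      rw [hm]
      simp [CharP.cast_eq_zero]
    rw [hc i0, hh0] at h0
    exact one_ne_zero h0

/-- the span of fixed vectors -/
def fixPart (F : PLin p k V) : Submodule k V := Submodule.span k {v : V | F v = v}

theorem fix_inf_nil (F : PLin p k V) : fixPart F ⊓ nilPart F = ⊥ := by
  classical
  rw [eq_bot_iff]
  rintro x ⟨hx0, m, hxm⟩
  obtain ⟨b, hbsub, hbspan, hbli⟩ := exists_linearIndependent k {v : V | F v = v}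
  have hx : x ∈ Submodule.span k b := by rw [hbspan]; exact hx0
  rw [← Set.image_id b, Finsupp.mem_span_image_iff_linearCombination] at hx
  obtain ⟨l, hl, rfl⟩ := hx
  rw [Finsupp.linearCombination_apply, Finsupp.sum, iter_sum] at hxm
  have h1 : ∀ i ∈ l.support, (⇑F)^[m] (l i • id i) = (l i) ^ (p ^ m) • i := by
    intro i hi
    rw [iter_smul, id, iter_fixed F m (hbsub (hl hi))]
  rw [Finset.sum_congr rfl h1] at hxm
  -- independence
  have hli := linearIndependent_iff'.mp hbli
  have hz : ∀ i ∈ l.support, l i = 0 := by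
    intro i hi
    have hmem : i ∈ b := hl hi
    have := hli (l.support.subtype (· ∈ b)) (fun j => (l j) ^ (p ^ m)) (by
      rw [Finset.sum_subtype_eq_sum_filter (f := fun j : V => (l j) ^ (p ^ m) • j)]
      rw [← hxm]
      apply Finset.sum_congr _ (fun _ _ => rfl)
      ext j
      simp only [Finset.mem_filter, Finsupp.mem_support_iff, and_iff_left_iff_imp]
      intro hj
      exact hl (Finsupp.mem_support_iff.mpr hj)) ⟨i, hmem⟩ (by simpa using Finsupp.mem_support_iff.mp hi)
    exact pow_eq_zero_iff (pow_pos hp.out.pos m).ne' |>.mp this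
  have : l = 0 := by
    ext i
    by_cases hi : i ∈ l.support
    · exact hz i hi
    · simpa using hi
  rw [this]
  simp

end Basic

section Key

variable {p : ℕ} [hp : Fact p.Prime] {k : Type u} [Field k] [CharP k p]

/-- the polynomials `X_i(Y)` of the recursion `X_0 = a_0 Y^p`, `X_{i+1} = X_i^p + a_{i+1} Y^p` -/
noncomputable def Xp (p : ℕ) (a : ℕ → k) : ℕ → k[X]
  | 0 => C (a 0) * X ^ p
  | (i + 1) => (Xp p a i) ^ p + C (a (i + 1)) * X ^ p

omit [CharP k p] in
lemma X_pow_dvd_Xp (a : ℕ → k) (i : ℕ) : (X : k[X]) ^ p ∣ Xp p a i := by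
  induction i with
  | zero => exact Dvd.intro_left _ rfl
  | succ i ih =>
    rw [Xp]
    exact dvd_add (dvd_trans ih (dvd_pow_self _ hp.out.ne_zero)) (Dvd.intro_left _ rfl)

omit [CharP k p] in
lemma Xp_inv (a : ℕ → k) (i : ℕ) :
    (Xp p a i = 0 ∧ ∀ j ≤ i, a j = 0) ∨ (Xp p a i ≠ 0) := by
  induction i with
  | zero =>
    by_cases h : a 0 = 0
    · left
      refine ⟨by simp [Xp, h], fun j hj => ?_⟩
      rw [Nat.le_zero.mp hj]; exact h
    · right
      simp [Xp, h]
  | succ i ih =>
    rcases ih with ⟨h0, hall⟩ | hne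
    · by_cases h : a (i + 1) = 0
      · left
        refine ⟨by simp [Xp, h0, h, hp.out.ne_zero], fun j hj => ?_⟩
        rcases Nat.lt_or_eq_of_le hj with hlt | rfl
        · exact hall j (Nat.lt_succ_iff.mp hlt)
        · exact h
      · right
        simp [Xp, h0, h, hp.out.ne_zero]
    · right
      -- degree argument
      obtain ⟨R, hR⟩ := X_pow_dvd_Xp (p := p) a i
      have hRne : R ≠ 0 := by
        rintro rfl; apply hne; rw [hR, mul_zero]
      have hdeg : p ≤ (Xp p a i).natDegree := by
        rw [hR, natDegree_mul (pow_ne_zero _ X_ne_zero) hRne, natDegree_X_pow]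
        exact Nat.le_add_right _ _
      have hdeg2 : (C (a (i + 1)) * X ^ p : k[X]).natDegree < ((Xp p a i) ^ p).natDegree := by
        calc (C (a (i + 1)) * X ^ p : k[X]).natDegree ≤ p := natDegree_C_mul_X_pow_le _ _
          _ < p * p := by
            have := hp.out.one_lt
            nlinarith
          _ ≤ p * (Xp p a i).natDegree := Nat.mul_le_mul_left _ hdeg
          _ = ((Xp p a i) ^ p).natDegree := by rw [natDegree_pow]
      rw [Xp]
      intro hzero
      have := natDegree_add_eq_left_of_natDegree_lt hdeg2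
      rw [hzero, natDegree_zero] at this
      omega

omit [CharP k p] in
/-- there is a nonzero `y` with `X_s(y) = y` as soon as some `a_j ≠ 0`, `j ≤ s` -/
lemma exists_root [IsAlgClosed k] (a : ℕ → k) (s : ℕ) (ha : ∃ j ≤ s, a j ≠ 0) :
    ∃ y : k, y ≠ 0 ∧ (Xp p a s).eval y = y := by
  have hne : Xp p a s ≠ 0 := by
    rcases Xp_inv (p := p) a s with ⟨-, hall⟩ | hne
    · obtain ⟨j, hj, hj'⟩ := ha
      exact absurd (hall j hj) hj'
    · exact hne
  obtain ⟨R, hR⟩ := X_pow_dvd_Xp (p := p) a s
  have hRne : R ≠ 0 := by
    rintro rfl; apply hne; rw [hR, mul_zero]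
  set Q : k[X] := X ^ (p - 1) * R - 1 with hQ
  have hdegQ : Q.degree ≠ 0 := by
    have h1 : (1 : k[X]).natDegree < (X ^ (p - 1) * R : k[X]).natDegree := by
      rw [natDegree_one, natDegree_mul (pow_ne_zero _ X_ne_zero) hRne, natDegree_X_pow]
      have := hp.out.one_lt
      omega
    have h2 : Q.natDegree = (X ^ (p - 1) * R : k[X]).natDegree := by
      rw [hQ, sub_eq_add_neg]
      apply natDegree_add_eq_left_of_natDegree_lt
      rwa [natDegree_neg]
    intro h0
    have := natDegree_eq_zero_iff_degree_le_zero.mpr h0.le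
    rw [h2] at this
    rw [this] at h1
    exact Nat.not_lt_zero _ h1
  obtain ⟨y, hy⟩ := IsAlgClosed.exists_root Q hdegQ
  rw [IsRoot, hQ, eval_sub, eval_mul, eval_pow, eval_X, eval_one, sub_eq_zero] at hy
  have hy0 : y ≠ 0 := by
    rintro rfl
    have hp1 : p - 1 ≠ 0 := by have := hp.out.one_lt; omega
    rw [zero_pow hp1, zero_mul] at hy
    exact zero_ne_one hy
  refine ⟨y, hy0, ?_⟩
  rw [hR, eval_mul, eval_pow, eval_X]
  calc y ^ p * R.eval y = y * (y ^ (p - 1) * R.eval y) := by
        rw [← mul_assoc, ← pow_succ', Nat.sub_add_cancel hp.out.pos]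
    _ = y := by rw [hy, mul_one]

variable {V : Type u} [AddCommGroup V] [Module k V]

lemma iter_injective (F : PLin p k V) (hinj : Function.Injective F) (m : ℕ) :
    Function.Injective (⇑F)^[m] := Function.Injective.iterate hinj m

theorem exists_fixed_ne_zero [IsAlgClosed k] [FiniteDimensional k V] [Nontrivial V]
    (F : PLin p k V) (hinj : Function.Injective F) : ∃ w : V, w ≠ 0 ∧ F w = w := by
  classical
  obtain ⟨v, hv⟩ := exists_ne (0 : V)
  -- nontrivial relations among the first `e+1` iterates
  let P : ℕ → Prop := fun e => ∃ c : ℕ → k, (∃ i ≤ e, c i ≠ 0) ∧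
    ∑ i ∈ range (e + 1), c i • (⇑F)^[i] v = 0
  have hex : ∃ e, P e := by
    set n := Module.finrank k V
    have hnli : ¬ LinearIndependent k (fun i : Fin (n + 1) => (⇑F)^[(i : ℕ)] v) := by
      intro hli
      have := hli.fintype_card_le_finrank
      simp at this
      omega
    rw [Fintype.not_linearIndependent_iff] at hnli
    obtain ⟨g, hg, i0, hi0⟩ := hnli
    refine ⟨n, fun i => if h : i < n + 1 then g ⟨i, h⟩ else 0, ⟨i0, Nat.lt_succ_iff.mp i0.2, ?_⟩, ?_⟩
    · simp only [i0.2, dif_pos]
      exact hi0
    · rw [← hg, ← Fin.sum_univ_eq_sum_range (fun i => (if h : i < n + 1 then g ⟨i, h⟩ else 0) •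
        (⇑F)^[i] v) (n + 1)]
      apply Finset.sum_congr rfl
      intro i _
      simp only [i.2, dif_pos]
  have hmin := fun e (he : e < Nat.find hex) => Nat.find_min hex he
  obtain ⟨c, ⟨i1, hi1, hci1⟩, hrel⟩ := Nat.find_spec hex
  -- d ≥ 1
  have hd : Nat.find hex ≠ 0 := by
    intro h0
    rw [h0] at hi1 hrel
    have hi10 : i1 = 0 := Nat.le_zero.mp hi1
    subst hi10
    simp only [zero_add, Finset.sum_range_one, Function.iterate_zero, id] at hrel
    exact hv ((smul_eq_zero.mp hrel).resolve_left hci1)
  obtain ⟨s, hs⟩ := Nat.exists_eq_succ_of_ne_zero hd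
  rw [hs] at hrel hi1
  -- minimality: no nontrivial relation among the first s+1 iterates
  have hM : ∀ x : ℕ → k, (∃ i ≤ s, x i ≠ 0) → ∑ i ∈ range (s + 1), x i • (⇑F)^[i] v ≠ 0 := by
    intro x hx h0
    exact hmin s (by omega) ⟨x, hx, h0⟩
  -- top coefficient nonzero
  have hctop : c (s + 1) ≠ 0 := by
    intro h0
    rw [Finset.sum_range_succ, h0, zero_smul, add_zero] at hrel
    refine hM c ?_ hrel
    rcases Nat.lt_or_eq_of_le hi1 with hlt | heq
    · exact ⟨i1, Nat.lt_succ_iff.mp hlt, hci1⟩
    · rw [heq] at hci1; exact absurd h0 hci1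
  set a : ℕ → k := fun i => -(c i) / c (s + 1) with ha
  have hFs : (⇑F)^[s + 1] v = ∑ i ∈ range (s + 1), a i • (⇑F)^[i] v := by
    rw [Finset.sum_range_succ] at hrel
    have h1 : c (s + 1) • (⇑F)^[s + 1] v = -∑ i ∈ range (s + 1), c i • (⇑F)^[i] v :=
      eq_neg_of_add_eq_zero_right hrel
    have h2 : (⇑F)^[s + 1] v = (c (s + 1))⁻¹ • (c (s + 1) • (⇑F)^[s + 1] v) := by
      rw [smul_smul, inv_mul_cancel₀ hctop, one_smul]
    rw [h2, h1, ← Finset.sum_neg_distrib, Finset.smul_sum]
    apply Finset.sum_congr rfl
    intro i _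
    rw [← neg_smul, smul_smul, ha]
    congr 1
    field_simp
  -- not all a_i zero
  have hane : ∃ j ≤ s, a j ≠ 0 := by
    by_contra hcon
    push Not at hcon
    have : (⇑F)^[s + 1] v = 0 := by
      rw [hFs]
      apply Finset.sum_eq_zero
      intro i hi
      rw [hcon i (Nat.lt_succ_iff.mp (mem_range.mp hi)), zero_smul]
    have h0 : (⇑F)^[s + 1] v = (⇑F)^[s + 1] 0 := by rw [this, iter_zero]
    exact hv (iter_injective F hinj (s + 1) h0)
  obtain ⟨y, hy0, hy⟩ := exists_root (p := p) a s hane
  set x : ℕ → k := fun i => (Xp p a i).eval y with hx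
  have hx0 : x 0 = a 0 * y ^ p := by simp [hx, Xp]
  have hxs : ∀ i, x (i + 1) = x i ^ p + a (i + 1) * y ^ p := by
    intro i; simp [hx, Xp]
  refine ⟨∑ i ∈ range (s + 1), x i • (⇑F)^[i] v, hM x ⟨s, le_rfl, by rw [hx]; simpa [hy] using hy0⟩, ?_⟩
  -- F w = w
  rw [map_sum]
  have h1 : ∀ i ∈ range (s + 1), F (x i • (⇑F)^[i] v) = x i ^ p • (⇑F)^[i + 1] v := by
    intro i _
    rw [map_smul', Function.iterate_succ_apply']
  rw [Finset.sum_congr rfl h1, Finset.sum_range_succ, hFs]
  have hxs' : x s = y := hy
  rw [hxs']
  conv_rhs => rw [Finset.sum_range_succ', hx0]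
  rw [Finset.smul_sum, Finset.sum_range_succ' (fun i => y ^ p • a i • (⇑F)^[i] v)]
  simp only [Function.iterate_zero, id]
  rw [← add_assoc, ← Finset.sum_add_distrib]
  congr 1
  · apply Finset.sum_congr rfl
    intro i _
    rw [hxs, add_smul, smul_smul, mul_comm]
  · rw [smul_smul, mul_comm]

/-- induced map on a quotient by a stable subspace -/
noncomputable def quotMap (F : PLin p k V) (K : Submodule k V) (hK : K ≤ K.comap F) :
    PLin p k (V ⧸ K) := K.mapQ K F hK

lemma quotMap_mk (F : PLin p k V) (K : Submodule k V) (hK : K ≤ K.comap F) (v : V) :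
    quotMap F K hK (K.mkQ v) = K.mkQ (F v) := rfl

lemma quotMap_iter (F : PLin p k V) (K : Submodule k V) (hK : K ≤ K.comap F) (m : ℕ) (v : V) :
    (⇑(quotMap F K hK))^[m] (K.mkQ v) = K.mkQ ((⇑F)^[m] v) := by
  induction m generalizing v with
  | zero => rfl
  | succ m ih => rw [Function.iterate_succ_apply, Function.iterate_succ_apply, quotMap_mk, ih]

lemma eq_top_of_quot (T K : Submodule k V) (hKT : K ≤ T) (h : T.map K.mkQ = ⊤) : T = ⊤ := by
  have := Submodule.comap_map_mkQ K T
  rw [h, Submodule.comap_top] at this
  rw [eq_comm, sup_eq_right.mpr hKT] at this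
  exact this

lemma finrank_quot_lt [FiniteDimensional k V] (K : Submodule k V) (hK : K ≠ ⊥) :
    Module.finrank k (V ⧸ K) < Module.finrank k V := by
  have h1 := Submodule.finrank_quotient_add_finrank K
  have h2 : 1 ≤ Module.finrank k K := Submodule.one_le_finrank_iff.mpr hK
  omega

theorem fix_sup_nil [IsAlgClosed k] : ∀ (n : ℕ) (V : Type u) [AddCommGroup V] [Module k V]
    [FiniteDimensional k V] (F : PLin p k V), Module.finrank k V = n →
    fixPart F ⊔ nilPart F = ⊤ := by
  intro n
  induction n using Nat.strong_induction_on with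
  | _ n ih =>
    intro V _ _ _ F hn
    by_cases hinj : Function.Injective F
    · -- injective case
      rcases subsingleton_or_nontrivial V with hsub | hnt
      · exact Subsingleton.elim _ _
      obtain ⟨w, hw0, hw⟩ := exists_fixed_ne_zero F hinj
      set L : Submodule k V := Submodule.span k {w} with hL
      have hLne : L ≠ ⊥ := by
        rw [hL, Ne, Submodule.span_singleton_eq_bot]; exact hw0
      have hLst : L ≤ L.comap F := by
        intro z hz
        obtain ⟨a, rfl⟩ := Submodule.mem_span_singleton.mp hz
        rw [Submodule.mem_comap, map_smul', hw]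
        exact Submodule.smul_mem _ _ (Submodule.mem_span_singleton_self w)
      have hlt := finrank_quot_lt L hLne
      rw [hn] at hlt
      have hIH := ih _ hlt (V ⧸ L) (quotMap F L hLst) rfl
      -- the quotient map is injective
      have hinj' : Function.Injective (quotMap F L hLst) := by
        rw [injective_iff_map_eq_zero]
        intro z hz
        obtain ⟨v, rfl⟩ := Submodule.mkQ_surjective L z
        rw [quotMap_mk, Submodule.mkQ_apply, Submodule.Quotient.mk_eq_zero] at hz
        obtain ⟨a, ha⟩ := Submodule.mem_span_singleton.mp hz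
        obtain ⟨b, hb⟩ := IsAlgClosed.exists_pow_nat_eq a hp.out.pos
        have : F v = F (b • w) := by rw [map_smul', hw, hb, ha]
        have hv := hinj this
        rw [Submodule.mkQ_apply, Submodule.Quotient.mk_eq_zero, hv]
        exact Submodule.smul_mem _ _ (Submodule.mem_span_singleton_self w)
      have hnil : nilPart (quotMap F L hLst) = ⊥ := by
        rw [eq_bot_iff]
        rintro z ⟨m, hm⟩
        have h0 : (⇑(quotMap F L hLst))^[m] z = (⇑(quotMap F L hLst))^[m] 0 := by
          rw [hm, iter_zero]
        exact iter_injective _ hinj' m h0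
      rw [hnil, sup_bot_eq] at hIH
      have hT : fixPart F = ⊤ := by
        apply eq_top_of_quot (fixPart F) L
        · rw [hL, Submodule.span_singleton_le_iff_mem]
          exact Submodule.subset_span hw
        · rw [eq_top_iff, ← hIH, fixPart, Submodule.span_le]
          intro z hz
          obtain ⟨u, rfl⟩ := Submodule.mkQ_surjective L z
          have hz' : quotMap F L hLst (L.mkQ u) = L.mkQ u := hz
          rw [quotMap_mk, ← sub_eq_zero, ← map_sub, Submodule.mkQ_apply,
            Submodule.Quotient.mk_eq_zero] at hz'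
          obtain ⟨c, hc⟩ := Submodule.mem_span_singleton.mp hz'
          -- solve x^p - x + c = 0
          have hdeg : (X ^ p - X + C c : k[X]).degree ≠ 0 := by
            have h1 : (X ^ p - X + C c : k[X]).natDegree = p := by
              rw [natDegree_add_C]
              exact FiniteField.X_pow_card_sub_X_natDegree_eq k hp.out.one_lt
            intro h0
            have := natDegree_eq_zero_iff_degree_le_zero.mpr h0.le
            rw [h1] at this
            exact hp.out.ne_zero this
          obtain ⟨x, hx⟩ := IsAlgClosed.exists_root _ hdeg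
          rw [IsRoot, eval_add, eval_sub, eval_pow, eval_X, eval_C] at hx
          refine ⟨u + x • w, ?_, ?_⟩
          · apply Submodule.subset_span
            show F (u + x • w) = u + x • w
            rw [map_add, map_smul', hw]
            have hFu : F u = u + c • w := by rw [hc]; abel
            rw [hFu, add_assoc, ← add_smul]
            congr 2
            linear_combination hx
          · rw [map_add]
            have : L.mkQ (x • w) = 0 := by
              rw [Submodule.mkQ_apply, Submodule.Quotient.mk_eq_zero]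
              exact Submodule.smul_mem _ _ (Submodule.mem_span_singleton_self w)
            rw [this, add_zero]
      rw [hT, top_sup_eq]
    · -- non-injective case
      set K : Submodule k V := LinearMap.ker F with hKdef
      have hKne : K ≠ ⊥ := by
        intro h
        apply hinj
        rw [injective_iff_map_eq_zero]
        intro z hz
        have : z ∈ K := hz
        rw [h] at this
        exact this
      have hKst : K ≤ K.comap F := by
        intro z hz
        rw [Submodule.mem_comap]
        have : F z = 0 := hz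
        rw [this]
        exact K.zero_mem
      have hlt := finrank_quot_lt K hKne
      rw [hn] at hlt
      have hIH := ih _ hlt (V ⧸ K) (quotMap F K hKst) rfl
      have hKnil : K ≤ nilPart F := by
        intro z hz
        exact ⟨1, hz⟩
      apply eq_top_of_quot _ K (le_trans hKnil le_sup_right)
      rw [eq_top_iff, ← hIH, sup_le_iff]
      constructor
      · rw [fixPart, Submodule.span_le]
        intro z hz
        obtain ⟨u, rfl⟩ := Submodule.mkQ_surjective K z
        have hz' : quotMap F K hKst (K.mkQ u) = K.mkQ u := hz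
        rw [quotMap_mk, ← sub_eq_zero, ← map_sub, Submodule.mkQ_apply,
          Submodule.Quotient.mk_eq_zero] at hz'
        have hker : F (F u - u) = 0 := hz'
        refine ⟨F u, ?_, ?_⟩
        · apply Submodule.mem_sup_left
          apply Submodule.subset_span
          show F (F u) = F u
          rw [map_sub, sub_eq_zero] at hker
          exact hker
        · rw [← quotMap_mk F K hKst]
          exact hz
      · rintro z ⟨m, hm⟩
        obtain ⟨u, rfl⟩ := Submodule.mkQ_surjective K z
        rw [quotMap_iter, Submodule.mkQ_apply, Submodule.Quotient.mk_eq_zero] at hm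
        refine ⟨u, ?_, rfl⟩
        apply Submodule.mem_sup_right
        refine ⟨m + 1, ?_⟩
        rw [Function.iterate_succ_apply']
        exact hm

end Key


end Groth.Agent.Lib.helper13.PLinear
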