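import Mathlib
import Groth.Prelude.Def_W4c5modbuncurvesppStab

/-!
# Reduction of φ-(semi)stability to elementary vertex sets (helper13)
-/

set_option autoImplicit false
open PhiStab LabGraph Relation

namespace Groth.Agent.Lib.helper13.PhiStabElem

universe u
variable {V E : Type u} [Fintype V] [Fintype E] [DecidableEq V] [DecidableEq E]

/-- adjacency within `S` -/
def AdjIn (ends : E → V × V) (S : Finset V) (a b : V) : Prop :=
  a ∈ S ∧ b ∈ S ∧ LabGraph.Adj ends a b

/-- `S` induces a connected subgraph -/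
def ConnIn (ends : E → V × V) (S : Finset V) : Prop :=
  S.Nonempty ∧ ∀ v ∈ S, ∀ w ∈ S, ReflTransGen (AdjIn ends S) v w

lemma adj_symm {ends : E → V × V} {a b : V} (h : LabGraph.Adj ends a b) : LabGraph.Adj ends b a := by
  obtain ⟨e, he⟩ := h
  exact ⟨e, he.symm⟩

lemma adjIn_symm (ends : E → V × V) (S : Finset V) : Symmetric (AdjIn ends S) :=
  fun _ _ h => ⟨h.2.1, h.1, adj_symm h.2.2⟩

lemma rtg_symm {α : Type*} {r : α → α → Prop} (hr : Symmetric r) {a b : α}
    (h : ReflTransGen r a b) : ReflTransGen r b a := by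
  induction h with
  | refl => exact ReflTransGen.refl
  | tail _ hcb ih => exact ReflTransGen.head (hr hcb) ih

lemma adjIn_mono {ends : E → V × V} {S W : Finset V} (h : S ⊆ W) {a b : V}
    (hab : AdjIn ends S a b) : AdjIn ends W a b :=
  ⟨h hab.1, h hab.2.1, hab.2.2⟩

lemma lift_path (ends : E → V × V) (S : Finset V) {a : V} (ha : a ∈ S) :
    ∀ {b : V}, ReflTransGen (AdjIn ends S) a b → ∀ hb : b ∈ S,
      ReflTransGen (LabGraph.Adj (indEnds ends S)) ⟨a, ha⟩ ⟨b, hb⟩ := by
  intro b hab
  induction hab with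
  | refl => intro hb; exact ReflTransGen.refl
  | @tail c b _ hcb ih =>
    intro hb
    refine (ih hcb.1).tail ?_
    obtain ⟨e, he⟩ := hcb.2.2
    have hmem : e ∈ PhiStab.inner ends S := by
      unfold PhiStab.inner
      rw [Finset.mem_filter]
      refine ⟨Finset.mem_univ _, ?_⟩
      rcases he with he | he
      · rw [he]; exact ⟨hcb.1, hb⟩
      · rw [he]; exact ⟨hb, hcb.1⟩
    refine ⟨⟨e, hmem⟩, ?_⟩
    rcases he with he | he
    · left
      refine Prod.ext (Subtype.ext ?_) (Subtype.ext ?_)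
      · show (ends e).1 = c
        rw [he]
      · show (ends e).2 = b
        rw [he]
    · right
      refine Prod.ext (Subtype.ext ?_) (Subtype.ext ?_)
      · show (ends e).1 = b
        rw [he]
      · show (ends e).2 = c
        rw [he]

lemma connected_ind_iff (ends : E → V × V) (S : Finset V) :
    LabGraph.Connected (indEnds ends S) ↔ ConnIn ends S := by
  constructor
  · rintro ⟨⟨⟨v, hv⟩⟩, h⟩
    refine ⟨⟨v, hv⟩, fun a ha b hb => ?_⟩
    have hab := h ⟨a, ha⟩ ⟨b, hb⟩
    refine ReflTransGen.lift (fun x : {v : V // v ∈ S} => x.1) (fun x y hxy => ?_) _ _ hab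
    obtain ⟨e, he⟩ := hxy
    refine ⟨x.2, y.2, e.1, ?_⟩
    rcases he with he | he
    · left
      have h1 := congrArg (fun p : {v : V // v ∈ S} × {v : V // v ∈ S} => (p.1 : V)) he
      have h2 := congrArg (fun p : {v : V // v ∈ S} × {v : V // v ∈ S} => (p.2 : V)) he
      exact Prod.ext h1 h2
    · right
      have h1 := congrArg (fun p : {v : V // v ∈ S} × {v : V // v ∈ S} => (p.1 : V)) he
      have h2 := congrArg (fun p : {v : V // v ∈ S} × {v : V // v ∈ S} => (p.2 : V)) he
      exact Prod.ext h1 h2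
  · rintro ⟨⟨v, hv⟩, h⟩
    exact ⟨⟨⟨v, hv⟩⟩, fun x y => lift_path ends S x.2 (h x.1 x.2 y.1 y.2) y.2⟩

/-- the set of cut edges -/
def cutset (ends : E → V × V) (S : Finset V) : Finset E :=
  Finset.univ.filter (fun e : E =>
    ((ends e).1 ∈ S ∧ (ends e).2 ∉ S) ∨ ((ends e).1 ∉ S ∧ (ends e).2 ∈ S))

lemma cut_eq (ends : E → V × V) (S : Finset V) : LabGraph.cut ends S = (cutset ends S).card := rfl

/-- separated sets: disjoint with no edge between them -/
def Sep (ends : E → V × V) (S₁ S₂ : Finset V) : Prop :=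
  Disjoint S₁ S₂ ∧ ∀ e : E, ¬((ends e).1 ∈ S₁ ∧ (ends e).2 ∈ S₂) ∧ ¬((ends e).1 ∈ S₂ ∧ (ends e).2 ∈ S₁)

lemma cutset_union {ends : E → V × V} {S₁ S₂ : Finset V} (h : Sep ends S₁ S₂) :
    cutset ends (S₁ ∪ S₂) = cutset ends S₁ ∪ cutset ends S₂ ∧
      Disjoint (cutset ends S₁) (cutset ends S₂) := by
  have hd : ∀ a, a ∈ S₁ → a ∉ S₂ := fun a ha => Finset.disjoint_left.mp h.1 ha
  constructor
  · ext e
    have h1 := h.2 e
    have ha := hd (ends e).1
    have hb := hd (ends e).2
    simp only [cutset, Finset.mem_filter, Finset.mem_univ, true_and, Finset.mem_union]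
    tauto
  · rw [Finset.disjoint_left]
    intro e he1 he2
    have h1 := h.2 e
    have ha := hd (ends e).1
    have hb := hd (ends e).2
    simp only [cutset, Finset.mem_filter, Finset.mem_univ, true_and] at he1 he2
    tauto

lemma inner_union {ends : E → V × V} {S₁ S₂ : Finset V} (h : Sep ends S₁ S₂) :
    PhiStab.inner ends (S₁ ∪ S₂) = PhiStab.inner ends S₁ ∪ PhiStab.inner ends S₂ ∧
      Disjoint (PhiStab.inner ends S₁) (PhiStab.inner ends S₂) := by
  have hd : ∀ a, a ∈ S₁ → a ∉ S₂ := fun a ha => Finset.disjoint_left.mp h.1 ha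
  constructor
  · ext e
    have h1 := h.2 e
    have ha := hd (ends e).1
    have hb := hd (ends e).2
    simp only [PhiStab.inner, Finset.mem_filter, Finset.mem_univ, true_and, Finset.mem_union]
    tauto
  · rw [Finset.disjoint_left]
    intro e he1 he2
    have ha := hd (ends e).1
    simp only [PhiStab.inner, Finset.mem_filter, Finset.mem_univ, true_and] at he1 he2
    tauto

lemma cutset_compl (ends : E → V × V) (S : Finset V) : cutset ends Sᶜ = cutset ends S := by
  ext e
  simp only [cutset, Finset.mem_filter, Finset.mem_univ, true_and, Finset.mem_compl]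
  tauto

/-- the defect function -/
noncomputable def FF (ends : E → V × V) (φ : V → ℝ) (m : V → ℤ) (N : Finset E) (S : Finset V) : ℝ :=
  (degOn ends m N S : ℝ) - (∑ v ∈ S, φ v) + (LabGraph.cut ends S : ℝ) / 2

/-- number of free cut edges -/
noncomputable def cc (ends : E → V × V) (N : Finset E) (S : Finset V) : ℝ :=
  ((cutset ends S \ N).card : ℝ)

lemma cc_union {ends : E → V × V} (N : Finset E) {S₁ S₂ : Finset V} (h : Sep ends S₁ S₂) :
    cc ends N (S₁ ∪ S₂) = cc ends N S₁ + cc ends N S₂ := by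
  obtain ⟨h1, h2⟩ := cutset_union h
  unfold cc
  rw [h1, Finset.union_sdiff_distrib, Finset.card_union_of_disjoint]
  · push_cast; ring
  · exact Finset.disjoint_of_subset_left Finset.sdiff_subset
      (Finset.disjoint_of_subset_right Finset.sdiff_subset h2)

lemma FF_union {ends : E → V × V} (φ : V → ℝ) (m : V → ℤ) (N : Finset E) {S₁ S₂ : Finset V}
    (h : Sep ends S₁ S₂) :
    FF ends φ m N (S₁ ∪ S₂) = FF ends φ m N S₁ + FF ends φ m N S₂ := by
  obtain ⟨h1, h2⟩ := cutset_union h
  obtain ⟨h3, h4⟩ := inner_union h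
  unfold FF degOn
  rw [cut_eq, cut_eq, cut_eq, h1, Finset.card_union_of_disjoint h2, h3, Finset.inter_union_distrib_left,
    Finset.card_union_of_disjoint
      (Finset.disjoint_of_subset_left Finset.inter_subset_right
        (Finset.disjoint_of_subset_right Finset.inter_subset_right h4)),
    Finset.sum_union h.1, Finset.sum_union h.1]
  push_cast
  ring

lemma card_inter_eq_sum (N X : Finset E) : ((N ∩ X).card : ℤ) = ∑ e ∈ N, if e ∈ X then (1 : ℤ) else 0 := by
  rw [← Finset.filter_mem_eq_inter, Finset.card_filter]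
  push_cast
  rfl

lemma FF_compl (ends : E → V × V) (φ : V → ℝ) (m : V → ℤ) (N : Finset E)
    (hdeg : (∑ v : V, φ v) = (totDeg m N : ℝ)) (S : Finset V) :
    FF ends φ m N S + FF ends φ m N Sᶜ = cc ends N S := by
  have hZ : degOn ends m N S + degOn ends m N Sᶜ + ((N ∩ cutset ends S).card : ℤ) = totDeg m N := by
    unfold degOn totDeg
    have hm : (∑ v ∈ S, m v) + (∑ v ∈ Sᶜ, m v) = ∑ v, m v := Finset.sum_add_sum_compl S m
    have hN : ((N ∩ PhiStab.inner ends S).card : ℤ) + ((N ∩ PhiStab.inner ends Sᶜ).card : ℤ)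
        + ((N ∩ cutset ends S).card : ℤ) = (N.card : ℤ) := by
      rw [card_inter_eq_sum, card_inter_eq_sum, card_inter_eq_sum, ← Finset.sum_add_distrib,
        ← Finset.sum_add_distrib, Finset.card_eq_sum_ones]
      push_cast
      refine Finset.sum_congr rfl fun e _ => ?_
      simp only [PhiStab.inner, cutset, Finset.mem_filter, Finset.mem_univ, true_and, Finset.mem_compl]
      by_cases ha : (ends e).1 ∈ S <;> by_cases hb : (ends e).2 ∈ S <;> simp [ha, hb]
    linarith
  have hcard : ((cutset ends S \ N).card : ℤ) + ((N ∩ cutset ends S).card : ℤ)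
      = ((cutset ends S).card : ℤ) := by
    rw [Finset.inter_comm]
    exact_mod_cast Finset.card_sdiff_add_card_inter (cutset ends S) N
  have hφ : (∑ v ∈ S, φ v) + (∑ v ∈ Sᶜ, φ v) = ∑ v, φ v := Finset.sum_add_sum_compl S φ
  unfold FF cc
  rw [cut_eq, cut_eq, cutset_compl]
  have hZ' : ((degOn ends m N S : ℤ) : ℝ) + ((degOn ends m N Sᶜ : ℤ) : ℝ)
      + (((N ∩ cutset ends S).card : ℤ) : ℝ) = ((totDeg m N : ℤ) : ℝ) := by
    exact_mod_cast hZ
  have hcard' : (((cutset ends S \ N).card : ℤ) : ℝ) + (((N ∩ cutset ends S).card : ℤ) : ℝ)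
      = (((cutset ends S).card : ℤ) : ℝ) := by
    exact_mod_cast hcard
  simp only [Int.cast_natCast] at hZ' hcard'
  linarith

lemma exists_sep_of_not_conn (ends : E → V × V) (T : Finset V) (hT : T.Nonempty)
    (h : ¬ ConnIn ends T) :
    ∃ T₁ T₂ : Finset V, T₁.Nonempty ∧ T₂.Nonempty ∧ Sep ends T₁ T₂ ∧ T₁ ∪ T₂ = T := by
  classical
  unfold ConnIn at h
  push Not at h
  obtain ⟨v, hv, w, hw, hvw⟩ := h hT
  refine ⟨T.filter (fun u => ReflTransGen (AdjIn ends T) v u),
    T.filter (fun u => ¬ ReflTransGen (AdjIn ends T) v u), ⟨v, ?_⟩, ⟨w, ?_⟩, ⟨?_, ?_⟩, ?_⟩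
  · exact Finset.mem_filter.mpr ⟨hv, ReflTransGen.refl⟩
  · exact Finset.mem_filter.mpr ⟨hw, hvw⟩
  · exact Finset.disjoint_filter_filter_not _ _ _
  · intro e
    constructor
    · rintro ⟨h1, h2⟩
      rw [Finset.mem_filter] at h1 h2
      exact h2.2 (h1.2.tail ⟨h1.1, h2.1, e, Or.inl rfl⟩)
    · rintro ⟨h1, h2⟩
      rw [Finset.mem_filter] at h1 h2
      exact h1.2 (h2.2.tail ⟨h2.1, h1.1, e, Or.inr rfl⟩)
  · exact Finset.filter_union_filter_not_eq _ _

lemma conn_union (ends : E → V × V) (hconn : LabGraph.Connected ends) (S T₁ T₂ : Finset V)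
    (hS : ConnIn ends S) (hsep : Sep ends T₁ T₂) (hU : T₁ ∪ T₂ = Sᶜ) : ConnIn ends T₁ᶜ := by
  have hSW : S ⊆ T₁ᶜ := by
    intro a ha
    rw [Finset.mem_compl]
    intro ha1
    have : a ∈ Sᶜ := hU ▸ Finset.mem_union_left _ ha1
    exact (Finset.mem_compl.mp this) ha
  have hT2 : ∀ a, a ∈ T₁ᶜ → a ∉ S → a ∈ T₂ := by
    intro a ha haS
    have : a ∈ T₁ ∪ T₂ := hU ▸ Finset.mem_compl.mpr haS
    rcases Finset.mem_union.mp this with h | h
    · exact absurd h (Finset.mem_compl.mp ha)
    · exact h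
  have claimA : ∀ a b : V, ReflTransGen (LabGraph.Adj ends) a b → b ∈ S → a ∈ T₁ᶜ →
      ∃ s ∈ S, ReflTransGen (AdjIn ends T₁ᶜ) a s := by
    intro a b hab
    induction hab using ReflTransGen.head_induction_on with
    | refl => intro hb _; exact ⟨b, hb, ReflTransGen.refl⟩
    | @head a a' haa' _ ih =>
      intro hb ha
      by_cases haS : a ∈ S
      · exact ⟨a, haS, ReflTransGen.refl⟩
      · have ha2 := hT2 a ha haS
        have ha' : a' ∈ T₁ᶜ := by
          rw [Finset.mem_compl]
          intro ha'1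
          obtain ⟨e, he⟩ := haa'
          rcases he with he | he
          · exact (hsep.2 e).2 ⟨by rw [he]; exact ha2, by rw [he]; exact ha'1⟩
          · exact (hsep.2 e).1 ⟨by rw [he]; exact ha'1, by rw [he]; exact ha2⟩
        obtain ⟨s, hs, hpath⟩ := ih hb ha'
        exact ⟨s, hs, ReflTransGen.head ⟨ha, ha', haa'⟩ hpath⟩
  obtain ⟨s₀, hs₀⟩ := hS.1
  refine ⟨⟨s₀, hSW hs₀⟩, fun v hv w hw => ?_⟩
  obtain ⟨sv, hsv, pv⟩ := claimA v s₀ (hconn.2 v s₀) hs₀ hv
  obtain ⟨sw, hsw, pw⟩ := claimA w s₀ (hconn.2 w s₀) hs₀ hw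
  have pS : ReflTransGen (AdjIn ends T₁ᶜ) sv sw :=
    ReflTransGen.mono (fun a b hab => adjIn_mono hSW hab) _ _ (hS.2 sv hsv sw hsw)
  exact (pv.trans pS).trans (rtg_symm (adjIn_symm ends T₁ᶜ) pw)

/-- the key reduction -/
theorem key (ends : E → V × V) (hconn : LabGraph.Connected ends) (φ : V → ℝ) (m : V → ℤ)
    (N : Finset E) (hdeg : (∑ v : V, φ v) = (totDeg m N : ℝ)) (P : ℝ → Prop)
    (hadd : ∀ x y, P x → P y → P (x + y))
    (helem : ∀ S : Finset V, ConnIn ends S → ConnIn ends Sᶜ → P (FF ends φ m N S)) :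
    ∀ S : Finset V, S.Nonempty → S ≠ Finset.univ → P (FF ends φ m N S) := by
  have step1 : ∀ n : ℕ, ∀ S : Finset V, (Sᶜ).card = n → ConnIn ends S → S ≠ Finset.univ →
      P (FF ends φ m N S) := by
    intro n
    induction n using Nat.strong_induction_on with
    | _ n ih =>
    intro S hn hS hne
    by_cases hc : ConnIn ends Sᶜ
    · exact helem S hS hc
    · have hSc : (Sᶜ).Nonempty := by
        rw [Finset.nonempty_iff_ne_empty]
        intro h
        exact hne (by rw [← compl_compl S, h, Finset.compl_empty])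
      obtain ⟨T₁, T₂, hT₁, hT₂, hsep, hU⟩ := exists_sep_of_not_conn ends Sᶜ hSc hc
      have hsep' : Sep ends T₂ T₁ := ⟨hsep.1.symm, fun e => ⟨(hsep.2 e).2, (hsep.2 e).1⟩⟩
      have hU' : T₂ ∪ T₁ = Sᶜ := by rw [Finset.union_comm]; exact hU
      have hcard : T₁.card + T₂.card = n := by
        rw [← Finset.card_union_of_disjoint hsep.1, hU, hn]
      have hF : FF ends φ m N S = FF ends φ m N T₁ᶜ + FF ends φ m N T₂ᶜ := by
        have e1 := FF_compl ends φ m N hdeg S
        have e2 := FF_compl ends φ m N hdeg T₁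
        have e3 := FF_compl ends φ m N hdeg T₂
        have e4 : FF ends φ m N Sᶜ = FF ends φ m N T₁ + FF ends φ m N T₂ := by
          rw [← hU]; exact FF_union φ m N hsep
        have e5 : cc ends N S = cc ends N T₁ + cc ends N T₂ := by
          have : cc ends N S = cc ends N Sᶜ := by unfold cc; rw [cutset_compl]
          rw [this, ← hU]; exact cc_union N hsep
        linarith
      rw [hF]
      refine hadd _ _ ?_ ?_
      · refine ih T₁.card ?_ T₁ᶜ (by rw [compl_compl]) (conn_union ends hconn S T₁ T₂ hS hsep hU) ?_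
        · have := Finset.card_pos.mpr hT₂
          omega
        · intro h
          rw [Finset.compl_eq_univ_iff] at h
          exact (Finset.nonempty_iff_ne_empty.mp hT₁) h
      · refine ih T₂.card ?_ T₂ᶜ (by rw [compl_compl]) (conn_union ends hconn S T₂ T₁ hS hsep' hU') ?_
        · have := Finset.card_pos.mpr hT₁
          omega
        · intro h
          rw [Finset.compl_eq_univ_iff] at h
          exact (Finset.nonempty_iff_ne_empty.mp hT₂) h
  have step2 : ∀ n : ℕ, ∀ S : Finset V, S.card = n → S.Nonempty → S ≠ Finset.univ →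
      P (FF ends φ m N S) := by
    intro n
    induction n using Nat.strong_induction_on with
    | _ n ih =>
    intro S hn hSne hne
    by_cases hc : ConnIn ends S
    · exact step1 _ S rfl hc hne
    · obtain ⟨S₁, S₂, hS₁, hS₂, hsep, hU⟩ := exists_sep_of_not_conn ends S hSne hc
      have hcard : S₁.card + S₂.card = n := by
        rw [← Finset.card_union_of_disjoint hsep.1, hU, hn]
      rw [← hU, FF_union φ m N hsep]
      refine hadd _ _ ?_ ?_
      · refine ih S₁.card ?_ S₁ rfl hS₁ ?_
        · have := Finset.card_pos.mpr hS₂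
          omega
        · intro h
          apply hne
          rw [Finset.eq_univ_iff_forall]
          intro x
          rw [← hU]
          exact Finset.mem_union_left _ (h ▸ Finset.mem_univ x)
      · refine ih S₂.card ?_ S₂ rfl hS₂ ?_
        · have := Finset.card_pos.mpr hS₁
          omega
        · intro h
          apply hne
          rw [Finset.eq_univ_iff_forall]
          intro x
          rw [← hU]
          exact Finset.mem_union_right _ (h ▸ Finset.mem_univ x)
  intro S hS hne
  exact step2 _ S rfl hS hne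

end Groth.Agent.Lib.helper13.PhiStabElem
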