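import Groth.Agent.Lib.helper13.ResSys4

/-!
The linear system `V = D·k[X]_{<b} + ∑_i D_i·k[X]_{<a_i}` of residue-free differentials on the
projective line with poles at `∞, r_1, …, r_m` (S17241–S17246): basic structure.
-/

set_option autoImplicit false

namespace Groth.Agent.Lib.helper13.PoleSys

open Polynomial

variable {k : Type*} [Field k] {m : ℕ} (r : Fin m → k) (a : Fin m → ℕ)

/-- `D = ∏ (X - r_j)^(a_j+1)` -/
noncomputable def Dd : k[X] := ∏ j, (X - C (r j)) ^ (a j + 1)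
/-- `D_i` -/
noncomputable def Di (i : Fin m) : k[X] := ∏ j ∈ Finset.univ.erase i, (X - C (r j)) ^ (a j + 1)
/-- `E = ∏ (X - r_j)^(a_j)` -/
noncomputable def Ee : k[X] := ∏ j, (X - C (r j)) ^ (a j)
/-- `E_i` -/
noncomputable def Ei (i : Fin m) : k[X] := ∏ j ∈ Finset.univ.erase i, (X - C (r j)) ^ (a j)
/-- `Π = ∏ (X - r_j)` -/
noncomputable def Pp : k[X] := ∏ j, (X - C (r j))
/-- `Π_i` -/
noncomputable def Pq (i : Fin m) : k[X] := ∏ j ∈ Finset.univ.erase i, (X - C (r j))

/-- the linear system -/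
noncomputable def VV (b : ℕ) : Submodule k k[X] :=
  (degreeLT k b).map (LinearMap.mulLeft k (Dd r a)) ⊔
    ⨆ i, (degreeLT k (a i)).map (LinearMap.mulLeft k (Di r a i))

theorem Dd_eq : Dd r a = Pp r * Ee r a := by
  unfold Dd Pp Ee
  rw [← Finset.prod_mul_distrib]
  exact Finset.prod_congr rfl (fun j _ => by rw [pow_succ, mul_comm])

theorem Di_eq (i : Fin m) : Di r a i = Pq r i * Ei r a i := by
  unfold Di Pq Ei
  rw [← Finset.prod_mul_distrib]
  exact Finset.prod_congr rfl (fun j _ => by rw [pow_succ, mul_comm])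

theorem Ee_eq (i : Fin m) : Ee r a = (X - C (r i)) ^ (a i) * Ei r a i := by
  unfold Ee Ei
  exact (Finset.mul_prod_erase Finset.univ _ (Finset.mem_univ i)).symm

theorem Pp_eq (i : Fin m) : Pp r = (X - C (r i)) * Pq r i := by
  unfold Pp Pq
  exact (Finset.mul_prod_erase Finset.univ _ (Finset.mem_univ i)).symm

theorem Dd_eq' (i : Fin m) : Dd r a = (X - C (r i)) ^ (a i + 1) * Di r a i := by
  unfold Dd Di
  exact (Finset.mul_prod_erase Finset.univ _ (Finset.mem_univ i)).symm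

theorem monic_Ee : (Ee r a).Monic :=
  monic_prod_of_monic _ _ (fun j _ => (monic_X_sub_C (r j)).pow _)

theorem monic_Ei (i : Fin m) : (Ei r a i).Monic :=
  monic_prod_of_monic _ _ (fun j _ => (monic_X_sub_C (r j)).pow _)

theorem monic_Dd : (Dd r a).Monic :=
  monic_prod_of_monic _ _ (fun j _ => (monic_X_sub_C (r j)).pow _)

theorem monic_Di (i : Fin m) : (Di r a i).Monic :=
  monic_prod_of_monic _ _ (fun j _ => (monic_X_sub_C (r j)).pow _)

theorem monic_Pp : (Pp r).Monic :=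
  monic_prod_of_monic _ _ (fun j _ => monic_X_sub_C (r j))

theorem natDegree_Ee : (Ee r a).natDegree = ∑ j, a j := by
  unfold Ee
  rw [natDegree_prod_of_monic _ _ (fun j _ => (monic_X_sub_C (r j)).pow _)]
  refine Finset.sum_congr rfl (fun j _ => ?_)
  rw [(monic_X_sub_C (r j)).natDegree_pow, natDegree_X_sub_C, mul_one]

theorem natDegree_Ei (i : Fin m) : (Ei r a i).natDegree = ∑ j ∈ Finset.univ.erase i, a j := by
  unfold Ei
  rw [natDegree_prod_of_monic _ _ (fun j _ => (monic_X_sub_C (r j)).pow _)]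
  refine Finset.sum_congr rfl (fun j _ => ?_)
  rw [(monic_X_sub_C (r j)).natDegree_pow, natDegree_X_sub_C, mul_one]

theorem natDegree_Ei_add (i : Fin m) : (Ei r a i).natDegree + a i = ∑ j, a j := by
  rw [natDegree_Ei, add_comm]
  exact Finset.add_sum_erase Finset.univ a (Finset.mem_univ i)

theorem natDegree_Dd : (Dd r a).natDegree = ∑ j, (a j + 1) := by
  unfold Dd
  rw [natDegree_prod_of_monic _ _ (fun j _ => (monic_X_sub_C (r j)).pow _)]
  refine Finset.sum_congr rfl (fun j _ => ?_)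
  rw [(monic_X_sub_C (r j)).natDegree_pow, natDegree_X_sub_C, mul_one]

theorem eval_Ee_ne_zero (q : k) (hq : ∀ j, q ≠ r j) : eval q (Ee r a) ≠ 0 := by
  unfold Ee
  rw [eval_prod]
  refine Finset.prod_ne_zero_iff.mpr (fun j _ => ?_)
  rw [eval_pow, eval_sub, eval_X, eval_C]
  exact pow_ne_zero _ (sub_ne_zero.mpr (hq j))

theorem eval_Pp_ne_zero (q : k) (hq : ∀ j, q ≠ r j) : eval q (Pp r) ≠ 0 := by
  unfold Pp
  rw [eval_prod]
  refine Finset.prod_ne_zero_iff.mpr (fun j _ => ?_)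
  rw [eval_sub, eval_X, eval_C]
  exact sub_ne_zero.mpr (hq j)

/-- Structure of members of `V`. -/
theorem mem_VV {b : ℕ} {h : k[X]} (hh : h ∈ VV r a b) :
    ∃ P : k[X], P.degree < (b : WithBot ℕ) ∧ ∃ g : Fin m → k[X],
      (∀ i, (g i).degree < (a i : WithBot ℕ)) ∧ h = Dd r a * P + ∑ i, Di r a i * g i := by
  unfold VV at hh
  obtain ⟨y, hy, z, hz, rfl⟩ := Submodule.mem_sup.mp hh
  obtain ⟨P, hP, rfl⟩ := Submodule.mem_map.mp hy
  rw [mem_degreeLT] at hP
  refine ⟨P, hP, ?_⟩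
  have hz' : ∃ g : Fin m → k[X], (∀ i, (g i).degree < (a i : WithBot ℕ)) ∧
      z = ∑ i, Di r a i * g i := by
    refine Submodule.iSup_induction
      (fun i => (degreeLT k (a i)).map (LinearMap.mulLeft k (Di r a i)))
      (motive := fun z => ∃ g : Fin m → k[X], (∀ i, (g i).degree < (a i : WithBot ℕ)) ∧
        z = ∑ i, Di r a i * g i) hz ?_ ?_ ?_
    · intro i₀ x hx
      obtain ⟨g₀, hg₀, rfl⟩ := Submodule.mem_map.mp hx
      rw [mem_degreeLT] at hg₀
      refine ⟨Pi.single i₀ g₀, ?_, ?_⟩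
      · intro i
        by_cases hi : i = i₀
        · subst hi
          rw [Pi.single_eq_same]
          exact hg₀
        · rw [Pi.single_eq_of_ne hi, degree_zero]
          exact WithBot.bot_lt_coe _
      · rw [Finset.sum_eq_single i₀]
        · rw [Pi.single_eq_same]
          rfl
        · intro i _ hi
          rw [Pi.single_eq_of_ne hi, mul_zero]
        · intro h
          exact absurd (Finset.mem_univ i₀) h
    · exact ⟨0, fun i => by rw [Pi.zero_apply, degree_zero]; exact WithBot.bot_lt_coe _, by simp⟩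
    · rintro x y ⟨g, hg, rfl⟩ ⟨g', hg', rfl⟩
      refine ⟨g + g', fun i => ?_, ?_⟩
      · rw [Pi.add_apply]
        exact lt_of_le_of_lt (degree_add_le _ _) (max_lt (hg i) (hg' i))
      · rw [← Finset.sum_add_distrib]
        exact Finset.sum_congr rfl (fun i _ => by rw [Pi.add_apply, mul_add])
  obtain ⟨g, hg, rfl⟩ := hz'
  exact ⟨g, hg, rfl⟩

theorem Dd_mul_mem {b : ℕ} {P : k[X]} (hP : P.degree < (b : WithBot ℕ)) :
    Dd r a * P ∈ VV r a b := by
  unfold VV
  refine Submodule.mem_sup_left (Submodule.mem_map.mpr ⟨P, ?_, rfl⟩)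
  rw [mem_degreeLT]
  exact hP

theorem Di_mul_mem {b : ℕ} (i : Fin m) {g : k[X]} (hg : g.degree < (a i : WithBot ℕ)) :
    Di r a i * g ∈ VV r a b := by
  unfold VV
  refine Submodule.mem_sup_right (Submodule.mem_iSup_of_mem i (Submodule.mem_map.mpr ⟨g, ?_, rfl⟩))
  rw [mem_degreeLT]
  exact hg

theorem VV_mono {b b' : ℕ} (h : b ≤ b') : VV r a b ≤ VV r a b' := by
  intro x hx
  obtain ⟨P, hP, g, hg, rfl⟩ := mem_VV r a hx
  refine Submodule.add_mem _ (Dd_mul_mem r a (lt_of_lt_of_le hP (by exact_mod_cast h))) ?_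
  exact Submodule.sum_mem _ (fun i _ => Di_mul_mem r a i (hg i))

end Groth.Agent.Lib.helper13.PoleSys
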