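import Groth.Agent.Lib.helper13.PoleSys9

/-!
Weights of a hyperplane subsystem: abstract counting.
-/

set_option autoImplicit false

namespace Groth.Agent.Lib.helper13.PoleSys

open Polynomial

theorem choose_succ_two (M : ℕ) : (M + 1).choose 2 = M + M.choose 2 := by
  have h : (M + 1).choose 2 = M.choose 1 + M.choose 2 := Nat.choose_succ_succ' M 1
  rw [h, Nat.choose_one_right]

theorem two_mul_choose_two (M : ℕ) : 2 * M.choose 2 + M = M * M := by
  induction M with
  | zero => simp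
  | succ M ih =>
    rw [choose_succ_two]
    nlinarith

theorem choose_add_two (M : ℕ) : (M + 2).choose 2 = M.choose 2 + 2 * M + 1 := by
  rw [choose_succ_two (M + 1), choose_succ_two M]
  omega

theorem partial_sum (w : ℕ → ℕ) (N e : ℕ)
    (h1 : ∀ n, 1 ≤ n → n + 1 ≤ N → w n + 1 = if n ≤ e then N - n else N + 1 - n) :
    ∀ t, t + 1 ≤ N →
      (∑ n ∈ Finset.range t, w (n + 1)) + (t + 2).choose 2 = t * N + (t - e) + 1 := by
  intro t
  induction t with
  | zero => intro _; simp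
  | succ t ih =>
    intro ht
    have ih' := ih (by omega)
    have hw := h1 (t + 1) (by omega) ht
    rw [Finset.sum_range_succ, choose_succ_two (t + 1 + 1), add_mul, one_mul,
      show t + 1 + 1 = t + 2 from rfl]
    split_ifs at hw with hc
    · omega
    · omega

/-- Case `e < N ≤ d`. -/
theorem weight_arith_A (w : ℕ → ℕ) (N e d : ℕ) (he : e < N) (hd : N ≤ d)
    (h1 : ∀ n, 1 ≤ n → n + 1 ≤ N → w n + 1 = if n ≤ e then N - n else N + 1 - n)
    (h2 : w N ≤ 1) (h3 : ∀ n, N < n → w n = 0) :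
    ∃ ε : ℕ, ε ≤ 1 ∧
      (∑ n ∈ Finset.range d, w (n + 1)) + 1 = (N - 1).choose 2 + (N - e) + ε := by
  refine ⟨w N, h2, ?_⟩
  obtain ⟨M, rfl⟩ : ∃ M, N = M + 1 := ⟨N - 1, by omega⟩
  have hsub : ∑ n ∈ Finset.range d, w (n + 1) = ∑ n ∈ Finset.range (M + 1), w (n + 1) := by
    symm
    refine Finset.sum_subset (Finset.range_subset_range.mpr hd) (fun n _ hn' => ?_)
    rw [Finset.mem_range, not_lt] at hn'
    exact h3 (n + 1) (by omega)
  have hp := partial_sum w (M + 1) e h1 M le_rfl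
  have hc := choose_add_two M
  have ht := two_mul_choose_two M
  rw [hsub, Finset.sum_range_succ, Nat.add_sub_cancel]
  rw [hc, mul_add, mul_one] at hp
  obtain ⟨q, hq⟩ : ∃ q, q = M * M := ⟨_, rfl⟩
  rw [← hq] at hp ht
  omega

/-- Case `e = N = d + 1`. -/
theorem weight_arith_B (w : ℕ → ℕ) (N d : ℕ) (hN : 1 ≤ N) (hd : d + 1 = N)
    (h1 : ∀ n, 1 ≤ n → n + 1 ≤ N → w n + 1 = if n ≤ N then N - n else N + 1 - n) :
    ∃ ε : ℕ, ε ≤ 1 ∧
      (∑ n ∈ Finset.range d, w (n + 1)) + 1 = (N - 1).choose 2 + (N - N) + ε := by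
  refine ⟨1, le_rfl, ?_⟩
  subst hd
  have hp := partial_sum w (d + 1) (d + 1) h1 d le_rfl
  have hc := choose_add_two d
  have ht := two_mul_choose_two d
  rw [Nat.add_sub_cancel]
  rw [hc, mul_add, mul_one] at hp
  obtain ⟨q, hq⟩ : ∃ q, q = d * d := ⟨_, rfl⟩
  rw [← hq] at hp ht
  omega

variable {k : Type*} [Field k]

/-- A hyperplane `V₁` of `V` cuts a subspace `V ⊓ W` not contained in it in a hyperplane. -/
theorem hyp_inf {M : Type*} [AddCommGroup M] [Module k M] (V V₁ W : Submodule k M)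
    [FiniteDimensional k ↥V] (hV₁ : V₁ ≤ V)
    (hfin : Module.finrank k ↥V₁ + 1 = Module.finrank k ↥V) (hW : ¬ (V ⊓ W ≤ V₁)) :
    Module.finrank k ↥(V₁ ⊓ W) + 1 = Module.finrank k ↥(V ⊓ W) := by
  have hf1 : FiniteDimensional k ↥V₁ := Submodule.finiteDimensional_of_le hV₁
  have hf2 : FiniteDimensional k ↥(V ⊓ W) := Submodule.finiteDimensional_of_le inf_le_left
  have h3 : V₁ ⊔ (V ⊓ W) ≤ V := sup_le hV₁ inf_le_left
  have hf3 : FiniteDimensional k ↥(V₁ ⊔ (V ⊓ W)) := Submodule.finiteDimensional_of_le h3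
  have h1 := Submodule.finrank_sup_add_finrank_inf_eq V₁ (V ⊓ W)
  have h2 : V₁ ⊓ (V ⊓ W) = V₁ ⊓ W := by rw [← inf_assoc, inf_eq_left.mpr hV₁]
  rw [h2] at h1
  have h4 : V₁ < V₁ ⊔ (V ⊓ W) := by
    refine lt_of_le_of_ne le_sup_left (fun h => hW ?_)
    rw [h]
    exact le_sup_right
  have h5 := Submodule.finrank_lt_finrank_of_lt h4
  have h6 := Submodule.finrank_mono h3
  omega

/-- Abstract weight computation for a hyperplane `V₁` of `V` w.r.t. a decreasing filtration `W`. -/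
theorem weight_abs {M : Type*} [AddCommGroup M] [Module k M] (V V₁ : Submodule k M)
    (W : ℕ → Submodule k M) [FiniteDimensional k ↥V] (hW : Antitone W) (hV₁ : V₁ ≤ V)
    (N e d : ℕ) (hVN : Module.finrank k ↥V = N) (hfin : Module.finrank k ↥V₁ + 1 = N)
    (hv : ∀ n, Module.finrank k ↥(V ⊓ W n) = if n ≤ e then N - n else N + 1 - n)
    (hc : ¬ (V ⊓ W (N - 1) ≤ V₁)) (hcase : (e < N ∧ N ≤ d) ∨ (e = N ∧ d + 1 = N)) :
    ∃ ε : ℕ, ε ≤ 1 ∧
      (∑ n ∈ Finset.range d, Module.finrank k ↥(V₁ ⊓ W (n + 1))) + 1 =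
        (N - 1).choose 2 + (N - e) + ε := by
  have hfinW : ∀ n, FiniteDimensional k ↥(V ⊓ W n) :=
    fun n => Submodule.finiteDimensional_of_le inf_le_left
  have h1 : ∀ n, 1 ≤ n → n + 1 ≤ N → Module.finrank k ↥(V₁ ⊓ W n) + 1 =
      if n ≤ e then N - n else N + 1 - n := by
    intro n _ hn
    rw [← hv n]
    refine hyp_inf V V₁ (W n) hV₁ (by rw [hfin, hVN]) (fun hle => hc ?_)
    exact (inf_le_inf_left V (hW (by omega : n ≤ N - 1))).trans hle
  have hle : ∀ n, Module.finrank k ↥(V₁ ⊓ W n) ≤ Module.finrank k ↥(V ⊓ W n) :=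
    fun n => Submodule.finrank_mono (inf_le_inf_right _ hV₁)
  rcases hcase with ⟨he, hd⟩ | ⟨he, hd⟩
  · refine weight_arith_A (fun n => Module.finrank k ↥(V₁ ⊓ W n)) N e d he hd h1 ?_ ?_
    · have := hle N
      rw [hv N, if_neg (by omega)] at this
      omega
    · intro n hn
      have := hle n
      rw [hv n] at this
      split_ifs at this <;> omega
  · subst he
    exact weight_arith_B (fun n => Module.finrank k ↥(V₁ ⊓ W n)) e d (by omega) hd h1

end Groth.Agent.Lib.helper13.PoleSys
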