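import Groth.Agent.Lib.helper13.PoleSys10

/-!
Structure of members of `V` vanishing to high order at a marked point or at `∞`; S17246.
-/

set_option autoImplicit false

namespace Groth.Agent.Lib.helper13.PoleSys

open Polynomial
open Groth.Agent.Lib.helper13.ResSys (eq_C_mul_of_dvd)

variable {k : Type*} [Field k] [CharZero k] {m : ℕ} (r : Fin m → k) (a : Fin m → ℕ)

variable {r} in
/-- At a marked point: a member of `V` divisible by `(X-r_i)^n` comes from `R = (X-r_i)^n L`. -/
theorem struct_marked (hr : Function.Injective r) (ha : ∀ j, 1 ≤ a j) {b N : ℕ}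
    (hN : N = b + ∑ j, a j) (i : Fin m) (n : ℕ) {h : k[X]} (hh : h ∈ VV r a b)
    (hdvd : (X - C (r i)) ^ n ∣ h) :
    ∃ L : k[X], (L = 0 ∨ L.natDegree + n ≤ N) ∧ Rel r a h ((X - C (r i)) ^ n * L) := by
  obtain ⟨R, hRdeg, hrel⟩ := exists_rel r a ha hh
  have hEc : (taylor (r i) (Ee r a)).coeff (a i) = eval (r i) (Ei r a i) := by
    rw [Ee_eq r a i, taylor_pow_mul_coeff]
  obtain ⟨γ, hγ⟩ : ∃ γ, γ = (taylor (r i) R).coeff (a i) / eval (r i) (Ei r a i) := ⟨_, rfl⟩
  have hrelS : Rel r a h (R - C γ * Ee r a) := by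
    simpa using rel_sub hrel (rel_Ee r a γ)
  have hnorm : (taylor (r i) (R - C γ * Ee r a)).coeff (a i) = 0 := by
    rw [map_sub, taylor_mul, taylor_C, coeff_sub, coeff_C_mul, hEc, hγ,
      div_mul_cancel₀ _ (eval_Ei_ne_zero a hr i), sub_self]
  have hk := key_marked a hr i hrelS hnorm n hdvd
  have hSdeg : (R - C γ * Ee r a).natDegree ≤ N := by
    refine (natDegree_sub_le _ _).trans (max_le (by omega) ?_)
    refine (natDegree_C_mul_le _ _).trans ?_
    rw [natDegree_Ee]
    omega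
  obtain ⟨L, hL⟩ := hk
  refine ⟨L, ?_, ?_⟩
  · by_cases hL0 : L = 0
    · exact Or.inl hL0
    · right
      have h1 := ((monic_X_sub_C (r i)).pow n).natDegree_mul' hL0
      rw [← hL, (monic_X_sub_C (r i)).natDegree_pow, natDegree_X_sub_C, mul_one] at h1
      omega
  · rw [← hL]
    exact hrelS

variable {r} in
theorem struct1_marked (hr : Function.Injective r) (ha : ∀ j, 1 ≤ a j) {b N : ℕ}
    (hN : N = b + ∑ j, a j) (i : Fin m) {h : k[X]} (hh : h ∈ VV r a b)
    (hdvd : (X - C (r i)) ^ N ∣ h) :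
    ∃ β : k, Rel r a h (C β * (X - C (r i)) ^ N) := by
  obtain ⟨L, hLdeg, hrel⟩ := struct_marked a hr ha hN i N hh hdvd
  have hL0 : L.natDegree ≤ 0 := by
    rcases hLdeg with h0 | h0
    · rw [h0]; simp
    · omega
  rw [eq_C_of_natDegree_le_zero hL0, mul_comm] at hrel
  exact ⟨_, hrel⟩

variable {r} in
theorem struct2_marked (hr : Function.Injective r) (ha : ∀ j, 1 ≤ a j) {b N : ℕ}
    (hN : N = b + ∑ j, a j) (hN1 : 1 ≤ N) (i : Fin m) {h : k[X]} (hh : h ∈ VV r a b)
    (hdvd : (X - C (r i)) ^ (N - 1) ∣ h) :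
    ∃ α β : k, Rel r a h (C α * (X - C (r i)) ^ (N - 1) + C β * (X - C (r i)) ^ N) := by
  obtain ⟨L, hLdeg, hrel⟩ := struct_marked a hr ha hN i (N - 1) hh hdvd
  have hL1 : L.natDegree ≤ 1 := by
    rcases hLdeg with h0 | h0
    · rw [h0]; simp
    · omega
  obtain ⟨α, β', hL'⟩ := exists_eq_X_add_C_of_natDegree_le_one hL1
  refine ⟨β' + α * r i, α, ?_⟩
  have hS : (X - C (r i)) ^ (N - 1) * L =
      C (β' + α * r i) * (X - C (r i)) ^ (N - 1) + C α * (X - C (r i)) ^ N := by
    rw [hL']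
    have hp : (X - C (r i) : k[X]) ^ N = (X - C (r i)) ^ (N - 1) * (X - C (r i)) := by
      rw [← pow_succ, Nat.sub_add_cancel hN1]
    rw [hp, C_add, C_mul]
    ring
  rw [← hS]
  exact hrel

/-- At `∞`: a member of `V` of degree `< m + t` comes from some `S` of degree `≤ t`. -/
theorem struct_inf (ha : ∀ j, 1 ≤ a j) {b t : ℕ} {h : k[X]} (hh : h ∈ VV r a b)
    (hd : h.degree < ((m + t : ℕ) : WithBot ℕ)) :
    ∃ S : k[X], Rel r a h S ∧ S.natDegree ≤ t := by
  by_cases hne : h = 0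
  · refine ⟨0, ?_, by simp⟩
    rw [hne]
    simpa using rel_Ee r a 0
  obtain ⟨R, hRdeg, hrel⟩ := exists_rel r a ha hh
  obtain ⟨A, hA⟩ : ∃ A, A = ∑ j, a j := ⟨_, rfl⟩
  have hEdeg : (Ee r a).natDegree = A := by rw [natDegree_Ee, hA]
  have hEA : (Ee r a).coeff A = 1 := by
    have := (monic_Ee r a).coeff_natDegree
    rwa [hEdeg] at this
  have hrelS : Rel r a h (R - C (R.coeff A) * Ee r a) := by
    simpa using rel_sub hrel (rel_Ee r a (R.coeff A))
  have hSA : (R - C (R.coeff A) * Ee r a).coeff A = 0 := by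
    rw [coeff_sub, coeff_C_mul, hEA, mul_one, sub_self]
  obtain ⟨S, hS⟩ : ∃ S, S = R - C (R.coeff A) * Ee r a := ⟨_, rfl⟩
  rw [← hS] at hrelS hSA
  refine ⟨S, hrelS, ?_⟩
  have hS0 : S ≠ 0 := by
    intro h0
    rw [h0] at hrelS
    exact hne (rel_zero_right r a hrelS)
  have hlc : S.coeff S.natDegree ≠ 0 := leadingCoeff_ne_zero.mpr hS0
  have hsne : S.natDegree ≠ A := by
    intro heq
    rw [heq, hSA] at hlc
    exact hlc rfl
  by_contra hlt
  push Not at hlt
  have hs1 : 1 ≤ S.natDegree := by omega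
  have hQ : (derivative S * Ee r a - S * derivative (Ee r a)).coeff (S.natDegree + A - 1) =
      ((S.natDegree : k) - A) * (S.coeff S.natDegree * 1) := by
    rw [coeff_sub, coeff_derivative_mul S (Ee r a) S.natDegree A le_rfl hEdeg.le (by omega),
      coeff_mul_derivative S (Ee r a) S.natDegree A le_rfl hEdeg.le (by omega), hEA]
    ring
  have hQne : (derivative S * Ee r a - S * derivative (Ee r a)).coeff (S.natDegree + A - 1) ≠ 0 := by
    rw [hQ]
    exact mul_ne_zero (sub_ne_zero.mpr (by exact_mod_cast hsne))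
      (mul_ne_zero hlc one_ne_zero)
  have hQdeg := le_natDegree_of_ne_zero hQne
  have hQ0 : derivative S * Ee r a - S * derivative (Ee r a) ≠ 0 := by
    intro h0
    rw [h0, coeff_zero] at hQne
    exact hQne rfl
  unfold Rel at hrelS
  have h1 : (h * Ee r a).natDegree = h.natDegree + A := by
    rw [mul_comm, (monic_Ee r a).natDegree_mul' hne, hEdeg]
    ring
  have h2 : (Pp r * (derivative S * Ee r a - S * derivative (Ee r a))).natDegree =
      m + (derivative S * Ee r a - S * derivative (Ee r a)).natDegree := by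
    rw [(monic_Pp r).natDegree_mul' hQ0, natDegree_Pp]
  rw [hrelS, h2] at h1
  have h3 : h.natDegree < m + t := (natDegree_lt_iff_degree_lt hne).mpr hd
  omega

/-- Two-step argument: the members of `T1` do not all vanish at `p`. -/
theorem two_step (p : k) (T1 T2 : Submodule k k[X]) (Φ₁ Φ₂ : k[X])
    (hT2 : T2 ≠ ⊥) (hT12 : ¬ T1 ≤ T2) (h21 : T2 ≤ T1)
    (hs1 : ∀ x ∈ T1, ∃ α β : k, Rel r a x (C α * Φ₁ + C β * Φ₂))
    (hs2 : ∀ x ∈ T2, ∃ β : k, Rel r a x (C β * Φ₂))
    (P1 P2 : Prop)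
    (hc1 : ∀ (x : k[X]) (α : k), α ≠ 0 → Rel r a x (C α * Φ₁) → eval p x = 0 → P1)
    (hc2 : ∀ (x : k[X]) (β : k), β ≠ 0 → Rel r a x (C β * Φ₂) → eval p x = 0 → P2)
    (hP : P1 → P2 → False) :
    ¬ T1 ≤ LinearMap.ker (leval p) := by
  intro hle
  have hev : ∀ x ∈ T1, eval p x = 0 := by
    intro x hx
    have := hle hx
    rwa [LinearMap.mem_ker, leval_apply] at this
  obtain ⟨h₂, hh₂, hne₂⟩ := Submodule.exists_mem_ne_zero_of_ne_bot hT2
  obtain ⟨β₂, hrel₂⟩ := hs2 h₂ hh₂
  have hβ₂ : β₂ ≠ 0 := by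
    intro h0
    rw [h0, C_0, zero_mul] at hrel₂
    exact hne₂ (rel_zero_right r a hrel₂)
  have hP2 := hc2 h₂ β₂ hβ₂ hrel₂ (hev _ (h21 hh₂))
  obtain ⟨h, hh, hhn⟩ := SetLike.not_le_iff_exists.mp hT12
  obtain ⟨α, β, hrel⟩ := hs1 h hh
  have hrel'' : Rel r a (h - C (β / β₂) * h₂) (C α * Φ₁) := by
    have h1 := rel_sub hrel (rel_C_mul (β / β₂) hrel₂)
    have e : C α * Φ₁ + C β * Φ₂ - C (β / β₂) * (C β₂ * Φ₂) = C α * Φ₁ := by
      rw [← mul_assoc, ← C_mul, div_mul_cancel₀ _ hβ₂]
      ring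
    rwa [e] at h1
  have hmem'' : h - C (β / β₂) * h₂ ∈ T1 := by
    refine T1.sub_mem hh ?_
    rw [← smul_eq_C_mul]
    exact T1.smul_mem _ (h21 hh₂)
  have hα : α ≠ 0 := by
    intro h0
    rw [h0, C_0, zero_mul] at hrel''
    have h1 : h = C (β / β₂) * h₂ := sub_eq_zero.mp (rel_zero_right r a hrel'')
    apply hhn
    rw [h1, ← smul_eq_C_mul]
    exact T2.smul_mem _ hh₂
  exact hP (hc1 _ α hα hrel'' (hev _ hmem'')) hP2

omit [CharZero k] in
theorem eval_Dd_ne_zero (q : k) (hq : ∀ j, q ≠ r j) : eval q (Dd r a) ≠ 0 := by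
  rw [Dd_eq, eval_mul]
  exact mul_ne_zero (eval_Pp_ne_zero r q hq) (eval_Ee_ne_zero r a q hq)

omit [CharZero k] in
theorem Dd_mem {b : ℕ} (hb : 1 ≤ b) : Dd r a ∈ VV r a b := by
  have := Dd_mul_mem r a (b := b) (P := 1) (by rw [degree_one]; exact_mod_cast hb)
  rwa [mul_one] at this

omit [CharZero k] in
theorem le_sum_a (i : Fin m) : a i ≤ ∑ j, a j :=
  Finset.single_le_sum (f := a) (fun _ _ => Nat.zero_le _) (Finset.mem_univ i)

variable {r} in
/-- the members of `V` vanishing to order `≥ N-1` at `r_i` do not all vanish at `p`. -/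
theorem not_le_marked (hr : Function.Injective r) (ha : ∀ j, 1 ≤ a j) (b : ℕ) (hb : 1 ≤ b)
    (N d : ℕ) (hN : N = (∑ j, a j) + b) (hd : d + 1 = (∑ j, (a j + 1)) + b)
    (p : k) (hp : ∀ j, p ≠ r j) (i : Fin m) :
    ¬ (VV r a b ⊓ (Ideal.span {(X - C (r i)) ^ (N - 1)}).restrictScalars k ≤
      LinearMap.ker (leval p)) := by
  obtain ⟨-, hmk, -⟩ := main41 a hr ha b N d hN hd
  have hai := le_sum_a a i
  have hN' : N = b + ∑ j, a j := by omega
  by_cases hedge : a i + 1 = N
  · intro hle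
    have hmem : Dd r a ∈ VV r a b ⊓ (Ideal.span {(X - C (r i)) ^ (N - 1)}).restrictScalars k := by
      refine ⟨Dd_mem r a hb, ?_⟩
      rw [SetLike.mem_coe, Submodule.restrictScalars_mem, Ideal.mem_span_singleton]
      exact (pow_dvd_pow _ (by omega)).trans (dvd_Dd r a i)
    have := hle hmem
    rw [LinearMap.mem_ker, leval_apply] at this
    exact eval_Dd_ne_zero r a p hp this
  · have hN2 : a i + 2 ≤ N := by omega
    have hf : ∀ n, FiniteDimensional k
        ↥(VV r a b ⊓ (Ideal.span {(X - C (r i)) ^ n}).restrictScalars k) :=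
      fun n => Submodule.finiteDimensional_of_le inf_le_left
    have h1 := hmk i (N - 1)
    rw [if_neg (by omega)] at h1
    have h2 := hmk i N
    rw [if_neg (by omega)] at h2
    refine two_step r a p _ (VV r a b ⊓ (Ideal.span {(X - C (r i)) ^ N}).restrictScalars k)
      ((X - C (r i)) ^ (N - 1)) ((X - C (r i)) ^ N) ?_ ?_ ?_ ?_ ?_
      (((N - 1 : ℕ) : k) * eval p (Ee r a) = (p - r i) * eval p (derivative (Ee r a)))
      ((N : k) * eval p (Ee r a) = (p - r i) * eval p (derivative (Ee r a))) ?_ ?_ ?_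
    · intro h0
      rw [h0, finrank_bot] at h2
      omega
    · intro hle
      have := Submodule.finrank_mono hle
      omega
    · have := span_pow_succ_le (r i) (N - 1)
      rw [Nat.sub_add_cancel (by omega)] at this
      exact inf_le_inf_left _ this
    · rintro x ⟨hxV, hxs⟩
      rw [SetLike.mem_coe, Submodule.restrictScalars_mem, Ideal.mem_span_singleton] at hxs
      exact struct2_marked a hr ha hN' (by omega) i hxV hxs
    · rintro x ⟨hxV, hxs⟩
      rw [SetLike.mem_coe, Submodule.restrictScalars_mem, Ideal.mem_span_singleton] at hxs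
      exact struct1_marked a hr ha hN' i hxV hxs
    · intro x α hα hrel hz
      exact cond_of_rel r a p hp (r i) (hp i).symm (by omega) hα hrel hz
    · intro x β hβ hrel hz
      exact cond_of_rel r a p hp (r i) (hp i).symm (by omega) hβ hrel hz
    · intro hP1 hP2
      rw [Nat.cast_pred (by omega)] at hP1
      have : eval p (Ee r a) = 0 := by linear_combination hP2 - hP1
      exact eval_Ee_ne_zero r a p hp this

omit [CharZero k] in
theorem card_le_sum_a (ha : ∀ j, 1 ≤ a j) : m ≤ ∑ j, a j := by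
  have := Finset.card_nsmul_le_sum Finset.univ a 1 (fun j _ => ha j)
  simpa using this

variable {r} in
/-- the members of `V` vanishing to order `≥ N-1` at `∞` do not all vanish at `p`. -/
theorem not_le_inf (hr : Function.Injective r) (ha : ∀ j, 1 ≤ a j) (b : ℕ) (hb : 1 ≤ b)
    (N d : ℕ) (hN : N = (∑ j, a j) + b) (hd : d + 1 = (∑ j, (a j + 1)) + b)
    (p : k) (hp : ∀ j, p ≠ r j) :
    ¬ (VV r a b ⊓ degreeLT k (d + 1 - (N - 1)) ≤ LinearMap.ker (leval p)) := by
  obtain ⟨-, -, hinf⟩ := main41 a hr ha b N d hN hd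
  have hsum := sum_succ_eq (m := m) a
  have hmA := card_le_sum_a a ha
  have hdm : d + 1 - (N - 1) = m + 1 := by omega
  rw [hdm]
  by_cases hA0 : ∑ j, a j = 0
  · -- `Dd` has degree `0`
    intro hle
    have hmem : Dd r a ∈ VV r a b ⊓ degreeLT k (m + 1) := by
      refine ⟨Dd_mem r a hb, ?_⟩
      rw [SetLike.mem_coe, mem_degreeLT, degree_eq_natDegree (monic_Dd r a).ne_zero, natDegree_Dd]
      exact_mod_cast (by omega : ∑ j, (a j + 1) < m + 1)
    have := hle hmem
    rw [LinearMap.mem_ker, leval_apply] at this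
    exact eval_Dd_ne_zero r a p hp this
  by_cases hA1 : ∑ j, a j = 1
  · obtain ⟨i, -, hi⟩ := Finset.exists_ne_zero_of_sum_ne_zero hA0
    intro hle
    have hmem : Di r a i ∈ VV r a b ⊓ degreeLT k (m + 1) := by
      constructor
      · have := Di_mul_mem r a (b := b) i (g := 1)
          (by rw [degree_one]; exact_mod_cast (ha i))
        rwa [mul_one] at this
      · rw [SetLike.mem_coe, mem_degreeLT, degree_eq_natDegree (monic_Di r a i).ne_zero]
        have := natDegree_Di_add r a i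
        exact_mod_cast (by omega : (Di r a i).natDegree < m + 1)
    have := hle hmem
    rw [LinearMap.mem_ker, leval_apply] at this
    have hD := eval_Dd_ne_zero r a p hp
    rw [Dd_eq' r a i, eval_mul, this, mul_zero] at hD
    exact hD rfl
  have hA2 : 2 ≤ ∑ j, a j := by omega
  have hf : ∀ n, FiniteDimensional k ↥(VV r a b ⊓ degreeLT k n) :=
    fun n => Submodule.finiteDimensional_of_le inf_le_left
  have h1 := hinf (N - 1)
  rw [if_neg (by omega), hdm] at h1
  have h2 := hinf N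
  rw [if_neg (by omega), show d + 1 - N = m by omega] at h2
  refine two_step r a p _ (VV r a b ⊓ degreeLT k m) X 1 ?_ ?_ ?_ ?_ ?_
    (eval p (Ee r a) = p * eval p (derivative (Ee r a)))
    (eval p (derivative (Ee r a)) = 0) ?_ ?_ ?_
  · intro h0
    rw [h0, finrank_bot] at h2
    omega
  · intro hle
    have := Submodule.finrank_mono hle
    omega
  · exact inf_le_inf_left _ (degreeLT_mono (Nat.le_succ m))
  · rintro x ⟨hxV, hxs⟩
    rw [SetLike.mem_coe, mem_degreeLT] at hxs
    obtain ⟨S, hrel, hS⟩ := struct_inf r a ha (t := 1) hxV hxs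
    obtain ⟨α, β, hS'⟩ := exists_eq_X_add_C_of_natDegree_le_one hS
    refine ⟨α, β, ?_⟩
    rw [mul_one, ← hS']
    exact hrel
  · rintro x ⟨hxV, hxs⟩
    rw [SetLike.mem_coe, mem_degreeLT] at hxs
    obtain ⟨S, hrel, hS⟩ := struct_inf r a ha (t := 0) hxV (by simpa using hxs)
    refine ⟨S.coeff 0, ?_⟩
    rw [mul_one, ← eq_C_of_natDegree_le_zero hS]
    exact hrel
  · intro x α hα hrel hz
    have h3 := evalrel r a p hp hrel hz
    rw [derivative_C_mul, derivative_X, mul_one, eval_C, eval_mul, eval_C, eval_X] at h3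
    have h4 : α * (eval p (Ee r a) - p * eval p (derivative (Ee r a))) = 0 := by
      linear_combination h3
    exact sub_eq_zero.mp ((mul_eq_zero.mp h4).resolve_left hα)
  · intro x β hβ hrel hz
    have h3 := evalrel r a p hp hrel hz
    rw [mul_one, derivative_C, eval_zero, zero_mul, eval_C] at h3
    exact (mul_eq_zero.mp h3.symm).resolve_left hβ
  · intro hP1 hP2
    rw [hP2, mul_zero] at hP1
    exact eval_Ee_ne_zero r a p hp hP1

variable {r} in
/-- S17246 -/
theorem main46 (hr : Function.Injective r) (ha : ∀ j, 1 ≤ a j) (b : ℕ) (hb : 1 ≤ b)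
    (N d : ℕ) (hN : N = (∑ j, a j) + b) (hd : d + 1 = (∑ j, (a j + 1)) + b)
    (p : k) (hp : ∀ j, p ≠ r j) :
    (∀ i : Fin m, ∃ ε : ℕ, ε ≤ 1 ∧
      (∑ n ∈ Finset.range d, Module.finrank k
        ↥((VV r a b ⊓ (Ideal.span {X - C p}).restrictScalars k) ⊓
          (Ideal.span {(X - C (r i)) ^ (n + 1)}).restrictScalars k)) + 1 =
        (N - 1).choose 2 + (N - a i) + ε) ∧
    (∃ ε : ℕ, ε ≤ 1 ∧
      (∑ n ∈ Finset.range d, Module.finrank k
        ↥((VV r a b ⊓ (Ideal.span {X - C p}).restrictScalars k) ⊓ degreeLT k (d - n))) + 1 =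
        (N - 1).choose 2 + (N - b) + ε) := by
  obtain ⟨hVN, hmk, hinf⟩ := main41 a hr ha b N d hN hd
  obtain ⟨hfin, -⟩ := main45 a hr ha b hb N hN p hp
  have hsum := sum_succ_eq (m := m) a
  have hmA := card_le_sum_a a ha
  constructor
  · intro i
    have hai := le_sum_a a i
    have hm : 0 < m := i.pos
    refine weight_abs (VV r a b) _ (fun n => (Ideal.span {(X - C (r i)) ^ n}).restrictScalars k)
      (antitone_nat_of_succ_le (fun n => span_pow_succ_le (r i) n)) inf_le_left N (a i) d hVN hfin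
      (hmk i) ?_ (Or.inl ⟨by omega, by omega⟩)
    intro hle
    refine not_le_marked a hr ha b hb N d hN hd p hp i ?_
    rw [← span_X_sub_C_eq_ker]
    exact hle.trans inf_le_right
  · have h := weight_abs (VV r a b) (VV r a b ⊓ (Ideal.span {X - C p}).restrictScalars k)
      (fun n => degreeLT k (d + 1 - n))
      (antitone_nat_of_succ_le (fun n => degreeLT_mono (by omega))) inf_le_left N b d hVN hfin
      hinf ?_ ?_
    · obtain ⟨ε, hε, h⟩ := h
      refine ⟨ε, hε, ?_⟩
      rw [← h]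
      refine congrArg (· + 1) (Finset.sum_congr rfl (fun n _ => ?_))
      rw [show d + 1 - (n + 1) = d - n by omega]
    · intro hle
      refine not_le_inf a hr ha b hb N d hN hd p hp ?_
      rw [← span_X_sub_C_eq_ker]
      exact hle.trans inf_le_right
    · by_cases hA0 : ∑ j, a j = 0
      · exact Or.inr ⟨by omega, by omega⟩
      · obtain ⟨i, -, -⟩ := Finset.exists_ne_zero_of_sum_ne_zero hA0
        have hm : 0 < m := i.pos
        exact Or.inl ⟨by omega, by omega⟩

end Groth.Agent.Lib.helper13.PoleSys
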