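import Groth.Agent.Lib.helper13.PoleSys11

/-!
S17244: weights of a hyperplane `V₁ ⊇ V(b-2)`.
-/

set_option autoImplicit false

namespace Groth.Agent.Lib.helper13.PoleSys

open Polynomial

theorem partial_sum_g (N e : ℕ) (he : e ≤ N) : ∀ t, t ≤ N →
    (∑ n ∈ Finset.range t, (if n + 1 ≤ e then N - (n + 1) else N + 1 - (n + 1))) +
      (t + 1).choose 2 = t * N + (t - e) := by
  intro t
  induction t with
  | zero => intro _; simp
  | succ t ih =>
    intro ht
    have ih' := ih (by omega)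
    rw [Finset.sum_range_succ, choose_succ_two (t + 1), add_mul, one_mul]
    split_ifs with hc <;> omega

theorem sum_g (N e d : ℕ) (he : e ≤ N) (hcase : N ≤ d ∨ (e = N ∧ d + 1 = N)) :
    (∑ n ∈ Finset.range d, (if n + 1 ≤ e then N - (n + 1) else N + 1 - (n + 1))) + e =
      (N + 1).choose 2 := by
  have hp := partial_sum_g N e he N le_rfl
  have ht := two_mul_choose_two (N + 1)
  have e1 : (N + 1) * (N + 1) = N * N + 2 * N + 1 := by ring
  rw [e1] at ht
  have hsub : ∑ n ∈ Finset.range d, (if n + 1 ≤ e then N - (n + 1) else N + 1 - (n + 1)) =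
      ∑ n ∈ Finset.range N, (if n + 1 ≤ e then N - (n + 1) else N + 1 - (n + 1)) := by
    rcases hcase with hd | ⟨heN, hd⟩
    · symm
      refine Finset.sum_subset (Finset.range_subset_range.mpr hd) (fun n _ hn' => ?_)
      rw [Finset.mem_range, not_lt] at hn'
      rw [if_neg (by omega)]
      omega
    · subst hd
      rw [Finset.sum_range_succ, if_pos (by omega)]
      omega
  rw [hsub]
  obtain ⟨q, hq⟩ : ∃ q, q = N * N := ⟨_, rfl⟩
  rw [← hq] at hp ht
  omega

variable {k : Type*} [Field k] [CharZero k] {m : ℕ} (r : Fin m → k) (a : Fin m → ℕ)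

variable {r} in
/-- S17244, part at the marked points `r_i`. -/
theorem main44_marked (hr : Function.Injective r) (ha : ∀ j, 1 ≤ a j) (b : ℕ) (hb : 1 ≤ b)
    (N d : ℕ) (hN : N = (∑ j, a j) + b) (hd : d + 1 = (∑ j, (a j + 1)) + b)
    (V₁ : Submodule k k[X]) (hV₁ : V₁ ≤ VV r a b) (hfin : Module.finrank k ↥V₁ + 1 = N)
    (hU : VV r a (b - 2) ≤ V₁) (i : Fin m) :
    ∃ ε : ℕ, ε ≤ 1 ∧
      (∑ n ∈ Finset.range d, Module.finrank k
        ↥(V₁ ⊓ (Ideal.span {(X - C (r i)) ^ (n + 1)}).restrictScalars k)) + 1 =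
        (N - 1).choose 2 + (N - a i) + ε := by
  obtain ⟨hVN, hmk, -⟩ := main41 a hr ha b N d hN hd
  have hsum := sum_succ_eq (m := m) a
  have hmA := card_le_sum_a a ha
  have hai := le_sum_a a i
  have hm : 0 < m := i.pos
  have hfV₁ : FiniteDimensional k ↥V₁ := Submodule.finiteDimensional_of_le hV₁
  by_cases hb1 : b = 1
  · -- `V₁ = V(0)`
    subst hb1
    obtain ⟨hUN, hmkU, -⟩ := main41 a hr ha 0 (N - 1) (d - 1) (by omega) (by omega)
    have hV₁U : VV r a 0 = V₁ :=
      Submodule.eq_of_le_of_finrank_eq hU (by rw [hUN]; omega)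
    rw [← hV₁U]
    refine weight_arith_A (fun n => Module.finrank k
      ↥(VV r a 0 ⊓ (Ideal.span {(X - C (r i)) ^ n}).restrictScalars k)) N (a i) d
      (by omega) (by omega) ?_ ?_ ?_
    · intro n hn1 hn2
      change Module.finrank k ↥(VV r a 0 ⊓ (Ideal.span {(X - C (r i)) ^ n}).restrictScalars k) + 1 = _
      rw [hmkU i n]
      split_ifs <;> omega
    · change Module.finrank k ↥(VV r a 0 ⊓ (Ideal.span {(X - C (r i)) ^ N}).restrictScalars k) ≤ 1
      rw [hmkU i N]
      split_ifs <;> omega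
    · intro n hn
      change Module.finrank k ↥(VV r a 0 ⊓ (Ideal.span {(X - C (r i)) ^ n}).restrictScalars k) = 0
      rw [hmkU i n]
      split_ifs <;> omega
  · have hb2 : 2 ≤ b := by omega
    obtain ⟨hUN, hmkU, -⟩ := main41 a hr ha (b - 2) (N - 2) (d - 2) (by omega) (by omega)
    refine weight_abs (VV r a b) V₁ (fun n => (Ideal.span {(X - C (r i)) ^ n}).restrictScalars k)
      (antitone_nat_of_succ_le (fun n => span_pow_succ_le (r i) n)) hV₁ N (a i) d hVN hfin
      (hmk i) ?_ (Or.inl ⟨by omega, by omega⟩)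
    intro hle
    change VV r a b ⊓ (Ideal.span {(X - C (r i)) ^ (N - 1)}).restrictScalars k ≤ V₁ at hle
    obtain ⟨T, hT⟩ : ∃ T, T = VV r a b ⊓ (Ideal.span {(X - C (r i)) ^ (N - 1)}).restrictScalars k :=
      ⟨_, rfl⟩
    rw [← hT] at hle
    have hfT : FiniteDimensional k ↥T := by
      rw [hT]
      exact Submodule.finiteDimensional_of_le inf_le_left
    have hTfin : Module.finrank k ↥T = 2 := by
      rw [hT, hmk i (N - 1), if_neg (by omega)]
      omega
    have hUT : Module.finrank k ↥(VV r a (b - 2) ⊓ T) = 0 := by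
      have h1 : VV r a (b - 2) ⊓ T ≤
          VV r a (b - 2) ⊓ (Ideal.span {(X - C (r i)) ^ (N - 1)}).restrictScalars k := by
        rw [hT]
        exact inf_le_inf_left _ inf_le_right
      have hf : FiniteDimensional k
          ↥(VV r a (b - 2) ⊓ (Ideal.span {(X - C (r i)) ^ (N - 1)}).restrictScalars k) :=
        Submodule.finiteDimensional_of_le inf_le_left
      have h2 := Submodule.finrank_mono h1
      rw [hmkU i (N - 1), if_neg (by omega)] at h2
      omega
    have h3 := Submodule.finrank_sup_add_finrank_inf_eq (VV r a (b - 2)) T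
    have h4 := Submodule.finrank_mono (sup_le hU hle)
    omega

variable {r} in
/-- S17244, part at `∞`. -/
theorem main44_inf (hr : Function.Injective r) (ha : ∀ j, 1 ≤ a j) (b : ℕ) (hb : 1 ≤ b)
    (N d : ℕ) (hN : N = (∑ j, a j) + b) (hd : d + 1 = (∑ j, (a j + 1)) + b)
    (V₁ : Submodule k k[X]) (hV₁ : V₁ ≤ VV r a b) (hfin : Module.finrank k ↥V₁ + 1 = N)
    (hU : VV r a (b - 2) ≤ V₁) :
    ∃ ε : ℕ, ε ≤ 1 ∧
      (∑ n ∈ Finset.range d, Module.finrank k ↥(V₁ ⊓ degreeLT k (d - n))) =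
        (N - 1).choose 2 + (N - b) + (N - 2) + ε := by
  obtain ⟨hVN, -, hinf⟩ := main41 a hr ha b N d hN hd
  have hsum := sum_succ_eq (m := m) a
  have hmA := card_le_sum_a a ha
  have hfV₁ : FiniteDimensional k ↥V₁ := Submodule.finiteDimensional_of_le hV₁
  have hfW : ∀ n, FiniteDimensional k ↥(V₁ ⊓ degreeLT k n) :=
    fun n => Submodule.finiteDimensional_of_le inf_le_left
  have hAm : (∑ j, a j) ≠ 0 → 0 < m := fun hA => by
    obtain ⟨i, -, -⟩ := Finset.exists_ne_zero_of_sum_ne_zero hA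
    exact i.pos
  rcases Nat.eq_zero_or_pos d with hd0 | hd0
  · -- `d = 0`
    subst hd0
    refine ⟨0, Nat.zero_le _, ?_⟩
    have hN1 : N = 1 := by omega
    subst hN1
    have hb1 : b = 1 := by omega
    subst hb1
    simp
  by_cases hb1 : b = 1
  · -- `V₁ = V(0)`
    subst hb1
    have hA0 : ∑ j, a j ≠ 0 := by omega
    have hm := hAm hA0
    obtain ⟨hUN, -, hinfU⟩ := main41 a hr ha 0 (N - 1) (d - 1) (by omega) (by omega)
    have hV₁U : VV r a 0 = V₁ :=
      Submodule.eq_of_le_of_finrank_eq hU (by rw [hUN]; omega)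
    rw [← hV₁U]
    refine ⟨1, le_rfl, ?_⟩
    obtain ⟨d', rfl⟩ : ∃ d', d = d' + 1 := ⟨d - 1, by omega⟩
    have hterm : ∀ n, Module.finrank k ↥(VV r a 0 ⊓ degreeLT k (d' + 1 - n)) =
        if n ≤ 0 then N - 1 - n else N - 1 + 1 - n := by
      intro n
      have := hinfU n
      rwa [Nat.add_sub_cancel] at this
    rw [Finset.sum_congr rfl (fun n _ => hterm n), Finset.sum_range_succ', if_pos le_rfl]
    have hs := sum_g (N - 1) 0 d' (Nat.zero_le _) (Or.inl (by omega))
    have hs' : ∑ n ∈ Finset.range d', (if n + 1 ≤ 0 then N - 1 - (n + 1) else N - 1 + 1 - (n + 1)) =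
        (N - 1 + 1).choose 2 := by
      rw [← hs, add_zero]
    rw [hs', Nat.sub_add_cancel (by omega), Nat.sub_zero]
    have hc := choose_succ_two (N - 1)
    rw [Nat.sub_add_cancel (by omega)] at hc
    omega
  have hb2 : 2 ≤ b := by omega
  rcases Nat.lt_or_ge d 2 with hd1 | hd2
  · -- `d = 1`
    have hd1' : d = 1 := by omega
    subst hd1'
    refine ⟨Module.finrank k ↥(V₁ ⊓ degreeLT k 1), ?_, ?_⟩
    · have := Submodule.finrank_mono (inf_le_left : V₁ ⊓ degreeLT k 1 ≤ V₁)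
      omega
    · have hN2 : N = 2 := by omega
      subst hN2
      have hb2' : b = 2 := by omega
      subst hb2'
      simp
  obtain ⟨hUN, -, hinfU⟩ := main41 a hr ha (b - 2) (N - 2) (d - 2) (by omega) (by omega)
  have hfU : ∀ n, FiniteDimensional k ↥(VV r a (b - 2) ⊓ degreeLT k n) :=
    fun n => Submodule.finiteDimensional_of_le inf_le_left
  have hfV : ∀ n, FiniteDimensional k ↥(VV r a b ⊓ degreeLT k n) :=
    fun n => Submodule.finiteDimensional_of_le inf_le_left
  -- for `n ≥ 2`, `w n = v n`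
  have hw : ∀ n, Module.finrank k ↥(V₁ ⊓ degreeLT k (d + 1 - (n + 2))) =
      if n + 2 ≤ b then N - (n + 2) else N + 1 - (n + 2) := by
    intro n
    have h1 := Submodule.finrank_mono
      (inf_le_inf_right (degreeLT k (d + 1 - (n + 2))) hU)
    have h2 := Submodule.finrank_mono
      (inf_le_inf_right (degreeLT k (d + 1 - (n + 2))) hV₁)
    have h3 := hinfU n
    rw [show d - 2 + 1 - n = d + 1 - (n + 2) by omega] at h3
    rw [h3] at h1
    rw [hinf (n + 2)] at h2
    split_ifs at h1 h2 ⊢ <;> omega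
  -- `w 1`
  have hw1 := step_deg V₁ d 1
  have hw2 := hw 0
  rw [if_pos (by omega)] at hw2
  rw [show d + 1 - (0 + 2) = d + 1 - (1 + 1) by omega] at hw2
  obtain ⟨ε, hε⟩ : ∃ ε, Module.finrank k ↥(V₁ ⊓ degreeLT k (d + 1 - 1)) = N - 2 + ε :=
    ⟨Module.finrank k ↥(V₁ ⊓ degreeLT k (d + 1 - 1)) - (N - 2), by omega⟩
  refine ⟨ε, by omega, ?_⟩
  obtain ⟨d', rfl⟩ : ∃ d', d = d' + 1 := ⟨d - 1, by omega⟩
  have hcaseg : N ≤ d' + 1 ∨ (b = N ∧ d' + 1 + 1 = N) := by
    by_cases hA0 : ∑ j, a j = 0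
    · right
      omega
    · left
      have := hAm hA0
      omega
  have hs := sum_g N b (d' + 1) (by omega) hcaseg
  rw [Finset.sum_range_succ', if_pos (by omega)] at hs
  rw [Finset.sum_range_succ']
  have hterm : ∀ n, Module.finrank k ↥(V₁ ⊓ degreeLT k (d' + 1 - (n + 1))) =
      if n + 1 + 1 ≤ b then N - (n + 1 + 1) else N + 1 - (n + 1 + 1) := by
    intro n
    have := hw n
    rwa [show d' + 1 + 1 - (n + 2) = d' + 1 - (n + 1) by omega] at this
  rw [Finset.sum_congr rfl (fun n _ => hterm n)]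
  rw [show d' + 1 + 1 - 1 = d' + 1 - 0 by omega] at hε
  rw [hε]
  have hc := choose_add_two (N - 1 - 1)
  rw [show N - 1 - 1 + 2 = N by omega] at hc
  have hc2 := choose_succ_two N
  have hc3 := choose_succ_two (N - 1)
  rw [Nat.sub_add_cancel (by omega)] at hc3
  have hc4 := choose_succ_two (N - 1 - 1)
  rw [show N - 1 - 1 + 1 = N - 1 by omega] at hc4
  omega

variable {r} in
/-- S17244 -/
theorem main44 (hr : Function.Injective r) (ha : ∀ j, 1 ≤ a j) (b : ℕ) (hb : 1 ≤ b)
    (N d : ℕ) (hN : N = (∑ j, a j) + b) (hd : d + 1 = (∑ j, (a j + 1)) + b)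
    (V₁ : Submodule k k[X]) (hV₁ : V₁ ≤ VV r a b) (hfin : Module.finrank k ↥V₁ + 1 = N)
    (hU : VV r a (b - 2) ≤ V₁) :
    (∀ i : Fin m, ∃ ε : ℕ, ε ≤ 1 ∧
      (∑ n ∈ Finset.range d, Module.finrank k
        ↥(V₁ ⊓ (Ideal.span {(X - C (r i)) ^ (n + 1)}).restrictScalars k)) + 1 =
        (N - 1).choose 2 + (N - a i) + ε) ∧
    (∃ ε : ℕ, ε ≤ 1 ∧
      (∑ n ∈ Finset.range d, Module.finrank k ↥(V₁ ⊓ degreeLT k (d - n))) =
        (N - 1).choose 2 + (N - b) + (N - 2) + ε) :=
  ⟨fun i => main44_marked a hr ha b hb N d hN hd V₁ hV₁ hfin hU i,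
    main44_inf a hr ha b hb N d hN hd V₁ hV₁ hfin hU⟩

end Groth.Agent.Lib.helper13.PoleSys
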