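import Groth.Agent.Lib.helper13.PoleSys

/-!
`h/D = (R/E)'`: antiderivatives for the members of `V`, and the key divisibility lemma.
-/

set_option autoImplicit false

namespace Groth.Agent.Lib.helper13.PoleSys

open Polynomial
open Groth.Agent.Lib.helper13.ResSys (pow_pred_mul antideriv eval_eq_zero_of_ode1 eq_C_mul_of_dvd
  natDegree_lt_of_degree_lt)

variable {k : Type*} [Field k] {m : ℕ} (r : Fin m → k) (a : Fin m → ℕ)

/-- `h E = Π (R' E - R E')`, i.e. `h/D = (R/E)'` -/
def Rel (h R : k[X]) : Prop :=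
  h * Ee r a = Pp r * (derivative R * Ee r a - R * derivative (Ee r a))

variable {r a}

theorem rel_add {h₁ h₂ R₁ R₂ : k[X]} (H₁ : Rel r a h₁ R₁) (H₂ : Rel r a h₂ R₂) :
    Rel r a (h₁ + h₂) (R₁ + R₂) := by
  unfold Rel at *
  rw [derivative_add]
  linear_combination H₁ + H₂

theorem rel_sub {h₁ h₂ R₁ R₂ : k[X]} (H₁ : Rel r a h₁ R₁) (H₂ : Rel r a h₂ R₂) :
    Rel r a (h₁ - h₂) (R₁ - R₂) := by
  unfold Rel at *
  rw [derivative_sub]
  linear_combination H₁ - H₂

theorem rel_C_mul (c : k) {h R : k[X]} (H : Rel r a h R) : Rel r a (C c * h) (C c * R) := by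
  unfold Rel at *
  rw [derivative_C_mul]
  linear_combination (C c) * H

theorem rel_sum {ι : Type*} (s : Finset ι) (h R : ι → k[X]) (H : ∀ i ∈ s, Rel r a (h i) (R i)) :
    Rel r a (∑ i ∈ s, h i) (∑ i ∈ s, R i) := by
  classical
  induction s using Finset.induction_on with
  | empty => simp [Rel]
  | insert i s hi ih =>
    rw [Finset.sum_insert hi, Finset.sum_insert hi]
    exact rel_add (H i (Finset.mem_insert_self i s))
      (ih (fun j hj => H j (Finset.mem_insert_of_mem hj)))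

variable (r a)

theorem rel_Ee (c : k) : Rel r a 0 (C c * Ee r a) := by
  unfold Rel
  rw [derivative_C_mul]
  ring

theorem rel_Dd_mul (Pt : k[X]) : Rel r a (Dd r a * derivative Pt) (Pt * Ee r a) := by
  unfold Rel
  rw [Dd_eq, derivative_mul]
  ring

theorem rel_Di_mul (i : Fin m) (Gt g : k[X])
    (hG : (X - C (r i)) * derivative Gt - C (a i : k) * Gt = g) :
    Rel r a (Di r a i * g) (Gt * Ei r a i) := by
  unfold Rel
  rw [Di_eq, Ee_eq r a i, Pp_eq r i, derivative_mul, derivative_mul, derivative_X_sub_C_pow]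
  have e := pow_pred_mul (X - C (r i) : k[X]) (a i)
  linear_combination (Pq r i * Ei r a i ^ 2 * Gt) * e -
    (Pq r i * Ei r a i ^ 2 * (X - C (r i)) ^ (a i)) * hG

variable [CharZero k]

theorem poly_antideriv (P : k[X]) (b : ℕ) (hP : P.degree < (b : WithBot ℕ)) :
    ∃ Pt : k[X], derivative Pt = P ∧ Pt.natDegree ≤ b := by
  refine ⟨∑ t ∈ P.support, C (P.coeff t / ((t : k) + 1)) * X ^ (t + 1), ?_, ?_⟩
  · rw [derivative_sum]
    conv_rhs => rw [P.as_sum_support_C_mul_X_pow]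
    refine Finset.sum_congr rfl (fun t _ => ?_)
    rw [derivative_C_mul, derivative_X_pow, Nat.add_sub_cancel, ← mul_assoc, ← C_mul]
    congr 2
    push_cast
    have : (t : k) + 1 ≠ 0 := by exact_mod_cast Nat.succ_ne_zero t
    field_simp
  · refine natDegree_sum_le_of_forall_le _ _ (fun t ht => ?_)
    refine (natDegree_C_mul_le _ _).trans ?_
    rw [natDegree_X_pow]
    have h1 : ¬ (b ≤ t) := by
      intro hbt
      exact (mem_support_iff.mp ht) ((degree_lt_iff_coeff_zero _ _).mp hP t hbt)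
    omega

/-- Every member of `V(b)` is `D (R/E)'` with `deg R ≤ b + ∑ a_j`. -/
theorem exists_rel (ha : ∀ j, 1 ≤ a j) {b : ℕ} {h : k[X]} (hh : h ∈ VV r a b) :
    ∃ R : k[X], R.natDegree ≤ b + ∑ j, a j ∧ Rel r a h R := by
  obtain ⟨P, hP, g, hg, rfl⟩ := mem_VV r a hh
  obtain ⟨Pt, hPt, hPtdeg⟩ := poly_antideriv P b hP
  have hGt : ∀ i, ∃ Gt : k[X], Gt.degree < (a i : WithBot ℕ) ∧
      (X - C (r i)) * derivative Gt - C (a i : k) * Gt = g i :=
    fun i => antideriv (r i) (a i) (g i) (hg i)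
  choose Gt hGtdeg hGteq using hGt
  refine ⟨Pt * Ee r a + ∑ i, Gt i * Ei r a i, ?_, ?_⟩
  · refine (natDegree_add_le _ _).trans (max_le ?_ ?_)
    · refine natDegree_mul_le.trans ?_
      rw [natDegree_Ee]
      omega
    · refine (natDegree_sum_le_of_forall_le _ _ (fun i _ => ?_)).trans
        (Nat.le_add_left (∑ j, a j) b)
      refine natDegree_mul_le.trans ?_
      have h1 := natDegree_lt_of_degree_lt (ha i) (hGtdeg i)
      have h2 := natDegree_Ei_add r a i
      omega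
  · refine rel_add ?_ (rel_sum _ _ _ (fun i _ => rel_Di_mul r a i (Gt i) (g i) (hGteq i)))
    have := rel_Dd_mul r a Pt
    rwa [hPt] at this

/-- Key lemma: if `(X-q)^n ∣ h = D (R/E)'` then `(X-q)^(n+1) ∣ R - (R/E)(q) E`. -/
theorem key {h R : k[X]} (hrel : Rel r a h R) (q : k) (hq : ∀ j, q ≠ r j) (n : ℕ)
    (hdvd : (X - C q) ^ n ∣ h) :
    (X - C q) ^ (n + 1) ∣ R - C (eval q R / eval q (Ee r a)) * Ee r a := by
  obtain ⟨γ, hγ⟩ : ∃ γ, γ = eval q R / eval q (Ee r a) := ⟨_, rfl⟩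
  rw [← hγ]
  have hE := eval_Ee_ne_zero r a q hq
  have hrelS : Rel r a h (R - C γ * Ee r a) := by
    have := rel_sub hrel (rel_Ee r a γ)
    simpa using this
  have hroot : eval q (R - C γ * Ee r a) = 0 := by
    rw [eval_sub, eval_mul, eval_C, hγ, div_mul_cancel₀ _ hE, sub_self]
  by_cases hS0 : R - C γ * Ee r a = 0
  · rw [hS0]
    exact dvd_zero _
  obtain ⟨T, hfac, hT⟩ := exists_eq_pow_rootMultiplicity_mul_and_not_dvd _ hS0 q
  have hpos := (rootMultiplicity_pos hS0).mpr hroot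
  obtain ⟨s, hs⟩ : ∃ s, rootMultiplicity q (R - C γ * Ee r a) = s + 1 :=
    ⟨_, (Nat.sub_add_cancel hpos).symm⟩
  by_cases hsn : n + 1 ≤ s + 1
  · refine (pow_dvd_pow _ hsn).trans ?_
    rw [← hs]
    exact pow_rootMultiplicity_dvd _ _
  · exfalso
    push Not at hsn
    obtain ⟨u, rfl⟩ := hdvd
    rw [hs] at hfac
    have hode : (Pp r * Ee r a) * derivative (R - C γ * Ee r a) +
        (-(Pp r * derivative (Ee r a))) * (R - C γ * Ee r a) =
        (X - C q) ^ (s + 1) * ((X - C q) ^ (n - (s + 1)) * u * Ee r a) := by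
      have hpow : (X - C q : k[X]) ^ n = (X - C q) ^ (s + 1) * (X - C q) ^ (n - (s + 1)) := by
        rw [← pow_add, Nat.add_sub_cancel' (by omega)]
      unfold Rel at hrelS
      rw [hpow] at hrelS
      linear_combination -hrelS
    have h4 := eval_eq_zero_of_ode1 _ T _ _ _ q s hfac hode
    rw [eval_mul] at h4
    have hTq : eval q T ≠ 0 := fun h0 => hT (dvd_iff_isRoot.mpr h0)
    exact absurd h4 (mul_ne_zero (mul_ne_zero (eval_Pp_ne_zero r q hq) hE) hTq)

/-- `Rel h R` with `R` a multiple of `E` forces `h = 0`. -/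
theorem eq_zero_of_rel_Ee {h : k[X]} (γ : k) (hrel : Rel r a h (C γ * Ee r a)) : h = 0 := by
  unfold Rel at hrel
  rw [derivative_C_mul] at hrel
  have : h * Ee r a = 0 := by
    rw [hrel]
    ring
  exact (mul_eq_zero.mp this).resolve_right (monic_Ee r a).ne_zero

/-- S17242: no ramification off the marked points. -/
theorem no_ram (ha : ∀ j, 1 ≤ a j) (b : ℕ) (q : k) (hq : ∀ j, q ≠ r j) {h : k[X]}
    (hh : h ∈ VV r a b) (n : ℕ) (hn : b + ∑ j, a j ≤ n) (hdvd : (X - C q) ^ n ∣ h) : h = 0 := by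
  obtain ⟨R, hRdeg, hrel⟩ := exists_rel r a ha hh
  have hk := key r a hrel q hq n hdvd
  have hSdeg : (R - C (eval q R / eval q (Ee r a)) * Ee r a).natDegree ≤ b + ∑ j, a j := by
    refine (natDegree_sub_le _ _).trans (max_le hRdeg ?_)
    refine (natDegree_C_mul_le _ _).trans ?_
    rw [natDegree_Ee]
    omega
  have hS0 : R - C (eval q R / eval q (Ee r a)) * Ee r a = 0 := by
    refine eq_zero_of_dvd_of_natDegree_lt hk ?_
    rw [(monic_X_sub_C q).natDegree_pow, natDegree_X_sub_C, mul_one]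
    omega
  have hR : R = C (eval q R / eval q (Ee r a)) * Ee r a := sub_eq_zero.mp hS0
  rw [hR] at hrel
  exact eq_zero_of_rel_Ee r a _ hrel

end Groth.Agent.Lib.helper13.PoleSys
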