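import Groth.Agent.Lib.helper13.PoleSys2

/-!
Dimension of `V(b)`: `b + ∑ a_j`.
-/

set_option autoImplicit false

namespace Groth.Agent.Lib.helper13.PoleSys

open Polynomial

variable {k : Type*} [Field k] {m : ℕ} (r : Fin m → k) (a : Fin m → ℕ)

instance instFiniteDegreeLT (n : ℕ) : Module.Finite k ↥(degreeLT k n) :=
  Module.Finite.equiv (degreeLTEquiv k n).symm

theorem finrank_degreeLT (n : ℕ) : Module.finrank k ↥(degreeLT k n) = n := by
  rw [(degreeLTEquiv k n).finrank_eq, Module.finrank_fin_fun]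

/-- the parametrization of `V(b)` -/
noncomputable def Psi (b : ℕ) :
    (↥(degreeLT k b) × (∀ i : Fin m, ↥(degreeLT k (a i)))) →ₗ[k] k[X] where
  toFun x := Dd r a * (x.1 : k[X]) + ∑ i, Di r a i * ((x.2 i : ↥(degreeLT k (a i))) : k[X])
  map_add' x y := by
    simp only [Prod.fst_add, Prod.snd_add, Pi.add_apply, Submodule.coe_add, mul_add,
      Finset.sum_add_distrib]
    ring
  map_smul' c x := by
    simp only [Prod.smul_fst, Prod.smul_snd, Pi.smul_apply, Submodule.coe_smul, RingHom.id_apply,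
      mul_smul_comm, smul_add, Finset.smul_sum]

theorem Psi_apply (b : ℕ) (x : ↥(degreeLT k b) × (∀ i : Fin m, ↥(degreeLT k (a i)))) :
    Psi r a b x = Dd r a * (x.1 : k[X]) +
      ∑ i, Di r a i * ((x.2 i : ↥(degreeLT k (a i))) : k[X]) := rfl

theorem VV_eq_range (b : ℕ) : VV r a b = LinearMap.range (Psi r a b) := by
  apply le_antisymm
  · intro h hh
    obtain ⟨P, hP, g, hg, rfl⟩ := mem_VV r a hh
    exact ⟨(⟨P, mem_degreeLT.mpr hP⟩, fun i => ⟨g i, mem_degreeLT.mpr (hg i)⟩), rfl⟩
  · rintro _ ⟨x, rfl⟩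
    rw [Psi_apply]
    refine Submodule.add_mem _ (Dd_mul_mem r a (mem_degreeLT.mp x.1.2)) ?_
    exact Submodule.sum_mem _ (fun i _ => Di_mul_mem r a i (mem_degreeLT.mp (x.2 i).2))

variable {r} in
theorem Psi_injective (hr : Function.Injective r) (b : ℕ) : Function.Injective (Psi r a b) := by
  rw [← LinearMap.ker_eq_bot, LinearMap.ker_eq_bot']
  rintro ⟨⟨P, hP⟩, g⟩ h0
  rw [Psi_apply] at h0
  simp only at h0
  have hg0 : ∀ i₀, ((g i₀ : ↥(degreeLT k (a i₀))) : k[X]) = 0 := by
    intro i₀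
    have hsplit := Finset.add_sum_erase Finset.univ
      (fun i => Di r a i * ((g i : ↥(degreeLT k (a i))) : k[X])) (Finset.mem_univ i₀)
    have hdvd : (X - C (r i₀)) ^ (a i₀ + 1) ∣
        Di r a i₀ * ((g i₀ : ↥(degreeLT k (a i₀))) : k[X]) := by
      have e : Di r a i₀ * ((g i₀ : ↥(degreeLT k (a i₀))) : k[X]) =
          0 - Dd r a * P - ∑ i ∈ Finset.univ.erase i₀,
            Di r a i * ((g i : ↥(degreeLT k (a i))) : k[X]) := by
        rw [← h0, ← hsplit]
        ring
      rw [e]
      refine dvd_sub (dvd_sub (dvd_zero _) (Dvd.dvd.mul_right ?_ _)) (Finset.dvd_sum ?_)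
      · rw [Dd_eq' r a i₀]
        exact dvd_mul_right _ _
      · intro i hi
        refine Dvd.dvd.mul_right ?_ _
        unfold Di
        refine Finset.dvd_prod_of_mem (fun j => (X - C (r j)) ^ (a j + 1)) ?_
        exact Finset.mem_erase.mpr ⟨(Finset.ne_of_mem_erase hi).symm, Finset.mem_univ _⟩
    have hcop : IsCoprime ((X - C (r i₀)) ^ (a i₀ + 1)) (Di r a i₀) := by
      unfold Di
      refine IsCoprime.prod_right (fun j hj => ?_)
      have hne : i₀ ≠ j := (Finset.ne_of_mem_erase hj).symm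
      exact (pairwise_coprime_X_sub_C hr hne).pow
    have hdvd2 := hcop.dvd_of_dvd_mul_left hdvd
    refine eq_zero_of_dvd_of_natDegree_lt hdvd2 ?_
    rw [(monic_X_sub_C (r i₀)).natDegree_pow, natDegree_X_sub_C, mul_one]
    have := natDegree_le_of_degree_le (le_of_lt (mem_degreeLT.mp (g i₀).2))
    omega
  have hP0 : P = 0 := by
    have : Dd r a * P = 0 := by
      rw [← h0]
      simp [hg0]
    exact (mul_eq_zero.mp this).resolve_left (monic_Dd r a).ne_zero
  subst hP0
  refine Prod.ext rfl ?_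
  funext i
  exact Subtype.ext (hg0 i)

theorem finrank_dom (b : ℕ) :
    Module.finrank k (↥(degreeLT k b) × (∀ i : Fin m, ↥(degreeLT k (a i)))) = b + ∑ j, a j := by
  rw [Module.finrank_prod, Module.finrank_pi_fintype, finrank_degreeLT]
  congr 1
  exact Finset.sum_congr rfl (fun i _ => finrank_degreeLT (a i))

variable {r} in
theorem finrank_VV (hr : Function.Injective r) (b : ℕ) :
    Module.finrank k ↥(VV r a b) = b + ∑ j, a j := by
  rw [VV_eq_range, LinearMap.finrank_range_of_inj (Psi_injective a hr b), finrank_dom]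

instance finite_VV (b : ℕ) : Module.Finite k ↥(VV r a b) := by
  rw [VV_eq_range]
  infer_instance

end Groth.Agent.Lib.helper13.PoleSys
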