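import Groth.Agent.Lib.helper13.PoleSys3

/-!
Structure of members of `V` divisible by high powers of `X - q`; S17243.
-/

set_option autoImplicit false

namespace Groth.Agent.Lib.helper13.PoleSys

open Polynomial
open Groth.Agent.Lib.helper13.ResSys (eq_C_mul_of_dvd)

variable {k : Type*} [Field k] [CharZero k] {m : ℕ} (r : Fin m → k) (a : Fin m → ℕ)

/-- uniqueness of `R` up to multiples of `E` -/
theorem rel_zero_eq (q : k) (hq : ∀ j, q ≠ r j) {R : k[X]} (hrel : Rel r a 0 R) :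
    ∃ γ : k, R = C γ * Ee r a := by
  refine ⟨eval q R / eval q (Ee r a), ?_⟩
  have hk := key r a hrel q hq (max R.natDegree (∑ j, a j)) (dvd_zero _)
  have hdeg : (R - C (eval q R / eval q (Ee r a)) * Ee r a).natDegree ≤
      max R.natDegree (∑ j, a j) := by
    refine (natDegree_sub_le _ _).trans (max_le (le_max_left _ _) ?_)
    refine (natDegree_C_mul_le _ _).trans ?_
    rw [natDegree_Ee]
    exact le_max_right _ _
  have := eq_zero_of_dvd_of_natDegree_lt hk (by
    rw [(monic_X_sub_C q).natDegree_pow, natDegree_X_sub_C, mul_one]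
    omega)
  exact sub_eq_zero.mp this

theorem degree_of_rel (ha : ∀ j, 1 ≤ a j) (q : k) (hq : ∀ j, q ≠ r j) {b : ℕ} {x R : k[X]}
    (hx : x ∈ VV r a b) (hrel : Rel r a x R) :
    ∃ γ : k, (R - C γ * Ee r a).natDegree ≤ b + ∑ j, a j := by
  obtain ⟨R₀, hR₀deg, hrel₀⟩ := exists_rel r a ha hx
  have h0 := rel_sub hrel hrel₀
  rw [sub_self] at h0
  obtain ⟨γ, hγ⟩ := rel_zero_eq r a q hq h0
  refine ⟨γ, ?_⟩
  have : R - C γ * Ee r a = R₀ := by
    rw [← hγ]
    ring
  rw [this]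
  exact hR₀deg

theorem struct1 (ha : ∀ j, 1 ≤ a j) {b N : ℕ} (hN : N = b + ∑ j, a j) (hN1 : 1 ≤ N) (q : k)
    (hq : ∀ j, q ≠ r j) {h : k[X]} (hh : h ∈ VV r a b) (hdvd : (X - C q) ^ (N - 1) ∣ h) :
    ∃ c : k, Rel r a h (C c * (X - C q) ^ N) := by
  obtain ⟨R, hRdeg, hrel⟩ := exists_rel r a ha hh
  have hk := key r a hrel q hq (N - 1) hdvd
  rw [Nat.sub_add_cancel hN1] at hk
  obtain ⟨γ, hγ⟩ : ∃ γ, γ = eval q R / eval q (Ee r a) := ⟨_, rfl⟩
  rw [← hγ] at hk
  have hSdeg : (R - C γ * Ee r a).natDegree ≤ N := by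
    refine (natDegree_sub_le _ _).trans (max_le (by omega) ?_)
    refine (natDegree_C_mul_le _ _).trans ?_
    rw [natDegree_Ee]
    omega
  have hS := eq_C_mul_of_dvd ((monic_X_sub_C q).pow N)
    (by rw [(monic_X_sub_C q).natDegree_pow, natDegree_X_sub_C, mul_one]) hk hSdeg
  refine ⟨(R - C γ * Ee r a).coeff N, ?_⟩
  rw [← hS]
  have := rel_sub hrel (rel_Ee r a γ)
  simpa using this

theorem struct2 (ha : ∀ j, 1 ≤ a j) {b N : ℕ} (hN : N = b + ∑ j, a j) (hN2 : 2 ≤ N) (q : k)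
    (hq : ∀ j, q ≠ r j) {h : k[X]} (hh : h ∈ VV r a b) (hdvd : (X - C q) ^ (N - 2) ∣ h) :
    ∃ α β : k, Rel r a h (C α * (X - C q) ^ N + C β * (X - C q) ^ (N - 1)) := by
  obtain ⟨R, hRdeg, hrel⟩ := exists_rel r a ha hh
  have hk := key r a hrel q hq (N - 2) hdvd
  rw [show N - 2 + 1 = N - 1 by omega] at hk
  obtain ⟨γ, hγ⟩ : ∃ γ, γ = eval q R / eval q (Ee r a) := ⟨_, rfl⟩
  rw [← hγ] at hk
  have hSdeg : (R - C γ * Ee r a).natDegree ≤ N := by
    refine (natDegree_sub_le _ _).trans (max_le (by omega) ?_)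
    refine (natDegree_C_mul_le _ _).trans ?_
    rw [natDegree_Ee]
    omega
  obtain ⟨L, hL⟩ := hk
  have hL1 : L.natDegree ≤ 1 := by
    by_cases hL0 : L = 0
    · simp [hL0]
    · have h1 := ((monic_X_sub_C q).pow (N - 1)).natDegree_mul' hL0
      rw [← hL, (monic_X_sub_C q).natDegree_pow, natDegree_X_sub_C, mul_one] at h1
      omega
  obtain ⟨α, β', hL'⟩ := exists_eq_X_add_C_of_natDegree_le_one hL1
  refine ⟨α, β' + α * q, ?_⟩
  have hS : R - C γ * Ee r a =
      C α * (X - C q) ^ N + C (β' + α * q) * (X - C q) ^ (N - 1) := by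
    rw [hL, hL']
    have hp : (X - C q : k[X]) ^ N = (X - C q) ^ (N - 1) * (X - C q) := by
      rw [← pow_succ, Nat.sub_add_cancel (by omega)]
    rw [hp, C_add, C_mul]
    ring
  rw [← hS]
  have := rel_sub hrel (rel_Ee r a γ)
  simpa using this

omit [CharZero k] in
/-- If no nonzero member of `W` is divisible by `(X-q)^(n+1)`, the members divisible by
`(X-q)^n` form at most a line. -/
theorem finrank_le_one_of_no_dvd (W : Submodule k k[X]) (q : k) (n : ℕ)
    (hW : ∀ x ∈ W, (X - C q) ^ (n + 1) ∣ x → x = 0) :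
    Module.finrank k ↥(W ⊓ (Ideal.span {(X - C q) ^ n}).restrictScalars k) ≤ 1 := by
  have hinj : Function.Injective (((lcoeff k n).comp (taylor q)).comp
      (W ⊓ (Ideal.span {(X - C q) ^ n}).restrictScalars k).subtype) := by
    rw [← LinearMap.ker_eq_bot, LinearMap.ker_eq_bot']
    rintro ⟨x, hxW, hxs⟩ h0
    rw [SetLike.mem_coe, Submodule.restrictScalars_mem, Ideal.mem_span_singleton] at hxs
    obtain ⟨w, rfl⟩ := hxs
    simp only [LinearMap.comp_apply, Submodule.subtype_apply, lcoeff_apply] at h0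
    have ht : taylor q ((X - C q) ^ n * w) = X ^ n * taylor q w := by
      rw [taylor_mul, taylor_pow, map_sub, taylor_X, taylor_C, add_sub_cancel_right]
    rw [ht, coeff_X_pow_mul', if_pos le_rfl, Nat.sub_self, taylor_coeff_zero] at h0
    have hd : (X - C q) ∣ w := dvd_iff_isRoot.mpr h0
    have hx0 := hW _ hxW (by rw [pow_succ]; exact mul_dvd_mul_left _ hd)
    exact Subtype.ext hx0
  calc _ ≤ Module.finrank k k := LinearMap.finrank_le_finrank_of_injective hinj
    _ = 1 := Module.finrank_self k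

omit [CharZero k] in
theorem coeff_X_sub_C_pow_pred (q : k) (N : ℕ) (hN : 1 ≤ N) :
    ((X - C q) ^ N).coeff (N - 1) = -(N : k) * q := by
  obtain ⟨N', rfl⟩ : ∃ N', N = N' + 1 := ⟨N - 1, by omega⟩
  have h : (X - C q : k[X]) = X + C (-q) := by simp [sub_eq_add_neg]
  rw [h, Nat.add_sub_cancel, coeff_X_add_C_pow, show N' + 1 - N' = 1 by omega,
    Nat.choose_succ_self_right]
  push_cast
  ring

omit [CharZero k] in
theorem coeff_X_sub_C_pow_top (q : k) (N : ℕ) : ((X - C q) ^ N).coeff N = 1 := by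
  have := ((monic_X_sub_C q).pow N).coeff_natDegree
  rwa [(monic_X_sub_C q).natDegree_pow, natDegree_X_sub_C, mul_one] at this

theorem rel_zero_right {h : k[X]} (hrel : Rel r a h 0) : h = 0 := by
  have : Rel r a h (C 0 * Ee r a) := by simpa using hrel
  exact eq_zero_of_rel_Ee r a 0 this

end Groth.Agent.Lib.helper13.PoleSys
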