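import Groth.Agent.Lib.helper13.PoleSys4

/-!
S17243: hyperplanes `V₁ ⊇ V(b-2)` of `V(b)` have at most one simple ramification point off the
marked points.
-/

set_option autoImplicit false

namespace Groth.Agent.Lib.helper13.PoleSys

open Polynomial

variable {k : Type*} [Field k] [CharZero k] {m : ℕ} (r : Fin m → k) (a : Fin m → ℕ)

omit [CharZero k] in
theorem coeff_Ee_eq_zero {n : ℕ} (hn : ∑ j, a j < n) : (Ee r a).coeff n = 0 :=
  coeff_eq_zero_of_natDegree_lt (by rw [natDegree_Ee]; exact hn)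

/-- A nonzero member of `V(b)` with `Rel h (c (X-q)^N)` does not lie in a smaller `V(b')`. -/
theorem not_mem_smaller (ha : ∀ j, 1 ≤ a j) {b' N : ℕ} (hN : b' + ∑ j, a j < N) (q : k)
    (hq : ∀ j, q ≠ r j) {h : k[X]} {c : k} (hc : c ≠ 0) (hrel : Rel r a h (C c * (X - C q) ^ N))
    (hh : h ∈ VV r a b') : False := by
  obtain ⟨γ, hγ⟩ := degree_of_rel r a ha q hq hh hrel
  have h0 : (C c * (X - C q) ^ N - C γ * Ee r a).coeff N = 0 :=
    coeff_eq_zero_of_natDegree_lt (lt_of_le_of_lt hγ hN)
  rw [coeff_sub, coeff_C_mul, coeff_C_mul, coeff_X_sub_C_pow_top,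
    coeff_Ee_eq_zero r a (by omega), mul_one, mul_zero, sub_zero] at h0
  exact hc h0

variable {r} in
theorem main43 (hr : Function.Injective r) (ha : ∀ j, 1 ≤ a j) (b : ℕ) (hb : 1 ≤ b) (N : ℕ)
    (hN : N = (∑ j, a j) + b)
    (V₁ : Submodule k k[X]) (hV₁ : V₁ ≤ VV r a b) (hfin : Module.finrank k ↥V₁ + 1 = N)
    (hU : VV r a (b - 2) ≤ V₁) :
    (∀ q : k, (∀ j, q ≠ r j) →
      (V₁ ⊓ (Ideal.span {(X - C q) ^ N}).restrictScalars k) = ⊥ ∧
      Module.finrank k ↥(V₁ ⊓ (Ideal.span {(X - C q) ^ (N - 2)}).restrictScalars k) ≤ 1) ∧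
    (∀ q q' : k, (∀ j, q ≠ r j) → (∀ j, q' ≠ r j) →
      (V₁ ⊓ (Ideal.span {(X - C q) ^ (N - 1)}).restrictScalars k) ≠ ⊥ →
      (V₁ ⊓ (Ideal.span {(X - C q') ^ (N - 1)}).restrictScalars k) ≠ ⊥ → q = q') := by
  have hfinV₁ : FiniteDimensional k ↥V₁ := Submodule.finiteDimensional_of_le hV₁
  have hUfin : Module.finrank k ↥(VV r a (b - 2)) = (b - 2) + ∑ j, a j := finrank_VV a hr (b - 2)
  constructor
  · intro q hq
    constructor
    · rw [Submodule.eq_bot_iff]
      rintro x ⟨hx, hs⟩
      rw [SetLike.mem_coe, Submodule.restrictScalars_mem, Ideal.mem_span_singleton] at hs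
      exact no_ram r a ha b q hq (hV₁ hx) N (by omega) hs
    · by_cases hb2 : 2 ≤ b
      · have hZfin : FiniteDimensional k
            ↥(V₁ ⊓ (Ideal.span {(X - C q) ^ (N - 2)}).restrictScalars k) :=
          Submodule.finiteDimensional_of_le (inf_le_left.trans hV₁)
        have hdisj : VV r a (b - 2) ⊓
            (V₁ ⊓ (Ideal.span {(X - C q) ^ (N - 2)}).restrictScalars k) = ⊥ := by
          rw [Submodule.eq_bot_iff]
          rintro x ⟨hxU, -, hs⟩
          rw [SetLike.mem_coe, Submodule.restrictScalars_mem, Ideal.mem_span_singleton] at hs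
          exact no_ram r a ha (b - 2) q hq hxU (N - 2) (by omega) hs
        have hsup : VV r a (b - 2) ⊔
            (V₁ ⊓ (Ideal.span {(X - C q) ^ (N - 2)}).restrictScalars k) ≤ V₁ :=
          sup_le hU inf_le_left
        have h1 := Submodule.finrank_sup_add_finrank_inf_eq (VV r a (b - 2))
          (V₁ ⊓ (Ideal.span {(X - C q) ^ (N - 2)}).restrictScalars k)
        rw [hdisj, finrank_bot] at h1
        have h2 := Submodule.finrank_mono hsup
        omega
      · have hUV : VV r a (b - 2) = V₁ :=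
          Submodule.eq_of_le_of_finrank_eq hU (by rw [hUfin]; omega)
        rw [← hUV]
        refine finrank_le_one_of_no_dvd _ q (N - 2) (fun x hx hd => ?_)
        exact no_ram r a ha (b - 2) q hq hx (N - 2 + 1) (by omega) hd
  · intro q q' hq hq' hZ hZ'
    by_contra hne
    obtain ⟨h, ⟨hhV₁, hhs⟩, hh0⟩ := Submodule.exists_mem_ne_zero_of_ne_bot hZ
    obtain ⟨h', ⟨hh'V₁, hh's⟩, hh'0⟩ := Submodule.exists_mem_ne_zero_of_ne_bot hZ'
    rw [SetLike.mem_coe, Submodule.restrictScalars_mem, Ideal.mem_span_singleton] at hhs hh's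
    obtain ⟨c, hc⟩ := struct1 r a ha (by omega : N = b + ∑ j, a j) (by omega) q hq (hV₁ hhV₁) hhs
    obtain ⟨c', hc'⟩ := struct1 r a ha (by omega : N = b + ∑ j, a j) (by omega) q' hq'
      (hV₁ hh'V₁) hh's
    have hc0 : c ≠ 0 := by
      rintro rfl
      rw [C_0, zero_mul] at hc
      exact hh0 (rel_zero_right r a hc)
    have hc'0 : c' ≠ 0 := by
      rintro rfl
      rw [C_0, zero_mul] at hc'
      exact hh'0 (rel_zero_right r a hc')
    by_cases hb2 : 2 ≤ b
    · have hnot : h ∉ VV r a (b - 2) := fun hmem =>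
        not_mem_smaller r a ha (by omega) q hq hc0 hc hmem
      have hlt : VV r a (b - 2) < VV r a (b - 2) ⊔ Submodule.span k {h} := by
        refine lt_of_le_of_ne le_sup_left (fun heq => hnot ?_)
        rw [heq]
        exact Submodule.mem_sup_right (Submodule.mem_span_singleton_self h)
      have hWle : VV r a (b - 2) ⊔ Submodule.span k {h} ≤ V₁ :=
        sup_le hU ((Submodule.span_singleton_le_iff_mem h V₁).mpr hhV₁)
      have hWfin : FiniteDimensional k ↥(VV r a (b - 2) ⊔ Submodule.span k {h}) :=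
        Submodule.finiteDimensional_of_le (hWle.trans hV₁)
      have h3 := Submodule.finrank_lt_finrank_of_lt hlt
      have hW : VV r a (b - 2) ⊔ Submodule.span k {h} = V₁ :=
        Submodule.eq_of_le_of_finrank_le hWle (by omega)
      rw [← hW] at hh'V₁
      obtain ⟨u, hu, w, hw, huw⟩ := Submodule.mem_sup.mp hh'V₁
      obtain ⟨α, rfl⟩ := Submodule.mem_span_singleton.mp hw
      have hrelu : Rel r a u (C c' * (X - C q') ^ N - C α * (C c * (X - C q) ^ N)) := by
        have := rel_sub hc' (rel_C_mul α hc)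
        rw [← huw, smul_eq_C_mul] at this
        simpa using this
      obtain ⟨γ, hγ⟩ := degree_of_rel r a ha q hq hu hrelu
      have e1 : (C c' * (X - C q') ^ N - C α * (C c * (X - C q) ^ N) - C γ * Ee r a).coeff N = 0 :=
        coeff_eq_zero_of_natDegree_lt (lt_of_le_of_lt hγ (by omega))
      have e2 : (C c' * (X - C q') ^ N - C α * (C c * (X - C q) ^ N) -
          C γ * Ee r a).coeff (N - 1) = 0 :=
        coeff_eq_zero_of_natDegree_lt (lt_of_le_of_lt hγ (by omega))
      simp only [coeff_sub, coeff_C_mul, coeff_X_sub_C_pow_top,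
        coeff_Ee_eq_zero r a (by omega : ∑ j, a j < N), mul_one, mul_zero, sub_zero] at e1
      simp only [coeff_sub, coeff_C_mul, coeff_X_sub_C_pow_pred _ N (by omega),
        coeff_Ee_eq_zero r a (by omega : ∑ j, a j < N - 1), mul_zero, sub_zero] at e2
      have hN0 : (N : k) ≠ 0 := Nat.cast_ne_zero.mpr (by omega)
      have h5 : (N : k) * c' * (q - q') = 0 := by
        linear_combination e2 + (N : k) * q * e1
      rcases mul_eq_zero.mp h5 with h6 | h6
      · rcases mul_eq_zero.mp h6 with h7 | h7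
        · exact hN0 h7
        · exact hc'0 h7
      · exact hne (sub_eq_zero.mp h6)
    · have hUV : VV r a (b - 2) = V₁ :=
        Submodule.eq_of_le_of_finrank_eq hU (by rw [hUfin]; omega)
      rw [← hUV] at hhV₁
      exact not_mem_smaller r a ha (by omega) q hq hc0 hc hhV₁

end Groth.Agent.Lib.helper13.PoleSys
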