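import Groth.Agent.Lib.helper13.PoleSys5

/-!
S17245: the system `V(-p)` of members vanishing at a further point `p`.
-/

set_option autoImplicit false

namespace Groth.Agent.Lib.helper13.PoleSys

open Polynomial

variable {k : Type*} [Field k] {m : ℕ} (r : Fin m → k) (a : Fin m → ℕ)

theorem span_X_sub_C_eq_ker (p : k) :
    (Ideal.span {(X - C p : k[X])}).restrictScalars k = LinearMap.ker (leval p) := by
  ext x
  rw [Submodule.restrictScalars_mem, Ideal.mem_span_singleton, LinearMap.mem_ker, leval_apply,
    dvd_iff_isRoot]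
  rfl

theorem evalrel (p : k) (hp : ∀ j, p ≠ r j) {h S : k[X]} (hrel : Rel r a h S)
    (hz : eval p h = 0) :
    eval p (derivative S) * eval p (Ee r a) = eval p S * eval p (derivative (Ee r a)) := by
  unfold Rel at hrel
  have h1 := congrArg (eval p) hrel
  simp only [eval_mul, eval_sub, hz, zero_mul] at h1
  have hPi := eval_Pp_ne_zero r p hp
  have h2 := (mul_eq_zero.mp h1.symm).resolve_left hPi
  linear_combination h2

theorem isCoprime_pow_Ee (q : k) (hq : ∀ j, q ≠ r j) (n : ℕ) :
    IsCoprime ((X - C q) ^ n) (Ee r a) := by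
  refine IsCoprime.pow_left ?_
  rw [(irreducible_X_sub_C q).coprime_iff_not_dvd, dvd_iff_isRoot]
  exact eval_Ee_ne_zero r a q hq

theorem dvd_of_rel_pow (q : k) (hq : ∀ j, q ≠ r j) {z : k[X]} {α : k} {N : ℕ} (hN : 1 ≤ N)
    (hrel : Rel r a z (C α * (X - C q) ^ N)) : (X - C q) ^ (N - 1) ∣ z := by
  unfold Rel at hrel
  have hd : (X - C q) ^ (N - 1) ∣ z * Ee r a := by
    rw [hrel, derivative_C_mul, derivative_X_sub_C_pow]
    have hp : (X - C q : k[X]) ^ N = (X - C q) ^ (N - 1) * (X - C q) := by
      rw [← pow_succ, Nat.sub_add_cancel hN]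
    refine ⟨Pp r * (C α * C (N : k) * Ee r a - C α * (X - C q) * derivative (Ee r a)), ?_⟩
    rw [hp]
    ring
  exact (isCoprime_pow_Ee r a q hq (N - 1)).dvd_of_dvd_mul_right hd

variable [CharZero k]

/-- the condition for the line at `q` to vanish at `p` -/
theorem cond_of_rel (p : k) (hp : ∀ j, p ≠ r j) (q : k) (hpq : q ≠ p) {N : ℕ} (hN : 1 ≤ N)
    {z : k[X]} {c : k} (hc : c ≠ 0) (hrel : Rel r a z (C c * (X - C q) ^ N))
    (hz : eval p z = 0) :
    (N : k) * eval p (Ee r a) = (p - q) * eval p (derivative (Ee r a)) := by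
  have h1 := evalrel r a p hp hrel hz
  obtain ⟨N', rfl⟩ : ∃ N', N = N' + 1 := ⟨N - 1, by omega⟩
  rw [derivative_C_mul, derivative_X_sub_C_pow, Nat.add_sub_cancel] at h1
  simp only [eval_mul, eval_C, eval_pow, eval_sub, eval_X] at h1
  have ht : (p - q) ^ N' ≠ 0 := pow_ne_zero _ (sub_ne_zero.mpr (Ne.symm hpq))
  have h2 : c * (p - q) ^ N' * (((N' + 1 : ℕ) : k) * eval p (Ee r a) -
      (p - q) * eval p (derivative (Ee r a))) = 0 := by
    rw [pow_succ] at h1
    linear_combination h1
  have h3 := (mul_eq_zero.mp h2).resolve_left (mul_ne_zero hc ht)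
  linear_combination h3

variable {r} in
theorem main45 (hr : Function.Injective r) (ha : ∀ j, 1 ≤ a j) (b : ℕ) (hb : 1 ≤ b) (N : ℕ)
    (hN : N = (∑ j, a j) + b) (p : k) (hp : ∀ j, p ≠ r j) :
    Module.finrank k ↥(VV r a b ⊓ (Ideal.span {X - C p}).restrictScalars k) + 1 = N ∧
    ((VV r a b ⊓ (Ideal.span {X - C p}).restrictScalars k) ⊓
      (Ideal.span {(X - C p) ^ N}).restrictScalars k) = ⊥ ∧
    (∀ q : k, (∀ j, q ≠ r j) → q ≠ p →
      ((VV r a b ⊓ (Ideal.span {X - C p}).restrictScalars k) ⊓
        (Ideal.span {(X - C q) ^ N}).restrictScalars k) = ⊥ ∧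
      Module.finrank k ↥((VV r a b ⊓ (Ideal.span {X - C p}).restrictScalars k) ⊓
        (Ideal.span {(X - C q) ^ (N - 2)}).restrictScalars k) ≤ 1) ∧
    (∀ q q' : k, (∀ j, q ≠ r j) → q ≠ p → (∀ j, q' ≠ r j) → q' ≠ p →
      ((VV r a b ⊓ (Ideal.span {X - C p}).restrictScalars k) ⊓
        (Ideal.span {(X - C q) ^ (N - 1)}).restrictScalars k) ≠ ⊥ →
      ((VV r a b ⊓ (Ideal.span {X - C p}).restrictScalars k) ⊓
        (Ideal.span {(X - C q') ^ (N - 1)}).restrictScalars k) ≠ ⊥ → q = q') := by
  have hNb : N = b + ∑ j, a j := by omega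
  have hV₁V : VV r a b ⊓ (Ideal.span {X - C p}).restrictScalars k ≤ VV r a b := inf_le_left
  have hfinV₁ : FiniteDimensional k ↥(VV r a b ⊓ (Ideal.span {X - C p}).restrictScalars k) :=
    Submodule.finiteDimensional_of_le hV₁V
  have heval : ∀ z ∈ VV r a b ⊓ (Ideal.span {X - C p}).restrictScalars k, eval p z = 0 := by
    rintro z ⟨-, hz⟩
    rw [SetLike.mem_coe, Submodule.restrictScalars_mem, Ideal.mem_span_singleton,
      dvd_iff_isRoot] at hz
    exact hz
  -- dimension
  have hdim : Module.finrank k ↥(VV r a b ⊓ (Ideal.span {X - C p}).restrictScalars k) + 1 = N := by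
    have hrn := LinearMap.finrank_range_add_finrank_ker ((leval p).comp (VV r a b).subtype)
    rw [finrank_VV a hr b] at hrn
    have hker : Module.finrank k ↥(LinearMap.ker ((leval p).comp (VV r a b).subtype)) =
        Module.finrank k ↥(VV r a b ⊓ (Ideal.span {X - C p}).restrictScalars k) := by
      rw [LinearMap.ker_comp, ← Submodule.finrank_map_subtype_eq, Submodule.map_comap_subtype,
        span_X_sub_C_eq_ker]
    have hrange : Module.finrank k ↥(LinearMap.range ((leval p).comp (VV r a b).subtype)) = 1 := by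
      apply le_antisymm
      · calc _ ≤ Module.finrank k k := Submodule.finrank_le _
          _ = 1 := Module.finrank_self k
      · rw [Nat.one_le_iff_ne_zero, Ne, Submodule.finrank_eq_zero]
        intro hbot
        have hmem : Dd r a ∈ VV r a b := by
          have := Dd_mul_mem r a (b := b) (P := 1) (by
            rw [degree_one]
            exact_mod_cast hb)
          rwa [mul_one] at this
        have h1 : ((leval p).comp (VV r a b).subtype) ⟨_, hmem⟩ ∈
            LinearMap.range ((leval p).comp (VV r a b).subtype) := LinearMap.mem_range_self _ _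
        rw [hbot, Submodule.mem_bot, LinearMap.comp_apply, Submodule.subtype_apply,
          leval_apply] at h1
        change eval p (Dd r a) = 0 at h1
        rw [Dd_eq, eval_mul] at h1
        exact mul_ne_zero (eval_Pp_ne_zero r p hp) (eval_Ee_ne_zero r a p hp) h1
    omega
  refine ⟨hdim, ?_, ?_, ?_⟩
  · rw [Submodule.eq_bot_iff]
    rintro x ⟨hx, hs⟩
    rw [SetLike.mem_coe, Submodule.restrictScalars_mem, Ideal.mem_span_singleton] at hs
    exact no_ram r a ha b p hp (hV₁V hx) N (by omega) hs
  · intro q hq hqp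
    constructor
    · rw [Submodule.eq_bot_iff]
      rintro x ⟨hx, hs⟩
      rw [SetLike.mem_coe, Submodule.restrictScalars_mem, Ideal.mem_span_singleton] at hs
      exact no_ram r a ha b q hq (hV₁V hx) N (by omega) hs
    · by_cases hN2 : 2 ≤ N
      · by_cases hA : (N : k) * eval p (Ee r a) = (p - q) * eval p (derivative (Ee r a))
        · -- every member of Z is divisible by (X-q)^(N-1)
          have hle : (VV r a b ⊓ (Ideal.span {X - C p}).restrictScalars k) ⊓
              (Ideal.span {(X - C q) ^ (N - 2)}).restrictScalars k ≤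
              (VV r a b ⊓ (Ideal.span {X - C p}).restrictScalars k) ⊓
              (Ideal.span {(X - C q) ^ (N - 1)}).restrictScalars k := by
            rintro z ⟨hz, hs⟩
            refine ⟨hz, ?_⟩
            rw [SetLike.mem_coe, Submodule.restrictScalars_mem, Ideal.mem_span_singleton] at hs ⊢
            obtain ⟨α, β, hrel⟩ := struct2 r a ha hNb hN2 q hq (hV₁V hz) hs
            have h1 := evalrel r a p hp hrel (heval z hz)
            obtain ⟨N'', rfl⟩ : ∃ N'', N = N'' + 2 := ⟨N - 2, by omega⟩
            rw [derivative_add, derivative_C_mul, derivative_C_mul, derivative_X_sub_C_pow,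
              derivative_X_sub_C_pow, show N'' + 2 - 1 = N'' + 1 by omega,
              show N'' + 1 - 1 = N'' by omega] at h1
            simp only [eval_mul, eval_C, eval_pow, eval_sub, eval_X, eval_add] at h1
            push_cast at h1 hA
            have ht : (p - q) ^ N'' ≠ 0 := pow_ne_zero _ (sub_ne_zero.mpr (Ne.symm hqp))
            have hβ : β * ((p - q) ^ N'' * eval p (Ee r a)) = 0 := by
              linear_combination -h1 + (α * (p - q) ^ (N'' + 1) + β * (p - q) ^ N'') * hA
            have hβ0 : β = 0 := (mul_eq_zero.mp hβ).resolve_right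
              (mul_ne_zero ht (eval_Ee_ne_zero r a p hp))
            rw [hβ0, C_0, zero_mul, add_zero] at hrel
            exact dvd_of_rel_pow r a q hq (by omega) hrel
          have hfin2 : FiniteDimensional k
              ↥((VV r a b ⊓ (Ideal.span {X - C p}).restrictScalars k) ⊓
              (Ideal.span {(X - C q) ^ (N - 1)}).restrictScalars k) :=
            Submodule.finiteDimensional_of_le (inf_le_left.trans hV₁V)
          refine (Submodule.finrank_mono hle).trans ?_
          refine finrank_le_one_of_no_dvd _ q (N - 1) (fun x hx hd => ?_)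
          exact no_ram r a ha b q hq (hV₁V hx) (N - 1 + 1) (by omega) hd
        · refine finrank_le_one_of_no_dvd _ q (N - 2) (fun z hz hd => ?_)
          rw [show N - 2 + 1 = N - 1 by omega] at hd
          obtain ⟨c, hrel⟩ := struct1 r a ha hNb (by omega) q hq (hV₁V hz) hd
          by_cases hc : c = 0
          · rw [hc, C_0, zero_mul] at hrel
            exact rel_zero_right r a hrel
          · exact absurd (cond_of_rel r a p hp q hqp (by omega) hc hrel (heval z hz)) hA
      · have hle : (VV r a b ⊓ (Ideal.span {X - C p}).restrictScalars k) ⊓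
            (Ideal.span {(X - C q) ^ (N - 2)}).restrictScalars k ≤
            VV r a b ⊓ (Ideal.span {X - C p}).restrictScalars k := inf_le_left
        have := Submodule.finrank_mono hle
        omega
  · intro q q' hq hqp hq' hq'p hZ hZ'
    obtain ⟨h, ⟨hhV₁, hhs⟩, hh0⟩ := Submodule.exists_mem_ne_zero_of_ne_bot hZ
    obtain ⟨h', ⟨hh'V₁, hh's⟩, hh'0⟩ := Submodule.exists_mem_ne_zero_of_ne_bot hZ'
    rw [SetLike.mem_coe, Submodule.restrictScalars_mem, Ideal.mem_span_singleton] at hhs hh's
    obtain ⟨c, hc⟩ := struct1 r a ha hNb (by omega) q hq (hV₁V hhV₁) hhs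
    obtain ⟨c', hc'⟩ := struct1 r a ha hNb (by omega) q' hq' (hV₁V hh'V₁) hh's
    have hc0 : c ≠ 0 := by
      rintro rfl
      rw [C_0, zero_mul] at hc
      exact hh0 (rel_zero_right r a hc)
    have hc'0 : c' ≠ 0 := by
      rintro rfl
      rw [C_0, zero_mul] at hc'
      exact hh'0 (rel_zero_right r a hc')
    have e1 := cond_of_rel r a p hp q hqp (by omega) hc0 hc (heval h hhV₁)
    have e2 := cond_of_rel r a p hp q' hq'p (by omega) hc'0 hc' (heval h' hh'V₁)
    have hN0 : (N : k) ≠ 0 := Nat.cast_ne_zero.mpr (by omega)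
    have hE' : eval p (derivative (Ee r a)) ≠ 0 := by
      intro h0
      rw [h0, mul_zero] at e1
      exact mul_ne_zero hN0 (eval_Ee_ne_zero r a p hp) e1
    have h5 : (q' - q) * eval p (derivative (Ee r a)) = 0 := by
      linear_combination e2 - e1
    have := (mul_eq_zero.mp h5).resolve_right hE'
    exact (sub_eq_zero.mp this).symm

end Groth.Agent.Lib.helper13.PoleSys
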