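import Groth.Agent.Lib.helper13.PoleSys6

/-!
Counting lemma for vanishing sequences, and the one-step inequalities.
-/

set_option autoImplicit false

namespace Groth.Agent.Lib.helper13.PoleSys

open Polynomial

/-- A sequence of dimensions dropping by at most one at each step, starting at `N`, ending at `0`
after `N+1` steps, with one gap at `e`, is determined. -/
theorem count_lemma (w : ℕ → ℕ) (N e : ℕ) (heN : e ≤ N) (h0 : w 0 = N)
    (hstep : ∀ n, w (n + 1) ≤ w n ∧ w n ≤ w (n + 1) + 1) (hgap : w e = w (e + 1))
    (hend : w (N + 1) = 0) (n : ℕ) : w n = if n ≤ e then N - n else N + 1 - n := by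
  have lower1 : ∀ n, N ≤ w n + n := by
    intro n
    induction n with
    | zero => omega
    | succ n ih =>
      have := (hstep n).2
      omega
  have lower2 : ∀ j, N - e ≤ w (e + 1 + j) + j := by
    intro j
    induction j with
    | zero =>
      have := lower1 e
      simp only [add_zero]
      omega
    | succ j ih =>
      have := (hstep (e + 1 + j)).2
      rw [show e + 1 + (j + 1) = e + 1 + j + 1 by ring]
      omega
  have upper2 : ∀ j, j ≤ N + 1 → w (N + 1 - j) ≤ j := by
    intro j
    induction j with
    | zero =>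
      intro _
      simp [hend]
    | succ j ih =>
      intro hj
      have := ih (by omega)
      have h2 := (hstep (N + 1 - (j + 1))).2
      rw [show N + 1 - (j + 1) + 1 = N + 1 - j by omega] at h2
      omega
  have upper3 : ∀ j, w (N + 1 + j) = 0 := by
    intro j
    induction j with
    | zero => simpa using hend
    | succ j ih =>
      have := (hstep (N + 1 + j)).1
      rw [show N + 1 + (j + 1) = N + 1 + j + 1 by ring]
      omega
  have upper1 : ∀ j, j ≤ e → w (e - j) ≤ N - e + j := by
    intro j
    induction j with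
    | zero =>
      intro _
      have := upper2 (N - e) (by omega)
      rw [show N + 1 - (N - e) = e + 1 by omega] at this
      simp only [Nat.sub_zero, add_zero]
      omega
    | succ j ih =>
      intro hj
      have := ih (by omega)
      have h2 := (hstep (e - (j + 1))).2
      rw [show e - (j + 1) + 1 = e - j by omega] at h2
      omega
  split_ifs with hne
  · have h1 := lower1 n
    have h2 := upper1 (e - n) (by omega)
    rw [show e - (e - n) = n by omega] at h2
    omega
  · push Not at hne
    by_cases hnN : n ≤ N + 1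
    · have h1 := lower2 (n - e - 1)
      rw [show e + 1 + (n - e - 1) = n by omega] at h1
      have h2 := upper2 (N + 1 - n) (by omega)
      rw [show N + 1 - (N + 1 - n) = n by omega] at h2
      omega
    · have := upper3 (n - N - 1)
      rw [show N + 1 + (n - N - 1) = n by omega] at this
      omega

variable {k : Type*} [Field k]

theorem finrank_le_inf_ker_add_one {M : Type*} [AddCommGroup M] [Module k M] (W : Submodule k M)
    [FiniteDimensional k ↥W] (f : M →ₗ[k] k) :
    Module.finrank k ↥W ≤ Module.finrank k ↥(W ⊓ LinearMap.ker f) + 1 := by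
  have hrn := LinearMap.finrank_range_add_finrank_ker (f.comp W.subtype)
  have hker : Module.finrank k ↥(LinearMap.ker (f.comp W.subtype)) =
      Module.finrank k ↥(W ⊓ LinearMap.ker f) := by
    rw [LinearMap.ker_comp, ← Submodule.finrank_map_subtype_eq, Submodule.map_comap_subtype]
  have hrange : Module.finrank k ↥(LinearMap.range (f.comp W.subtype)) ≤ 1 :=
    (Submodule.finrank_le _).trans_eq (Module.finrank_self k)
  omega

theorem span_pow_succ_le (c : k) (n : ℕ) :
    (Ideal.span {(X - C c : k[X]) ^ (n + 1)}).restrictScalars k ≤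
      (Ideal.span {(X - C c : k[X]) ^ n}).restrictScalars k := by
  intro x hx
  rw [Submodule.restrictScalars_mem, Ideal.mem_span_singleton] at hx ⊢
  exact (pow_dvd_pow _ (Nat.le_succ n)).trans hx

theorem step_dvd (V : Submodule k k[X]) [FiniteDimensional k ↥V] (c : k) (n : ℕ) :
    Module.finrank k ↥(V ⊓ (Ideal.span {(X - C c) ^ (n + 1)}).restrictScalars k) ≤
      Module.finrank k ↥(V ⊓ (Ideal.span {(X - C c) ^ n}).restrictScalars k) ∧
    Module.finrank k ↥(V ⊓ (Ideal.span {(X - C c) ^ n}).restrictScalars k) ≤
      Module.finrank k ↥(V ⊓ (Ideal.span {(X - C c) ^ (n + 1)}).restrictScalars k) + 1 := by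
  have hfin : ∀ j, FiniteDimensional k ↥(V ⊓ (Ideal.span {(X - C c) ^ j}).restrictScalars k) :=
    fun j => Submodule.finiteDimensional_of_le inf_le_left
  constructor
  · exact Submodule.finrank_mono (inf_le_inf_left V (span_pow_succ_le c n))
  · refine (finrank_le_inf_ker_add_one _ ((lcoeff k n).comp (taylor c))).trans ?_
    refine Nat.add_le_add_right (Submodule.finrank_mono ?_) 1
    rintro x ⟨⟨hxV, hxs⟩, hxk⟩
    refine ⟨hxV, ?_⟩
    rw [SetLike.mem_coe, Submodule.restrictScalars_mem, Ideal.mem_span_singleton] at hxs ⊢
    obtain ⟨w, rfl⟩ := hxs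
    rw [SetLike.mem_coe, LinearMap.mem_ker, LinearMap.comp_apply, lcoeff_apply] at hxk
    have ht : taylor c ((X - C c) ^ n * w) = X ^ n * taylor c w := by
      rw [taylor_mul, taylor_pow, map_sub, taylor_X, taylor_C, add_sub_cancel_right]
    rw [ht, coeff_X_pow_mul', if_pos le_rfl, Nat.sub_self, taylor_coeff_zero] at hxk
    have hd : (X - C c) ∣ w := dvd_iff_isRoot.mpr hxk
    rw [pow_succ]
    exact mul_dvd_mul_left _ hd

theorem step_deg (V : Submodule k k[X]) [FiniteDimensional k ↥V] (d n : ℕ) :
    Module.finrank k ↥(V ⊓ degreeLT k (d + 1 - (n + 1))) ≤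
      Module.finrank k ↥(V ⊓ degreeLT k (d + 1 - n)) ∧
    Module.finrank k ↥(V ⊓ degreeLT k (d + 1 - n)) ≤
      Module.finrank k ↥(V ⊓ degreeLT k (d + 1 - (n + 1))) + 1 := by
  have hfin : ∀ j, FiniteDimensional k ↥(V ⊓ degreeLT k j) :=
    fun j => Submodule.finiteDimensional_of_le inf_le_left
  constructor
  · refine Submodule.finrank_mono (inf_le_inf_left V ?_)
    exact degreeLT_mono (by omega)
  · by_cases hn : n ≤ d
    · refine (finrank_le_inf_ker_add_one _ (lcoeff k (d - n))).trans ?_
      refine Nat.add_le_add_right (Submodule.finrank_mono ?_) 1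
      rintro x ⟨⟨hxV, hxs⟩, hxk⟩
      refine ⟨hxV, ?_⟩
      rw [SetLike.mem_coe, mem_degreeLT, degree_lt_iff_coeff_zero] at hxs ⊢
      rw [SetLike.mem_coe, LinearMap.mem_ker, lcoeff_apply] at hxk
      intro j hj
      by_cases hj' : j = d - n
      · rw [hj']
        exact hxk
      · exact hxs j (by omega)
    · rw [show d + 1 - n = d + 1 - (n + 1) by omega]
      omega

end Groth.Agent.Lib.helper13.PoleSys
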