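import Groth.Agent.Lib.helper13.PoleSys7

/-!
Vanishing at the marked points `r_i`: the gap at order `a_i` and the end at `N+1`.
-/

set_option autoImplicit false

namespace Groth.Agent.Lib.helper13.PoleSys

open Polynomial
open Groth.Agent.Lib.helper13.ResSys (pow_pred_mul)

variable {k : Type*} [Field k] {m : ℕ} (r : Fin m → k) (a : Fin m → ℕ)

theorem dvd_Dd (i : Fin m) : (X - C (r i)) ^ (a i + 1) ∣ Dd r a := by
  rw [Dd_eq' r a i]
  exact dvd_mul_right _ _

theorem dvd_Di_of_ne {i l : Fin m} (hne : l ≠ i) : (X - C (r i)) ^ (a i + 1) ∣ Di r a l := by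
  unfold Di
  exact Finset.dvd_prod_of_mem (fun j => (X - C (r j)) ^ (a j + 1))
    (Finset.mem_erase.mpr ⟨hne.symm, Finset.mem_univ _⟩)

variable {r} in
theorem isCoprime_pow_Di (hr : Function.Injective r) (i : Fin m) (n : ℕ) :
    IsCoprime ((X - C (r i)) ^ n) (Di r a i) := by
  unfold Di
  refine IsCoprime.prod_right (fun j hj => ?_)
  have hne : i ≠ j := (Finset.ne_of_mem_erase hj).symm
  exact (pairwise_coprime_X_sub_C hr hne).pow

theorem degree_X_sub_C_pow' (c : k) (n : ℕ) : ((X - C c) ^ n).degree = (n : WithBot ℕ) := by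
  rw [degree_eq_natDegree (pow_ne_zero _ (X_sub_C_ne_zero c)), (monic_X_sub_C c).natDegree_pow,
    natDegree_X_sub_C, mul_one]

variable {r} in
theorem gap_marked (hr : Function.Injective r) (i : Fin m) {b : ℕ} {h : k[X]}
    (hh : h ∈ VV r a b) (hd : (X - C (r i)) ^ (a i) ∣ h) : (X - C (r i)) ^ (a i + 1) ∣ h := by
  obtain ⟨P, hP, g, hg, rfl⟩ := mem_VV r a hh
  have hsplit := Finset.add_sum_erase Finset.univ (fun l => Di r a l * g l) (Finset.mem_univ i)
  have hrest : (X - C (r i)) ^ (a i + 1) ∣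
      Dd r a * P + ∑ l ∈ Finset.univ.erase i, Di r a l * g l := by
    refine dvd_add (Dvd.dvd.mul_right (dvd_Dd r a i) _) (Finset.dvd_sum fun l hl => ?_)
    exact Dvd.dvd.mul_right (dvd_Di_of_ne r a (Finset.ne_of_mem_erase hl)) _
  have hgi : g i = 0 := by
    have h1 : (X - C (r i)) ^ (a i) ∣ Di r a i * g i := by
      have e : Di r a i * g i = (Dd r a * P + ∑ l, Di r a l * g l) -
          (Dd r a * P + ∑ l ∈ Finset.univ.erase i, Di r a l * g l) := by
        rw [← hsplit]
        ring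
      rw [e]
      exact dvd_sub hd ((pow_dvd_pow _ (Nat.le_succ _)).trans hrest)
    have h2 := (isCoprime_pow_Di a hr i (a i)).dvd_of_dvd_mul_left h1
    refine eq_zero_of_dvd_of_degree_lt h2 ?_
    rw [degree_X_sub_C_pow']
    exact hg i
  rw [← hsplit]
  simp only [hgi, mul_zero, zero_add]
  exact hrest

variable {r} in
theorem eval_Pq_ne_zero (hr : Function.Injective r) (i : Fin m) : eval (r i) (Pq r i) ≠ 0 := by
  unfold Pq
  rw [eval_prod]
  refine Finset.prod_ne_zero_iff.mpr (fun j hj => ?_)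
  rw [eval_sub, eval_X, eval_C]
  exact sub_ne_zero.mpr (fun h => (Finset.ne_of_mem_erase hj) (hr h).symm)

variable {r} in
theorem eval_Ei_ne_zero (hr : Function.Injective r) (i : Fin m) : eval (r i) (Ei r a i) ≠ 0 := by
  unfold Ei
  rw [eval_prod]
  refine Finset.prod_ne_zero_iff.mpr (fun j hj => ?_)
  rw [eval_pow, eval_sub, eval_X, eval_C]
  exact pow_ne_zero _ (sub_ne_zero.mpr (fun h => (Finset.ne_of_mem_erase hj) (hr h).symm))

theorem taylor_pow_mul_coeff (c : k) (n : ℕ) (T : k[X]) :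
    (taylor c ((X - C c) ^ n * T)).coeff n = eval c T := by
  rw [taylor_mul, taylor_pow, map_sub, taylor_X, taylor_C, add_sub_cancel_right,
    coeff_X_pow_mul', if_pos le_rfl, Nat.sub_self, taylor_coeff_zero]

variable [CharZero k]

variable {r} in
/-- At a marked point: with `S` normalised so that its `(X-r_i)^(a_i)`-coefficient vanishes,
`ord h ≤ ord S`. -/
theorem key_marked (hr : Function.Injective r) (i : Fin m) {h S : k[X]} (hrel : Rel r a h S)
    (hnorm : (taylor (r i) S).coeff (a i) = 0) (n : ℕ) (hd : (X - C (r i)) ^ n ∣ h) :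
    (X - C (r i)) ^ n ∣ S := by
  by_cases hS0 : S = 0
  · rw [hS0]
    exact dvd_zero _
  obtain ⟨s, T, hfac, hTr⟩ : ∃ s T, S = (X - C (r i)) ^ s * T ∧ eval (r i) T ≠ 0 := by
    obtain ⟨T, hfac, hT⟩ := exists_eq_pow_rootMultiplicity_mul_and_not_dvd S hS0 (r i)
    exact ⟨_, T, hfac, fun h0 => hT (dvd_iff_isRoot.mpr h0)⟩
  subst hfac
  have hsa : s ≠ a i := by
    intro hsa
    rw [hsa, taylor_pow_mul_coeff] at hnorm
    exact hTr hnorm
  by_cases hsn : n ≤ s
  · exact Dvd.dvd.mul_right (pow_dvd_pow _ hsn) _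
  · exfalso
    push Not at hsn
    obtain ⟨u, rfl⟩ := hd
    unfold Rel at hrel
    rw [Ee_eq r a i, Pp_eq r i, derivative_mul, derivative_mul, derivative_X_sub_C_pow,
      derivative_X_sub_C_pow] at hrel
    have hpow : (X - C (r i) : k[X]) ^ n = (X - C (r i)) ^ s * (X - C (r i)) ^ (n - s) := by
      rw [← pow_add, Nat.add_sub_cancel' (by omega)]
    rw [hpow] at hrel
    have e1 := pow_pred_mul (X - C (r i) : k[X]) s
    have e2 := pow_pred_mul (X - C (r i) : k[X]) (a i)
    have hmain : (X - C (r i)) ^ (s + a i) * ((X - C (r i)) ^ (n - s) * u * Ei r a i -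
        Pq r i * ((C (s : k) - C (a i : k)) * T * Ei r a i +
          (X - C (r i)) * (derivative T * Ei r a i - T * derivative (Ei r a i)))) = 0 := by
      linear_combination hrel + (Pq r i * T * (X - C (r i)) ^ (a i) * Ei r a i) * e1 -
        (Pq r i * (X - C (r i)) ^ s * T * Ei r a i) * e2
    have h3 := (mul_eq_zero.mp hmain).resolve_left (pow_ne_zero _ (X_sub_C_ne_zero (r i)))
    have h4 := congrArg (eval (r i)) h3
    simp only [eval_sub, eval_mul, eval_pow, eval_X, eval_C, sub_self, eval_add, eval_zero,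
      zero_mul, add_zero, zero_pow (by omega : n - s ≠ 0)] at h4
    have hne : ((s : k) - (a i : k)) ≠ 0 := sub_ne_zero.mpr (by exact_mod_cast hsa)
    have h5 : eval (r i) (Pq r i) * (((s : k) - (a i : k)) * eval (r i) T *
        eval (r i) (Ei r a i)) = 0 := by
      linear_combination -h4
    exact absurd h5 (mul_ne_zero (eval_Pq_ne_zero hr i)
      (mul_ne_zero (mul_ne_zero hne hTr) (eval_Ei_ne_zero a hr i)))

variable {r} in
theorem end_marked (hr : Function.Injective r) (ha : ∀ j, 1 ≤ a j) (i : Fin m) {b n : ℕ}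
    (hn : b + ∑ j, a j < n) {h : k[X]} (hh : h ∈ VV r a b) (hd : (X - C (r i)) ^ n ∣ h) :
    h = 0 := by
  obtain ⟨R, hRdeg, hrel⟩ := exists_rel r a ha hh
  have hEc : (taylor (r i) (Ee r a)).coeff (a i) = eval (r i) (Ei r a i) := by
    rw [Ee_eq r a i, taylor_pow_mul_coeff]
  obtain ⟨γ, hγ⟩ : ∃ γ, γ = (taylor (r i) R).coeff (a i) / eval (r i) (Ei r a i) := ⟨_, rfl⟩
  have hrelS : Rel r a h (R - C γ * Ee r a) := by
    simpa using rel_sub hrel (rel_Ee r a γ)
  have hnorm : (taylor (r i) (R - C γ * Ee r a)).coeff (a i) = 0 := by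
    rw [map_sub, taylor_mul, taylor_C, coeff_sub, coeff_C_mul, hEc, hγ,
      div_mul_cancel₀ _ (eval_Ei_ne_zero a hr i), sub_self]
  have hk := key_marked a hr i hrelS hnorm n hd
  have hSdeg : (R - C γ * Ee r a).natDegree ≤ b + ∑ j, a j := by
    refine (natDegree_sub_le _ _).trans (max_le hRdeg ?_)
    refine (natDegree_C_mul_le _ _).trans ?_
    rw [natDegree_Ee]
    omega
  have hS0 : R - C γ * Ee r a = 0 := by
    refine eq_zero_of_dvd_of_natDegree_lt hk ?_
    rw [(monic_X_sub_C (r i)).natDegree_pow, natDegree_X_sub_C, mul_one]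
    omega
  have hR : R = C γ * Ee r a := sub_eq_zero.mp hS0
  rw [hR] at hrel
  exact eq_zero_of_rel_Ee r a _ hrel

end Groth.Agent.Lib.helper13.PoleSys
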