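import Groth.Agent.Lib.helper13.PoleSys8

/-!
Vanishing at `∞`, and S17241.
-/

set_option autoImplicit false

namespace Groth.Agent.Lib.helper13.PoleSys

open Polynomial

variable {k : Type*} [Field k] {m : ℕ} (r : Fin m → k) (a : Fin m → ℕ)

theorem natDegree_Di_add (i : Fin m) : (Di r a i).natDegree + (a i + 1) = ∑ j, (a j + 1) := by
  have := congrArg natDegree (Dd_eq' r a i)
  rw [natDegree_Dd, ((monic_X_sub_C (r i)).pow _).natDegree_mul (monic_Di r a i),
    (monic_X_sub_C (r i)).natDegree_pow, natDegree_X_sub_C, mul_one] at this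
  omega

theorem natDegree_Pp : (Pp r).natDegree = m := by
  unfold Pp
  rw [natDegree_prod_of_monic _ _ (fun j _ => monic_X_sub_C (r j))]
  simp

theorem sum_succ_eq : ∑ j : Fin m, (a j + 1) = (∑ j, a j) + m := by
  rw [Finset.sum_add_distrib]
  simp

theorem degree_Di_mul_lt (i : Fin m) {g : k[X]} (hg : g.degree < (a i : WithBot ℕ)) :
    (Di r a i * g).degree < (((∑ j, (a j + 1)) - 1 : ℕ) : WithBot ℕ) := by
  by_cases hg0 : g = 0
  · rw [hg0, mul_zero, degree_zero]
    exact WithBot.bot_lt_coe _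
  · have h1 : (Di r a i * g).natDegree = (Di r a i).natDegree + g.natDegree :=
      (monic_Di r a i).natDegree_mul' hg0
    have h2 : g.natDegree < a i := (natDegree_lt_iff_degree_lt hg0).mpr hg
    have h3 := natDegree_Di_add r a i
    rw [← natDegree_lt_iff_degree_lt (mul_ne_zero (monic_Di r a i).ne_zero hg0)]
    omega

theorem degree_sum_Di_lt (g : Fin m → k[X]) (hg : ∀ i, (g i).degree < (a i : WithBot ℕ)) :
    (∑ i, Di r a i * g i).degree < (((∑ j, (a j + 1)) - 1 : ℕ) : WithBot ℕ) :=
  (degree_sum_le _ _).trans_lt ((Finset.sup_lt_iff (WithBot.bot_lt_coe _)).mpr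
    fun i _ => degree_Di_mul_lt r a i (hg i))

theorem VV_le_degreeLT (b : ℕ) : VV r a b ≤ degreeLT k ((∑ j, (a j + 1)) + b) := by
  intro h hh
  obtain ⟨P, hP, g, hg, rfl⟩ := mem_VV r a hh
  refine Submodule.add_mem _ ?_ ?_
  · rw [mem_degreeLT]
    by_cases hP0 : P = 0
    · rw [hP0, mul_zero, degree_zero]
      exact WithBot.bot_lt_coe _
    · have h1 : (Dd r a * P).natDegree = (Dd r a).natDegree + P.natDegree :=
        (monic_Dd r a).natDegree_mul' hP0
      have h2 : P.natDegree < b := (natDegree_lt_iff_degree_lt hP0).mpr hP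
      rw [← natDegree_lt_iff_degree_lt (mul_ne_zero (monic_Dd r a).ne_zero hP0), h1, natDegree_Dd]
      omega
  · rw [mem_degreeLT]
    exact lt_of_lt_of_le (degree_sum_Di_lt r a g hg) (by exact_mod_cast (by omega))

/-- members of degree `< deg D` lie in `V(0)` and have degree `< deg D - 1` -/
theorem gap_inf {b : ℕ} {h : k[X]} (hh : h ∈ VV r a b)
    (hd : h.degree < ((∑ j, (a j + 1) : ℕ) : WithBot ℕ)) :
    h ∈ VV r a 0 ∧ h.degree < (((∑ j, (a j + 1)) - 1 : ℕ) : WithBot ℕ) := by
  obtain ⟨P, hP, g, hg, rfl⟩ := mem_VV r a hh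
  have hsum := degree_sum_Di_lt r a g hg
  have hP0 : P = 0 := by
    by_contra hP0
    have h1 : (Dd r a * P).natDegree = (Dd r a).natDegree + P.natDegree :=
      (monic_Dd r a).natDegree_mul' hP0
    have h2 : ((∑ j, (a j + 1) : ℕ) : WithBot ℕ) ≤ (Dd r a * P).degree := by
      rw [degree_eq_natDegree (mul_ne_zero (monic_Dd r a).ne_zero hP0), h1, natDegree_Dd]
      exact_mod_cast Nat.le_add_right _ _
    have h3 : (∑ i, Di r a i * g i).degree < (Dd r a * P).degree :=
      lt_of_lt_of_le (lt_of_lt_of_le hsum (by exact_mod_cast Nat.sub_le _ _)) h2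
    rw [degree_add_eq_left_of_degree_lt h3] at hd
    exact absurd hd (not_lt.mpr h2)
  subst hP0
  rw [mul_zero, zero_add]
  exact ⟨Submodule.sum_mem _ (fun i _ => Di_mul_mem r a i (hg i)), hsum⟩

theorem coeff_derivative_mul (S E : k[X]) (s e : ℕ) (hS : S.natDegree ≤ s) (hE : E.natDegree ≤ e)
    (hse : 1 ≤ s + e) :
    (derivative S * E).coeff (s + e - 1) = (s : k) * (S.coeff s * E.coeff e) := by
  rcases s with _ | s'
  · have : S = C (S.coeff 0) := eq_C_of_natDegree_le_zero hS
    rw [this, derivative_C, zero_mul, coeff_zero]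
    simp
  · rw [show s' + 1 + e - 1 = s' + e by omega]
    have hS' : (derivative S).natDegree ≤ s' := (natDegree_derivative_le S).trans (by omega)
    rw [coeff_mul_add_eq_of_natDegree_le hS' hE, coeff_derivative]
    push_cast
    ring

theorem coeff_mul_derivative (S E : k[X]) (s e : ℕ) (hS : S.natDegree ≤ s) (hE : E.natDegree ≤ e)
    (hse : 1 ≤ s + e) :
    (S * derivative E).coeff (s + e - 1) = (e : k) * (S.coeff s * E.coeff e) := by
  rw [mul_comm S, add_comm s e, coeff_derivative_mul E S e s hE hS (by omega)]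
  ring

variable [CharZero k]

theorem end_inf (ha : ∀ j, 1 ≤ a j) {b : ℕ} {h : k[X]} (hh : h ∈ VV r a b)
    (hd : h.degree < ((m - 1 : ℕ) : WithBot ℕ)) : h = 0 := by
  have hδ : m - 1 ≤ ∑ j, (a j + 1) := by
    have := sum_succ_eq (m := m) a
    omega
  obtain ⟨hh0, -⟩ := gap_inf r a hh (lt_of_lt_of_le hd (by exact_mod_cast hδ))
  by_contra hne
  obtain ⟨R, hRdeg, hrel⟩ := exists_rel r a ha hh0
  rw [zero_add] at hRdeg
  obtain ⟨A, hA⟩ : ∃ A, A = ∑ j, a j := ⟨_, rfl⟩
  rw [← hA] at hRdeg
  have hEdeg : (Ee r a).natDegree = A := by rw [natDegree_Ee, hA]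
  have hEA : (Ee r a).coeff A = 1 := by
    have := (monic_Ee r a).coeff_natDegree
    rwa [hEdeg] at this
  have hrelS : Rel r a h (R - C (R.coeff A) * Ee r a) := by
    simpa using rel_sub hrel (rel_Ee r a (R.coeff A))
  have hSA : (R - C (R.coeff A) * Ee r a).coeff A = 0 := by
    rw [coeff_sub, coeff_C_mul, hEA, mul_one, sub_self]
  have hSdeg : (R - C (R.coeff A) * Ee r a).natDegree ≤ A :=
    (natDegree_sub_le _ _).trans (max_le hRdeg ((natDegree_C_mul_le _ _).trans hEdeg.le))
  obtain ⟨S, hS⟩ : ∃ S, S = R - C (R.coeff A) * Ee r a := ⟨_, rfl⟩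
  rw [← hS] at hrelS hSA hSdeg
  have hS0 : S ≠ 0 := by
    intro h0
    rw [h0] at hrelS
    exact hne (rel_zero_right r a hrelS)
  have hlc : S.coeff S.natDegree ≠ 0 := leadingCoeff_ne_zero.mpr hS0
  have hslt : S.natDegree < A := by
    refine lt_of_le_of_ne hSdeg (fun heq => ?_)
    rw [heq, hSA] at hlc
    exact hlc rfl
  have hQ : (derivative S * Ee r a - S * derivative (Ee r a)).coeff (S.natDegree + A - 1) =
      ((S.natDegree : k) - A) * (S.coeff S.natDegree * 1) := by
    rw [coeff_sub, coeff_derivative_mul S (Ee r a) S.natDegree A le_rfl hEdeg.le (by omega),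
      coeff_mul_derivative S (Ee r a) S.natDegree A le_rfl hEdeg.le (by omega), hEA]
    ring
  have hQne : (derivative S * Ee r a - S * derivative (Ee r a)).coeff (S.natDegree + A - 1) ≠ 0 := by
    rw [hQ]
    exact mul_ne_zero (sub_ne_zero.mpr (by exact_mod_cast hslt.ne))
      (mul_ne_zero hlc one_ne_zero)
  have hQdeg := le_natDegree_of_ne_zero hQne
  have hQ0 : derivative S * Ee r a - S * derivative (Ee r a) ≠ 0 := by
    intro h0
    rw [h0, coeff_zero] at hQne
    exact hQne rfl
  unfold Rel at hrelS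
  have h1 : (h * Ee r a).natDegree = h.natDegree + A := by
    rw [mul_comm, (monic_Ee r a).natDegree_mul' hne, hEdeg]
    ring
  have h2 : (Pp r * (derivative S * Ee r a - S * derivative (Ee r a))).natDegree =
      m + (derivative S * Ee r a - S * derivative (Ee r a)).natDegree := by
    rw [(monic_Pp r).natDegree_mul' hQ0, natDegree_Pp]
  rw [hrelS, h2] at h1
  have h3 : h.natDegree < m - 1 := (natDegree_lt_iff_degree_lt hne).mpr hd
  omega

variable {r} in
/-- S17241 -/
theorem main41 (hr : Function.Injective r) (ha : ∀ j, 1 ≤ a j) (b : ℕ) (N d : ℕ)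
    (hN : N = (∑ j, a j) + b) (hd : d + 1 = (∑ j, (a j + 1)) + b) :
    Module.finrank k ↥(VV r a b) = N ∧
    (∀ (i : Fin m) (n : ℕ),
      Module.finrank k ↥(VV r a b ⊓ (Ideal.span {(X - C (r i)) ^ n}).restrictScalars k) =
        if n ≤ a i then N - n else N + 1 - n) ∧
    (∀ n : ℕ, Module.finrank k ↥(VV r a b ⊓ degreeLT k (d + 1 - n)) =
        if n ≤ b then N - n else N + 1 - n) := by
  have hV : Module.finrank k ↥(VV r a b) = N := by
    rw [finrank_VV a hr b]
    omega
  refine ⟨hV, ?_, ?_⟩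
  · intro i n
    have hai : a i ≤ N := by
      have := Finset.single_le_sum (f := a) (fun j _ => Nat.zero_le (a j)) (Finset.mem_univ i)
      omega
    refine count_lemma (fun n => Module.finrank k
      ↥(VV r a b ⊓ (Ideal.span {(X - C (r i)) ^ n}).restrictScalars k)) N (a i) hai ?_ ?_ ?_ ?_ n
    · show Module.finrank k
        ↥(VV r a b ⊓ (Ideal.span {(X - C (r i)) ^ 0}).restrictScalars k) = N
      rw [pow_zero, Ideal.span_singleton_one, Submodule.restrictScalars_top, inf_top_eq, hV]
    · intro n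
      exact step_dvd (VV r a b) (r i) n
    · show Module.finrank k
        ↥(VV r a b ⊓ (Ideal.span {(X - C (r i)) ^ (a i)}).restrictScalars k) = Module.finrank k
        ↥(VV r a b ⊓ (Ideal.span {(X - C (r i)) ^ (a i + 1)}).restrictScalars k)
      have heq : VV r a b ⊓ (Ideal.span {(X - C (r i)) ^ (a i)}).restrictScalars k =
          VV r a b ⊓ (Ideal.span {(X - C (r i)) ^ (a i + 1)}).restrictScalars k := by
        apply le_antisymm
        · rintro x ⟨hxV, hxs⟩
          refine ⟨hxV, ?_⟩
          rw [SetLike.mem_coe, Submodule.restrictScalars_mem, Ideal.mem_span_singleton] at hxs ⊢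
          exact gap_marked a hr i hxV hxs
        · exact inf_le_inf_left _ (span_pow_succ_le (r i) (a i))
      rw [heq]
    · show Module.finrank k
        ↥(VV r a b ⊓ (Ideal.span {(X - C (r i)) ^ (N + 1)}).restrictScalars k) = 0
      have heq : VV r a b ⊓ (Ideal.span {(X - C (r i)) ^ (N + 1)}).restrictScalars k = ⊥ := by
        rw [Submodule.eq_bot_iff]
        rintro x ⟨hxV, hxs⟩
        rw [SetLike.mem_coe, Submodule.restrictScalars_mem, Ideal.mem_span_singleton] at hxs
        exact end_marked a hr ha i (by omega) hxV hxs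
      rw [heq, finrank_bot]
  · intro n
    have hss := sum_succ_eq (m := m) a
    refine count_lemma (fun n => Module.finrank k ↥(VV r a b ⊓ degreeLT k (d + 1 - n))) N b
      (by omega) ?_ ?_ ?_ ?_ n
    · show Module.finrank k ↥(VV r a b ⊓ degreeLT k (d + 1 - 0)) = N
      rw [Nat.sub_zero, hd, inf_eq_left.mpr (VV_le_degreeLT r a b), hV]
    · intro n
      exact step_deg (VV r a b) d n
    · show Module.finrank k ↥(VV r a b ⊓ degreeLT k (d + 1 - b)) =
        Module.finrank k ↥(VV r a b ⊓ degreeLT k (d + 1 - (b + 1)))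
      have heq : VV r a b ⊓ degreeLT k (d + 1 - b) = VV r a b ⊓ degreeLT k (d + 1 - (b + 1)) := by
        apply le_antisymm
        · rintro x ⟨hxV, hxs⟩
          refine ⟨hxV, ?_⟩
          rw [SetLike.mem_coe, mem_degreeLT] at hxs ⊢
          rw [show d + 1 - b = ∑ j, (a j + 1) by omega] at hxs
          rw [show d + 1 - (b + 1) = (∑ j, (a j + 1)) - 1 by omega]
          exact (gap_inf r a hxV hxs).2
        · exact inf_le_inf_left _ (degreeLT_mono (by omega))
      rw [heq]
    · show Module.finrank k ↥(VV r a b ⊓ degreeLT k (d + 1 - (N + 1))) = 0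
      have heq : VV r a b ⊓ degreeLT k (d + 1 - (N + 1)) = ⊥ := by
        rw [Submodule.eq_bot_iff]
        rintro x ⟨hxV, hxs⟩
        rw [SetLike.mem_coe, mem_degreeLT, show d + 1 - (N + 1) = m - 1 by omega] at hxs
        exact end_inf r a ha hxV hxs
      rw [heq, finrank_bot]

end Groth.Agent.Lib.helper13.PoleSys
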