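import Groth.Agent.Lib.helper13.SymmUniv

/-!
Surjectivity of the two-family substitution of elementary symmetric polynomials onto the
polynomials symmetric in each family (helper13's helper library).
-/

set_option autoImplicit false

namespace Groth.Agent.Lib.helper13.SymmUniv

open MvPolynomial

universe u

/-- Base change commutes with `aeval`. -/
theorem map_aeval_gen {A B : Type*} [CommRing A] [CommRing B] (φ : A →+* B) {σ τ : Type*}
    (g : σ → MvPolynomial τ A) (p : MvPolynomial σ A) :
    map φ (aeval g p) = aeval (fun i => map φ (g i)) (map φ p) := by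
  induction p using MvPolynomial.induction_on with
  | C a => simp
  | add p q hp hq => simp only [map_add, hp, hq]
  | mul_X p i hp => simp only [map_mul, aeval_X, map_X, hp]

variable (R : Type u) [CommRing R] (n : ℕ)

/-- Surjectivity of `X_i ↦ e_{i+1}` onto symmetric polynomials. -/
theorem exists_aeval_esymm_eq {f : MvPolynomial (Fin n) R} (hf : f.IsSymmetric) :
    ∃ p : MvPolynomial (Fin n) R, aeval (fun i : Fin n => esymm (Fin n) R ((i : ℕ) + 1)) p = f := by
  obtain ⟨p, hp⟩ := (esymmAlgHom_fin_bijective R n).2 ⟨f, hf⟩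
  refine ⟨p, ?_⟩
  have := congrArg Subtype.val hp
  rwa [esymmAlgHom_apply] at this

/-- The key commutation: `E ∘ subst₂ = Θ ∘ M ∘ E`. -/
theorem sumAlgEquiv_subst₂ (p : MvPolynomial (Fin n ⊕ Fin n) R) :
    sumAlgEquiv R (Fin n) (Fin n) (subst₂ R n p) =
      aeval (fun k : Fin n => esymm (Fin n) (MvPolynomial (Fin n) R) ((k : ℕ) + 1))
        (map ((aeval (fun k : Fin n => esymm (Fin n) R ((k : ℕ) + 1)) :
          MvPolynomial (Fin n) R →ₐ[R] MvPolynomial (Fin n) R) :
            MvPolynomial (Fin n) R →+* MvPolynomial (Fin n) R)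
          (sumAlgEquiv R (Fin n) (Fin n) p)) := by
  classical
  let R' := MvPolynomial (Fin n) R
  let E := sumAlgEquiv R (Fin n) (Fin n)
  let Ψ : R' →ₐ[R] R' := aeval (fun k : Fin n => esymm (Fin n) R ((k : ℕ) + 1))
  let M : MvPolynomial (Fin n) R' →+* MvPolynomial (Fin n) R' := MvPolynomial.map (Ψ : R' →+* R')
  let Θ : MvPolynomial (Fin n) R' →ₐ[R'] MvPolynomial (Fin n) R' :=
    aeval (fun k : Fin n => esymm (Fin n) R' ((k : ℕ) + 1))
  have key : ((E : MvPolynomial (Fin n ⊕ Fin n) R →+* MvPolynomial (Fin n) R').comp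
      (subst₂ R n : MvPolynomial (Fin n ⊕ Fin n) R →+* MvPolynomial (Fin n ⊕ Fin n) R)) =
      ((Θ : MvPolynomial (Fin n) R' →+* MvPolynomial (Fin n) R').comp M).comp
        (E : MvPolynomial (Fin n ⊕ Fin n) R →+* MvPolynomial (Fin n) R') := by
    apply MvPolynomial.ringHom_ext
    · intro r
      simp [E, M, Θ, subst₂, R']
    · intro i
      rcases i with k | k
      · have h1 : (sumAlgEquiv R (Fin n) (Fin n)) ((rename Sum.inl) (esymm (Fin n) R ((k : ℕ) + 1))) =
            (mapAlgHom (Algebra.ofId R (MvPolynomial (Fin n) R))) (esymm (Fin n) R ((k : ℕ) + 1)) :=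
          DFunLike.congr_fun (sumAlgEquiv_comp_rename_inl (R := R) (S₁ := Fin n) (S₂ := Fin n))
            (esymm (Fin n) R ((k : ℕ) + 1))
        simp only [RingHom.coe_comp, Function.comp_apply, RingHom.coe_coe, subst₂, aeval_X,
          Sum.elim_inl, E, sumAlgEquiv_X_inl, M, map_X, Θ]
        rw [h1, mapAlgHom_apply, map_esymm]
      · have h1 : (sumAlgEquiv R (Fin n) (Fin n)) ((rename Sum.inr) (esymm (Fin n) R ((k : ℕ) + 1))) =
            (IsScalarTower.toAlgHom R (MvPolynomial (Fin n) R)
              (MvPolynomial (Fin n) (MvPolynomial (Fin n) R))) (esymm (Fin n) R ((k : ℕ) + 1)) :=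
          DFunLike.congr_fun (sumAlgEquiv_comp_rename_inr (R := R) (S₁ := Fin n) (S₂ := Fin n))
            (esymm (Fin n) R ((k : ℕ) + 1))
        simp only [RingHom.coe_comp, Function.comp_apply, RingHom.coe_coe, subst₂, aeval_X,
          Sum.elim_inr, E, sumAlgEquiv_X_inr, M, map_C, Θ]
        rw [h1]
        simp [Ψ, R']
  exact DFunLike.congr_fun key p

/-- `E` intertwines permutations of the left family with permutations of the outer variables. -/
theorem sumAlgEquiv_rename_left (e : Equiv.Perm (Fin n)) (f : MvPolynomial (Fin n ⊕ Fin n) R) :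
    sumAlgEquiv R (Fin n) (Fin n) (rename (Sum.map e id) f) =
      rename e (sumAlgEquiv R (Fin n) (Fin n) f) := by
  have key : ((sumAlgEquiv R (Fin n) (Fin n) : MvPolynomial (Fin n ⊕ Fin n) R →ₐ[R]
        MvPolynomial (Fin n) (MvPolynomial (Fin n) R)).comp
      (rename (Sum.map e id))) =
      ((rename e : MvPolynomial (Fin n) (MvPolynomial (Fin n) R) →ₐ[MvPolynomial (Fin n) R]
        MvPolynomial (Fin n) (MvPolynomial (Fin n) R)).restrictScalars R).comp
        (sumAlgEquiv R (Fin n) (Fin n) : MvPolynomial (Fin n ⊕ Fin n) R →ₐ[R]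
          MvPolynomial (Fin n) (MvPolynomial (Fin n) R)) := by
    apply MvPolynomial.algHom_ext
    intro i
    rcases i with k | k <;> simp
  exact DFunLike.congr_fun key f

/-- `E` intertwines permutations of the right family with permutations of the inner variables. -/
theorem sumAlgEquiv_rename_right (e : Equiv.Perm (Fin n)) (f : MvPolynomial (Fin n ⊕ Fin n) R) :
    sumAlgEquiv R (Fin n) (Fin n) (rename (Sum.map id e) f) =
      map ((rename e : MvPolynomial (Fin n) R →ₐ[R] MvPolynomial (Fin n) R) :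
        MvPolynomial (Fin n) R →+* MvPolynomial (Fin n) R) (sumAlgEquiv R (Fin n) (Fin n) f) := by
  have key : ((sumAlgEquiv R (Fin n) (Fin n) : MvPolynomial (Fin n ⊕ Fin n) R →+*
        MvPolynomial (Fin n) (MvPolynomial (Fin n) R)).comp
      ((rename (Sum.map id e) : MvPolynomial (Fin n ⊕ Fin n) R →ₐ[R] MvPolynomial (Fin n ⊕ Fin n) R) :
        MvPolynomial (Fin n ⊕ Fin n) R →+* MvPolynomial (Fin n ⊕ Fin n) R)) =
      (map ((rename e : MvPolynomial (Fin n) R →ₐ[R] MvPolynomial (Fin n) R) :
        MvPolynomial (Fin n) R →+* MvPolynomial (Fin n) R)).comp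
        (sumAlgEquiv R (Fin n) (Fin n) : MvPolynomial (Fin n ⊕ Fin n) R →+*
          MvPolynomial (Fin n) (MvPolynomial (Fin n) R)) := by
    apply MvPolynomial.ringHom_ext
    · intro r
      simp
    · intro i
      rcases i with k | k <;> simp
  exact DFunLike.congr_fun key f

/-- Two-family fundamental theorem: a polynomial symmetric in each family is a polynomial in
the elementary symmetric polynomials of the two families. -/
theorem exists_subst₂_eq {f : MvPolynomial (Fin n ⊕ Fin n) R}
    (hL : ∀ e : Equiv.Perm (Fin n), rename (Sum.map e id) f = f)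
    (hR : ∀ e : Equiv.Perm (Fin n), rename (Sum.map id e) f = f) :
    ∃ P : MvPolynomial (Fin n ⊕ Fin n) R, subst₂ R n P = f := by
  classical
  set E := sumAlgEquiv R (Fin n) (Fin n) with hE
  have hsym : (E f).IsSymmetric := by
    intro e
    rw [hE, ← sumAlgEquiv_rename_left, hL]
  obtain ⟨F₁, hF₁⟩ := exists_aeval_esymm_eq (MvPolynomial (Fin n) R) n hsym
  have hinv : ∀ e : Equiv.Perm (Fin n),
      map ((rename e : MvPolynomial (Fin n) R →ₐ[R] MvPolynomial (Fin n) R) :
        MvPolynomial (Fin n) R →+* MvPolynomial (Fin n) R) F₁ = F₁ := by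
    intro e
    apply aeval_esymm_injective (MvPolynomial (Fin n) R) n
    have h1 := map_aeval_gen ((rename e : MvPolynomial (Fin n) R →ₐ[R] MvPolynomial (Fin n) R) :
        MvPolynomial (Fin n) R →+* MvPolynomial (Fin n) R)
      (fun k : Fin n => esymm (Fin n) (MvPolynomial (Fin n) R) ((k : ℕ) + 1)) F₁
    simp only [map_esymm] at h1
    rw [← h1, hF₁, hE, ← sumAlgEquiv_rename_right, hR]
  have hrange : F₁ ∈ Set.range (MvPolynomial.map
      ((aeval (fun k : Fin n => esymm (Fin n) R ((k : ℕ) + 1)) :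
          MvPolynomial (Fin n) R →ₐ[R] MvPolynomial (Fin n) R) :
            MvPolynomial (Fin n) R →+* MvPolynomial (Fin n) R)) := by
    rw [mem_range_map_iff_coeffs_subset]
    intro c hc
    rw [Finset.mem_coe, mem_coeffs_iff] at hc
    obtain ⟨d, _, rfl⟩ := hc
    have hcs : (coeff d F₁).IsSymmetric := by
      intro e
      have := congrArg (coeff d) (hinv e)
      rwa [coeff_map] at this
    obtain ⟨q, hq⟩ := exists_aeval_esymm_eq R n hcs
    exact ⟨q, hq⟩
  obtain ⟨F₂, hF₂⟩ := hrange
  refine ⟨E.symm F₂, ?_⟩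
  apply E.injective
  rw [hE, sumAlgEquiv_subst₂, ← hE, AlgEquiv.apply_symm_apply, hF₂, hF₁]

end Groth.Agent.Lib.helper13.SymmUniv
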