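import Groth.Agent.Lib.helper13.UnivIdent
import Groth.Agent.Lib.helper13.SymmExist
import Groth.Agent.Lib.helper13.NewtonWeight
import Groth.Agent.Lib.helper13.SpecialOfAdams

/-!
Existence of the universal polynomials `P_n` and `Q_{i,j}` (helper13's helper library).
-/

set_option autoImplicit false

namespace Groth.Agent.Lib.helper13.PolyExist

open LambdaRing MvPolynomial Finset
open Groth.Agent.Lib.helper13.Newton Groth.Agent.Lib.helper13.SymmUniv
  Groth.Agent.Lib.helper13.UnivIdent Groth.Agent.Lib.helper13.SpecialOfAdams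

theorem IsWeightedHomogeneous.of_eq {σ R M : Type*} [CommSemiring R] [AddCommMonoid M] {w : σ → M}
    {φ : MvPolynomial σ R} {m m' : M} (h : IsWeightedHomogeneous w φ m) (e : m = m') :
    IsWeightedHomogeneous w φ m' := e ▸ h

section Mul

variable (n : ℕ)

theorem rename_left_mulGen (k : ℕ) (e : Equiv.Perm (Fin n)) :
    rename (Sum.map e id) (mulGen n k) = mulGen n k := by
  rw [mulGen_eq, comp_aeval_apply]
  have h : (fun ab => rename (Sum.map e id) (TU n ℤ ab)) =
      (TU n ℤ) ∘ (Equiv.prodCongr e (Equiv.refl (Fin n))) := by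
    funext ab
    simp [TU]
  rw [h, ← aeval_rename, rename_esymm]

theorem rename_right_mulGen (k : ℕ) (e : Equiv.Perm (Fin n)) :
    rename (Sum.map id e) (mulGen n k) = mulGen n k := by
  rw [mulGen_eq, comp_aeval_apply]
  have h : (fun ab => rename (Sum.map id e) (TU n ℤ ab)) =
      (TU n ℤ) ∘ (Equiv.prodCongr (Equiv.refl (Fin n)) e) := by
    funext ab
    simp [TU]
  rw [h, ← aeval_rename, rename_esymm]

theorem isWeightedHomogeneous_tvL (i : ℕ) :
    IsWeightedHomogeneous
      (Sum.elim (fun k : Fin n => (((k : ℕ) + 1, 0) : ℕ × ℕ)) (fun k : Fin n => ((0, (k : ℕ) + 1) : ℕ × ℕ)))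
      (tvL n i) ((fun i : ℕ => i + 1) i • ((1, 0) : ℕ × ℕ)) := by
  unfold tvL
  split_ifs with h
  · refine IsWeightedHomogeneous.of_eq (isWeightedHomogeneous_X ℚ _ _) ?_
    simp
  · exact isWeightedHomogeneous_zero ℚ _ _

theorem isWeightedHomogeneous_tvR (i : ℕ) :
    IsWeightedHomogeneous
      (Sum.elim (fun k : Fin n => (((k : ℕ) + 1, 0) : ℕ × ℕ)) (fun k : Fin n => ((0, (k : ℕ) + 1) : ℕ × ℕ)))
      (tvR n i) ((fun i : ℕ => i + 1) i • ((0, 1) : ℕ × ℕ)) := by
  unfold tvR
  split_ifs with h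
  · refine IsWeightedHomogeneous.of_eq (isWeightedHomogeneous_X ℚ _ _) ?_
    simp
  · exact isWeightedHomogeneous_zero ℚ _ _

/-- Existence of the universal polynomial `P_n`. -/
theorem exists_isMulPoly : ∃ P : MvPolynomial (Fin n ⊕ Fin n) ℤ, IsMulPoly n P := by
  rcases n with _ | m
  · refine ⟨1, ?_, ?_⟩
    · rw [map_one, mulGen_zero]
    · exact isWeightedHomogeneous_one ℤ _
  · obtain ⟨P, hP⟩ := exists_subst₂_eq ℤ (m + 1) (rename_left_mulGen (m + 1) (m + 1))
      (rename_right_mulGen (m + 1) (m + 1))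
    refine ⟨P, hP, ?_⟩
    apply isWeightedHomogeneous_of_map
    rw [UI₂ m P hP]
    refine IsWeightedHomogeneous.of_eq (isWeightedHomogeneous_aeval (isWeightedHomogeneous_epsP m)
      (fun j => aeval (tvL (m + 1)) (nuP j) * aeval (tvR (m + 1)) (nuP j)) ((1, 1) : ℕ × ℕ)
      (fun j => ?_)) ?_
    · have hL := isWeightedHomogeneous_aeval (isWeightedHomogeneous_nuP j) (tvL (m + 1))
        ((1, 0) : ℕ × ℕ) (isWeightedHomogeneous_tvL (m + 1))
      have hR := isWeightedHomogeneous_aeval (isWeightedHomogeneous_nuP j) (tvR (m + 1))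
        ((0, 1) : ℕ × ℕ) (isWeightedHomogeneous_tvR (m + 1))
      refine IsWeightedHomogeneous.of_eq (hL.mul hR) ?_
      simp
    · simp

end Mul

section Comp

variable (N : ℕ)

theorem rename_compGen (i j : ℕ) (e : Equiv.Perm (Fin N)) :
    rename e (compGen N i j) = compGen N i j := by
  rw [compGen_eq, comp_aeval_apply]
  let π : ↥(powersetCard i (univ : Finset (Fin N))) ≃ ↥(powersetCard i (univ : Finset (Fin N))) :=
    (Equiv.finsetCongr e).subtypeEquiv (fun s => by simp [Finset.mem_powersetCard])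
  have h : (fun s => rename e (PI N ℤ i s)) = (PI N ℤ i) ∘ π := by
    funext s
    simp [PI, π, Finset.prod_map]
  rw [h, ← aeval_rename, rename_esymm]

theorem isWeightedHomogeneous_tv (i : ℕ) :
    IsWeightedHomogeneous (fun k : Fin N => (k : ℕ) + 1) (tv N i) ((fun i : ℕ => i + 1) i • 1) := by
  unfold tv
  split_ifs with h
  · refine IsWeightedHomogeneous.of_eq (isWeightedHomogeneous_X ℚ _ _) ?_
    simp
  · exact isWeightedHomogeneous_zero ℚ _ _

end Comp

/-- Existence of the universal polynomial `Q_{i,j}`. -/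
theorem exists_isCompPoly (i j : ℕ) : ∃ Q : MvPolynomial (Fin (i * j)) ℤ, IsCompPoly i j Q := by
  rcases j with _ | j'
  · refine ⟨1, ?_, ?_⟩
    · rw [map_one, compGen_zero_right]
    · exact isWeightedHomogeneous_one ℤ _
  rcases i with _ | i'
  · refine ⟨if j' = 0 then 1 else 0, ?_, ?_⟩
    · rw [compGen_zero_left]
      split_ifs <;> simp
    · rw [Nat.zero_mul]
      split_ifs
      · exact isWeightedHomogeneous_one ℤ _
      · exact isWeightedHomogeneous_zero ℤ _ _
  · obtain ⟨Q, hQ⟩ := exists_aeval_esymm_eq ℤ ((i' + 1) * (j' + 1))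
      (f := compGen ((i' + 1) * (j' + 1)) (i' + 1) (j' + 1))
      (fun e => rename_compGen _ _ _ e)
    refine ⟨Q, hQ, ?_⟩
    apply isWeightedHomogeneous_of_map
    rw [UI₁ i' j' Q hQ]
    refine IsWeightedHomogeneous.of_eq (isWeightedHomogeneous_aeval (isWeightedHomogeneous_epsP j')
      _ (i' + 1) (fun m => ?_)) ?_
    · refine IsWeightedHomogeneous.of_eq (isWeightedHomogeneous_aeval (isWeightedHomogeneous_epsP i')
        _ (m + 1) (fun l => ?_)) ?_
      · refine IsWeightedHomogeneous.of_eq (isWeightedHomogeneous_aeval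
          (isWeightedHomogeneous_nuP ((m + 1) * (l + 1) - 1)) _ 1
          (isWeightedHomogeneous_tv ((i' + 1) * (j' + 1)))) ?_
        have h2 : 0 < (m + 1) * (l + 1) := Nat.mul_pos (Nat.succ_pos m) (Nat.succ_pos l)
        simp only [smul_eq_mul, mul_one]
        rw [Nat.sub_add_cancel h2, mul_comm]
      · simp only [smul_eq_mul]
        exact mul_comm _ _
    · simp only [smul_eq_mul]
      exact mul_comm _ _

end Groth.Agent.Lib.helper13.PolyExist
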