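import Mathlib

/-!
# `λ^(p^n) ∣ x^(p^n) - 1 ↔ λ ∣ x - 1` in integrally closed domains (helper13)
-/

set_option autoImplicit false

namespace Groth.Agent.Lib.helper13.PowDvd

open Polynomial

lemma step_up {A : Type*} [CommRing A] {p : ℕ} (hp : p.Prime) {μ c z : A}
    (hc : (p : A) = μ ^ (p - 1) * c) (h : μ ∣ z - 1) : μ ^ p ∣ z ^ p - 1 := by
  obtain ⟨w, hw⟩ := h
  have hz : z = μ * w + 1 := by rw [← hw]; ring
  obtain ⟨r, hr⟩ := exists_add_pow_prime_eq hp (μ * w) 1
  obtain ⟨q, rfl⟩ : ∃ q, p = q + 1 := ⟨p - 1, (Nat.sub_add_cancel hp.one_le).symm⟩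
  simp only [Nat.add_sub_cancel] at hc
  refine ⟨w ^ (q + 1) + c * w * r, ?_⟩
  rw [hz, hr, hc]; ring

lemma step_down {A : Type*} [CommRing A] [IsDomain A] [IsIntegrallyClosed A] {p : ℕ}
    (hp : p.Prime) {μ c z : A} (hμ : μ ≠ 0) (hc : (p : A) = μ ^ (p - 1) * c)
    (h : μ ^ p ∣ z ^ p - 1) : μ ∣ z - 1 := by
  obtain ⟨a, ha⟩ := h
  have hq1 : 2 ≤ p := hp.two_le
  obtain ⟨q, rfl⟩ : ∃ q, p = q + 1 := ⟨p - 1, (Nat.sub_add_cancel hp.one_le).symm⟩
  simp only [Nat.add_sub_cancel] at hc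
  set φ := algebraMap A (FractionRing A) with hφ
  have hφμ : φ μ ≠ 0 :=
    (map_ne_zero_iff φ (IsFractionRing.injective A (FractionRing A))).mpr hμ
  set y : FractionRing A := φ (z - 1) / φ μ with hy
  have hμy : φ μ * y = φ z - 1 := by rw [hy, mul_div_cancel₀ _ hφμ, map_sub, map_one]
  set t : A[X] := C μ * X with ht
  set r : A[X] := ∑ k ∈ Finset.Ioo 0 (q + 1),
    t ^ (k - 1) * 1 ^ (q + 1 - k - 1) * (((q + 1).choose k / (q + 1) : ℕ) : A[X]) with hr
  have hid : (t + 1) ^ (q + 1) = t ^ (q + 1) + 1 ^ (q + 1) + ((q + 1 : ℕ) : A[X]) * t * 1 * r :=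
    add_pow_prime_eq hp t 1
  have hdeg : r.natDegree ≤ q - 1 := by
    refine natDegree_sum_le_of_forall_le _ _ fun k hk => ?_
    rw [Finset.mem_Ioo] at hk
    rw [one_pow, mul_one]
    calc (t ^ (k - 1) * (((q + 1).choose k / (q + 1) : ℕ) : A[X])).natDegree
        ≤ (t ^ (k - 1)).natDegree + (((q + 1).choose k / (q + 1) : ℕ) : A[X]).natDegree :=
          natDegree_mul_le
      _ ≤ (k - 1) * t.natDegree + 0 := by
          refine add_le_add natDegree_pow_le ?_
          rw [natDegree_natCast]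
      _ ≤ (k - 1) * 1 + 0 := by
          have : t.natDegree ≤ 1 := by
            rw [ht]; exact (natDegree_C_mul_le _ _).trans natDegree_X_le
          gcongr
      _ ≤ q - 1 := by omega
  set P : A[X] := X ^ (q + 1) + (C c * X * r - C a) with hP
  have hmonic : P.Monic := by
    refine monic_X_pow_add ?_
    refine lt_of_le_of_lt (degree_le_natDegree) ?_
    have h1 : (C c * X * r - C a).natDegree ≤ q := by
      refine (natDegree_sub_le _ _).trans (max_le ?_ ?_)
      · calc (C c * X * r).natDegree ≤ (C c * X).natDegree + r.natDegree := natDegree_mul_le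
          _ ≤ 1 + (q - 1) :=
            add_le_add ((natDegree_C_mul_le _ _).trans natDegree_X_le) hdeg
          _ ≤ q := by omega
      · rw [natDegree_C]; exact Nat.zero_le _
    exact_mod_cast Nat.lt_succ_of_le h1
  set Rv : FractionRing A := eval₂ φ y r with hRv
  have e1 : (φ μ * y + 1) ^ (q + 1) =
      (φ μ * y) ^ (q + 1) + 1 + ((q + 1 : ℕ) : FractionRing A) * (φ μ * y) * 1 * Rv := by
    have := congrArg (eval₂ φ y) hid
    simpa [ht, eval₂_add, eval₂_mul, eval₂_pow, eval₂_C, eval₂_X, eval₂_one, eval₂_natCast]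
      using this
  have e1' : φ z ^ (q + 1) =
      (φ μ * y) ^ (q + 1) + 1 + ((q + 1 : ℕ) : FractionRing A) * (φ μ * y) * 1 * Rv := by
    have h2 : φ μ * y + 1 = φ z := by rw [hμy]; ring
    rw [h2] at e1; exact e1
  have e2 : φ z ^ (q + 1) - 1 = φ μ ^ (q + 1) * φ a := by
    have := congrArg φ ha
    simpa using this
  have e3 : ((q + 1 : ℕ) : FractionRing A) = φ μ ^ q * φ c := by
    have := congrArg φ hc
    simpa using this
  have heval : eval₂ φ y P = 0 := by
    have h3 : φ μ ^ (q + 1) * eval₂ φ y P = 0 := by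
      rw [hP]
      simp only [eval₂_add, eval₂_sub, eval₂_mul, eval₂_pow, eval₂_C, eval₂_X, ← hRv]
      linear_combination (-1) * e1' + e2 - (φ μ * y * Rv) * e3
    rcases mul_eq_zero.mp h3 with h4 | h4
    · exact absurd (pow_eq_zero_iff (Nat.succ_ne_zero q) |>.mp h4) hφμ
    · exact h4
  have hint : IsIntegral A y := ⟨P, hmonic, heval⟩
  obtain ⟨b, hb⟩ := IsIntegrallyClosed.isIntegral_iff.mp hint
  refine ⟨b, ?_⟩
  apply IsFractionRing.injective A (FractionRing A)
  change φ (z - 1) = φ (μ * b)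
  rw [map_mul, hb, hμy, map_sub, map_one]

theorem main {A : Type*} [CommRing A] [IsDomain A] [IsIntegrallyClosed A] {p n : ℕ}
    (hp : p.Prime) (hn : 1 ≤ n) {l : A} (hl : l ≠ 0)
    (hstar : l ^ (p ^ (n - 1) * (p - 1)) ∣ (p : A)) (x : A) :
    (l ^ p ^ n ∣ x ^ p ^ n - 1) ↔ (l ∣ x - 1) := by
  have key : ∀ j, j ≤ n → ((l ^ p ^ j ∣ x ^ p ^ j - 1) ↔ (l ∣ x - 1)) := by
    intro j
    induction j with
    | zero => intro _; simp
    | succ j ih =>
      intro hj
      have hle : p ^ j * (p - 1) ≤ p ^ (n - 1) * (p - 1) :=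
        Nat.mul_le_mul_right _ (Nat.pow_le_pow_right hp.pos (by omega))
      obtain ⟨c, hc⟩ : (l ^ p ^ j) ^ (p - 1) ∣ (p : A) := by
        rw [← pow_mul]; exact (pow_dvd_pow l hle).trans hstar
      have hμ : l ^ p ^ j ≠ 0 := pow_ne_zero _ hl
      rw [← ih (by omega), pow_succ, pow_mul, pow_mul]
      exact ⟨step_down hp hμ hc, step_up hp hc⟩
  exact key n le_rfl

end Groth.Agent.Lib.helper13.PowDvd
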