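import Mathlib

/-!
# Bounded power sums force `‖β i‖ ≤ 1`

If `β : ι → ℂ` (finite index) has `‖∑ i, β i ^ r‖ ≤ C` for all `r ≥ 1`, then `‖β i‖ ≤ 1` for all
`i`.  Proof: group equal values, invert a Vandermonde matrix.
-/

namespace Groth.Agent.Lib.helper13.PowerSumBound

open Finset

theorem norm_le_one_of_bounded {ι : Type*} [Fintype ι] (β : ι → ℂ) (C : ℝ)
    (hC : ∀ r : ℕ, 1 ≤ r → ‖∑ i, β i ^ r‖ ≤ C) (i : ι) : ‖β i‖ ≤ 1 := by
  classical
  set S : Finset ℂ := Finset.univ.image β with hS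
  let e : Fin S.card ≃ S := S.equivFin.symm
  let γ : Fin S.card → ℂ := fun j => (e j : ℂ)
  have hγ : Function.Injective γ := Subtype.val_injective.comp e.injective
  let m : Fin S.card → ℕ := fun j => (Finset.univ.filter (fun i => β i = γ j)).card
  have hp : ∀ r : ℕ, ∑ i, β i ^ r = ∑ j, (m j : ℂ) * γ j ^ r := by
    intro r
    rw [Finset.sum_comp (fun x => x ^ r) β]
    rw [← Finset.sum_coe_sort (Finset.univ.image β)]
    rw [← Equiv.sum_comp e]
    apply Finset.sum_congr rfl
    intro j _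
    simp only [nsmul_eq_mul]
    rfl
  -- Vandermonde
  set V : Matrix (Fin S.card) (Fin S.card) ℂ := Matrix.vandermonde γ with hV
  have hdet : V.det ≠ 0 := Matrix.det_vandermonde_ne_zero_iff.mpr hγ
  set W := V⁻¹ with hW
  have hVW : V * W = 1 := Matrix.mul_nonsing_inv V (isUnit_iff_ne_zero.mpr hdet)
  have hx : ∀ (r : ℕ) (j : Fin S.card),
      (m j : ℂ) * γ j ^ r = ∑ l : Fin S.card, (∑ i, β i ^ (r + (l : ℕ))) * W l j := by
    intro r j
    have h1 : ∀ l : Fin S.card, (∑ i, β i ^ (r + (l : ℕ))) =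
        ∑ j' : Fin S.card, ((m j' : ℂ) * γ j' ^ r) * V j' l := by
      intro l
      rw [hp]
      apply Finset.sum_congr rfl
      intro j' _
      rw [hV, Matrix.vandermonde_apply, pow_add, mul_assoc]
    calc (m j : ℂ) * γ j ^ r
        = ∑ j' : Fin S.card, ((m j' : ℂ) * γ j' ^ r) * (V * W) j' j := by
          rw [hVW]
          simp [Matrix.one_apply]
      _ = ∑ j' : Fin S.card, ∑ l : Fin S.card, ((m j' : ℂ) * γ j' ^ r) * V j' l * W l j := by
          apply Finset.sum_congr rfl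
          intro j' _
          rw [Matrix.mul_apply, Finset.mul_sum]
          apply Finset.sum_congr rfl
          intro l _
          ring
      _ = ∑ l : Fin S.card, ∑ j' : Fin S.card, ((m j' : ℂ) * γ j' ^ r) * V j' l * W l j :=
          Finset.sum_comm
      _ = ∑ l : Fin S.card, (∑ i, β i ^ (r + (l : ℕ))) * W l j := by
          apply Finset.sum_congr rfl
          intro l _
          rw [h1 l, Finset.sum_mul]
  -- the index of `β i`
  have hmem : β i ∈ S := Finset.mem_image_of_mem β (Finset.mem_univ i)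
  obtain ⟨j, hj⟩ : ∃ j, γ j = β i := ⟨e.symm ⟨β i, hmem⟩, by simp [γ]⟩
  have hmj : 1 ≤ m j := by
    apply Finset.card_pos.mpr
    exact ⟨i, by simp [hj]⟩
  set C' : ℝ := ∑ l : Fin S.card, C * ‖W l j‖ with hC'
  have hbound : ∀ r : ℕ, 1 ≤ r → ‖β i‖ ^ r ≤ C' := by
    intro r hr
    have h2 : ‖(m j : ℂ) * γ j ^ r‖ ≤ C' := by
      rw [hx r j]
      refine (norm_sum_le _ _).trans ?_
      apply Finset.sum_le_sum
      intro l _
      rw [norm_mul]
      exact mul_le_mul_of_nonneg_right (hC _ (by omega)) (norm_nonneg _)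
    rw [norm_mul, norm_pow, hj, Complex.norm_natCast] at h2
    have h3 : (1 : ℝ) ≤ (m j : ℝ) := by exact_mod_cast hmj
    calc ‖β i‖ ^ r = 1 * ‖β i‖ ^ r := (one_mul _).symm
      _ ≤ (m j : ℝ) * ‖β i‖ ^ r := mul_le_mul_of_nonneg_right h3 (by positivity)
      _ ≤ C' := h2
  by_contra hlt
  push Not at hlt
  have ht := tendsto_pow_atTop_atTop_of_one_lt hlt
  obtain ⟨r, hr1, hr2⟩ := ((ht.eventually_gt_atTop C').and (Filter.eventually_ge_atTop 1)).exists
  exact absurd (hbound r hr2) (not_le.mpr hr1)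

end Groth.Agent.Lib.helper13.PowerSumBound
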