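import Mathlib

/-!
# Profinite completion of abelian groups: right exactness and an injectivity criterion
-/

namespace Groth.Agent.Lib.helper13.ProfComp

open CategoryTheory ProfiniteGrp ProfiniteGrp.ProfiniteCompletion

universe u
variable {G G' : Type u} [Group G] [Group G'] (f : G →* G')

theorem cmap_eta (g : G) : (profiniteCompletion.map (GrpCat.ofHom f)).hom (etaFn (GrpCat.of G) g) = etaFn (GrpCat.of G') (f g) := by
  have := lift_eta (GrpCat.ofHom f ≫ eta (GrpCat.of G'))
  exact ConcreteCategory.congr_hom this g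

theorem continuous_val (K : FiniteIndexNormalSubgroup G) :
    Continuous (fun x : completion (GrpCat.of G) => x.val K) :=
  (continuous_apply K).comp continuous_subtype_val

instance (K : FiniteIndexNormalSubgroup G) :
    DiscreteTopology ((ProfiniteCompletion.diagram (GrpCat.of G)).obj K) := ⟨rfl⟩

/-- the map on quotients -/
def qmap (K : FiniteIndexNormalSubgroup G') :
    (ProfiniteCompletion.diagram (GrpCat.of G)).obj (K.comap f) →
      (ProfiniteCompletion.diagram (GrpCat.of G')).obj K :=
  QuotientGroup.map (K.comap f).toSubgroup K.toSubgroup f (le_refl _)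

theorem component (x : completion (GrpCat.of G)) (K : FiniteIndexNormalSubgroup G') :
    ((profiniteCompletion.map (GrpCat.ofHom f)).hom x).val K = qmap f K (x.val (K.comap f)) := by
  have h1 : Continuous (fun x : completion (GrpCat.of G) =>
      ((profiniteCompletion.map (GrpCat.ofHom f)).hom x).val K) :=
    (continuous_val K).comp (profiniteCompletion.map (GrpCat.ofHom f)).hom.continuous_toFun
  have h2 : Continuous (fun x : completion (GrpCat.of G) => qmap f K (x.val (K.comap f))) := by
    refine Continuous.comp ?_ (continuous_val (K.comap f))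
    exact continuous_of_discreteTopology
  have := (denseRange (GrpCat.of G)).equalizer h1 h2 (funext fun g => by
    simp only [Function.comp_apply]
    rw [cmap_eta]
    rfl)
  exact congrFun this x

theorem compat (y : completion (GrpCat.of G)) {K1 K2 : FiniteIndexNormalSubgroup G} (h : K1 ≤ K2) :
    QuotientGroup.map K1.toSubgroup K2.toSubgroup (MonoidHom.id G) h (y.val K1) = y.val K2 :=
  y.property (homOfLE h)

instance : Nonempty (FiniteIndexNormalSubgroup G) := ⟨FiniteIndexNormalSubgroup.ofSubgroup ⊤⟩

theorem mem_range_of_forall (z : completion (GrpCat.of G'))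
    (h : ∀ K : FiniteIndexNormalSubgroup G', ∃ g : G, (QuotientGroup.mk (f g) : G' ⧸ K.toSubgroup) = z.val K) :
    z ∈ Set.range (profiniteCompletion.map (GrpCat.ofHom f)).hom := by
  set F := (profiniteCompletion.map (GrpCat.ofHom f)).hom with hF
  let S : FiniteIndexNormalSubgroup G' → Set (completion (GrpCat.of G)) :=
    fun K => {x | (F x).val K = z.val K}
  have hdir : Directed (· ⊇ ·) S := by
    intro K1 K2
    refine ⟨K1 ⊓ K2, ?_, ?_⟩
    · intro x hx
      show (F x).val K1 = z.val K1
      rw [← compat (F x) (inf_le_left : K1 ⊓ K2 ≤ K1), ← compat z (inf_le_left : K1 ⊓ K2 ≤ K1)]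
      exact congrArg _ hx
    · intro x hx
      show (F x).val K2 = z.val K2
      rw [← compat (F x) (inf_le_right : K1 ⊓ K2 ≤ K2), ← compat z (inf_le_right : K1 ⊓ K2 ≤ K2)]
      exact congrArg _ hx
  have hne : ∀ K, (S K).Nonempty := by
    intro K
    obtain ⟨g, hg⟩ := h K
    refine ⟨etaFn (GrpCat.of G) g, ?_⟩
    show (F (etaFn (GrpCat.of G) g)).val K = z.val K
    rw [hF, cmap_eta, ← hg]
    rfl
  have hcl : ∀ K, IsClosed (S K) := by
    intro K
    have h1 : Continuous (fun x : completion (GrpCat.of G) => (F x).val K) :=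
      (continuous_val K).comp F.continuous_toFun
    exact isClosed_singleton.preimage h1
  obtain ⟨x, hx⟩ := IsCompact.nonempty_iInter_of_directed_nonempty_isCompact_isClosed S hdir hne
    (fun K => (hcl K).isCompact) hcl
  refine ⟨x, ?_⟩
  apply Subtype.ext
  funext K
  exact Set.mem_iInter.mp hx K

section rightExact

variable {A : Type u} [CommGroup A] (A' : Subgroup A)

theorem surjective_quot :
    Function.Surjective (profiniteCompletion.map (GrpCat.ofHom (QuotientGroup.mk' A'))).hom := by
  intro z
  apply mem_range_of_forall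
  intro K
  obtain ⟨q, hq⟩ := QuotientGroup.mk_surjective (z.val K)
  obtain ⟨a, ha⟩ := QuotientGroup.mk_surjective q
  exact ⟨a, by rw [← hq, ← ha]; rfl⟩

theorem comp_eq_one (y : completion (GrpCat.of A')) :
    (profiniteCompletion.map (GrpCat.ofHom (QuotientGroup.mk' A'))).hom
      ((profiniteCompletion.map (GrpCat.ofHom A'.subtype)).hom y) = 1 := by
  apply Subtype.ext
  funext K
  rw [component, component]
  obtain ⟨a', ha'⟩ := QuotientGroup.mk_surjective
    (y.val ((K.comap (QuotientGroup.mk' A')).comap A'.subtype))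
  rw [← ha']
  show (QuotientGroup.mk (QuotientGroup.mk' A' (A'.subtype a')) : (A ⧸ A') ⧸ K.toSubgroup) = 1
  have : QuotientGroup.mk' A' (A'.subtype a') = 1 := by
    rw [QuotientGroup.mk'_apply, QuotientGroup.eq_one_iff]
    exact a'.2
  rw [this]
  rfl

theorem ker_le_range (x : completion (GrpCat.of A))
    (hx : (profiniteCompletion.map (GrpCat.ofHom (QuotientGroup.mk' A'))).hom x = 1) :
    x ∈ Set.range (profiniteCompletion.map (GrpCat.ofHom A'.subtype)).hom := by
  apply mem_range_of_forall
  intro M
  have hfi : (M.toSubgroup.map (QuotientGroup.mk' A')).FiniteIndex := by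
    constructor
    intro h0
    have := Subgroup.index_map_dvd M.toSubgroup (QuotientGroup.mk'_surjective A')
    rw [h0, zero_dvd_iff] at this
    exact Subgroup.FiniteIndex.index_ne_zero this
  let K' : FiniteIndexNormalSubgroup (A ⧸ A') :=
    FiniteIndexNormalSubgroup.ofSubgroup (M.toSubgroup.map (QuotientGroup.mk' A'))
  have hle : M ≤ K'.comap (QuotientGroup.mk' A') := by
    intro m hm
    exact Subgroup.mem_map_of_mem _ hm
  have h1 := component (QuotientGroup.mk' A') x K'
  rw [hx] at h1
  obtain ⟨a, ha⟩ := QuotientGroup.mk_surjective (x.val M)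
  have h2 := compat x hle
  rw [← ha] at h2
  rw [← h2] at h1
  have h3 : (QuotientGroup.mk (QuotientGroup.mk' A' a) : (A ⧸ A') ⧸ K'.toSubgroup) = 1 := h1.symm
  rw [QuotientGroup.eq_one_iff] at h3
  obtain ⟨m, hm, hma⟩ := Subgroup.mem_map.mp h3
  have hmem : a * m⁻¹ ∈ A' := by
    rw [← QuotientGroup.eq_one_iff, QuotientGroup.mk_mul, QuotientGroup.mk_inv]
    rw [QuotientGroup.mk'_apply, QuotientGroup.mk'_apply] at hma
    rw [hma, mul_inv_cancel]
  refine ⟨⟨a * m⁻¹, hmem⟩, ?_⟩
  rw [← ha]
  show (QuotientGroup.mk (a * m⁻¹) : A ⧸ M.toSubgroup) = QuotientGroup.mk a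
  rw [QuotientGroup.eq]
  have : (a * m⁻¹)⁻¹ * a = m := by group
  rw [this]
  exact hm

theorem right_exact :
    Function.Surjective (profiniteCompletion.map (GrpCat.ofHom (QuotientGroup.mk' A'))).hom ∧
      (profiniteCompletion.map (GrpCat.ofHom (QuotientGroup.mk' A'))).hom.toMonoidHom.ker =
        (profiniteCompletion.map (GrpCat.ofHom A'.subtype)).hom.toMonoidHom.range := by
  refine ⟨surjective_quot A', ?_⟩
  ext x
  rw [MonoidHom.mem_ker, MonoidHom.mem_range]
  constructor
  · intro hx
    exact ker_le_range A' x hx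
  · rintro ⟨y, rfl⟩
    exact comp_eq_one A' y

end rightExact

end Groth.Agent.Lib.helper13.ProfComp
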