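import Mathlib
import Groth.Agent.Lib.helper13.ProfComp

/-!
# Profinite completion of abelian groups: an injectivity criterion
-/

namespace Groth.Agent.Lib.helper13.ProfComp

open CategoryTheory ProfiniteGrp ProfiniteGrp.ProfiniteCompletion

universe u

section separation

variable {A : Type u} [CommGroup A]

/-- an element outside a subgroup `D` containing all `n`-th powers is separated from `D` by a
subgroup of finite index -/
theorem exists_finiteIndex_not_mem (D : Subgroup A) (n : ℕ) (hn : 0 < n)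
    (hpow : ∀ a : A, a ^ n ∈ D) (a : A) (ha : a ∉ D) :
    ∃ H : Subgroup A, H.FiniteIndex ∧ D ≤ H ∧ a ∉ H := by
  have hc : Additive.ofMul (QuotientGroup.mk a : A ⧸ D) ≠ 0 := by
    intro h0
    apply ha
    rw [← QuotientGroup.eq_one_iff]
    exact h0
  obtain ⟨χ, hχ⟩ := CharacterModule.exists_character_apply_ne_zero_of_ne_zero hc
  let χ' : Additive (A ⧸ D) →+ AddCircle (1 : ℚ) := χ
  let ψ : A →* Multiplicative (AddCircle (1 : ℚ)) :=
    (AddMonoidHom.toMultiplicativeRight χ').comp (QuotientGroup.mk' D)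
  have hψ : ∀ b : A, ψ b = Multiplicative.ofAdd (χ' (Additive.ofMul (QuotientGroup.mk b))) :=
    fun b => rfl
  have hD : ∀ d ∈ D, ψ d = 1 := by
    intro d hd
    rw [hψ]
    have : (QuotientGroup.mk d : A ⧸ D) = 1 := (QuotientGroup.eq_one_iff d).mpr hd
    rw [this]
    simp
  have hfin : (ψ.range : Set (Multiplicative (AddCircle (1 : ℚ)))).Finite := by
    have h1 : ({u : AddCircle (1 : ℚ) | n • u = 0}).Finite := AddCircle.finite_torsion (1 : ℚ) hn
    have h2 : (ψ.range : Set (Multiplicative (AddCircle (1 : ℚ)))) ⊆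
        Multiplicative.toAdd ⁻¹' {u : AddCircle (1 : ℚ) | n • u = 0} := by
      rintro y ⟨b, rfl⟩
      show n • Multiplicative.toAdd (ψ b) = 0
      have h3 : ψ b ^ n = 1 := by rw [← map_pow]; exact hD _ (hpow b)
      have := congrArg Multiplicative.toAdd h3
      simpa using this
    exact (h1.preimage (Multiplicative.toAdd.injective.injOn)).subset h2
  have : Finite ψ.range := hfin.to_subtype
  refine ⟨ψ.ker, Subgroup.finiteIndex_ker ψ, ?_, ?_⟩
  · intro d hd
    exact MonoidHom.mem_ker.mpr (hD d hd)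
  · intro hmem
    rw [MonoidHom.mem_ker, hψ] at hmem
    apply hχ
    have := congrArg Multiplicative.toAdd hmem
    have h2 : χ' (Additive.ofMul (QuotientGroup.mk a)) = 0 := by simpa using this
    exact h2

end separation

section injective

variable {A : Type u} [CommGroup A] (A' : Subgroup A)

theorem exists_finiteIndex_comap_le
    (htors : ∃ N : ℕ, 0 < N ∧ ∀ x : A ⧸ A', IsOfFinOrder x → x ^ N = 1)
    (H' : FiniteIndexNormalSubgroup A') :
    ∃ H : FiniteIndexNormalSubgroup A, H.comap A'.subtype ≤ H' := by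
  classical
  obtain ⟨N, hN, htors⟩ := htors
  set m := H'.toSubgroup.index with hm
  have hm0 : 0 < m := Nat.pos_of_ne_zero Subgroup.FiniteIndex.index_ne_zero
  set n₀ := N * m with hn₀
  have hn₀pos : 0 < n₀ := Nat.mul_pos hN hm0
  set D : Subgroup A := (powMonoidHom n₀ : A →* A).range ⊔ H'.toSubgroup.map A'.subtype with hD
  have hpow : ∀ a : A, a ^ n₀ ∈ D := fun a =>
    (le_sup_left : (powMonoidHom n₀ : A →* A).range ≤ D) ⟨a, rfl⟩
  have hH'D : ∀ h' ∈ H', (h' : A) ∈ D := fun h' hh' =>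
    (le_sup_right : H'.toSubgroup.map A'.subtype ≤ D) (Subgroup.mem_map_of_mem _ hh')
  have hDH' : ∀ a' : A', (a' : A) ∈ D → a' ∈ H' := by
    intro a' ha'
    rw [hD, Subgroup.mem_sup] at ha'
    obtain ⟨y, ⟨a, rfl⟩, z, hz, hyz⟩ := ha'
    obtain ⟨h', hh', rfl⟩ := Subgroup.mem_map.mp hz
    have hmem : a ^ n₀ ∈ A' := by
      have : a ^ n₀ = (a' : A) * ((h' : A))⁻¹ := by
        rw [← hyz]
        simp
      rw [this]
      exact A'.mul_mem a'.2 (A'.inv_mem h'.2)
    have hfin : IsOfFinOrder (QuotientGroup.mk a : A ⧸ A') := by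
      rw [isOfFinOrder_iff_pow_eq_one]
      refine ⟨n₀, hn₀pos, ?_⟩
      rw [← QuotientGroup.mk_pow, QuotientGroup.eq_one_iff]
      exact hmem
    have hN' : a ^ N ∈ A' := by
      have := htors _ hfin
      rw [← QuotientGroup.mk_pow, QuotientGroup.eq_one_iff] at this
      exact this
    have hb : (⟨a ^ N, hN'⟩ : A') ^ m ∈ H'.toSubgroup := Subgroup.pow_index_mem _ _
    have heq : a' = (⟨a ^ N, hN'⟩ : A') ^ m * h' := by
      apply Subtype.ext
      rw [← hyz]
      simp [hn₀, pow_mul]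
    rw [heq]
    exact H'.toSubgroup.mul_mem hb hh'
  -- separating subgroups
  have hsep : ∀ q : A' ⧸ H'.toSubgroup, ∃ Hq : Subgroup A, Hq.FiniteIndex ∧ D ≤ Hq ∧
      (q ≠ 1 → ((Quotient.out q : A') : A) ∉ Hq) := by
    intro q
    by_cases hq : q = 1
    · exact ⟨⊤, inferInstance, le_top, fun h => absurd hq h⟩
    · have hnot : ((Quotient.out q : A') : A) ∉ D := by
        intro hmem
        apply hq
        have := hDH' _ hmem
        rw [← QuotientGroup.out_eq' q, QuotientGroup.eq_one_iff]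
        exact this
      obtain ⟨Hq, h1, h2, h3⟩ := exists_finiteIndex_not_mem D n₀ hn₀pos hpow _ hnot
      exact ⟨Hq, h1, h2, fun _ => h3⟩
  choose Hq hfi hDle hq using hsep
  haveI : Finite (A' ⧸ H'.toSubgroup) := Subgroup.finite_quotient_of_finiteIndex
  haveI : (⨅ q, Hq q).FiniteIndex := Subgroup.finiteIndex_iInf hfi
  refine ⟨FiniteIndexNormalSubgroup.ofSubgroup (⨅ q, Hq q), ?_⟩
  intro a' ha'
  have ha'' : (a' : A) ∈ ⨅ q, Hq q := ha'
  rw [Subgroup.mem_iInf] at ha''
  by_contra hnot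
  set q : A' ⧸ H'.toSubgroup := QuotientGroup.mk a' with hqdef
  have hq1 : q ≠ 1 := by
    intro h
    rw [hqdef, QuotientGroup.eq_one_iff] at h
    exact hnot h
  have h1 := hq q hq1
  have h2 : (Quotient.out q)⁻¹ * a' ∈ H'.toSubgroup := by
    rw [← QuotientGroup.eq, QuotientGroup.out_eq']
  have h3 : (((Quotient.out q)⁻¹ * a' : A') : A) ∈ Hq q := hDle q (hH'D _ h2)
  apply h1
  have h4 : ((Quotient.out q : A') : A) = (a' : A) * ((((Quotient.out q)⁻¹ * a' : A') : A))⁻¹ := by
    simp
  rw [h4]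
  exact (Hq q).mul_mem (ha'' q) ((Hq q).inv_mem h3)

theorem injective_of_tors
    (htors : ∃ N : ℕ, 0 < N ∧ ∀ x : A ⧸ A', IsOfFinOrder x → x ^ N = 1) :
    Function.Injective (profiniteCompletion.map (GrpCat.ofHom A'.subtype)).hom := by
  rw [injective_iff_map_eq_one]
  intro x hx
  apply Subtype.ext
  funext H'
  obtain ⟨H, hH⟩ := exists_finiteIndex_comap_le A' htors H'
  have h1 := component A'.subtype x H
  rw [hx] at h1
  have h2 : x.val (H.comap A'.subtype) = 1 := by
    obtain ⟨a', ha'⟩ := QuotientGroup.mk_surjective (x.val (H.comap A'.subtype))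
    rw [← ha'] at h1 ⊢
    have h3 : (QuotientGroup.mk (A'.subtype a') : A ⧸ H.toSubgroup) = 1 := h1.symm
    rw [QuotientGroup.eq_one_iff] at h3
    exact (QuotientGroup.eq_one_iff a').mpr h3
  have h4 := compat x hH
  rw [h2] at h4
  rw [← h4]
  exact map_one _

end injective

end Groth.Agent.Lib.helper13.ProfComp
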