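import Mathlib
import Groth.Agent.Lib.helper13.ProfComp

/-!
# Profinite completion of finitely generated abelian groups: subgroups are closed
-/

namespace Groth.Agent.Lib.helper13.ProfComp

open CategoryTheory ProfiniteGrp ProfiniteGrp.ProfiniteCompletion

universe u

section fg

variable {A : Type u} [CommGroup A] [Group.FG A]

theorem isOfFinAddOrder_addCircle_rat (x : AddCircle (1 : ℚ)) : IsOfFinAddOrder x := by
  obtain ⟨r, rfl⟩ := QuotientAddGroup.mk_surjective x
  rw [isOfFinAddOrder_iff_nsmul_eq_zero]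
  refine ⟨r.den, r.den_pos, ?_⟩
  have h1 : (r.den : ℚ) * r = (r.num : ℚ) := by
    rw [mul_comm]; exact Rat.mul_den_eq_num r
  have h2 : r.den • (r : ℚ) = r.num • (1 : ℚ) := by
    rw [nsmul_eq_mul, zsmul_eq_mul, mul_one, h1]
  show r.den • ((r : ℚ) : AddCircle (1 : ℚ)) = 0
  rw [← AddCircle.coe_nsmul, h2, AddCircle.coe_zsmul, AddCircle.coe_period, smul_zero]

/-- in a finitely generated abelian group, an element outside a subgroup `D` is separated from `D`
by a subgroup of finite index -/
theorem exists_finiteIndex_not_mem_of_fg (D : Subgroup A) (a : A) (ha : a ∉ D) :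
    ∃ H : Subgroup A, H.FiniteIndex ∧ D ≤ H ∧ a ∉ H := by
  have hc : Additive.ofMul (QuotientGroup.mk a : A ⧸ D) ≠ 0 := by
    intro h0
    apply ha
    rw [← QuotientGroup.eq_one_iff]
    exact h0
  obtain ⟨χ, hχ⟩ := CharacterModule.exists_character_apply_ne_zero_of_ne_zero hc
  let χ' : Additive (A ⧸ D) →+ AddCircle (1 : ℚ) := χ
  let ψ : A →* Multiplicative (AddCircle (1 : ℚ)) :=
    (AddMonoidHom.toMultiplicativeRight χ').comp (QuotientGroup.mk' D)
  have hψ : ∀ b : A, ψ b = Multiplicative.ofAdd (χ' (Additive.ofMul (QuotientGroup.mk b))) :=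
    fun b => rfl
  have hD : ∀ d ∈ D, ψ d = 1 := by
    intro d hd
    rw [hψ]
    have : (QuotientGroup.mk d : A ⧸ D) = 1 := (QuotientGroup.eq_one_iff d).mpr hd
    rw [this]
    simp
  have htor : IsMulTorsion ψ.range := by
    rintro ⟨y, hy⟩
    have h1 : IsOfFinOrder y := by
      have := isOfFinAddOrder_addCircle_rat (Multiplicative.toAdd y)
      exact isOfFinAddOrder_ofMul_iff.mp this
    exact (Submonoid.isOfFinOrder_coe (H := ψ.range.toSubmonoid) (x := ⟨y, hy⟩)).mp h1
  have : Finite ψ.range := CommGroup.finite_of_fg_isMulTorsion _ htor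
  refine ⟨ψ.ker, Subgroup.finiteIndex_ker ψ, ?_, ?_⟩
  · intro d hd
    exact MonoidHom.mem_ker.mpr (hD d hd)
  · intro hmem
    rw [MonoidHom.mem_ker, hψ] at hmem
    apply hχ
    have := congrArg Multiplicative.toAdd hmem
    have h2 : χ' (Additive.ofMul (QuotientGroup.mk a)) = 0 := by simpa using this
    exact h2

theorem mem_of_eta_mem_range (B : Subgroup A) (x : A)
    (hx : etaFn (GrpCat.of A) x ∈
      Set.range ⇑(profiniteCompletion.map (GrpCat.ofHom B.subtype)).hom) :
    x ∈ B := by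
  by_contra hxB
  obtain ⟨H, hfi, hBH, hxH⟩ := exists_finiteIndex_not_mem_of_fg B x hxB
  let K : FiniteIndexNormalSubgroup A := FiniteIndexNormalSubgroup.ofSubgroup H
  obtain ⟨y, hy⟩ := hx
  have h1 := component B.subtype y K
  rw [hy] at h1
  obtain ⟨b, hb⟩ := QuotientGroup.mk_surjective (y.val (K.comap B.subtype))
  rw [← hb] at h1
  have h2 : (QuotientGroup.mk x : A ⧸ K.toSubgroup) = QuotientGroup.mk (B.subtype b) := h1
  have h3 : (QuotientGroup.mk (B.subtype b) : A ⧸ K.toSubgroup) = 1 :=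
    (QuotientGroup.eq_one_iff _).mpr (hBH b.2)
  rw [h3, QuotientGroup.eq_one_iff] at h2
  exact hxH h2

end fg

end Groth.Agent.Lib.helper13.ProfComp
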