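import Mathlib

/-!
# Collineations from the projective plane over `F_p` to the projective plane over a local ring
-/

namespace Groth.Agent.Lib.helper13.ProjLocal

variable {A : Type*} [CommRing A]

/-- having a unit coordinate -/
def HasUnit (x : Fin 3 → A) : Prop := ∃ i, IsUnit (x i)

/-- equal up to a unit -/
def Par (x y : Fin 3 → A) : Prop := ∃ c : A, IsUnit c ∧ x = c • y

/-- the cross product -/
def cr (a b : Fin 3 → A) : Fin 3 → A :=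
  ![a 1 * b 2 - a 2 * b 1, a 2 * b 0 - a 0 * b 2, a 0 * b 1 - a 1 * b 0]

@[simp] theorem cr_0 (a b : Fin 3 → A) : cr a b 0 = a 1 * b 2 - a 2 * b 1 := rfl
@[simp] theorem cr_1 (a b : Fin 3 → A) : cr a b 1 = a 2 * b 0 - a 0 * b 2 := rfl
@[simp] theorem cr_2 (a b : Fin 3 → A) : cr a b 2 = a 0 * b 1 - a 1 * b 0 := rfl

theorem dot3 (x y : Fin 3 → A) : x ⬝ᵥ y = x 0 * y 0 + x 1 * y 1 + x 2 * y 2 := by
  simp [dotProduct, Fin.sum_univ_three]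

theorem eq_smul_of_perp (a b n : Fin 3 → A) (hab : HasUnit (cr a b))
    (h1 : n ⬝ᵥ a = 0) (h2 : n ⬝ᵥ b = 0) : ∃ s : A, n = s • cr a b := by
  rw [dot3] at h1 h2
  have e01 : n 0 * cr a b 1 = n 1 * cr a b 0 := by
    rw [cr_0, cr_1]
    linear_combination a 2 * h2 - b 2 * h1
  have e12 : n 1 * cr a b 2 = n 2 * cr a b 1 := by
    rw [cr_1, cr_2]
    linear_combination a 0 * h2 - b 0 * h1
  have e20 : n 2 * cr a b 0 = n 0 * cr a b 2 := by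
    rw [cr_0, cr_2]
    linear_combination a 1 * h2 - b 1 * h1
  obtain ⟨i, hi⟩ := hab
  obtain ⟨w, hw⟩ := hi.exists_right_inv
  refine ⟨n i * w, ?_⟩
  funext j
  rw [Pi.smul_apply, smul_eq_mul]
  have key : n j * cr a b i = n i * cr a b j := by
    fin_cases i <;> fin_cases j <;> simp only [Fin.zero_eta, Fin.mk_one, Fin.reduceFinMk] <;>
      first | rfl | exact e01 | exact e12 | exact e20 | exact e01.symm | exact e12.symm
            | exact e20.symm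
  calc n j = n j * (cr a b i * w) := by rw [hw, mul_one]
    _ = (n j * cr a b i) * w := by ring
    _ = (n i * cr a b j) * w := by rw [key]
    _ = n i * w * cr a b j := by ring

theorem par_cross (a b n : Fin 3 → A) (hab : HasUnit (cr a b)) (hn : HasUnit n)
    (h1 : n ⬝ᵥ a = 0) (h2 : n ⬝ᵥ b = 0) : Par n (cr a b) := by
  obtain ⟨s, hs⟩ := eq_smul_of_perp a b n hab h1 h2
  refine ⟨s, ?_, hs⟩
  obtain ⟨i, hi⟩ := hn
  rw [hs, Pi.smul_apply, smul_eq_mul] at hi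
  exact isUnit_of_mul_isUnit_left hi

theorem dot_smul_eq_zero {c : A} (hc : IsUnit c) (x X n : Fin 3 → A) (hx : x = c • X)
    (h : x ⬝ᵥ n = 0) : n ⬝ᵥ X = 0 := by
  rw [hx, smul_dotProduct, smul_eq_mul] at h
  rw [dotProduct_comm]
  exact (hc.mul_right_eq_zero).mp h

theorem dot_par_eq_zero (x X n : Fin 3 → A) (hx : Par x X) (h : x ⬝ᵥ n = 0) : n ⬝ᵥ X = 0 := by
  obtain ⟨c, hc, hx⟩ := hx
  exact dot_smul_eq_zero hc x X n hx h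

/-- the intersection lemma -/
theorem inter (x1 x2 y1 y2 z X1 X2 Y1 Y2 : Fin 3 → A)
    (hx1 : Par x1 X1) (hx2 : Par x2 X2) (hy1 : Par y1 Y1) (hy2 : Par y2 Y2)
    (hz : HasUnit z)
    (hl1 : ∃ n : Fin 3 → A, HasUnit n ∧ x1 ⬝ᵥ n = 0 ∧ x2 ⬝ᵥ n = 0 ∧ z ⬝ᵥ n = 0)
    (hl2 : ∃ n : Fin 3 → A, HasUnit n ∧ y1 ⬝ᵥ n = 0 ∧ y2 ⬝ᵥ n = 0 ∧ z ⬝ᵥ n = 0)
    (hN : HasUnit (cr X1 X2)) (hN' : HasUnit (cr Y1 Y2))
    (hZ : HasUnit (cr (cr X1 X2) (cr Y1 Y2))) :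
    Par z (cr (cr X1 X2) (cr Y1 Y2)) := by
  obtain ⟨n, hn, hn1, hn2, hn3⟩ := hl1
  obtain ⟨n', hn', hn'1, hn'2, hn'3⟩ := hl2
  have p1 : Par n (cr X1 X2) :=
    par_cross X1 X2 n hN hn (dot_par_eq_zero x1 X1 n hx1 hn1) (dot_par_eq_zero x2 X2 n hx2 hn2)
  have p2 : Par n' (cr Y1 Y2) :=
    par_cross Y1 Y2 n' hN' hn' (dot_par_eq_zero y1 Y1 n' hy1 hn'1)
      (dot_par_eq_zero y2 Y2 n' hy2 hn'2)
  have q1 : z ⬝ᵥ cr X1 X2 = 0 := by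
    rw [dotProduct_comm] at hn3
    exact dot_par_eq_zero n (cr X1 X2) z p1 hn3
  have q2 : z ⬝ᵥ cr Y1 Y2 = 0 := by
    rw [dotProduct_comm] at hn'3
    exact dot_par_eq_zero n' (cr Y1 Y2) z p2 hn'3
  exact par_cross _ _ z hZ hz q1 q2


theorem cr_eq (a b : Fin 3 → A) :
    cr a b = ![a 1 * b 2 - a 2 * b 1, a 2 * b 0 - a 0 * b 2, a 0 * b 1 - a 1 * b 0] := rfl

theorem Par.of_smul {z Z Z' : Fin 3 → A} (h : Par z Z) (c : A) (hc : IsUnit c) (hZ : Z = c • Z') :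
    Par z Z' := by
  obtain ⟨d, hd, hz⟩ := h
  exact ⟨d * c, hd.mul hc, by rw [hz, hZ, smul_smul]⟩

section normalized

variable (p : ℕ) [Fact p.Prime] (ρ : (Fin 3 → ZMod p) → (Fin 3 → A))

theorem vec_ne_zero_of_zero (a b c : ZMod p) (h : a ≠ 0) : (![a, b, c] : Fin 3 → ZMod p) ≠ 0 :=
  fun h0 => h (by simpa using congrFun h0 0)

theorem vec_ne_zero_of_one (a b c : ZMod p) (h : b ≠ 0) : (![a, b, c] : Fin 3 → ZMod p) ≠ 0 :=
  fun h0 => h (by simpa using congrFun h0 1)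

theorem vec_ne_zero_of_two (a b c : ZMod p) (h : c ≠ 0) : (![a, b, c] : Fin 3 → ZMod p) ≠ 0 :=
  fun h0 => h (by simpa using congrFun h0 2)

theorem step0
    (hpt : ∀ v : Fin 3 → ZMod p, v ≠ 0 → HasUnit (ρ v))
    (hcol : ∀ u v w : Fin 3 → ZMod p, u ≠ 0 → v ≠ 0 → w ≠ 0 →
      Matrix.det (Matrix.of ![u, v, w]) = 0 →
      ∃ n : Fin 3 → A, HasUnit n ∧ ρ u ⬝ᵥ n = 0 ∧ ρ v ⬝ᵥ n = 0 ∧ ρ w ⬝ᵥ n = 0)
    (h0 : Par (ρ ![1, 0, 0]) ![1, 0, 0]) (h1 : Par (ρ ![0, 1, 0]) ![0, 1, 0])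
    (h2 : Par (ρ ![0, 0, 1]) ![0, 0, 1]) (h3 : Par (ρ ![1, 1, 1]) ![1, 1, 1]) :
    Par (ρ ![0, 1, 1]) ![0, 1, 1] := by
  have one_ne : (1 : ZMod p) ≠ 0 := one_ne_zero
  have key := inter (ρ ![1, 0, 0]) (ρ ![1, 1, 1]) (ρ ![0, 1, 0]) (ρ ![0, 0, 1]) (ρ ![0, 1, 1])
    ![1, 0, 0] ![1, 1, 1] ![0, 1, 0] ![0, 0, 1] h0 h3 h1 h2
    (hpt _ (vec_ne_zero_of_one p _ _ _ one_ne))
    (hcol _ _ _ (vec_ne_zero_of_zero p _ _ _ one_ne) (vec_ne_zero_of_zero p _ _ _ one_ne)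
      (vec_ne_zero_of_one p _ _ _ one_ne) (by simp [Matrix.det_fin_three]))
    (hcol _ _ _ (vec_ne_zero_of_one p _ _ _ one_ne) (vec_ne_zero_of_two p _ _ _ one_ne)
      (vec_ne_zero_of_one p _ _ _ one_ne) (by simp [Matrix.det_fin_three]))
    ⟨2, by simp [cr_eq]⟩ ⟨0, by simp [cr_eq]⟩ ⟨1, by simp [cr_eq]⟩
  have hcr : cr (cr ![1, 0, 0] ![1, 1, 1]) (cr ![0, 1, 0] ![0, 0, 1]) = (![0, 1, 1] : Fin 3 → A) := by
    funext i
    fin_cases i <;> simp [cr_eq]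
  rw [hcr] at key
  exact key

theorem stepR
    (hpt : ∀ v : Fin 3 → ZMod p, v ≠ 0 → HasUnit (ρ v))
    (hcol : ∀ u v w : Fin 3 → ZMod p, u ≠ 0 → v ≠ 0 → w ≠ 0 →
      Matrix.det (Matrix.of ![u, v, w]) = 0 →
      ∃ n : Fin 3 → A, HasUnit n ∧ ρ u ⬝ᵥ n = 0 ∧ ρ v ⬝ᵥ n = 0 ∧ ρ w ⬝ᵥ n = 0)
    (h1 : Par (ρ ![0, 1, 0]) ![0, 1, 0])
    (h2 : Par (ρ ![0, 0, 1]) ![0, 0, 1]) (h3 : Par (ρ ![1, 1, 1]) ![1, 1, 1])
    (k : ZMod p) (k' : A) (hk : Par (ρ ![1, k, 0]) ![1, k', 0]) :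
    Par (ρ ![1, k, 1]) ![1, k', 1] := by
  have one_ne : (1 : ZMod p) ≠ 0 := one_ne_zero
  have key := inter (ρ ![1, k, 0]) (ρ ![0, 0, 1]) (ρ ![0, 1, 0]) (ρ ![1, 1, 1]) (ρ ![1, k, 1])
    ![1, k', 0] ![0, 0, 1] ![0, 1, 0] ![1, 1, 1] hk h2 h1 h3
    (hpt _ (vec_ne_zero_of_zero p _ _ _ one_ne))
    (hcol _ _ _ (vec_ne_zero_of_zero p _ _ _ one_ne) (vec_ne_zero_of_two p _ _ _ one_ne)
      (vec_ne_zero_of_zero p _ _ _ one_ne) (by simp [Matrix.det_fin_three]))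
    (hcol _ _ _ (vec_ne_zero_of_one p _ _ _ one_ne) (vec_ne_zero_of_zero p _ _ _ one_ne)
      (vec_ne_zero_of_zero p _ _ _ one_ne) (by simp [Matrix.det_fin_three]))
    ⟨1, by simp [cr_eq]⟩ ⟨0, by simp [cr_eq]⟩ ⟨0, by simp [cr_eq]⟩
  have hcr : cr (cr ![1, k', 0] ![0, 0, 1]) (cr ![0, 1, 0] ![1, 1, 1]) =
      (![1, k', 1] : Fin 3 → A) := by
    funext i
    fin_cases i <;> simp [cr_eq]
  rw [hcr] at key
  exact key

theorem stepP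
    (hpt : ∀ v : Fin 3 → ZMod p, v ≠ 0 → HasUnit (ρ v))
    (hcol : ∀ u v w : Fin 3 → ZMod p, u ≠ 0 → v ≠ 0 → w ≠ 0 →
      Matrix.det (Matrix.of ![u, v, w]) = 0 →
      ∃ n : Fin 3 → A, HasUnit n ∧ ρ u ⬝ᵥ n = 0 ∧ ρ v ⬝ᵥ n = 0 ∧ ρ w ⬝ᵥ n = 0)
    (h0 : Par (ρ ![1, 0, 0]) ![1, 0, 0]) (h1 : Par (ρ ![0, 1, 0]) ![0, 1, 0])
    (hW : Par (ρ ![0, 1, 1]) ![0, 1, 1])
    (k : ZMod p) (k' : A) (hk : Par (ρ ![1, k, 1]) ![1, k', 1]) :
    Par (ρ ![1, k - 1, 0]) ![1, k' - 1, 0] := by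
  have one_ne : (1 : ZMod p) ≠ 0 := one_ne_zero
  have key := inter (ρ ![1, k, 1]) (ρ ![0, 1, 1]) (ρ ![1, 0, 0]) (ρ ![0, 1, 0]) (ρ ![1, k - 1, 0])
    ![1, k', 1] ![0, 1, 1] ![1, 0, 0] ![0, 1, 0] hk hW h0 h1
    (hpt _ (vec_ne_zero_of_zero p _ _ _ one_ne))
    (hcol _ _ _ (vec_ne_zero_of_zero p _ _ _ one_ne) (vec_ne_zero_of_one p _ _ _ one_ne)
      (vec_ne_zero_of_zero p _ _ _ one_ne) (by simp [Matrix.det_fin_three]))
    (hcol _ _ _ (vec_ne_zero_of_zero p _ _ _ one_ne) (vec_ne_zero_of_one p _ _ _ one_ne)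
      (vec_ne_zero_of_zero p _ _ _ one_ne) (by simp [Matrix.det_fin_three]))
    ⟨1, by simp [cr_eq]⟩ ⟨2, by simp [cr_eq]⟩ ⟨0, by simp [cr_eq]⟩
  refine key.of_smul (-1) (by simp) ?_
  funext i
  fin_cases i <;> simp [cr_eq]

theorem all_steps
    (hpt : ∀ v : Fin 3 → ZMod p, v ≠ 0 → HasUnit (ρ v))
    (hcol : ∀ u v w : Fin 3 → ZMod p, u ≠ 0 → v ≠ 0 → w ≠ 0 →
      Matrix.det (Matrix.of ![u, v, w]) = 0 →
      ∃ n : Fin 3 → A, HasUnit n ∧ ρ u ⬝ᵥ n = 0 ∧ ρ v ⬝ᵥ n = 0 ∧ ρ w ⬝ᵥ n = 0)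
    (h0 : Par (ρ ![1, 0, 0]) ![1, 0, 0]) (h1 : Par (ρ ![0, 1, 0]) ![0, 1, 0])
    (h2 : Par (ρ ![0, 0, 1]) ![0, 0, 1]) (h3 : Par (ρ ![1, 1, 1]) ![1, 1, 1]) (j : ℕ) :
    Par (ρ ![1, -(j : ZMod p), 0]) ![1, -(j : A), 0] := by
  have hW := step0 p ρ hpt hcol h0 h1 h2 h3
  induction j with
  | zero => simpa using h0
  | succ j ih =>
    have hR := stepR p ρ hpt hcol h1 h2 h3 _ _ ih
    have hP := stepP p ρ hpt hcol h0 h1 hW _ _ hR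
    have e1 : -((j + 1 : ℕ) : ZMod p) = -(j : ZMod p) - 1 := by push_cast; ring
    have e2 : -((j + 1 : ℕ) : A) = -(j : A) - 1 := by push_cast; ring
    rw [e1, e2]
    exact hP

theorem normalized
    (hpt : ∀ v : Fin 3 → ZMod p, v ≠ 0 → HasUnit (ρ v))
    (hcol : ∀ u v w : Fin 3 → ZMod p, u ≠ 0 → v ≠ 0 → w ≠ 0 →
      Matrix.det (Matrix.of ![u, v, w]) = 0 →
      ∃ n : Fin 3 → A, HasUnit n ∧ ρ u ⬝ᵥ n = 0 ∧ ρ v ⬝ᵥ n = 0 ∧ ρ w ⬝ᵥ n = 0)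
    (h0 : Par (ρ ![1, 0, 0]) ![1, 0, 0]) (h1 : Par (ρ ![0, 1, 0]) ![0, 1, 0])
    (h2 : Par (ρ ![0, 0, 1]) ![0, 0, 1]) (h3 : Par (ρ ![1, 1, 1]) ![1, 1, 1]) :
    (p : A) = 0 := by
  have h := all_steps p ρ hpt hcol h0 h1 h2 h3 p
  rw [ZMod.natCast_self, neg_zero] at h
  obtain ⟨c, hc, hc'⟩ := h0
  obtain ⟨d, hd, hd'⟩ := h
  have := congrFun (hc'.symm.trans hd') 1
  simp at this
  exact (hd.mul_right_eq_zero).mp this

end normalized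

section transform

variable [IsLocalRing A]

open Matrix

theorem hasUnit_mulVec (T : Matrix (Fin 3) (Fin 3) A) (hT : IsUnit T.det) (x : Fin 3 → A)
    (hx : HasUnit x) : HasUnit (T *ᵥ x) := by
  by_contra hcon
  have hall : ∀ j, (T *ᵥ x) j ∈ IsLocalRing.maximalIdeal A := by
    intro j
    rw [IsLocalRing.mem_maximalIdeal, mem_nonunits_iff]
    exact fun hj => hcon ⟨j, hj⟩
  have hx' : x = T⁻¹ *ᵥ (T *ᵥ x) := by
    rw [Matrix.mulVec_mulVec, Matrix.nonsing_inv_mul T hT, Matrix.one_mulVec]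
  obtain ⟨i, hi⟩ := hx
  have hmem : x i ∈ IsLocalRing.maximalIdeal A := by
    rw [hx']
    simp only [Matrix.mulVec, dotProduct]
    exact Ideal.sum_mem _ (fun j _ => Ideal.mul_mem_left _ _ (hall j))
  rw [IsLocalRing.mem_maximalIdeal, mem_nonunits_iff] at hmem
  exact hmem hi

omit [IsLocalRing A] in
theorem dot_transform (T : Matrix (Fin 3) (Fin 3) A) (hT : IsUnit T.det) (x n : Fin 3 → A) :
    (T *ᵥ x) ⬝ᵥ ((T⁻¹)ᵀ *ᵥ n) = x ⬝ᵥ n := by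
  rw [Matrix.dotProduct_mulVec, Matrix.vecMul_transpose, Matrix.mulVec_mulVec,
    Matrix.nonsing_inv_mul T hT, Matrix.one_mulVec]

omit [IsLocalRing A] in
theorem det_transform (T : Matrix (Fin 3) (Fin 3) A) (x y z : Fin 3 → A) :
    Matrix.det (Matrix.of ![T *ᵥ x, T *ᵥ y, T *ᵥ z]) =
      Matrix.det (Matrix.of ![x, y, z]) * T.det := by
  have : Matrix.of ![T *ᵥ x, T *ᵥ y, T *ᵥ z] = Matrix.of ![x, y, z] * Tᵀ := by
    ext i j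
    rw [Matrix.mul_apply]
    fin_cases i <;>
    simp [Matrix.mulVec, dotProduct, Fin.sum_univ_three, mul_comm]
  rw [this, Matrix.det_mul, Matrix.det_transpose]

variable (p : ℕ) [Fact p.Prime] (ρ : (Fin 3 → ZMod p) → (Fin 3 → A))

theorem transform_hpt (T : Matrix (Fin 3) (Fin 3) A) (hT : IsUnit T.det)
    (hpt : ∀ v : Fin 3 → ZMod p, v ≠ 0 → HasUnit (ρ v)) :
    ∀ v : Fin 3 → ZMod p, v ≠ 0 → HasUnit (T *ᵥ ρ v) :=
  fun v hv => hasUnit_mulVec T hT _ (hpt v hv)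

theorem transform_hcol (T : Matrix (Fin 3) (Fin 3) A) (hT : IsUnit T.det)
    (hcol : ∀ u v w : Fin 3 → ZMod p, u ≠ 0 → v ≠ 0 → w ≠ 0 →
      Matrix.det (Matrix.of ![u, v, w]) = 0 →
      ∃ n : Fin 3 → A, HasUnit n ∧ ρ u ⬝ᵥ n = 0 ∧ ρ v ⬝ᵥ n = 0 ∧ ρ w ⬝ᵥ n = 0) :
    ∀ u v w : Fin 3 → ZMod p, u ≠ 0 → v ≠ 0 → w ≠ 0 →
      Matrix.det (Matrix.of ![u, v, w]) = 0 →
      ∃ n : Fin 3 → A, HasUnit n ∧ (T *ᵥ ρ u) ⬝ᵥ n = 0 ∧ (T *ᵥ ρ v) ⬝ᵥ n = 0 ∧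
        (T *ᵥ ρ w) ⬝ᵥ n = 0 := by
  intro u v w hu hv hw hdet
  obtain ⟨n, hn, h1, h2, h3⟩ := hcol u v w hu hv hw hdet
  refine ⟨(T⁻¹)ᵀ *ᵥ n, ?_, ?_, ?_, ?_⟩
  · apply hasUnit_mulVec _ _ _ hn
    rw [Matrix.det_transpose]
    exact Matrix.isUnit_nonsing_inv_det T hT
  · rw [dot_transform T hT, h1]
  · rw [dot_transform T hT, h2]
  · rw [dot_transform T hT, h3]

theorem single0 (R : Type*) [Semiring R] : (Pi.single 0 1 : Fin 3 → R) = ![1, 0, 0] := by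
  funext i; fin_cases i <;> simp

theorem single1 (R : Type*) [Semiring R] : (Pi.single 1 1 : Fin 3 → R) = ![0, 1, 0] := by
  funext i; fin_cases i <;> simp

theorem single2 (R : Type*) [Semiring R] : (Pi.single 2 1 : Fin 3 → R) = ![0, 0, 1] := by
  funext i; fin_cases i <;> simp

theorem const1 (R : Type*) [Semiring R] : (fun _ => 1 : Fin 3 → R) = ![1, 1, 1] := by
  funext i; fin_cases i <;> simp

omit [IsLocalRing A] in
theorem row_mulVec (M : Matrix (Fin 3) (Fin 3) A) (hM : IsUnit M.det) (i : Fin 3) :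
    (M⁻¹)ᵀ *ᵥ (M i) = Pi.single i 1 := by
  rw [Matrix.mulVec_transpose]
  have : M i = Pi.single i 1 ᵥ* M := by
    rw [Matrix.single_one_vecMul]; rfl
  rw [this, Matrix.vecMul_vecMul, Matrix.mul_nonsing_inv M hM, Matrix.vecMul_one]

theorem main
    (hpt : ∀ v : Fin 3 → ZMod p, v ≠ 0 → ∃ i, IsUnit (ρ v i))
    (hcol : ∀ u v w : Fin 3 → ZMod p, u ≠ 0 → v ≠ 0 → w ≠ 0 →
      Matrix.det (Matrix.of ![u, v, w]) = 0 →
      ∃ n : Fin 3 → A, (∃ i, IsUnit (n i)) ∧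
        dotProduct (ρ u) n = 0 ∧ dotProduct (ρ v) n = 0 ∧ dotProduct (ρ w) n = 0)
    (hgen : IsUnit (Matrix.det (Matrix.of ![ρ (Pi.single 0 1), ρ (Pi.single 1 1), ρ (Pi.single 2 1)])) ∧
      IsUnit (Matrix.det (Matrix.of ![ρ (Pi.single 0 1), ρ (Pi.single 1 1), ρ (fun _ => 1)])) ∧
      IsUnit (Matrix.det (Matrix.of ![ρ (Pi.single 0 1), ρ (Pi.single 2 1), ρ (fun _ => 1)])) ∧
      IsUnit (Matrix.det (Matrix.of ![ρ (Pi.single 1 1), ρ (Pi.single 2 1), ρ (fun _ => 1)]))) :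
    (p : A) = 0 := by
  obtain ⟨hg0, hg1, hg2, hg3⟩ := hgen
  set a := ρ (Pi.single 0 1) with ha
  set b := ρ (Pi.single 1 1) with hb
  set c := ρ (Pi.single 2 1) with hc
  set d := ρ (fun _ => 1) with hd
  set M : Matrix (Fin 3) (Fin 3) A := Matrix.of ![a, b, c] with hM
  set T0 : Matrix (Fin 3) (Fin 3) A := (M⁻¹)ᵀ with hT0
  have hT0u : IsUnit T0.det := by
    rw [hT0, Matrix.det_transpose]
    exact Matrix.isUnit_nonsing_inv_det M hg0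
  have hTa : T0 *ᵥ a = ![1, 0, 0] := by
    have := row_mulVec M hg0 0
    rw [single0] at this
    exact this
  have hTb : T0 *ᵥ b = ![0, 1, 0] := by
    have := row_mulVec M hg0 1
    rw [single1] at this
    exact this
  have hTc : T0 *ᵥ c = ![0, 0, 1] := by
    have := row_mulVec M hg0 2
    rw [single2] at this
    exact this
  set d' := T0 *ᵥ d with hd'
  have hγ : IsUnit (d' 2) := by
    have h1 := det_transform T0 a b d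
    rw [hTa, hTb] at h1
    have h2 : Matrix.det (Matrix.of ![![1, 0, 0], ![0, 1, 0], d']) = d' 2 := by
      simp [Matrix.det_fin_three]
    rw [← h2, h1]
    exact hg1.mul hT0u
  have hβ : IsUnit (d' 1) := by
    have h1 := det_transform T0 a c d
    rw [hTa, hTc] at h1
    have h2 : Matrix.det (Matrix.of ![![1, 0, 0], ![0, 0, 1], d']) = - d' 1 := by
      simp [Matrix.det_fin_three]
    rw [← IsUnit.neg_iff, ← h2, h1]
    exact hg2.mul hT0u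
  have hα : IsUnit (d' 0) := by
    have h1 := det_transform T0 b c d
    rw [hTb, hTc] at h1
    have h2 : Matrix.det (Matrix.of ![![0, 1, 0], ![0, 0, 1], d']) = d' 0 := by
      simp [Matrix.det_fin_three]
    rw [← h2, h1]
    exact hg3.mul hT0u
  obtain ⟨α', hα'⟩ := hα.exists_right_inv
  obtain ⟨β', hβ'⟩ := hβ.exists_right_inv
  obtain ⟨γ', hγ'⟩ := hγ.exists_right_inv
  have hα'u : IsUnit α' := IsUnit.of_mul_eq_one_right _ hα'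
  have hβ'u : IsUnit β' := IsUnit.of_mul_eq_one_right _ hβ'
  have hγ'u : IsUnit γ' := IsUnit.of_mul_eq_one_right _ hγ'
  set T1 : Matrix (Fin 3) (Fin 3) A := Matrix.diagonal ![α', β', γ'] with hT1
  have hT1u : IsUnit T1.det := by
    rw [hT1, Matrix.det_diagonal, Fin.prod_univ_three]
    exact (hα'u.mul hβ'u).mul hγ'u
  have hT1v : ∀ x : Fin 3 → A, T1 *ᵥ x = ![α' * x 0, β' * x 1, γ' * x 2] := by
    intro x
    funext i
    rw [hT1, Matrix.mulVec_diagonal]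
    fin_cases i <;> simp
  have hpt1 := transform_hpt p _ T1 hT1u (transform_hpt p ρ T0 hT0u hpt)
  have hcol1 := transform_hcol p _ T1 hT1u (transform_hcol p ρ T0 hT0u hcol)
  refine normalized p (fun v => T1 *ᵥ (T0 *ᵥ ρ v)) hpt1 hcol1 ?_ ?_ ?_ ?_
  · refine ⟨α', hα'u, ?_⟩
    rw [← single0 (ZMod p), ← ha, hTa, hT1v]
    funext i; fin_cases i <;> simp
  · refine ⟨β', hβ'u, ?_⟩
    rw [← single1 (ZMod p), ← hb, hTb, hT1v]
    funext i; fin_cases i <;> simp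
  · refine ⟨γ', hγ'u, ?_⟩
    rw [← single2 (ZMod p), ← hc, hTc, hT1v]
    funext i; fin_cases i <;> simp
  · refine ⟨1, isUnit_one, ?_⟩
    rw [← const1 (ZMod p), ← hd, ← hd', hT1v, one_smul]
    have e0 : α' * d' 0 = 1 := by rw [mul_comm]; exact hα'
    have e1 : β' * d' 1 = 1 := by rw [mul_comm]; exact hβ'
    have e2 : γ' * d' 2 = 1 := by rw [mul_comm]; exact hγ'
    funext i; fin_cases i <;> simp [e0, e1, e2]

end transform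

end Groth.Agent.Lib.helper13.ProjLocal
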