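import Mathlib
import Groth.Prelude.Def_QFDual
import Groth.Agent.Lib.helper13.InvSwap

/-!
Base change of `Hom_A(B, A)` along a pushout square, in the finite free case
(helper13's helper library for the `QFDual`/`Disc` statements).
-/

set_option autoImplicit false

namespace Groth.Agent.Lib.helper13.QFDualFree

open Module TensorProduct

universe u v u' v'

section
variable {A : Type u} {B : Type v} {A' : Type u'} {B' : Type v}
  [CommRing A] [CommRing B] [CommRing A'] [CommRing B']
  [Algebra A B] [Algebra A A'] [Algebra B B'] [Algebra A' B'] [Algebra A B']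
  [IsScalarTower A A' B'] [IsScalarTower A B B']

/-- The trace commutes with base change along a pushout square. -/
theorem trace_algebraMap (hB : Algebra.IsPushout A A' B B') [Module.Free A B] [Module.Finite A B]
    (b : B) : Algebra.trace A' B' (algebraMap B B' b) = algebraMap A A' (Algebra.trace A B b) := by
  classical
  let β := Module.Free.chooseBasis A B
  let β' : Basis (Module.Free.ChooseBasisIndex A B) A' B' := hB.out.basis β
  have hβ' : ∀ i, β' i = algebraMap B B' (β i) := fun i => hB.out.basis_apply β i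
  rw [Algebra.trace_eq_matrix_trace β', Algebra.trace_eq_matrix_trace β, Matrix.trace, Matrix.trace,
    map_sum]
  refine Finset.sum_congr rfl fun i _ => ?_
  simp only [Matrix.diag_apply, Algebra.leftMulMatrix_eq_repr_mul]
  rw [hβ', ← map_mul]
  exact hB.out.basis_repr_comp_apply β (b * β i) i

/-- The base change of the trace form is the trace form. -/
theorem bcFin_trace (hB : Algebra.IsPushout A A' B B') [Module.Free A B] [Module.Finite A B]
    [Module.Free A' B'] [Module.Finite A' B'] :
    QFDual.bcFin hB (Disc.Omega.trace A B) = Disc.Omega.trace A' B' := by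
  apply Disc.Omega.ext
  refine hB.out.algHom_ext _ _ fun x => ?_
  change (QFDual.bcFin hB (Disc.Omega.trace A B)).toLinearMap (algebraMap B B' x) =
    Algebra.trace A' B' (algebraMap B B' x)
  rw [QFDual.bcFin_apply_algebraMap, trace_algebraMap hB]
  rfl

/-- Scalars from `A'` act on `Hom_{A'}(B', A')` through `B'` in the expected way. -/
theorem algebraMap_smul_omega (a' : A') (ψ : Disc.Omega A' B') :
    (algebraMap A' B' a' • ψ).toLinearMap = a' • ψ.toLinearMap := by
  ext x
  simp only [Disc.Omega.smul_toLinearMap_apply, LinearMap.smul_apply]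
  rw [← Algebra.smul_def, map_smul]

/-- `Hom_{A'}(B', A')` is generated over `B'` by the image of `Hom_A(B, A)`. -/
theorem span_range_bcFin (hB : Algebra.IsPushout A A' B B') [Module.Free A B] [Module.Finite A B] :
    Submodule.span B' (Set.range (QFDual.bcFin hB)) = ⊤ := by
  classical
  rw [eq_top_iff]
  rintro ψ -
  let β := Module.Free.chooseBasis A B
  let β' : Basis (Module.Free.ChooseBasisIndex A B) A' B' := hB.out.basis β
  have hβ' : ∀ i, β' i = algebraMap B B' (β i) := fun i => hB.out.basis_apply β i
  have hψ : ψ = ∑ i, algebraMap A' B' (ψ.toLinearMap (β' i)) •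
      QFDual.bcFin hB (⟨β.coord i⟩ : Disc.Omega A B) := by
    apply Disc.Omega.ext
    apply β'.ext
    intro j
    have hsum : (∑ i, algebraMap A' B' (ψ.toLinearMap (β' i)) •
        QFDual.bcFin hB (⟨β.coord i⟩ : Disc.Omega A B)).toLinearMap =
        ∑ i, (algebraMap A' B' (ψ.toLinearMap (β' i)) •
        QFDual.bcFin hB (⟨β.coord i⟩ : Disc.Omega A B)).toLinearMap :=
      map_sum (⟨⟨Disc.Omega.toLinearMap, fun _ _ => rfl⟩, fun _ _ => rfl⟩ :
        Disc.Omega A' B' →ₗ[ℤ] (B' →ₗ[A'] A')) _ _
    rw [hsum, LinearMap.sum_apply]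
    simp only [algebraMap_smul_omega, LinearMap.smul_apply, hβ', QFDual.bcFin_apply_algebraMap]
    rw [Finset.sum_eq_single j]
    · simp [β]
    · intro i _ hij
      simp [β, Finsupp.single_eq_of_ne hij]
    · simp
  rw [hψ]
  exact Submodule.sum_mem _ fun i _ => Submodule.smul_mem _ _ (Submodule.subset_span ⟨_, rfl⟩)

/-- `⟨a • φ⟩ = algebraMap a • ⟨φ⟩` in `Hom_A(B, A)`. -/
theorem mk_smul (a : A) (φ : B →ₗ[A] A) :
    (⟨a • φ⟩ : Disc.Omega A B) = algebraMap A B a • ⟨φ⟩ := by
  apply Disc.Omega.ext
  ext x
  simp only [Disc.Omega.smul_toLinearMap_apply, LinearMap.smul_apply]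
  rw [← Algebra.smul_def, map_smul]

/-- Extension of `B`-linear forms on `Hom_A(B, A)` to `B'`-linear forms on `Hom_{A'}(B', A')`. -/
theorem exists_extension (hB : Algebra.IsPushout A A' B B') [Module.Free A B] [Module.Finite A B]
    (f : Disc.Omega A B →ₗ[B] B) :
    ∃ f' : Disc.Omega A' B' →ₗ[B'] B', ∀ m, f' (QFDual.bcFin hB m) = algebraMap B B' (f m) := by
  have ibcD : IsBaseChange A' (hB.out.toDual) := hB.out.dual
  let r : Dual A B →ₗ[A] B' :=
    { toFun := fun φ => algebraMap B B' (f ⟨φ⟩)
      map_add' := fun φ ψ => by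
        have : (⟨φ + ψ⟩ : Disc.Omega A B) = ⟨φ⟩ + ⟨ψ⟩ := rfl
        rw [this, map_add, map_add]
      map_smul' := fun a φ => by
        rw [mk_smul, map_smul, smul_eq_mul, map_mul, RingHom.id_apply,
          ← IsScalarTower.algebraMap_apply, Algebra.smul_def] }
  let q : Dual A' B' →ₗ[A'] B' := ibcD.lift r
  have hq : ∀ φ : Dual A B, q (hB.out.toDual φ) = r φ := fun φ => ibcD.lift_eq r φ
  -- `B'`-linearity
  have hlin : ∀ (b' : B') (ψ : Disc.Omega A' B'), q (b' • ψ).toLinearMap = b' * q ψ.toLinearMap := by
    intro b'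
    induction b' using hB.out.inductionOn with
    | zero =>
      intro ψ
      rw [zero_smul, zero_mul]
      exact map_zero q
    | tmul b =>
      -- two `A'`-linear maps agreeing on the image of `Dual A B`
      let L₁ : Dual A' B' →ₗ[A'] B' :=
        q ∘ₗ (LinearMap.lcomp A' A' (LinearMap.mulLeft A' (algebraMap B B' b)))
      let L₂ : Dual A' B' →ₗ[A'] B' := (LinearMap.mulLeft A' (algebraMap B B' b)) ∘ₗ q
      have hL : L₁ = L₂ := by
        apply ibcD.algHom_ext'
        ext φ
        simp only [LinearMap.coe_comp, LinearMap.coe_restrictScalars, Function.comp_apply, L₁, L₂,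
          LinearMap.lcomp_apply', LinearMap.mulLeft_apply]
        have hsemi := (QFDual.bcFin hB).map_smulₛₗ b (⟨φ⟩ : Disc.Omega A B)
        have h1 : (hB.out.toDual φ) ∘ₗ LinearMap.mulLeft A' (algebraMap B B' b) =
            hB.out.toDual (φ ∘ₗ LinearMap.mulLeft A b) := by
          have := congrArg Disc.Omega.toLinearMap hsemi
          exact this.symm
        rw [h1, hq, hq]
        change algebraMap B B' (f (b • ⟨φ⟩)) = algebraMap B B' b * algebraMap B B' (f ⟨φ⟩)
        rw [map_smul, smul_eq_mul, map_mul]
      intro ψ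
      exact congrArg (fun L : Dual A' B' →ₗ[A'] B' => L ψ.toLinearMap) hL
    | smul a' x hx =>
      intro ψ
      have h1 : (a' • x) • ψ = algebraMap A' B' a' • (x • ψ) := by
        rw [Algebra.smul_def, mul_smul]
      rw [h1, algebraMap_smul_omega, map_smul, hx, Algebra.smul_def, Algebra.smul_def, mul_assoc]
    | add x y hx hy =>
      intro ψ
      rw [add_smul, add_mul, ← hx, ← hy]
      exact map_add q _ _
  refine ⟨{ toFun := fun ψ => q ψ.toLinearMap
            map_add' := fun ψ χ => map_add q _ _
            map_smul' := fun b' ψ => by rw [hlin, RingHom.id_apply, smul_eq_mul] }, fun m => ?_⟩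
  change q (hB.out.toDual m.toLinearMap) = _
  rw [hq]
  rfl

/-- The different can only grow under base change (finite free case). -/
theorem map_different_le (hB : Algebra.IsPushout A A' B B') [Module.Free A B] [Module.Finite A B]
    [Module.Free A' B'] [Module.Finite A' B'] :
    Ideal.map (algebraMap B B') (QFDual.different B (Disc.Omega.trace A B)) ≤
      QFDual.different B' (Disc.Omega.trace A' B') := by
  rw [Ideal.map_le_iff_le_comap]
  intro b hb
  rw [QFDual.mem_different_iff] at hb
  rw [Ideal.mem_comap, QFDual.mem_different_iff]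
  -- the submodule of `ψ` with `algebraMap b • ψ ∈ B' τ'`
  let N : Submodule B' (Disc.Omega A' B') :=
    { carrier := {ψ | ∃ c : B', c • Disc.Omega.trace A' B' = algebraMap B B' b • ψ}
      zero_mem' := ⟨0, by rw [zero_smul, smul_zero]⟩
      add_mem' := by
        rintro ψ χ ⟨c, hc⟩ ⟨d, hd⟩
        exact ⟨c + d, by rw [add_smul, hc, hd, smul_add]⟩
      smul_mem' := by
        rintro x ψ ⟨c, hc⟩
        exact ⟨x * c, by rw [mul_smul, hc, smul_comm]⟩ }
  have hN : N = ⊤ := by
    rw [eq_top_iff, ← span_range_bcFin hB, Submodule.span_le]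
    rintro _ ⟨m, rfl⟩
    obtain ⟨c, hc⟩ := hb m
    refine ⟨algebraMap B B' c, ?_⟩
    rw [← bcFin_trace hB, ← (QFDual.bcFin hB).map_smulₛₗ, hc, (QFDual.bcFin hB).map_smulₛₗ]
  intro ψ
  have : ψ ∈ N := hN ▸ Submodule.mem_top
  exact this

/-- If `Hom_A(B, A)` is invertible the different commutes with base change (finite free case). -/
theorem map_different_eq_of_invertible (hB : Algebra.IsPushout A A' B B') [Module.Free A B]
    [Module.Finite A B] [Module.Free A' B'] [Module.Finite A' B']
    [Module.Invertible B (Disc.Omega A B)] :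
    Ideal.map (algebraMap B B') (QFDual.different B (Disc.Omega.trace A B)) =
      QFDual.different B' (Disc.Omega.trace A' B') := by
  apply le_antisymm (map_different_le hB)
  intro b' hb'
  rw [QFDual.mem_different_iff] at hb'
  obtain ⟨s, hs⟩ := InvSwap.exists_sum_eq_one B (Disc.Omega A B)
  choose c hc using hb'
  have hext := fun f : Disc.Omega A B →ₗ[B] B => exists_extension hB f
  choose F hF using hext
  have key : b' = ∑ i ∈ s, c (QFDual.bcFin hB i.2) *
      algebraMap B B' (i.1 (Disc.Omega.trace A B)) := by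
    calc b' = b' * algebraMap B B' (∑ i ∈ s, i.1 i.2) := by rw [hs, map_one, mul_one]
      _ = ∑ i ∈ s, b' * F i.1 (QFDual.bcFin hB i.2) := by
          rw [map_sum, Finset.mul_sum]
          refine Finset.sum_congr rfl fun i _ => ?_
          rw [hF]
      _ = ∑ i ∈ s, c (QFDual.bcFin hB i.2) * algebraMap B B' (i.1 (Disc.Omega.trace A B)) := by
          refine Finset.sum_congr rfl fun i _ => ?_
          rw [← smul_eq_mul, ← map_smul, ← hc, map_smul, smul_eq_mul, ← bcFin_trace hB, hF]
  rw [key]
  refine Ideal.sum_mem _ fun i _ => Ideal.mul_mem_left _ _ (Ideal.mem_map_of_mem _ ?_)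
  rw [QFDual.mem_different_iff]
  exact (InvSwap.mem_colon_iff (Disc.Omega.trace A B) _).mpr ⟨i.1, rfl⟩

end

end Groth.Agent.Lib.helper13.QFDualFree
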