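import Mathlib

/-!
# Quasi-isomorphisms of short complexes of abelian groups, elementwise (helper13)
-/

set_option autoImplicit false

open CategoryTheory

namespace Groth.Agent.Lib.helper13.QIso

universe u

variable {S₁ S₂ : ShortComplex Ab.{u}} (ψ : S₁ ⟶ S₂)

lemma quasiIso_aux (h : ShortComplex.QuasiIso ψ) :
    ∃ (φK : AddMonoidHom.ker S₁.g.hom →+ AddMonoidHom.ker S₂.g.hom)
      (φH : (AddMonoidHom.ker S₁.g.hom ⧸ AddMonoidHom.range S₁.abToCycles) →+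
        (AddMonoidHom.ker S₂.g.hom ⧸ AddMonoidHom.range S₂.abToCycles)),
      Function.Bijective φH ∧ (∀ k, ((φK k : AddMonoidHom.ker S₂.g.hom) : S₂.X₂) = ψ.τ₂ k.1) ∧
        (∀ k, φH (QuotientAddGroup.mk k) = QuotientAddGroup.mk (φK k)) := by
  let γ : ShortComplex.LeftHomologyMapData ψ S₁.abLeftHomologyData S₂.abLeftHomologyData :=
    default
  have hiso : IsIso γ.φH := (γ.quasiIso_iff).mp h
  have hbij : Function.Bijective γ.φH := (ConcreteCategory.isIso_iff_bijective _).mp hiso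
  refine ⟨γ.φK.hom, γ.φH.hom, hbij, fun k => ?_, fun k => ?_⟩
  · exact ConcreteCategory.congr_hom γ.commi k
  · exact ConcreteCategory.congr_hom γ.commπ k

lemma quasiIso_inj (h : ShortComplex.QuasiIso ψ) (x₂ : S₁.X₂) (hx : S₁.g x₂ = 0)
    (y₁ : S₂.X₁) (hy : ψ.τ₂ x₂ = S₂.f y₁) : ∃ x₁ : S₁.X₁, S₁.f x₁ = x₂ := by
  obtain ⟨φK, φH, hbij, hK, hπ⟩ := quasiIso_aux ψ h
  let k : AddMonoidHom.ker S₁.g.hom := ⟨x₂, hx⟩
  have h1 : φH (QuotientAddGroup.mk k) = 0 := by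
    rw [hπ, QuotientAddGroup.eq_zero_iff]
    refine ⟨y₁, Subtype.ext ?_⟩
    rw [hK]
    exact hy.symm
  have h2 : (QuotientAddGroup.mk k : AddMonoidHom.ker S₁.g.hom ⧸ _) = 0 :=
    hbij.1 (h1.trans (map_zero φH).symm)
  rw [QuotientAddGroup.eq_zero_iff] at h2
  obtain ⟨x₁, hx₁⟩ := h2
  exact ⟨x₁, congrArg Subtype.val hx₁⟩

lemma quasiIso_surj (h : ShortComplex.QuasiIso ψ) (y₂ : S₂.X₂) (hy : S₂.g y₂ = 0) :
    ∃ x₂ : S₁.X₂, S₁.g x₂ = 0 ∧ ∃ e : S₂.X₁, ψ.τ₂ x₂ - y₂ = S₂.f e := by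
  obtain ⟨φK, φH, hbij, hK, hπ⟩ := quasiIso_aux ψ h
  let k₂ : AddMonoidHom.ker S₂.g.hom := ⟨y₂, hy⟩
  obtain ⟨q, hq⟩ := hbij.2 (QuotientAddGroup.mk k₂)
  obtain ⟨k₁, rfl⟩ := QuotientAddGroup.mk_surjective q
  rw [hπ] at hq
  have h3 : φK k₁ - k₂ ∈ AddMonoidHom.range S₂.abToCycles := by
    rw [← QuotientAddGroup.eq_zero_iff, QuotientAddGroup.mk_sub, hq, sub_self]
  obtain ⟨e, he⟩ := h3
  refine ⟨k₁.1, k₁.2, e, ?_⟩
  have := congrArg Subtype.val he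
  rw [AddSubgroup.coe_sub, hK] at this
  exact this.symm

end Groth.Agent.Lib.helper13.QIso
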