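import Groth.Agent.Lib.helper13.QIso1

/-!
# A degreewise surjective quasi-isomorphism of chain complexes of abelian groups has acyclic kernel
(helper13)
-/

set_option autoImplicit false

open CategoryTheory

namespace Groth.Agent.Lib.helper13.QIso

universe u

variable {K L : ChainComplex Ab.{u} ℕ} (φ : K ⟶ L)

lemma comm_apply (i j : ℕ) (x : K.X i) : L.d i j (φ.f i x) = φ.f j (K.d i j x) := by
  have h := ConcreteCategory.congr_hom (φ.comm i j) x
  exact h

lemma d_d_apply (i j k : ℕ) (x : K.X i) : K.d j k (K.d i j x) = 0 := by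
  have h := ConcreteCategory.congr_hom (K.d_comp_d i j k) x
  exact h

theorem kernel_acyclic (hq : QuasiIso φ) (hsurj : ∀ n, Function.Surjective (φ.f n)) (m : ℕ)
    (z : K.X m) (hz : φ.f m z = 0) (hd : ∀ k, K.d m k z = 0) :
    ∃ c : K.X (m + 1), φ.f (m + 1) c = 0 ∧ K.d (m + 1) m c = z := by
  -- injectivity in degree `m`
  have h1 : ShortComplex.QuasiIso ((HomologicalComplex.shortComplexFunctor' Ab.{u} _ (m + 1) m
      ((ComplexShape.down ℕ).next m)).map φ) :=
    (quasiIsoAt_iff' φ (m + 1) m _ (by simp) rfl).mp (hq.quasiIsoAt m)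
  obtain ⟨c₁, hc₁'⟩ : ∃ c₁ : K.X (m + 1), K.d (m + 1) m c₁ = z :=
    quasiIso_inj _ h1 z (hd _) 0 (by
      show φ.f m z = L.d (m + 1) m 0
      rw [hz, map_zero])
  -- surjectivity in degree `m + 1`
  have h2 : ShortComplex.QuasiIso ((HomologicalComplex.shortComplexFunctor' Ab.{u} _ (m + 2)
      (m + 1) m).map φ) :=
    (quasiIsoAt_iff' φ (m + 2) (m + 1) m (by simp) (by simp)).mp (hq.quasiIsoAt (m + 1))
  obtain ⟨x, hx', e, he'⟩ : ∃ x : K.X (m + 1), K.d (m + 1) m x = 0 ∧ ∃ e : L.X (m + 2),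
      φ.f (m + 1) x - φ.f (m + 1) c₁ = L.d (m + 2) (m + 1) e :=
    quasiIso_surj _ h2 (φ.f (m + 1) c₁) (by
      show L.d (m + 1) m (φ.f (m + 1) c₁) = 0
      rw [comm_apply, hc₁', hz])
  obtain ⟨e', rfl⟩ := hsurj (m + 2) e
  refine ⟨c₁ - x + K.d (m + 2) (m + 1) e', ?_, ?_⟩
  · rw [map_add, map_sub, ← comm_apply, ← he']
    abel
  · rw [map_add, map_sub, hc₁', hx', d_d_apply, sub_zero, add_zero]

end Groth.Agent.Lib.helper13.QIso
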