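import Groth.Agent.Lib.helper13.QIso3

/-!
# Elementwise criteria for quasi-isomorphisms of chain complexes of abelian groups (helper13)
-/

set_option autoImplicit false

open CategoryTheory Simplicial Opposite AlgebraicTopology

namespace Groth.Agent.Lib.helper13.QIso

universe u

section short

variable {S₁ S₂ : ShortComplex Ab.{u}} (ψ : S₁ ⟶ S₂)

theorem quasiIso_of_elementwise
    (hinj : ∀ (x₂ : S₁.X₂), S₁.g x₂ = 0 → ∀ (y₁ : S₂.X₁), ψ.τ₂ x₂ = S₂.f y₁ →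
      ∃ x₁ : S₁.X₁, S₁.f x₁ = x₂)
    (hsurj : ∀ (y₂ : S₂.X₂), S₂.g y₂ = 0 →
      ∃ x₂ : S₁.X₂, S₁.g x₂ = 0 ∧ ∃ e : S₂.X₁, ψ.τ₂ x₂ - y₂ = S₂.f e) :
    ShortComplex.QuasiIso ψ := by
  let γ : ShortComplex.LeftHomologyMapData ψ S₁.abLeftHomologyData S₂.abLeftHomologyData :=
    default
  rw [γ.quasiIso_iff, ConcreteCategory.isIso_iff_bijective]
  let φK : AddMonoidHom.ker S₁.g.hom →+ AddMonoidHom.ker S₂.g.hom := γ.φK.hom
  let φH : (AddMonoidHom.ker S₁.g.hom ⧸ AddMonoidHom.range S₁.abToCycles) →+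
      (AddMonoidHom.ker S₂.g.hom ⧸ AddMonoidHom.range S₂.abToCycles) := γ.φH.hom
  have hK : ∀ k : AddMonoidHom.ker S₁.g.hom,
      ((φK k : AddMonoidHom.ker S₂.g.hom) : S₂.X₂) = ψ.τ₂ k.1 := by
    intro k
    exact ConcreteCategory.congr_hom γ.commi k
  have hπ : ∀ k : AddMonoidHom.ker S₁.g.hom,
      φH (QuotientAddGroup.mk k) = QuotientAddGroup.mk (φK k) := by
    intro k
    exact ConcreteCategory.congr_hom γ.commπ k
  show Function.Bijective φH
  constructor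
  · rw [injective_iff_map_eq_zero]
    intro q hq
    obtain ⟨k, rfl⟩ := QuotientAddGroup.mk_surjective q
    have hq' : φH (QuotientAddGroup.mk k) = 0 := hq
    rw [hπ, QuotientAddGroup.eq_zero_iff] at hq'
    obtain ⟨y₁, hy₁⟩ := hq'
    have h1 : ψ.τ₂ k.1 = S₂.f y₁ := by
      rw [← hK]
      exact (congrArg Subtype.val hy₁).symm
    obtain ⟨x₁, hx₁⟩ := hinj k.1 k.2 y₁ h1
    rw [QuotientAddGroup.eq_zero_iff]
    exact ⟨x₁, Subtype.ext hx₁⟩
  · intro q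
    obtain ⟨k₂, rfl⟩ := QuotientAddGroup.mk_surjective q
    obtain ⟨x₂, hx₂, e, he⟩ := hsurj k₂.1 k₂.2
    refine ⟨QuotientAddGroup.mk ⟨x₂, hx₂⟩, ?_⟩
    rw [hπ, ← sub_eq_zero, ← QuotientAddGroup.mk_sub, QuotientAddGroup.eq_zero_iff]
    refine ⟨e, Subtype.ext ?_⟩
    rw [AddSubgroup.coe_sub, hK]
    exact he.symm

end short

section complexes

variable {K L : ChainComplex Ab.{u} ℕ} (φ : K ⟶ L)

theorem quasiIso_of_elementwise_complex
    (hinj : ∀ (n : ℕ) (z : K.X n), (∀ k, K.d n k z = 0) → ∀ (y : L.X (n + 1)),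
      φ.f n z = L.d (n + 1) n y → ∃ x : K.X (n + 1), K.d (n + 1) n x = z)
    (hsurj : ∀ (n : ℕ) (y : L.X n), (∀ k, L.d n k y = 0) →
      ∃ x : K.X n, (∀ k, K.d n k x = 0) ∧ ∃ e : L.X (n + 1), φ.f n x - y = L.d (n + 1) n e) :
    QuasiIso φ := by
  refine ⟨fun n => ?_⟩
  rw [quasiIsoAt_iff' φ (n + 1) n ((ComplexShape.down ℕ).next n) (by simp) rfl]
  have key : ∀ (K' : ChainComplex Ab.{u} ℕ) (z : K'.X n),
      K'.d n ((ComplexShape.down ℕ).next n) z = 0 → ∀ k, K'.d n k z = 0 := by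
    intro K' z hz k
    by_cases hk : (ComplexShape.down ℕ).Rel n k
    · rw [← (ComplexShape.down ℕ).next_eq' hk]
      exact hz
    · rw [K'.shape n k hk]
      rfl
  apply quasiIso_of_elementwise
  · intro x₂ hx₂ y₁ hy
    exact hinj n x₂ (key K x₂ hx₂) y₁ hy
  · intro y₂ hy₂
    obtain ⟨x, hx, e, he⟩ := hsurj n y₂ (key L y₂ hy₂)
    exact ⟨x, hx _, e, he⟩

/-- a chain homotopy evaluated at a cycle -/
theorem homotopy_apply {φ ψ : K ⟶ L} (h : Homotopy φ ψ) (n : ℕ) (z : K.X n)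
    (hz : ∀ k, K.d n k z = 0) :
    φ.f n z - ψ.f n z = L.d (n + 1) n (h.hom n (n + 1) z) := by
  have e := h.comm n
  rw [Homotopy.prevD_chainComplex] at e
  have e2 : φ.f n z = h.hom ((ComplexShape.down ℕ).next n) n
      (K.d n ((ComplexShape.down ℕ).next n) z) + L.d (n + 1) n (h.hom n (n + 1) z) + ψ.f n z :=
    ConcreteCategory.congr_hom e z
  rw [e2, hz, map_zero, zero_add, add_sub_cancel_right]

end complexes

/-- the differential of the alternating face map complex, elementwise -/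
theorem d_apply (V : SimplicialObject AddCommGrpCat.{u}) (n : ℕ) (v : V _⦋n + 1⦌) :
    (AlternatingFaceMapComplex.obj V).d (n + 1) n v =
      ∑ j : Fin (n + 2), (-1 : ℤ) ^ (j : ℕ) • (V.δ j).hom v := by
  rw [AlternatingFaceMapComplex.obj_d_eq]
  have h : (∑ j : Fin (n + 2), (-1 : ℤ) ^ (j : ℕ) • V.δ j).hom =
      ∑ j : Fin (n + 2), (-1 : ℤ) ^ (j : ℕ) • (V.δ j).hom := by
    have := map_sum (AddCommGrpCat.homAddEquiv (M := V _⦋n + 1⦌) (N := V _⦋n⦌))
      (fun j : Fin (n + 2) => (-1 : ℤ) ^ (j : ℕ) • V.δ j) Finset.univ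
    simp only [map_zsmul] at this
    exact this
  show (∑ j : Fin (n + 2), (-1 : ℤ) ^ (j : ℕ) • V.δ j).hom v = _
  rw [h, AddMonoidHom.finset_sum_apply]
  rfl

end Groth.Agent.Lib.helper13.QIso
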