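import Mathlib

open Finset Polynomial

namespace Groth.Agent.Lib.helper13.QLinear

universe u v

section Basic

variable {p : ℕ} [hp : Fact p.Prime] {r : ℕ} {k : Type u} [Field k] [CharP k p]
variable {V : Type v} [AddCommGroup V] [Module k V]

/-- a `q`-linear map (`q = p^r`) as a semilinear map for the iterated Frobenius -/
abbrev QLin (p : ℕ) [Fact p.Prime] (r : ℕ) (k : Type u) [Field k] [CharP k p] (V : Type v)
    [AddCommGroup V] [Module k V] := V →ₛₗ[iterateFrobenius k p r] V

lemma map_smul' (F : QLin p r k V) (a : k) (v : V) : F (a • v) = a ^ (p ^ r) • F v := by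
  rw [LinearMap.map_smulₛₗ]; rfl

/-- build a `QLin` from an additive map -/
def ofAdd (φ : V →+ V) (hφ : ∀ (c : k) (v : V), φ (c • v) = c ^ (p ^ r) • φ v) : QLin p r k V :=
  { toFun := φ
    map_add' := φ.map_add
    map_smul' := fun a v => by simpa [iterateFrobenius_def] using hφ a v }

@[simp] lemma ofAdd_apply (φ : V →+ V) (hφ : ∀ (c : k) (v : V), φ (c • v) = c ^ (p ^ r) • φ v)
    (v : V) : ofAdd (p := p) (r := r) φ hφ v = φ v := rfl

lemma iter_add (F : QLin p r k V) (m : ℕ) (v w : V) :
    (⇑F)^[m] (v + w) = (⇑F)^[m] v + (⇑F)^[m] w := by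
  induction m generalizing v w with
  | zero => rfl
  | succ m ih => rw [Function.iterate_succ_apply, Function.iterate_succ_apply,
      Function.iterate_succ_apply, map_add, ih]

lemma iter_zero (F : QLin p r k V) (m : ℕ) : (⇑F)^[m] 0 = 0 := by
  induction m with
  | zero => rfl
  | succ m ih => rw [Function.iterate_succ_apply, map_zero, ih]

lemma iter_smul (F : QLin p r k V) (m : ℕ) (a : k) (v : V) :
    (⇑F)^[m] (a • v) = a ^ ((p ^ r) ^ m) • (⇑F)^[m] v := by
  induction m generalizing a v with
  | zero => simp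
  | succ m ih =>
    rw [Function.iterate_succ_apply, Function.iterate_succ_apply, map_smul', ih, pow_succ',
      pow_mul]

lemma iter_sum (F : QLin p r k V) (m : ℕ) {ι : Type*} (s : Finset ι) (g : ι → V) :
    (⇑F)^[m] (∑ i ∈ s, g i) = ∑ i ∈ s, (⇑F)^[m] (g i) := by
  classical
  induction s using Finset.induction_on with
  | empty => simp
  | insert a s ha ih => rw [Finset.sum_insert ha, Finset.sum_insert ha, iter_add, ih]

lemma iter_fixed (F : QLin p r k V) (m : ℕ) {v : V} (hv : F v = v) : (⇑F)^[m] v = v := by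
  induction m with
  | zero => rfl
  | succ m ih => rw [Function.iterate_succ_apply, hv, ih]

lemma q_pos : 0 < p ^ r := pow_pos hp.out.pos r

omit hp in
lemma q_cast (hr : 0 < r) : ((p ^ r : ℕ) : k) = 0 := by
  rw [Nat.cast_pow, CharP.cast_eq_zero, zero_pow hr.ne']

lemma two_le_q (hr : 0 < r) : 2 ≤ p ^ r :=
  le_trans hp.out.two_le (by simpa using Nat.pow_le_pow_right hp.out.pos hr)

/-- Artin–Schreier type equations are solvable in a separably closed field -/
lemma exists_as_root [IsSepClosed k] (hr : 0 < r) (c : k) : ∃ x : k, x ^ (p ^ r) - x + c = 0 := by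
  obtain ⟨x, hx⟩ := IsSepClosed.exists_root_C_mul_X_pow_add_C_mul_X_add_C' p (p ^ r) (1 : k) (-1) c
    (dvd_pow_self p hr.ne') (two_le_q hr) (by simp)
  exact ⟨x, by linear_combination hx⟩

/-- a family of fixed vectors: combination is sent to the combination with `q`-th powers -/
lemma map_sum_fixed (F : QLin p r k V) {ι : Type*} (s : Finset ι) (a : ι → k) (e : ι → V)
    (he : ∀ i ∈ s, F (e i) = e i) : F (∑ i ∈ s, a i • e i) = ∑ i ∈ s, a i ^ (p ^ r) • e i := by
  rw [map_sum]
  apply Finset.sum_congr rfl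
  intro i hi
  rw [map_smul', he i hi]

end Basic

section Key

variable {p : ℕ} [hp : Fact p.Prime] {r : ℕ} {k : Type u} [Field k] [CharP k p]

/-- the polynomials `X_i(Y)` of the recursion `X_0 = a_0 Y^q`, `X_{i+1} = X_i^q + a_{i+1} Y^q` -/
noncomputable def Xq (q : ℕ) (a : ℕ → k) : ℕ → k[X]
  | 0 => C (a 0) * X ^ q
  | (i + 1) => (Xq q a i) ^ q + C (a (i + 1)) * X ^ q

omit [CharP k p] in
lemma X_pow_dvd_Xq (a : ℕ → k) (i : ℕ) : (X : k[X]) ^ (p ^ r) ∣ Xq (p ^ r) a i := by
  induction i with
  | zero => exact Dvd.intro_left _ rfl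
  | succ i ih =>
    rw [Xq]
    exact dvd_add (dvd_trans ih (dvd_pow_self _ (q_pos (p := p) (r := r)).ne'))
      (Dvd.intro_left _ rfl)

omit hp in
lemma derivative_Xq (hr : 0 < r) (a : ℕ → k) (i : ℕ) : derivative (Xq (p ^ r) a i) = 0 := by
  have hq : ((p ^ r : ℕ) : k[X]) = 0 := by
    rw [← map_natCast (C : k →+* k[X]), q_cast (p := p) hr, map_zero]
  induction i with
  | zero =>
    rw [Xq, derivative_C_mul, derivative_X_pow, q_cast (p := p) hr, map_zero, zero_mul, mul_zero]
  | succ i ih =>
    rw [Xq, derivative_add, derivative_pow, ih, mul_zero, zero_add, derivative_C_mul,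
      derivative_X_pow, q_cast (p := p) hr, map_zero, zero_mul, mul_zero]

omit [CharP k p] in
lemma Xq_inv (hr : 0 < r) (a : ℕ → k) (i : ℕ) :
    (Xq (p ^ r) a i = 0 ∧ ∀ j ≤ i, a j = 0) ∨ (Xq (p ^ r) a i ≠ 0) := by
  have hq0 : p ^ r ≠ 0 := (q_pos (p := p) (r := r)).ne'
  induction i with
  | zero =>
    by_cases h : a 0 = 0
    · left
      refine ⟨by simp [Xq, h], fun j hj => ?_⟩
      rw [Nat.le_zero.mp hj]; exact h
    · right
      simp [Xq, h]
  | succ i ih =>
    rcases ih with ⟨h0, hall⟩ | hne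
    · by_cases h : a (i + 1) = 0
      · left
        refine ⟨by rw [Xq, h0, zero_pow hq0, zero_add, h, map_zero, zero_mul], fun j hj => ?_⟩
        rcases Nat.lt_or_eq_of_le hj with hlt | rfl
        · exact hall j (Nat.lt_succ_iff.mp hlt)
        · exact h
      · right
        rw [Xq, h0, zero_pow hq0, zero_add]
        simp [h]
    · right
      obtain ⟨R, hR⟩ := X_pow_dvd_Xq (p := p) (r := r) a i
      have hRne : R ≠ 0 := by
        rintro rfl; apply hne; rw [hR, mul_zero]
      have hdeg : p ^ r ≤ (Xq (p ^ r) a i).natDegree := by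
        rw [hR, natDegree_mul (pow_ne_zero _ X_ne_zero) hRne, natDegree_X_pow]
        exact Nat.le_add_right _ _
      have hdeg2 : (C (a (i + 1)) * X ^ (p ^ r) : k[X]).natDegree <
          ((Xq (p ^ r) a i) ^ (p ^ r)).natDegree := by
        calc (C (a (i + 1)) * X ^ (p ^ r) : k[X]).natDegree ≤ p ^ r := natDegree_C_mul_X_pow_le _ _
          _ < p ^ r * p ^ r := by
            have := two_le_q (p := p) hr
            nlinarith
          _ ≤ p ^ r * (Xq (p ^ r) a i).natDegree := Nat.mul_le_mul_left _ hdeg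
          _ = ((Xq (p ^ r) a i) ^ (p ^ r)).natDegree := by rw [natDegree_pow]
      rw [Xq]
      intro hzero
      have := natDegree_add_eq_left_of_natDegree_lt hdeg2
      rw [hzero, natDegree_zero] at this
      have h2 := two_le_q (p := p) hr
      have h3 : p ^ r * p ^ r ≤ ((Xq (p ^ r) a i) ^ (p ^ r)).natDegree := by
        rw [natDegree_pow]; exact Nat.mul_le_mul_left _ hdeg
      nlinarith

/-- there is a nonzero `y` with `X_s(y) = y` as soon as some `a_j ≠ 0`, `j ≤ s` -/
lemma exists_root [IsSepClosed k] (hr : 0 < r) (a : ℕ → k) (s : ℕ) (ha : ∃ j ≤ s, a j ≠ 0) :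
    ∃ y : k, y ≠ 0 ∧ (Xq (p ^ r) a s).eval y = y := by
  have hne : Xq (p ^ r) a s ≠ 0 := by
    rcases Xq_inv (p := p) hr a s with ⟨-, hall⟩ | hne
    · obtain ⟨j, hj, hj'⟩ := ha
      exact absurd (hall j hj) hj'
    · exact hne
  obtain ⟨R, hR⟩ := X_pow_dvd_Xq (p := p) (r := r) a s
  have hRne : R ≠ 0 := by
    rintro rfl; apply hne; rw [hR, mul_zero]
  have h2 := two_le_q (p := p) hr
  set Q : k[X] := X ^ (p ^ r - 1) * R - 1 with hQ
  have hPQ : Xq (p ^ r) a s - X = X * Q := by
    rw [hQ, hR, mul_sub, mul_one, ← mul_assoc, ← pow_succ', Nat.sub_add_cancel (by omega)]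
  have hsepP : (Xq (p ^ r) a s - X).Separable := by
    rw [separable_def, derivative_sub, derivative_Xq hr, derivative_X, zero_sub]
    exact isCoprime_one_right.neg_right
  have hsepQ : Q.Separable := by
    rw [hPQ] at hsepP
    exact hsepP.of_mul_right
  have hdegQ : Q.degree ≠ 0 := by
    have h1 : (1 : k[X]).natDegree < (X ^ (p ^ r - 1) * R : k[X]).natDegree := by
      rw [natDegree_one, natDegree_mul (pow_ne_zero _ X_ne_zero) hRne, natDegree_X_pow]
      omega
    have h2 : Q.natDegree = (X ^ (p ^ r - 1) * R : k[X]).natDegree := by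
      rw [hQ, sub_eq_add_neg]
      apply natDegree_add_eq_left_of_natDegree_lt
      rwa [natDegree_neg]
    intro h0
    have := natDegree_eq_zero_iff_degree_le_zero.mpr h0.le
    rw [h2] at this
    rw [this] at h1
    exact Nat.not_lt_zero _ h1
  obtain ⟨y, hy⟩ := IsSepClosed.exists_root Q hdegQ hsepQ
  rw [IsRoot, hQ, eval_sub, eval_mul, eval_pow, eval_X, eval_one, sub_eq_zero] at hy
  have hy0 : y ≠ 0 := by
    rintro rfl
    have hp1 : p ^ r - 1 ≠ 0 := by omega
    rw [zero_pow hp1, zero_mul] at hy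
    exact zero_ne_one hy
  refine ⟨y, hy0, ?_⟩
  rw [hR, eval_mul, eval_pow, eval_X]
  calc y ^ (p ^ r) * R.eval y = y * (y ^ (p ^ r - 1) * R.eval y) := by
        rw [← mul_assoc, ← pow_succ', Nat.sub_add_cancel (by omega)]
    _ = y := by rw [hy, mul_one]

variable {V : Type v} [AddCommGroup V] [Module k V]

lemma iter_injective (F : QLin p r k V) (hinj : Function.Injective F) (m : ℕ) :
    Function.Injective (⇑F)^[m] := Function.Injective.iterate hinj m

theorem exists_fixed_ne_zero [IsSepClosed k] [FiniteDimensional k V] [Nontrivial V] (hr : 0 < r)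
    (F : QLin p r k V) (hinj : Function.Injective F) : ∃ w : V, w ≠ 0 ∧ F w = w := by
  classical
  obtain ⟨v, hv⟩ := exists_ne (0 : V)
  let P : ℕ → Prop := fun e => ∃ c : ℕ → k, (∃ i ≤ e, c i ≠ 0) ∧
    ∑ i ∈ range (e + 1), c i • (⇑F)^[i] v = 0
  have hex : ∃ e, P e := by
    set n := Module.finrank k V
    have hnli : ¬ LinearIndependent k (fun i : Fin (n + 1) => (⇑F)^[(i : ℕ)] v) := by
      intro hli
      have := hli.fintype_card_le_finrank
      simp at this
      omega
    rw [Fintype.not_linearIndependent_iff] at hnli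
    obtain ⟨g, hg, i0, hi0⟩ := hnli
    refine ⟨n, fun i => if h : i < n + 1 then g ⟨i, h⟩ else 0, ⟨i0, Nat.lt_succ_iff.mp i0.2, ?_⟩, ?_⟩
    · simp only [i0.2, dif_pos]
      exact hi0
    · rw [← hg, ← Fin.sum_univ_eq_sum_range (fun i => (if h : i < n + 1 then g ⟨i, h⟩ else 0) •
        (⇑F)^[i] v) (n + 1)]
      apply Finset.sum_congr rfl
      intro i _
      simp only [i.2, dif_pos]
  have hmin := fun e (he : e < Nat.find hex) => Nat.find_min hex he
  obtain ⟨c, ⟨i1, hi1, hci1⟩, hrel⟩ := Nat.find_spec hex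
  have hd : Nat.find hex ≠ 0 := by
    intro h0
    rw [h0] at hi1 hrel
    have hi10 : i1 = 0 := Nat.le_zero.mp hi1
    subst hi10
    simp only [zero_add, Finset.sum_range_one, Function.iterate_zero, id] at hrel
    exact hv ((smul_eq_zero.mp hrel).resolve_left hci1)
  obtain ⟨s, hs⟩ := Nat.exists_eq_succ_of_ne_zero hd
  rw [hs] at hrel hi1
  have hM : ∀ x : ℕ → k, (∃ i ≤ s, x i ≠ 0) → ∑ i ∈ range (s + 1), x i • (⇑F)^[i] v ≠ 0 := by
    intro x hx h0
    exact hmin s (by omega) ⟨x, hx, h0⟩
  have hctop : c (s + 1) ≠ 0 := by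
    intro h0
    rw [Finset.sum_range_succ, h0, zero_smul, add_zero] at hrel
    refine hM c ?_ hrel
    rcases Nat.lt_or_eq_of_le hi1 with hlt | heq
    · exact ⟨i1, Nat.lt_succ_iff.mp hlt, hci1⟩
    · rw [heq] at hci1; exact absurd h0 hci1
  set a : ℕ → k := fun i => -(c i) / c (s + 1) with ha
  have hFs : (⇑F)^[s + 1] v = ∑ i ∈ range (s + 1), a i • (⇑F)^[i] v := by
    rw [Finset.sum_range_succ] at hrel
    have h1 : c (s + 1) • (⇑F)^[s + 1] v = -∑ i ∈ range (s + 1), c i • (⇑F)^[i] v :=
      eq_neg_of_add_eq_zero_right hrel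
    have h2 : (⇑F)^[s + 1] v = (c (s + 1))⁻¹ • (c (s + 1) • (⇑F)^[s + 1] v) := by
      rw [smul_smul, inv_mul_cancel₀ hctop, one_smul]
    rw [h2, h1, ← Finset.sum_neg_distrib, Finset.smul_sum]
    apply Finset.sum_congr rfl
    intro i _
    rw [← neg_smul, smul_smul, ha]
    congr 1
    field_simp
  have hane : ∃ j ≤ s, a j ≠ 0 := by
    by_contra hcon
    push Not at hcon
    have : (⇑F)^[s + 1] v = 0 := by
      rw [hFs]
      apply Finset.sum_eq_zero
      intro i hi
      rw [hcon i (Nat.lt_succ_iff.mp (mem_range.mp hi)), zero_smul]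
    have h0 : (⇑F)^[s + 1] v = (⇑F)^[s + 1] 0 := by rw [this, iter_zero]
    exact hv (iter_injective F hinj (s + 1) h0)
  obtain ⟨y, hy0, hy⟩ := exists_root (p := p) hr a s hane
  set x : ℕ → k := fun i => (Xq (p ^ r) a i).eval y with hx
  have hx0 : x 0 = a 0 * y ^ (p ^ r) := by simp [hx, Xq]
  have hxs : ∀ i, x (i + 1) = x i ^ (p ^ r) + a (i + 1) * y ^ (p ^ r) := by
    intro i; simp [hx, Xq]
  refine ⟨∑ i ∈ range (s + 1), x i • (⇑F)^[i] v,
    hM x ⟨s, le_rfl, by rw [hx]; simpa [hy] using hy0⟩, ?_⟩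
  rw [map_sum]
  have h1 : ∀ i ∈ range (s + 1), F (x i • (⇑F)^[i] v) = x i ^ (p ^ r) • (⇑F)^[i + 1] v := by
    intro i _
    rw [map_smul', Function.iterate_succ_apply']
  rw [Finset.sum_congr rfl h1, Finset.sum_range_succ, hFs]
  have hxs' : x s = y := hy
  rw [hxs']
  conv_rhs => rw [Finset.sum_range_succ', hx0]
  rw [Finset.smul_sum, Finset.sum_range_succ' (fun i => y ^ (p ^ r) • a i • (⇑F)^[i] v)]
  simp only [Function.iterate_zero, id]
  rw [← add_assoc, ← Finset.sum_add_distrib]
  congr 1
  · apply Finset.sum_congr rfl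
    intro i _
    rw [hxs, add_smul, smul_smul, mul_comm]
  · rw [smul_smul, mul_comm]

end Key

section Semisimple

variable {p : ℕ} [hp : Fact p.Prime] {r : ℕ} {k : Type u} [Field k] [CharP k p]
variable {V : Type v} [AddCommGroup V] [Module k V]

lemma injective_of_span_range [FiniteDimensional k V] (F : QLin p r k V)
    (hss : Submodule.span k (Set.range F) = ⊤) : Function.Injective F := by
  classical
  set n := Module.finrank k V
  let b := Module.finBasis k V
  have hspan : ⊤ ≤ Submodule.span k (Set.range (fun i => F (b i))) := by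
    rw [← hss, Submodule.span_le]
    rintro _ ⟨v, rfl⟩
    rw [← b.sum_repr v, map_sum]
    apply Submodule.sum_mem
    intro i _
    rw [map_smul']
    exact Submodule.smul_mem _ _ (Submodule.subset_span ⟨i, rfl⟩)
  have hli : LinearIndependent k (fun i => F (b i)) :=
    linearIndependent_of_top_le_span_of_card_eq_finrank hspan (by simp)
  rw [injective_iff_map_eq_zero]
  intro v hv
  rw [← b.sum_repr v, map_sum] at hv
  have h1 : ∑ i, F (b.repr v i • b i) = ∑ i, (b.repr v i) ^ (p ^ r) • F (b i) := by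
    apply Finset.sum_congr rfl
    intro i _
    rw [map_smul']
  rw [h1] at hv
  have := Fintype.linearIndependent_iff.mp hli _ hv
  have hz : ∀ i, b.repr v i = 0 := fun i =>
    (pow_eq_zero_iff (q_pos (p := p) (r := r)).ne').mp (this i)
  rw [← b.sum_repr v]
  apply Finset.sum_eq_zero
  intro i _
  rw [hz i, zero_smul]

/-- induced map on a quotient by a stable subspace -/
noncomputable def quotMap (F : QLin p r k V) (K : Submodule k V) (hK : K ≤ K.comap F) :
    QLin p r k (V ⧸ K) := K.mapQ K F hK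

lemma quotMap_mk (F : QLin p r k V) (K : Submodule k V) (hK : K ≤ K.comap F) (v : V) :
    quotMap F K hK (K.mkQ v) = K.mkQ (F v) := rfl

lemma quotMap_iter (F : QLin p r k V) (K : Submodule k V) (hK : K ≤ K.comap F) (m : ℕ) (v : V) :
    (⇑(quotMap F K hK))^[m] (K.mkQ v) = K.mkQ ((⇑F)^[m] v) := by
  induction m generalizing v with
  | zero => rfl
  | succ m ih => rw [Function.iterate_succ_apply, Function.iterate_succ_apply, quotMap_mk, ih]

omit hp [CharP k p] in
lemma eq_top_of_quot (T K : Submodule k V) (hKT : K ≤ T) (h : T.map K.mkQ = ⊤) : T = ⊤ := by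
  have := Submodule.comap_map_mkQ K T
  rw [h, Submodule.comap_top] at this
  rw [eq_comm, sup_eq_right.mpr hKT] at this
  exact this

omit hp [CharP k p] in
lemma finrank_quot_lt [FiniteDimensional k V] (K : Submodule k V) (hK : K ≠ ⊥) :
    Module.finrank k (V ⧸ K) < Module.finrank k V := by
  have h1 := Submodule.finrank_quotient_add_finrank K
  have h2 : 1 ≤ Module.finrank k K := Submodule.one_le_finrank_iff.mpr hK
  omega

lemma quot_semisimple (F : QLin p r k V) (K : Submodule k V) (hK : K ≤ K.comap F)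
    (hss : Submodule.span k (Set.range F) = ⊤) :
    Submodule.span k (Set.range (quotMap F K hK)) = ⊤ := by
  rw [eq_top_iff]
  have h1 : (Submodule.span k (Set.range F)).map K.mkQ = ⊤ := by
    rw [hss, Submodule.map_top, LinearMap.range_eq_top]
    exact Submodule.mkQ_surjective K
  rw [← h1, Submodule.map_span, Submodule.span_le]
  rintro _ ⟨_, ⟨u, rfl⟩, rfl⟩
  exact Submodule.subset_span ⟨K.mkQ u, rfl⟩

theorem span_fixed_eq_top [IsSepClosed k] (hr : 0 < r) : ∀ (n : ℕ) (V : Type v) [AddCommGroup V]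
    [Module k V] [FiniteDimensional k V] (F : QLin p r k V), Module.finrank k V = n →
    Submodule.span k (Set.range F) = ⊤ → Submodule.span k {v : V | F v = v} = ⊤ := by
  intro n
  induction n using Nat.strong_induction_on with
  | _ n ih =>
    intro V _ _ _ F hn hss
    rcases subsingleton_or_nontrivial V with hsub | hnt
    · exact Subsingleton.elim _ _
    have hinj := injective_of_span_range F hss
    obtain ⟨w, hw0, hw⟩ := exists_fixed_ne_zero hr F hinj
    set L : Submodule k V := Submodule.span k {w} with hL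
    have hLne : L ≠ ⊥ := by
      rw [hL, Ne, Submodule.span_singleton_eq_bot]; exact hw0
    have hLst : L ≤ L.comap F := by
      intro z hz
      obtain ⟨a, rfl⟩ := Submodule.mem_span_singleton.mp hz
      rw [Submodule.mem_comap, map_smul', hw]
      exact Submodule.smul_mem _ _ (Submodule.mem_span_singleton_self w)
    have hlt := finrank_quot_lt L hLne
    rw [hn] at hlt
    have hIH := ih _ hlt (V ⧸ L) (quotMap F L hLst) rfl (quot_semisimple F L hLst hss)
    apply eq_top_of_quot _ L
    · rw [hL, Submodule.span_singleton_le_iff_mem]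
      exact Submodule.subset_span hw
    · rw [eq_top_iff, ← hIH, Submodule.span_le]
      intro z hz
      obtain ⟨u, rfl⟩ := Submodule.mkQ_surjective L z
      have hz' : quotMap F L hLst (L.mkQ u) = L.mkQ u := hz
      rw [quotMap_mk, ← sub_eq_zero, ← map_sub, Submodule.mkQ_apply,
        Submodule.Quotient.mk_eq_zero] at hz'
      obtain ⟨c, hc⟩ := Submodule.mem_span_singleton.mp hz'
      obtain ⟨x, hx⟩ := exists_as_root (p := p) hr c
      refine ⟨u + x • w, ?_, ?_⟩
      · apply Submodule.subset_span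
        show F (u + x • w) = u + x • w
        rw [map_add, map_smul', hw]
        have hFu : F u = u + c • w := by rw [hc]; abel
        rw [hFu, add_assoc, ← add_smul]
        congr 2
        linear_combination hx
      · rw [map_add]
        have : L.mkQ (x • w) = 0 := by
          rw [Submodule.mkQ_apply, Submodule.Quotient.mk_eq_zero]
          exact Submodule.smul_mem _ _ (Submodule.mem_span_singleton_self w)
        rw [this, add_zero]

end Semisimple


section BasisFixed

variable {p : ℕ} [hp : Fact p.Prime] {r : ℕ} {k : Type u} [Field k] [CharP k p]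
variable {V : Type v} [AddCommGroup V] [Module k V]

omit hp [CharP k p] in
/-- a spanning set contains a basis indexed by `Fin (finrank)` -/
lemma exists_basis_of_span_eq_top [FiniteDimensional k V] (S : Set V)
    (hS : Submodule.span k S = ⊤) :
    ∃ b : Module.Basis (Fin (Module.finrank k V)) k V, ∀ i, b i ∈ S := by
  classical
  obtain ⟨t, htS, htspan, htli⟩ := exists_linearIndependent k S
  have hfin : t.Finite := htli.setFinite
  have : Fintype t := hfin.fintype
  let b0 : Module.Basis t k V := Module.Basis.mk htli (by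
    rw [Subtype.range_coe_subtype, Set.ofPred_mem_eq, htspan, hS])
  have hcard : Fintype.card t = Module.finrank k V := (Module.finrank_eq_card_basis b0).symm
  let e : t ≃ Fin (Module.finrank k V) := Fintype.equivFinOfCardEq hcard
  refine ⟨b0.reindex e, fun i => ?_⟩
  rw [Module.Basis.reindex_apply, Module.Basis.mk_apply]
  exact htS (e.symm i).2

theorem exists_basis_fixed [IsSepClosed k] [FiniteDimensional k V] (hr : 0 < r) (F : QLin p r k V)
    (hss : Submodule.span k (Set.range F) = ⊤) :
    ∃ b : Module.Basis (Fin (Module.finrank k V)) k V, ∀ i, F (b i) = b i :=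
  exists_basis_of_span_eq_top _ (span_fixed_eq_top hr _ V F rfl hss)

/-- coordinates of `F^[n]`-fixed vectors in a basis of `F`-fixed vectors -/
lemma repr_pow_eq {ι : Type*} [Fintype ι] (F : QLin p r k V) (b : Module.Basis ι k V)
    (hb : ∀ i, F (b i) = b i) (n : ℕ) (v : V) :
    (⇑F)^[n] v = ∑ i, (b.repr v i) ^ ((p ^ r) ^ n) • b i := by
  conv_lhs => rw [← b.sum_repr v]
  rw [iter_sum]
  apply Finset.sum_congr rfl
  intro i _
  rw [iter_smul, iter_fixed F n (hb i)]

lemma repr_fixed_iff {ι : Type*} [Fintype ι] (F : QLin p r k V) (b : Module.Basis ι k V)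
    (hb : ∀ i, F (b i) = b i) (n : ℕ) (v : V) :
    (⇑F)^[n] v = v ↔ ∀ i, (b.repr v i) ^ ((p ^ r) ^ n) = b.repr v i := by
  classical
  rw [repr_pow_eq F b hb n v]
  constructor
  · intro h i
    have := congrArg (fun x => b.repr x i) h
    simpa [map_sum, Finsupp.single_apply, Finset.sum_ite_eq'] using this
  · intro h
    conv_rhs => rw [← b.sum_repr v]
    apply Finset.sum_congr rfl
    intro i _
    rw [h i]

/-- `v ↦ v - F v` is surjective -/
theorem sub_surjective [IsSepClosed k] (hr : 0 < r) : ∀ (n : ℕ) (V : Type v) [AddCommGroup V]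
    [Module k V] [FiniteDimensional k V] (F : QLin p r k V), Module.finrank k V = n →
    Function.Surjective (fun v : V => v - F v) := by
  intro n
  induction n using Nat.strong_induction_on with
  | _ n ih =>
    intro V _ _ _ F hn
    set U : Submodule k V := Submodule.span k (Set.range F) with hU
    by_cases hUtop : U = ⊤
    · -- semisimple case
      obtain ⟨b, hb⟩ := exists_basis_fixed hr F hUtop
      intro t
      have hsol : ∀ i, ∃ a : k, a - a ^ (p ^ r) = b.repr t i := by
        intro i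
        obtain ⟨x, hx⟩ := exists_as_root (p := p) hr (b.repr t i)
        exact ⟨x, by linear_combination (-1 : k) * hx⟩
      choose a ha using hsol
      refine ⟨∑ i, a i • b i, ?_⟩
      show (∑ i, a i • b i) - F (∑ i, a i • b i) = t
      rw [map_sum_fixed F _ a b (fun i _ => hb i), ← Finset.sum_sub_distrib]
      conv_rhs => rw [← b.sum_repr t]
      apply Finset.sum_congr rfl
      intro i _
      rw [← sub_smul, ha i]
    · -- restrict to U
      have hlt : Module.finrank k U < n := by
        rw [← hn]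
        exact Submodule.finrank_lt hUtop
      have hst : ∀ x : U, F x.1 ∈ U := fun x => Submodule.subset_span ⟨x.1, rfl⟩
      let G : QLin p r k U := (F.domRestrict U).codRestrict U hst
      have hG := ih _ hlt U G rfl
      intro t
      obtain ⟨u, hu⟩ := hG ⟨F t, Submodule.subset_span ⟨t, rfl⟩⟩
      have hu' : (u : V) - F u = F t := by
        have := congrArg Subtype.val hu
        simpa [G] using this
      refine ⟨t + u, ?_⟩
      show t + u - F (t + u) = t
      rw [map_add]
      have : t + ↑u - (F t + F ↑u) = t + ((u : V) - F u) - F t := by abel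
      rw [this, hu']
      abel

end BasisFixed


section Chain

variable {p : ℕ} [hp : Fact p.Prime] {r : ℕ} {k : Type u} [Field k] [CharP k p]
variable {V : Type v} [AddCommGroup V] [Module k V]

/-- the chain of spans of images of iterates -/
def Uch (F : QLin p r k V) (n : ℕ) : Submodule k V := Submodule.span k (Set.range (⇑F)^[n])

lemma Uch_succ_le (F : QLin p r k V) (n : ℕ) : Uch F (n + 1) ≤ Uch F n := by
  apply Submodule.span_mono
  rintro _ ⟨v, rfl⟩
  exact ⟨F v, by rw [Function.iterate_succ_apply]⟩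

lemma Uch_antitone (F : QLin p r k V) : Antitone (Uch F) :=
  antitone_nat_of_succ_le (Uch_succ_le F)

lemma map_mem_Uch_succ (F : QLin p r k V) (n : ℕ) {x : V} (hx : x ∈ Uch F n) :
    F x ∈ Uch F (n + 1) := by
  induction hx using Submodule.span_induction with
  | mem x hx =>
    obtain ⟨v, rfl⟩ := hx
    exact Submodule.subset_span ⟨v, by rw [Function.iterate_succ_apply']⟩
  | zero => rw [map_zero]; exact Submodule.zero_mem _
  | add x y _ _ hx hy => rw [map_add]; exact Submodule.add_mem _ hx hy
  | smul a x _ hx => rw [map_smul']; exact Submodule.smul_mem _ _ hx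

lemma Uch_succ_le_span_image (F : QLin p r k V) (n : ℕ) :
    Uch F (n + 1) ≤ Submodule.span k (F '' (Uch F n : Set V)) := by
  apply Submodule.span_mono
  rintro _ ⟨v, rfl⟩
  exact ⟨(⇑F)^[n] v, Submodule.subset_span ⟨v, rfl⟩, by rw [Function.iterate_succ_apply']⟩

lemma Uch_stabilizes [FiniteDimensional k V] (F : QLin p r k V) :
    ∃ m, ∀ j, m ≤ j → Uch F m = Uch F j := by
  let f : ℕ →o (Submodule k V)ᵒᵈ :=
    ⟨fun n => OrderDual.toDual (Uch F n), fun a b hab => Uch_antitone F hab⟩
  obtain ⟨m, hm⟩ := IsArtinian.monotone_stabilizes f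
  exact ⟨m, fun j hj => congrArg OrderDual.ofDual (hm j hj)⟩

/-- the semisimple part -/
def Vss (F : QLin p r k V) : Submodule k V := ⨅ n : ℕ, Uch F (n + 1)

lemma Vss_eq [FiniteDimensional k V] (F : QLin p r k V) :
    ∃ m, Vss F = Uch F m ∧ Uch F (m + 1) = Uch F m := by
  obtain ⟨m, hm⟩ := Uch_stabilizes F
  refine ⟨m, ?_, (hm (m + 1) (Nat.le_succ m)).symm⟩
  apply le_antisymm
  · rw [hm (m + 1) (Nat.le_succ m)]
    exact iInf_le _ m
  · apply le_iInf
    intro n
    by_cases h : n + 1 ≤ m
    · exact Uch_antitone F h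
    · rw [hm (n + 1) (by omega)]

lemma fixed_mem_Vss (F : QLin p r k V) {v : V} (hv : F v = v) : v ∈ Vss F := by
  rw [Vss, Submodule.mem_iInf]
  intro n
  exact Submodule.subset_span ⟨v, iter_fixed F (n + 1) hv⟩

lemma Vss_stable [FiniteDimensional k V] (F : QLin p r k V) {x : V} (hx : x ∈ Vss F) :
    F x ∈ Vss F := by
  obtain ⟨m, hm, hm1⟩ := Vss_eq F
  rw [hm] at hx ⊢
  rw [← hm1]
  exact map_mem_Uch_succ F m hx

/-- the restriction of `F` to the semisimple part -/
noncomputable def Fss [FiniteDimensional k V] (F : QLin p r k V) : QLin p r k (Vss F) :=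
  (F.domRestrict (Vss F)).codRestrict (Vss F) (fun x => Vss_stable F x.2)

lemma Fss_apply [FiniteDimensional k V] (F : QLin p r k V) (x : Vss F) :
    ((Fss F x : Vss F) : V) = F x := rfl

lemma Fss_semisimple [FiniteDimensional k V] (F : QLin p r k V) :
    Submodule.span k (Set.range (Fss F)) = ⊤ := by
  obtain ⟨m, hm, hm1⟩ := Vss_eq F
  rw [eq_top_iff, ← Submodule.map_le_map_iff_of_injective (Vss F).injective_subtype,
    Submodule.map_subtype_top, Submodule.map_span]
  have h1 : Vss F ≤ Submodule.span k (F '' (Vss F : Set V)) := by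
    conv_lhs => rw [hm, ← hm1]
    rw [hm]
    exact Uch_succ_le_span_image F m
  refine le_trans h1 (Submodule.span_mono ?_)
  rintro _ ⟨x, hx, rfl⟩
  exact ⟨Fss F ⟨x, hx⟩, ⟨⟨x, hx⟩, rfl⟩, rfl⟩

theorem Vss_basis [IsSepClosed k] [FiniteDimensional k V] (hr : 0 < r) (F : QLin p r k V) :
    ∃ b : Module.Basis (Fin (Module.finrank k (Vss F))) k (Vss F),
      (∀ i, F (b i : V) = (b i : V)) ∧
      ∀ v : V, F v = v → ∃ c : Fin (Module.finrank k (Vss F)) → k,
        (∀ i, c i ^ (p ^ r) = c i) ∧ v = ∑ i, c i • (b i : V) := by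
  obtain ⟨b, hb⟩ := exists_basis_fixed hr (Fss F) (Fss_semisimple F)
  refine ⟨b, fun i => ?_, fun v hv => ?_⟩
  · have := congrArg Subtype.val (hb i)
    exact this
  · have hmem := fixed_mem_Vss F hv
    have hfix : (⇑(Fss F))^[1] ⟨v, hmem⟩ = ⟨v, hmem⟩ := by
      apply Subtype.ext
      exact hv
    have hc := (repr_fixed_iff (Fss F) b hb 1 ⟨v, hmem⟩).mp hfix
    refine ⟨fun i => b.repr ⟨v, hmem⟩ i, fun i => by simpa using hc i, ?_⟩
    have := congrArg Subtype.val (b.sum_repr ⟨v, hmem⟩)
    simp only [Submodule.coe_sum, Submodule.coe_smul] at this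
    exact this.symm

end Chain


section Card

variable {p : ℕ} [hp : Fact p.Prime] {r : ℕ} {k : Type u} [Field k] [CharP k p]
variable {V : Type v} [AddCommGroup V] [Module k V]

omit [CharP k p] in
lemma finite_roots (hr : 0 < r) : Set.Finite {c : k | c ^ (p ^ r) = c} ∧
    Set.ncard {c : k | c ^ (p ^ r) = c} ≤ p ^ r := by
  classical
  have h1 : 1 < p ^ r := lt_of_lt_of_le (by norm_num) (two_le_q (p := p) hr)
  have hne : (X ^ (p ^ r) - X : k[X]) ≠ 0 := FiniteField.X_pow_card_sub_X_ne_zero k h1
  have hsub : {c : k | c ^ (p ^ r) = c} ⊆ ((X ^ (p ^ r) - X : k[X]).roots.toFinset : Set k) := by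
    intro c hc
    simp only [Finset.mem_coe, Multiset.mem_toFinset, mem_roots hne, IsRoot, eval_sub, eval_pow,
      eval_X, sub_eq_zero]
    exact hc
  refine ⟨(Finset.finite_toSet _).subset hsub, ?_⟩
  calc Set.ncard {c : k | c ^ (p ^ r) = c}
      ≤ Set.ncard ((X ^ (p ^ r) - X : k[X]).roots.toFinset : Set k) :=
        Set.ncard_le_ncard hsub (Finset.finite_toSet _)
    _ = (X ^ (p ^ r) - X : k[X]).roots.toFinset.card := Set.ncard_coe_finset _
    _ ≤ Multiset.card (X ^ (p ^ r) - X : k[X]).roots := Multiset.toFinset_card_le _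
    _ ≤ (X ^ (p ^ r) - X : k[X]).natDegree := card_roots' _
    _ = p ^ r := FiniteField.X_pow_card_sub_X_natDegree_eq k h1

theorem card_fixed_le [IsSepClosed k] [FiniteDimensional k V] (hr : 0 < r) (F : QLin p r k V) :
    Set.Finite {v : V | F v = v} ∧
      Nat.card {v : V | F v = v} ≤ (p ^ r) ^ Module.finrank k V := by
  classical
  obtain ⟨b, hb, hrep⟩ := Vss_basis hr F
  obtain ⟨hTfin, hTcard⟩ := finite_roots (p := p) (k := k) hr
  have : Finite {c : k | c ^ (p ^ r) = c} := hTfin
  let Φ : (Fin (Module.finrank k (Vss F)) → {c : k | c ^ (p ^ r) = c}) → V := fun c => ∑ i, (c i : k) • (b i : V)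
  have hsub : {v : V | F v = v} ⊆ Set.range Φ := by
    intro v hv
    obtain ⟨c, hc, rfl⟩ := hrep v hv
    exact ⟨fun i => ⟨c i, hc i⟩, rfl⟩
  have hfin : (Set.range Φ).Finite := Set.finite_range Φ
  refine ⟨hfin.subset hsub, ?_⟩
  have hmle : Module.finrank k (Vss F) ≤ Module.finrank k V := Submodule.finrank_le _
  calc Nat.card {v : V | F v = v} = Set.ncard {v : V | F v = v} := Nat.card_coe_set_eq _
    _ ≤ Set.ncard (Set.range Φ) := Set.ncard_le_ncard hsub hfin
    _ ≤ Nat.card (Fin (Module.finrank k (Vss F)) → {c : k | c ^ (p ^ r) = c}) := by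
        rw [← Set.image_univ, ← Set.ncard_univ]
        exact Set.ncard_image_le Set.finite_univ
    _ = (Nat.card {c : k | c ^ (p ^ r) = c}) ^ Module.finrank k (Vss F) := by
        rw [Nat.card_fun, Nat.card_fin]
    _ ≤ (p ^ r) ^ Module.finrank k (Vss F) := by
        rw [Nat.card_coe_set_eq]
        exact Nat.pow_le_pow_left hTcard _
    _ ≤ (p ^ r) ^ Module.finrank k V := Nat.pow_le_pow_right (q_pos (p := p) (r := r)) hmle

end Card


end Groth.Agent.Lib.helper13.QLinear
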