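import Mathlib

/-!
# Quasisymmetric functions as a degreewise limit (helper13)
-/

set_option autoImplicit false

namespace Groth.Agent.Lib.helper13.QSymLim

/-- quasisymmetry -/
def QS (F : MvPowerSeries ℕ ℤ) : Prop :=
  ∀ (ℓ : ℕ) (i j : Fin ℓ → ℕ) (a : Fin ℓ → ℕ), StrictMono i → StrictMono j → (∀ t, 0 < a t) →
    MvPowerSeries.coeff (∑ t : Fin ℓ, Finsupp.single (i t) (a t)) F =
      MvPowerSeries.coeff (∑ t : Fin ℓ, Finsupp.single (j t) (a t)) F

/-- every finitely supported function on `Fin n` is the sum over its sorted support -/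
lemma eq_sum_sorted {n : ℕ} (e : Fin n →₀ ℕ) :
    e = ∑ t : Fin e.support.card, Finsupp.single (e.support.orderEmbOfFin rfl t)
      (e (e.support.orderEmbOfFin rfl t)) := by
  conv_lhs => rw [← Finsupp.sum_single e]
  rw [Finsupp.sum, ← Finset.sum_coe_sort]
  refine (Fintype.sum_equiv (e.support.orderIsoOfFin rfl).toEquiv _ _ fun t => ?_).symm
  rfl

theorem partA (F : MvPowerSeries ℕ ℤ) (hF : QS F) (n m : ℕ) (φ : Fin n ↪o Fin m) (e : Fin n →₀ ℕ) :
    MvPowerSeries.coeff (Finsupp.mapDomain Fin.val e) F =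
      MvPowerSeries.coeff (Finsupp.mapDomain Fin.val (Finsupp.mapDomain φ e)) F := by
  have he := eq_sum_sorted e
  set s := e.support.orderEmbOfFin rfl with hs
  have h1 : Finsupp.mapDomain Fin.val e
      = ∑ t : Fin e.support.card, Finsupp.single ((s t : Fin n) : ℕ) (e (s t)) := by
    conv_lhs => rw [he]
    rw [Finsupp.mapDomain_finsetSum]
    simp only [Finsupp.mapDomain_single]
  have h2 : Finsupp.mapDomain Fin.val (Finsupp.mapDomain φ e)
      = ∑ t : Fin e.support.card, Finsupp.single ((φ (s t) : Fin m) : ℕ) (e (s t)) := by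
    conv_lhs => rw [he]
    rw [Finsupp.mapDomain_finsetSum, Finsupp.mapDomain_finsetSum]
    simp only [Finsupp.mapDomain_single]
  rw [h1, h2]
  refine hF _ _ _ _ ?_ ?_ ?_
  · intro t t' htt'
    exact s.strictMono htt'
  · intro t t' htt'
    exact φ.strictMono (s.strictMono htt')
  · intro t
    have := e.support.orderEmbOfFin_mem rfl t
    exact Nat.pos_of_ne_zero (Finsupp.mem_support_iff.mp this)

section partB

variable (f : (n : ℕ) → MvPolynomial (Fin n) ℤ)
  (hcompat : ∀ (n m : ℕ) (φ : Fin n ↪o Fin m) (e : Fin n →₀ ℕ),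
    MvPolynomial.coeff e (f n) = MvPolynomial.coeff (Finsupp.mapDomain φ e) (f m))

include hcompat in
lemma coeff_eq_of_mapDomain_eq {n₁ n₂ : ℕ} (e₁ : Fin n₁ →₀ ℕ) (e₂ : Fin n₂ →₀ ℕ)
    (h : Finsupp.mapDomain Fin.val e₁ = Finsupp.mapDomain Fin.val e₂) :
    MvPolynomial.coeff e₁ (f n₁) = MvPolynomial.coeff e₂ (f n₂) := by
  rw [hcompat n₁ (max n₁ n₂) (Fin.castLEOrderEmb (le_max_left _ _)) e₁,
    hcompat n₂ (max n₁ n₂) (Fin.castLEOrderEmb (le_max_right _ _)) e₂]
  congr 1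
  apply Finsupp.mapDomain_injective (Fin.val_injective (n := max n₁ n₂))
  rw [← Finsupp.mapDomain_comp, ← Finsupp.mapDomain_comp]
  exact h

/-- the bound for the support -/
def bd (E : ℕ →₀ ℕ) : ℕ := E.support.sup id + 1

lemma support_subset_range (E : ℕ →₀ ℕ) :
    (↑E.support : Set ℕ) ⊆ Set.range (Fin.val : Fin (bd E) → ℕ) := by
  intro x hx
  have : x ≤ E.support.sup id := Finset.le_sup (f := id) hx
  exact ⟨⟨x, Nat.lt_succ_of_le this⟩, rfl⟩

/-- the restriction of a monomial -/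
noncomputable def res (E : ℕ →₀ ℕ) : Fin (bd E) →₀ ℕ :=
  Finsupp.comapDomain Fin.val E (Fin.val_injective.injOn)

lemma mapDomain_res (E : ℕ →₀ ℕ) : Finsupp.mapDomain Fin.val (res E) = E :=
  Finsupp.mapDomain_comapDomain _ Fin.val_injective E (support_subset_range E)

/-- the limit power series -/
noncomputable def FF : MvPowerSeries ℕ ℤ := fun E => MvPolynomial.coeff (res E) (f (bd E))

lemma coeff_FF (E : ℕ →₀ ℕ) : MvPowerSeries.coeff E (FF f) = MvPolynomial.coeff (res E) (f (bd E)) :=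
  rfl

include hcompat in
lemma FF_restrict (n : ℕ) (e : Fin n →₀ ℕ) :
    MvPowerSeries.coeff (Finsupp.mapDomain Fin.val e) (FF f) = MvPolynomial.coeff e (f n) := by
  rw [coeff_FF]
  exact coeff_eq_of_mapDomain_eq f hcompat _ _ (mapDomain_res _)

include hcompat in
lemma FF_qs_aux (ℓ : ℕ) (i : Fin ℓ → ℕ) (a : Fin ℓ → ℕ) (hi : StrictMono i) :
    MvPowerSeries.coeff (∑ t : Fin ℓ, Finsupp.single (i t) (a t)) (FF f)
      = MvPolynomial.coeff (∑ t : Fin ℓ, Finsupp.single t (a t)) (f ℓ) := by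
  classical
  set N := Finset.univ.sup i + 1 with hN
  have hlt : ∀ t, i t < N := fun t => Nat.lt_succ_of_le (Finset.le_sup (f := i) (Finset.mem_univ t))
  let i' : Fin ℓ ↪o Fin N := OrderEmbedding.ofStrictMono (fun t => ⟨i t, hlt t⟩)
    (fun t t' h => hi h)
  have h1 : (∑ t : Fin ℓ, Finsupp.single (i t) (a t))
      = Finsupp.mapDomain Fin.val (Finsupp.mapDomain i' (∑ t : Fin ℓ, Finsupp.single t (a t))) := by
    rw [Finsupp.mapDomain_finsetSum, Finsupp.mapDomain_finsetSum]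
    simp only [Finsupp.mapDomain_single]
    rfl
  rw [h1, FF_restrict f hcompat, ← hcompat]

include hcompat in
theorem partB (d : ℕ) (hhom : ∀ n, (f n).IsHomogeneous d) :
    ∃! F : MvPowerSeries ℕ ℤ, QS F ∧
      (∀ e : ℕ →₀ ℕ, MvPowerSeries.coeff e F ≠ 0 → e.degree = d) ∧
      (∀ (n : ℕ) (e : Fin n →₀ ℕ),
        MvPowerSeries.coeff (Finsupp.mapDomain Fin.val e) F = MvPolynomial.coeff e (f n)) := by
  refine ⟨FF f, ⟨?_, ?_, FF_restrict f hcompat⟩, ?_⟩
  · intro ℓ i j a hi hj _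
    rw [FF_qs_aux f hcompat ℓ i a hi, FF_qs_aux f hcompat ℓ j a hj]
  · intro E hE
    rw [coeff_FF] at hE
    by_contra hne
    apply hE
    apply (hhom (bd E)).coeff_eq_zero
    rw [← Finsupp.degree_mapDomain Fin.val (res E), mapDomain_res]
    exact hne
  · rintro F' ⟨_, _, hres⟩
    ext E
    rw [coeff_FF, ← hres, mapDomain_res]

end partB

end Groth.Agent.Lib.helper13.QSymLim
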