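import Mathlib
import Groth.Prelude.Def_W4c1limliniiiiRamP1

/-!
# Deforming pencils by `x^p`-multiples: ramification at infinity above `p` (helper13)
-/

set_option autoImplicit false

namespace Groth.Agent.Lib.helper13.RamInf

open Polynomial W4c1limliniiii

variable {k : Type*} [Field k]

lemma indep_of_deg {F G : k[X]} (hG : G ≠ 0) (hdeg : G.natDegree < F.natDegree) (s t : k)
    (h : s • F + t • G = 0) : s = 0 ∧ t = 0 := by
  have hs : s = 0 := by
    have := congrArg (fun q => coeff q F.natDegree) h
    simp only [coeff_add, coeff_smul, smul_eq_mul, coeff_zero] at this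
    rw [coeff_eq_zero_of_natDegree_lt hdeg, mul_zero, add_zero] at this
    rcases mul_eq_zero.mp this with h1 | h1
    · exact h1
    · exfalso
      have hF : F ≠ 0 := by rintro rfl; simp at hdeg
      exact (leadingCoeff_ne_zero.mpr hF) h1
  refine ⟨hs, ?_⟩
  rw [hs, zero_smul, zero_add] at h
  exact (smul_eq_zero.mp h).resolve_right hG

lemma rootMult_add {s h : k[X]} {a : k} {m : ℕ} (hs : s ≠ 0) (hm : rootMultiplicity a s < m) :
    s + (X - C a) ^ m * h ≠ 0 ∧
      rootMultiplicity a (s + (X - C a) ^ m * h) = rootMultiplicity a s := by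
  have hne : s + (X - C a) ^ m * h ≠ 0 := by
    intro h0
    have h1 : (X - C a) ^ m ∣ s := by
      have h2 : s = -((X - C a) ^ m * h) := eq_neg_of_add_eq_zero_left h0
      rw [h2]; exact (dvd_mul_right _ _).neg_right
    have := (le_rootMultiplicity_iff hs).mpr h1
    omega
  refine ⟨hne, le_antisymm ?_ ?_⟩
  · by_contra hlt
    push Not at hlt
    have h1 : (X - C a) ^ (rootMultiplicity a s + 1) ∣ s + (X - C a) ^ m * h :=
      (le_rootMultiplicity_iff hne).mp hlt
    have h2 : (X - C a) ^ (rootMultiplicity a s + 1) ∣ (X - C a) ^ m * h :=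
      Dvd.dvd.mul_right (pow_dvd_pow _ (by omega)) _
    have h3 : (X - C a) ^ (rootMultiplicity a s + 1) ∣ s := (dvd_add_left h2).mp h1
    have := (le_rootMultiplicity_iff hs).mpr h3
    omega
  · rw [le_rootMultiplicity_iff hne]
    exact dvd_add ((le_rootMultiplicity_iff hs).mp le_rfl)
      (Dvd.dvd.mul_right (pow_dvd_pow _ (by omega)) _)

/-- the deformed generator -/
noncomputable def Fc (p : ℕ) (F₀ G₀ : k[X]) (c : k) : k[X] := F₀ + C c * X ^ p * G₀

lemma natDegree_def_lt {p : ℕ} {G₀ : k[X]} {d E : ℕ} (hG : G₀.natDegree + E = d) (hE : p < E)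
    (c : k) : (C c * X ^ p * G₀).natDegree < d := by
  calc (C c * X ^ p * G₀).natDegree ≤ (C c * X ^ p).natDegree + G₀.natDegree := natDegree_mul_le
    _ ≤ p + G₀.natDegree := by
        gcongr
        exact (natDegree_C_mul_le _ _).trans (natDegree_X_pow_le p)
    _ < d := by omega

lemma natDegree_Fc {p : ℕ} {F₀ G₀ : k[X]} {d E : ℕ} (hF : F₀.natDegree = d)
    (hG : G₀.natDegree + E = d) (hE : p < E) (c : k) : (Fc p F₀ G₀ c).natDegree = d := by
  rw [Fc, natDegree_add_eq_left_of_natDegree_lt, hF]
  rw [hF]; exact natDegree_def_lt hG hE c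

lemma span_pair_finrank {F G : k[X]} (hG : G ≠ 0) (hdeg : G.natDegree < F.natDegree) :
    Module.finrank k ↥(Submodule.span k ({F, G} : Set k[X])) = 2 := by
  have hli : LinearIndependent k ![F, G] := LinearIndependent.pair_iff.mpr (indep_of_deg hG hdeg)
  have := finrank_span_eq_card hli
  have hr : Set.range ![F, G] = {F, G} := by
    ext x
    simp [eq_comm]
    exact or_comm
  rw [hr] at this
  simpa using this

lemma wronskian_comb (F G : k[X]) (a b a' b' : k) :
    wronskian (a • F + b • G) (a' • F + b' • G) = (a * b' - a' * b) • wronskian F G := by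
  simp only [wronskian, smul_eq_C_mul, derivative_add, derivative_mul, derivative_C, zero_mul,
    zero_add, map_sub, map_mul]
  ring

lemma wronskian_Fc (p : ℕ) [CharP k p] (F₀ G₀ : k[X]) (c : k) :
    wronskian (Fc p F₀ G₀ c) G₀ = wronskian F₀ G₀ := by
  have hp : (derivative (X ^ p : k[X])) = 0 := by
    rw [derivative_X_pow, CharP.cast_eq_zero k p, C_0, zero_mul]
  simp only [wronskian, Fc, derivative_add, derivative_mul, derivative_C, hp]
  ring

end Groth.Agent.Lib.helper13.RamInf
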