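import Groth.Agent.Lib.helper13.RamInf

/-!
# Deforming pencils by `x^p`-multiples, part 2 (helper13)
-/

set_option autoImplicit false

namespace Groth.Agent.Lib.helper13.RamInf

open Polynomial W4c1limliniiii

variable {k : Type*} [Field k]

/-- the deformed pencil -/
noncomputable def Vc (p : ℕ) (F₀ G₀ : k[X]) (c : k) : Submodule k k[X] :=
  Submodule.span k {Fc p F₀ G₀ c, G₀}

lemma mem_Vc {p : ℕ} {F₀ G₀ : k[X]} {c : k} {x : k[X]} :
    x ∈ Vc p F₀ G₀ c ↔ ∃ α β : k, α • Fc p F₀ G₀ c + β • G₀ = x := Submodule.mem_span_pair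

lemma Fc_mem {p : ℕ} {F₀ G₀ : k[X]} {c : k} : Fc p F₀ G₀ c ∈ Vc p F₀ G₀ c :=
  Submodule.subset_span (by simp)

lemma G_mem {p : ℕ} {F₀ G₀ : k[X]} {c : k} : G₀ ∈ Vc p F₀ G₀ c :=
  Submodule.subset_span (by simp)

section

variable {p d E : ℕ} {F₀ G₀ : k[X]}

lemma deg_lt (hF : F₀.natDegree = d) (hG : G₀.natDegree + E = d) (hE : p < E) :
    G₀.natDegree < F₀.natDegree := by omega

lemma isPencil_Vc (hF : F₀.natDegree = d) (hG : G₀.natDegree + E = d) (hG0 : G₀ ≠ 0) (hE : p < E)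
    (hbpf : ∀ a : k, ∃ s ∈ Submodule.span k ({F₀, G₀} : Set k[X]), s.eval a ≠ 0) (c : k) :
    IsPencil d (Vc p F₀ G₀ c) := by
  have hdF := natDegree_Fc hF hG hE c
  refine ⟨?_, ?_, ⟨_, Fc_mem, hdF⟩, ?_⟩
  · rw [Vc, Submodule.span_le]
    rintro x (rfl | rfl)
    · exact mem_degreeLE.mpr (degree_le_of_natDegree_le hdF.le)
    · exact mem_degreeLE.mpr (degree_le_of_natDegree_le (by omega))
  · exact span_pair_finrank hG0 (by rw [hdF]; omega)
  · intro a
    obtain ⟨s, hs, hsa⟩ := hbpf a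
    obtain ⟨α, β, rfl⟩ := Submodule.mem_span_pair.mp hs
    by_cases hGa : G₀.eval a = 0
    · refine ⟨_, Fc_mem, ?_⟩
      simp only [eval_add, eval_smul, smul_eq_mul, hGa, mul_zero, add_zero] at hsa
      have hFa : F₀.eval a ≠ 0 := right_ne_zero_of_mul hsa
      simp [Fc, hGa, hFa]
    · exact ⟨_, G_mem, hGa⟩

lemma isSeparable_Vc [CharP k p] (hsep : IsSeparable (Submodule.span k ({F₀, G₀} : Set k[X])))
    (c : k) : IsSeparable (Vc p F₀ G₀ c) := by
  obtain ⟨F, hF, G, hG, hW⟩ := hsep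
  obtain ⟨α, β, rfl⟩ := Submodule.mem_span_pair.mp hF
  obtain ⟨α', β', rfl⟩ := Submodule.mem_span_pair.mp hG
  rw [wronskian_comb] at hW
  have hW0 : wronskian F₀ G₀ ≠ 0 := fun h => hW (by rw [h, smul_zero])
  exact ⟨_, Fc_mem, _, G_mem, by rw [wronskian_Fc]; exact hW0⟩

lemma tau_identity [Fact p.Prime] [CharP k p] (a c α β : k) :
    α • Fc p F₀ G₀ c + (β - α * c * a ^ p) • G₀ =
      (α • F₀ + β • G₀) + (X - C a) ^ p * (C (α * c) * G₀) := by
  rw [sub_pow_char]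
  simp only [Fc, smul_eq_C_mul, map_sub, map_mul, map_pow]
  ring

lemma hasRamIdx_Vc [Fact p.Prime] [CharP k p] (hF : F₀.natDegree = d)
    (hG : G₀.natDegree + E = d) (hG0 : G₀ ≠ 0)
    (hE : p < E) {a : k} {e : ℕ} (he : e < p)
    (h : HasRamIdx (Submodule.span k ({F₀, G₀} : Set k[X])) a e) (c : k) :
    HasRamIdx (Vc p F₀ G₀ c) a e := by
  obtain ⟨⟨s₀, hs₀, hs₀0, hs₀e⟩, hub⟩ := h
  constructor
  · obtain ⟨α, β, rfl⟩ := Submodule.mem_span_pair.mp hs₀
    have hlt : rootMultiplicity a (α • F₀ + β • G₀) < p :=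
      lt_of_le_of_lt (hub _ hs₀ hs₀0) he
    obtain ⟨hne, heq⟩ := rootMult_add (h := C (α * c) * G₀) hs₀0 hlt
    refine ⟨α • Fc p F₀ G₀ c + (β - α * c * a ^ p) • G₀, mem_Vc.mpr ⟨_, _, rfl⟩, ?_, ?_⟩
    · rw [tau_identity]; exact hne
    · rw [tau_identity, heq]; exact hs₀e
  · intro t ht ht0
    obtain ⟨α, β', rfl⟩ := mem_Vc.mp ht
    have hid := tau_identity (F₀ := F₀) (G₀ := G₀) a c α (β' + α * c * a ^ p)
    rw [add_sub_cancel_right] at hid
    have hs : α • F₀ + (β' + α * c * a ^ p) • G₀ ∈ Submodule.span k ({F₀, G₀} : Set k[X]) :=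
      Submodule.mem_span_pair.mpr ⟨_, _, rfl⟩
    have hs0 : α • F₀ + (β' + α * c * a ^ p) • G₀ ≠ 0 := by
      intro h0
      obtain ⟨h1, h2⟩ := indep_of_deg hG0 (deg_lt hF hG hE) _ _ h0
      apply ht0
      rw [h1] at h2 ⊢
      have : β' = 0 := by simpa using h2
      rw [this]; simp
    have hlt : rootMultiplicity a (α • F₀ + (β' + α * c * a ^ p) • G₀) < p :=
      lt_of_le_of_lt (hub _ hs hs0) he
    obtain ⟨-, heq⟩ := rootMult_add (h := C (α * c) * G₀) hs0 hlt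
    rw [hid, heq]
    exact hub _ hs hs0

lemma hasRamIdxInf_Vc (hF : F₀.natDegree = d) (hG : G₀.natDegree + E = d) (hG0 : G₀ ≠ 0)
    (hE : p < E) (c : k) : HasRamIdxInf d (Vc p F₀ G₀ c) E := by
  have hdF := natDegree_Fc hF hG hE c
  refine ⟨⟨G₀, G_mem, hG0, hG.le⟩, ?_⟩
  intro s hs hs0
  obtain ⟨α, β, rfl⟩ := mem_Vc.mp hs
  by_cases hα : α = 0
  · subst hα
    rw [zero_smul, zero_add] at hs0 ⊢
    have hβ : β ≠ 0 := fun h => hs0 (by rw [h, zero_smul])
    rw [natDegree_smul _ hβ]; omega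
  · have h1 : (α • Fc p F₀ G₀ c).natDegree = d := by rw [natDegree_smul _ hα]; exact hdF
    have h2 : (β • G₀).natDegree < (α • Fc p F₀ G₀ c).natDegree := by
      rw [h1]
      exact lt_of_le_of_lt (natDegree_smul_le β G₀) (by omega)
    rw [natDegree_add_eq_left_of_natDegree_lt h2, h1]; omega

lemma Vc_injective (hp : p ≠ 0) (hF : F₀.natDegree = d) (hG : G₀.natDegree + E = d)
    (hG0 : G₀ ≠ 0) (hE : p < E) : Function.Injective (Vc p F₀ G₀) := by
  intro c c' h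
  have h1 : Fc p F₀ G₀ c ∈ Vc p F₀ G₀ c' := h ▸ Fc_mem
  obtain ⟨α, β, hαβ⟩ := mem_Vc.mp h1
  have hF0 : F₀ ≠ 0 := by rintro rfl; simp at hF; omega
  have hcoef : ∀ c : k, (Fc p F₀ G₀ c).coeff d = F₀.leadingCoeff := by
    intro c
    rw [Fc, coeff_add, coeff_eq_zero_of_natDegree_lt (natDegree_def_lt hG hE c), add_zero,
      leadingCoeff, hF]
  have hα : α = 1 := by
    have h2 := congrArg (fun q => coeff q d) hαβ
    simp only [coeff_add, coeff_smul, smul_eq_mul] at h2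
    rw [hcoef, hcoef, coeff_eq_zero_of_natDegree_lt (by omega), mul_zero, add_zero] at h2
    have h3 : (α - 1) * F₀.leadingCoeff = 0 := by linear_combination h2
    rcases mul_eq_zero.mp h3 with h4 | h4
    · exact sub_eq_zero.mp h4
    · exact absurd h4 (leadingCoeff_ne_zero.mpr hF0)
  rw [hα, one_smul] at hαβ
  have h5 : (C (c' - c) * X ^ p + C β) * G₀ = 0 := by
    simp only [Fc, smul_eq_C_mul] at hαβ
    simp only [map_sub]
    linear_combination hαβ
  rcases mul_eq_zero.mp h5 with h6 | h6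
  · have h7 := congrArg (fun q => coeff q p) h6
    simp only [coeff_add, coeff_C_mul, coeff_X_pow, if_pos, coeff_C, if_neg hp, coeff_zero] at h7
    have : c' - c = 0 := by simpa using h7
    exact (sub_eq_zero.mp this).symm
  · exact absurd h6 hG0

end

theorem main [IsAlgClosed k] (p : ℕ) [Fact p.Prime] [CharP k p]
    (d n : ℕ) (P : Fin n → k) (e : Fin n → ℕ) (E : ℕ)
    (he : Admissible p d (Fin.cons E e : Fin (n + 1) → ℕ))
    (hlt : ∀ i, e i < p) (hE : p < E) :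
    {V : Submodule k k[X] | V ∈ ramMaps d P e ∧ HasRamIdxInf d V E} = ∅ ∨
      {V : Submodule k k[X] | V ∈ ramMaps d P e ∧ HasRamIdxInf d V E}.Infinite := by
  have _hk : Infinite k := IsAlgClosed.instInfinite
  by_cases hne : {V : Submodule k k[X] | V ∈ ramMaps d P e ∧ HasRamIdxInf d V E}.Nonempty
  swap
  · left; exact Set.not_nonempty_iff_eq_empty.mp hne
  right
  obtain ⟨V, ⟨⟨hVle, hfin, ⟨F₀, hF₀V, hF₀d⟩, hbpf⟩, hsep, hram⟩, ⟨G₀, hG₀V, hG₀0, hG₀d⟩, hinf⟩ := hne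
  have hG : G₀.natDegree + E = d := le_antisymm hG₀d (hinf G₀ hG₀V hG₀0)
  have hp0 : p ≠ 0 := (Fact.out : p.Prime).ne_zero
  have hfd : FiniteDimensional k V := Module.finite_of_finrank_pos (by omega)
  have hV : V = Submodule.span k ({F₀, G₀} : Set k[X]) := by
    symm
    refine Submodule.eq_of_le_of_finrank_eq ?_ ?_
    · rw [Submodule.span_le]
      rintro x (rfl | rfl)
      · exact hF₀V
      · exact hG₀V
    · rw [hfin]; exact span_pair_finrank hG₀0 (by omega)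
  subst hV
  refine Set.infinite_of_injective_forall_mem (Vc_injective hp0 hF₀d hG hG₀0 hE) (fun c => ?_)
  refine ⟨⟨isPencil_Vc hF₀d hG hG₀0 hE hbpf c, isSeparable_Vc hsep c, fun i => ?_⟩,
    hasRamIdxInf_Vc hF₀d hG hG₀0 hE c⟩
  exact hasRamIdx_Vc hF₀d hG hG₀0 hE (hlt i) (hram i) c

end Groth.Agent.Lib.helper13.RamInf
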