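import Mathlib

/-!
The linear system `V = X^(a+1) k[X]_{≤ b-1} ⊕ (X-1)^(b+1) k[X]_{≤ a-1} ⊕ k X^(a+1)(X-1)^(b+1)`
(differentials on the projective line with poles at `0, 1, ∞` and vanishing residues), and
elementary structure lemmas.
-/

set_option autoImplicit false

namespace Groth.Agent.Lib.helper13.ResSys

open Polynomial

variable (k : Type*) [Field k]

/-- the linear system -/
noncomputable def V (a b : ℕ) : Submodule k k[X] :=
  ((Ideal.span {(X : k[X]) ^ (a + 1)}).restrictScalars k ⊓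
      degreeLE k ((a + b : ℕ) : WithBot ℕ)) ⊔
    ((Ideal.span {((X : k[X]) - 1) ^ (b + 1)}).restrictScalars k ⊓
      degreeLE k ((a + b : ℕ) : WithBot ℕ)) ⊔
    Submodule.span k {(X : k[X]) ^ (a + 1) * (X - 1) ^ (b + 1)}

variable {k}

theorem monic_X_sub_one : (X - 1 : k[X]).Monic := by
  have := monic_X_sub_C (1 : k)
  simpa using this

theorem natDegree_X_sub_one : (X - 1 : k[X]).natDegree = 1 := by
  have := natDegree_X_sub_C (1 : k)
  simpa using this

theorem natDegree_X_sub_one_pow (n : ℕ) : ((X - 1 : k[X]) ^ n).natDegree = n := by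
  rw [monic_X_sub_one.natDegree_pow, natDegree_X_sub_one, mul_one]

theorem degree_lt_of_mul {P G : k[X]} (hP : P.Monic) {n b : ℕ} (hn : P.natDegree = n)
    (h : (P * G).degree < ((n + b : ℕ) : WithBot ℕ)) : G.degree < (b : WithBot ℕ) := by
  by_cases hG : G = 0
  · subst hG
    rw [degree_zero]
    exact WithBot.bot_lt_coe b
  · rw [← natDegree_lt_iff_degree_lt hG]
    have h1 : (P * G).natDegree = P.natDegree + G.natDegree := hP.natDegree_mul' hG
    have h0 : P * G ≠ 0 := mul_ne_zero hP.ne_zero hG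
    have h2 : (P * G).natDegree < n + b := (natDegree_lt_iff_degree_lt h0).mpr h
    omega

theorem natDegree_lt_of_degree_lt {G : k[X]} {b : ℕ} (hb : 0 < b)
    (h : G.degree < (b : WithBot ℕ)) : G.natDegree < b := by
  by_cases hG : G = 0
  · subst hG
    simpa using hb
  · exact (natDegree_lt_iff_degree_lt hG).mpr h

theorem mem_V {a b : ℕ} {F : k[X]} (hF : F ∈ V k a b) :
    ∃ G H : k[X], ∃ c : k, F = X ^ (a + 1) * G + (X - 1) ^ (b + 1) * H +
      C c * (X ^ (a + 1) * (X - 1) ^ (b + 1)) ∧ G.degree < (b : WithBot ℕ) ∧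
      H.degree < (a : WithBot ℕ) := by
  unfold V at hF
  obtain ⟨y, hy, z, hz, rfl⟩ := Submodule.mem_sup.mp hF
  obtain ⟨u, hu, v, hv, rfl⟩ := Submodule.mem_sup.mp hy
  obtain ⟨c, rfl⟩ := Submodule.mem_span_singleton.mp hz
  obtain ⟨hu1, hu2⟩ := hu
  obtain ⟨hv1, hv2⟩ := hv
  rw [SetLike.mem_coe, Submodule.restrictScalars_mem, Ideal.mem_span_singleton] at hu1 hv1
  obtain ⟨G, rfl⟩ := hu1
  obtain ⟨H, rfl⟩ := hv1
  rw [SetLike.mem_coe, mem_degreeLE] at hu2 hv2
  refine ⟨G, H, c, ?_, ?_, ?_⟩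
  · rw [smul_eq_C_mul]
  · refine degree_lt_of_mul (monic_X_pow (a + 1)) (natDegree_X_pow (a + 1)) ?_
    refine lt_of_le_of_lt hu2 ?_
    exact_mod_cast (by omega : a + b < a + 1 + b)
  · refine degree_lt_of_mul (monic_X_sub_one.pow (b + 1)) (natDegree_X_sub_one_pow (b + 1)) ?_
    refine lt_of_le_of_lt hv2 ?_
    exact_mod_cast (by omega : a + b < b + 1 + a)

theorem monic_D (a b : ℕ) : ((X : k[X]) ^ (a + 1) * (X - 1) ^ (b + 1)).Monic :=
  (monic_X_pow (a + 1)).mul (monic_X_sub_one.pow (b + 1))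

theorem natDegree_D (a b : ℕ) : ((X : k[X]) ^ (a + 1) * (X - 1) ^ (b + 1)).natDegree = a + b + 2 := by
  rw [(monic_X_pow (a + 1)).natDegree_mul (monic_X_sub_one.pow (b + 1)), natDegree_X_pow,
    natDegree_X_sub_one_pow]
  ring

theorem V_le (a b : ℕ) : V k a b ≤ degreeLE k ((a + b + 2 : ℕ) : WithBot ℕ) := by
  unfold V
  refine sup_le (sup_le ?_ ?_) ?_
  · exact inf_le_right.trans (degreeLE_mono (by exact_mod_cast (by omega : a + b ≤ a + b + 2)))
  · exact inf_le_right.trans (degreeLE_mono (by exact_mod_cast (by omega : a + b ≤ a + b + 2)))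
  · rw [Submodule.span_le, Set.singleton_subset_iff, SetLike.mem_coe, mem_degreeLE]
    refine degree_le_natDegree.trans ?_
    rw [natDegree_D]

theorem natDegree_le_of_mem_V {a b : ℕ} {F : k[X]} (hF : F ∈ V k a b) :
    F.natDegree ≤ a + b + 2 := by
  have := V_le a b hF
  rw [mem_degreeLE] at this
  exact natDegree_le_of_degree_le this

/-- A monic polynomial of degree `a+b+2` some nonzero multiple of which lies in `V` lies in `V`. -/
theorem mem_of_finrank_pos {a b : ℕ} (P₀ : k[X]) (hP : P₀.Monic) (hd : P₀.natDegree = a + b + 2)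
    (h : 1 ≤ Module.finrank k ↥(V k a b ⊓ (Ideal.span {P₀}).restrictScalars k)) :
    P₀ ∈ V k a b := by
  have hpos : 0 < Module.finrank k ↥(V k a b ⊓ (Ideal.span {P₀}).restrictScalars k) := h
  have hfin : Module.Finite k ↥(V k a b ⊓ (Ideal.span {P₀}).restrictScalars k) :=
    Module.finite_of_finrank_pos hpos
  obtain ⟨⟨F, hF⟩, hne⟩ := Module.finrank_pos_iff_exists_ne_zero.mp hpos
  obtain ⟨hFV, hFs⟩ := hF
  rw [SetLike.mem_coe, Submodule.restrictScalars_mem, Ideal.mem_span_singleton] at hFs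
  obtain ⟨L, rfl⟩ := hFs
  have hL0 : L ≠ 0 := by
    rintro rfl
    apply hne
    ext1
    simp
  have hdeg : (P₀ * L).natDegree ≤ a + b + 2 := natDegree_le_of_mem_V hFV
  have h1 : (P₀ * L).natDegree = P₀.natDegree + L.natDegree := hP.natDegree_mul' hL0
  have hL : L.natDegree = 0 := by omega
  obtain ⟨l, rfl⟩ := natDegree_eq_zero.mp hL
  have hl : l ≠ 0 := by
    rintro rfl
    exact hL0 (by simp)
  have e : P₀ = l⁻¹ • (P₀ * C l) := by
    rw [smul_eq_C_mul, mul_comm P₀ (C l), ← mul_assoc, ← C_mul, inv_mul_cancel₀ hl, C_1, one_mul]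
  rw [e]
  exact Submodule.smul_mem _ _ hFV

theorem coeff_top_eq_zero {a b : ℕ} {G H : k[X]} (hG : G.degree < (b : WithBot ℕ))
    (hH : H.degree < (a : WithBot ℕ)) :
    (X ^ (a + 1) * G + (X - 1) ^ (b + 1) * H).natDegree ≤ a + b + 1 := by
  refine (natDegree_add_le _ _).trans (max_le ?_ ?_)
  · refine natDegree_mul_le.trans ?_
    rw [natDegree_X_pow]
    have := natDegree_le_of_degree_le (le_of_lt hG)
    omega
  · refine natDegree_mul_le.trans ?_
    rw [natDegree_X_sub_one_pow]
    have := natDegree_le_of_degree_le (le_of_lt hH)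
    omega

theorem natDegree_le_of_decomp {a b : ℕ} (ha : 0 < a) (hb : 0 < b) {G H : k[X]}
    (hG : G.degree < (b : WithBot ℕ))
    (hH : H.degree < (a : WithBot ℕ)) :
    (X ^ (a + 1) * G + (X - 1) ^ (b + 1) * H).natDegree ≤ a + b := by
  refine (natDegree_add_le _ _).trans (max_le ?_ ?_)
  · refine natDegree_mul_le.trans ?_
    rw [natDegree_X_pow]
    have := natDegree_lt_of_degree_lt hb hG
    omega
  · refine natDegree_mul_le.trans ?_
    rw [natDegree_X_sub_one_pow]
    have := natDegree_lt_of_degree_lt ha hH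
    omega

/-- A monic polynomial `N` of degree `a+b` with a two-dimensional space of multiples in `V`
is of the form `X^(a+1) G + (X-1)^(b+1) H`. -/
theorem decomp_of_two_le_finrank {a b : ℕ} (ha : 0 < a) (hb : 0 < b) (N : k[X]) (hN : N.Monic)
    (hd : N.natDegree = a + b)
    (h : 2 ≤ Module.finrank k ↥(V k a b ⊓ (Ideal.span {N}).restrictScalars k)) :
    ∃ G H : k[X], N = X ^ (a + 1) * G + (X - 1) ^ (b + 1) * H ∧ G.degree < (b : WithBot ℕ) ∧
      H.degree < (a : WithBot ℕ) := by
  have hfin : Module.Finite k ↥(V k a b ⊓ (Ideal.span {N}).restrictScalars k) :=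
    Module.finite_of_finrank_pos (by omega)
  have hrn := LinearMap.finrank_range_add_finrank_ker
    ((lcoeff k (a + b + 2)).comp (V k a b ⊓ (Ideal.span {N}).restrictScalars k).subtype)
  have hr : Module.finrank k (LinearMap.range
      ((lcoeff k (a + b + 2)).comp (V k a b ⊓ (Ideal.span {N}).restrictScalars k).subtype)) ≤ 1 := by
    calc _ ≤ Module.finrank k k := Submodule.finrank_le _
      _ = 1 := Module.finrank_self k
  have hk : 0 < Module.finrank k (LinearMap.ker
      ((lcoeff k (a + b + 2)).comp (V k a b ⊓ (Ideal.span {N}).restrictScalars k).subtype)) := by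
    omega
  have hkb : LinearMap.ker
      ((lcoeff k (a + b + 2)).comp (V k a b ⊓ (Ideal.span {N}).restrictScalars k).subtype) ≠ ⊥ := by
    intro hb
    rw [hb, finrank_bot] at hk
    omega
  obtain ⟨⟨F, hF⟩, hFker, hne⟩ := Submodule.exists_mem_ne_zero_of_ne_bot hkb
  have hF0 : F ≠ 0 := by
    rintro rfl
    apply hne
    ext1
    simp
  rw [LinearMap.mem_ker, LinearMap.comp_apply, Submodule.subtype_apply, lcoeff_apply] at hFker
  obtain ⟨hFV, hFs⟩ := hF
  rw [SetLike.mem_coe, Submodule.restrictScalars_mem, Ideal.mem_span_singleton] at hFs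
  obtain ⟨L, rfl⟩ := hFs
  obtain ⟨G, H, c, hdec, hG, hH⟩ := mem_V hFV
  have hc : c = 0 := by
    have h1 := congrArg (fun p => coeff p (a + b + 2)) hdec
    simp only [coeff_add, coeff_C_mul] at h1
    rw [hFker, ← coeff_add, coeff_eq_zero_of_natDegree_lt
      (lt_of_le_of_lt (coeff_top_eq_zero hG hH) (by omega))] at h1
    have h2 := (monic_D (k := k) a b).coeff_natDegree
    rw [natDegree_D] at h2
    rw [h2] at h1
    simpa using h1.symm
  subst hc
  rw [C_0, zero_mul, add_zero] at hdec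
  have hL0 : L ≠ 0 := by
    rintro rfl
    exact hF0 (by simp)
  have hdeg : (N * L).natDegree ≤ a + b := by
    rw [hdec]
    exact natDegree_le_of_decomp ha hb hG hH
  have h1 : (N * L).natDegree = N.natDegree + L.natDegree := hN.natDegree_mul' hL0
  have hL : L.natDegree = 0 := by omega
  obtain ⟨l, rfl⟩ := natDegree_eq_zero.mp hL
  have hl : l ≠ 0 := by
    rintro rfl
    exact hL0 (by simp)
  refine ⟨C l⁻¹ * G, C l⁻¹ * H, ?_, ?_, ?_⟩
  · have e : N = C l⁻¹ * (N * C l) := by
      rw [mul_comm N (C l), ← mul_assoc, ← C_mul, inv_mul_cancel₀ hl, C_1, one_mul]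
    rw [e, hdec]
    ring
  · rw [degree_C_mul (inv_ne_zero hl)]
    exact hG
  · rw [degree_C_mul (inv_ne_zero hl)]
    exact hH

end Groth.Agent.Lib.helper13.ResSys
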