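import Groth.Agent.Lib.helper13.ResSys

/-!
Antiderivatives of `G/(X-c)^(n+1)` for `deg G < n`, and the non-membership
`(X-q)^(m+b) ∉ X^(m+1) k[X]_{<b} + (X-1)^(b+1) k[X]_{<m}` for `q ≠ 0, 1`.
-/

set_option autoImplicit false

namespace Groth.Agent.Lib.helper13.ResSys

open Polynomial

variable {k : Type*} [Field k]

theorem pow_pred_mul (p : k[X]) (n : ℕ) : C (n : k) * p ^ (n - 1) * p = C (n : k) * p ^ n := by
  rcases n with _ | n
  · simp
  · simp [pow_succ, mul_assoc]

variable [CharZero k]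

/-- Solve `(X - c) G̃' - n G̃ = G` for `deg G < n`. -/
theorem antideriv (c : k) (n : ℕ) (G : k[X]) (hG : G.degree < (n : WithBot ℕ)) :
    ∃ Gt : k[X], Gt.degree < (n : WithBot ℕ) ∧
      (X - C c) * derivative Gt - C (n : k) * Gt = G := by
  have hsupp : ∀ t ∈ (taylor c G).support, t < n := by
    intro t ht
    by_contra hcon
    push Not at hcon
    have h1 : (taylor c G).degree < (n : WithBot ℕ) := by rw [degree_taylor]; exact hG
    exact (mem_support_iff.mp ht) ((degree_lt_iff_coeff_zero _ _).mp h1 t hcon)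
  refine ⟨∑ t ∈ (taylor c G).support,
    C ((taylor c G).coeff t / ((t : k) - n)) * (X - C c) ^ t, ?_, ?_⟩
  · rw [← mem_degreeLT]
    apply Submodule.sum_mem
    intro t ht
    rw [mem_degreeLT]
    have htn := hsupp t ht
    calc degree (C ((taylor c G).coeff t / ((t : k) - n)) * (X - C c) ^ t)
        ≤ (t : WithBot ℕ) := by
          refine degree_le_of_natDegree_le ?_
          refine (natDegree_C_mul_le _ _).trans ?_
          rw [(monic_X_sub_C c).natDegree_pow, natDegree_X_sub_C, mul_one]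
      _ < n := by exact_mod_cast htn
  · rw [derivative_sum, Finset.mul_sum, Finset.mul_sum, ← Finset.sum_sub_distrib]
    conv_rhs => rw [← sum_taylor_eq G c]
    rw [Polynomial.sum_def]
    apply Finset.sum_congr rfl
    intro t ht
    have htn := hsupp t ht
    have hne : (t : k) - n ≠ 0 := sub_ne_zero.mpr (by exact_mod_cast htn.ne)
    rw [derivative_C_mul, derivative_X_sub_C_pow]
    have e := pow_pred_mul (X - C c : k[X]) t
    have e2 : (C ((taylor c G).coeff t) : k[X]) =
        C ((taylor c G).coeff t / ((t : k) - n)) * (C (t : k) - C (n : k)) := by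
      rw [← C_sub, ← C_mul, div_mul_cancel₀ _ hne]
    rw [e2]
    linear_combination (C ((taylor c G).coeff t / ((t : k) - n))) * e

/-- A solution of a first-order inhomogeneous ODE `A S' + B S = (X-c)^(s+1) U` with a root of
multiplicity `s+1` at `c`: `A(c) T(c) = 0`. -/
theorem eval_eq_zero_of_ode1 (S T A B U : k[X]) (c : k) (s : ℕ)
    (hfac : S = (X - C c) ^ (s + 1) * T)
    (hode : A * derivative S + B * S = (X - C c) ^ (s + 1) * U) :
    eval c A * eval c T = 0 := by
  subst hfac
  have h1 : derivative ((X - C c) ^ (s + 1) * T) =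
      C ((s + 1 : ℕ) : k) * (X - C c) ^ s * T + (X - C c) ^ (s + 1) * derivative T := by
    rw [derivative_mul, derivative_X_sub_C_pow]
    simp
  rw [h1] at hode
  have hfact : (X - C c) ^ s * (A * (C ((s + 1 : ℕ) : k) * T) +
      (X - C c) * (A * derivative T + B * T - U)) = 0 := by
    linear_combination hode
  rcases mul_eq_zero.mp hfact with h3 | h3
  · exact absurd h3 (pow_ne_zero s (X_sub_C_ne_zero c))
  · have h4 := congrArg (eval c) h3
    simp only [eval_add, eval_mul, eval_sub, eval_X, eval_C, sub_self, zero_mul,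
      add_zero, eval_zero] at h4
    have h6 : ((s + 1 : ℕ) : k) ≠ 0 := Nat.cast_ne_zero.mpr (by omega)
    have h8 : eval c A * eval c T * ((s + 1 : ℕ) : k) = 0 := by
      rw [← h4]; ring
    rcases mul_eq_zero.mp h8 with h9 | h9
    · exact h9
    · exact absurd h9 h6

/-- the first-order operator `L_{m,b}(R) = X(X-1) R' - ((m+b) X - m) R` -/
noncomputable def Lop (m b : ℕ) (R : k[X]) : k[X] :=
  X * (X - 1) * derivative R - (C ((m : k) + b) * X - C (m : k)) * R

omit [CharZero k] in
theorem Lop_sub_C_mul (m b : ℕ) (R E : k[X]) (γ : k) :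
    Lop m b (R - C γ * E) = Lop m b R - C γ * Lop m b E := by
  unfold Lop
  rw [derivative_sub, derivative_C_mul]
  ring

omit [CharZero k] in
theorem Lop_E (m b : ℕ) : Lop (k := k) m b (X ^ m * (X - 1) ^ b) = 0 := by
  unfold Lop
  have h1 : derivative (X - 1 : k[X]) = 1 := by simp
  rw [derivative_mul, derivative_pow, derivative_pow, h1, derivative_X, mul_one, mul_one]
  have e1 := pow_pred_mul (X : k[X]) m
  have e2 := pow_pred_mul (X - 1 : k[X]) b
  rw [C_add]
  linear_combination ((X - 1) ^ (b + 1)) * e1 + (X ^ (m + 1)) * e2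

omit [CharZero k] in
theorem Lop_R (m b : ℕ) (Gt Ht : k[X]) :
    Lop m b (X ^ m * Gt + (X - 1) ^ b * Ht) =
      X ^ (m + 1) * ((X - 1) * derivative Gt - C (b : k) * Gt) +
      (X - 1) ^ (b + 1) * (X * derivative Ht - C (m : k) * Ht) := by
  unfold Lop
  have h1 : derivative (X - 1 : k[X]) = 1 := by simp
  rw [derivative_add, derivative_mul, derivative_mul, derivative_pow, derivative_pow, h1,
    derivative_X, mul_one, mul_one]
  have e1 := pow_pred_mul (X : k[X]) m
  have e2 := pow_pred_mul (X - 1 : k[X]) b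
  rw [C_add]
  linear_combination ((X - 1) * Gt) * e1 + (X * Ht) * e2

/-- The core non-membership. -/
theorem core (m b : ℕ) (hm : 0 < m) (hb : 0 < b) (q : k) (hq0 : q ≠ 0) (hq1 : q ≠ 1)
    (G H : k[X]) (hG : G.degree < (b : WithBot ℕ)) (hH : H.degree < (m : WithBot ℕ)) :
    (X - C q) ^ (m + b) ≠ X ^ (m + 1) * G + (X - 1) ^ (b + 1) * H := by
  intro heq
  obtain ⟨Gt, hGt, hGe⟩ := antideriv (1 : k) b G hG
  obtain ⟨Ht, hHt, hHe⟩ := antideriv (0 : k) m H hH
  rw [C_1] at hGe
  rw [C_0, sub_zero] at hHe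
  have hR : Lop m b (X ^ m * Gt + (X - 1) ^ b * Ht) = (X - C q) ^ (m + b) := by
    rw [Lop_R, hGe, hHe, heq]
  have hRdeg : (X ^ m * Gt + (X - 1) ^ b * Ht).natDegree ≤ m + b := by
    refine (natDegree_add_le _ _).trans (max_le ?_ ?_)
    · refine natDegree_mul_le.trans ?_
      rw [natDegree_X_pow]
      have := natDegree_lt_of_degree_lt hb hGt
      omega
    · refine natDegree_mul_le.trans ?_
      rw [natDegree_X_sub_one_pow]
      have := natDegree_lt_of_degree_lt hm hHt
      omega
  have hEdeg : ((X : k[X]) ^ m * (X - 1) ^ b).natDegree ≤ m + b := by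
    refine natDegree_mul_le.trans ?_
    rw [natDegree_X_pow, natDegree_X_sub_one_pow]
  have hEq : eval q ((X : k[X]) ^ m * (X - 1) ^ b) ≠ 0 := by
    simp only [eval_mul, eval_pow, eval_X, eval_sub, eval_one]
    exact mul_ne_zero (pow_ne_zero _ hq0) (pow_ne_zero _ (sub_ne_zero.mpr hq1))
  set R := X ^ m * Gt + (X - 1) ^ b * Ht with hRdef
  set E := (X : k[X]) ^ m * (X - 1) ^ b with hEdef
  set γ := eval q R / eval q E with hγ
  have hS : Lop m b (R - C γ * E) = (X - C q) ^ (m + b) := by
    rw [Lop_sub_C_mul, Lop_E, mul_zero, sub_zero, hR]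
  have hSroot : eval q (R - C γ * E) = 0 := by
    rw [eval_sub, eval_mul, eval_C, hγ, div_mul_cancel₀ _ hEq, sub_self]
  have hS0 : R - C γ * E ≠ 0 := by
    intro h0
    rw [h0] at hS
    unfold Lop at hS
    rw [derivative_zero, mul_zero, mul_zero, sub_zero] at hS
    exact pow_ne_zero _ (X_sub_C_ne_zero q) hS.symm
  have hSdeg : (R - C γ * E).natDegree ≤ m + b := by
    refine (natDegree_sub_le _ _).trans (max_le hRdeg ?_)
    exact (natDegree_C_mul_le _ _).trans hEdeg
  obtain ⟨T, hfac, hT⟩ := exists_eq_pow_rootMultiplicity_mul_and_not_dvd (R - C γ * E) hS0 q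
  have hpos : 0 < rootMultiplicity q (R - C γ * E) := (rootMultiplicity_pos hS0).mpr hSroot
  have hle : rootMultiplicity q (R - C γ * E) ≤ m + b := by
    have hd : (X - C q) ^ rootMultiplicity q (R - C γ * E) ∣ (R - C γ * E) :=
      pow_rootMultiplicity_dvd _ _
    have := natDegree_le_of_dvd hd hS0
    rw [(monic_X_sub_C q).natDegree_pow, natDegree_X_sub_C, mul_one] at this
    omega
  obtain ⟨s, hs⟩ : ∃ s, rootMultiplicity q (R - C γ * E) = s + 1 := ⟨_, (Nat.sub_add_cancel hpos).symm⟩
  rw [hs] at hfac hle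
  have hode : (X * (X - 1)) * derivative (R - C γ * E) +
      (-(C ((m : k) + b) * X - C (m : k))) * (R - C γ * E) =
      (X - C q) ^ (s + 1) * (X - C q) ^ (m + b - (s + 1)) := by
    rw [← pow_add, Nat.add_sub_cancel' hle, ← hS]
    unfold Lop
    ring
  have h4 := eval_eq_zero_of_ode1 _ T _ _ _ q s hfac hode
  simp only [eval_mul, eval_X, eval_sub, eval_one] at h4
  have hTq : eval q T ≠ 0 := by
    intro h0
    exact hT (dvd_iff_isRoot.mpr h0)
  exact absurd h4 (mul_ne_zero (mul_ne_zero hq0 (sub_ne_zero.mpr hq1)) hTq)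

end Groth.Agent.Lib.helper13.ResSys
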