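import Groth.Agent.Lib.helper13.ResSys2

/-!
S16261: if `P = A` then `i ≥ a + 1`.
-/

set_option autoImplicit false

namespace Groth.Agent.Lib.helper13.ResSys

open Polynomial

variable {k : Type*} [Field k]

theorem isCoprime_X_pow_X_sub_one_pow (s t : ℕ) : IsCoprime ((X : k[X]) ^ s) ((X - 1) ^ t) := by
  have h : IsCoprime (X : k[X]) (X - 1) := ⟨1, -1, by ring⟩
  exact h.pow

theorem coeff_X_sub_one_pow (n : ℕ) : ((X - 1 : k[X]) ^ (n + 1)).coeff n = -((n : k) + 1) := by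
  have h : (X - 1 : k[X]) = X + C (-1) := by simp [sub_eq_add_neg]
  rw [h, coeff_X_add_C_pow, show n + 1 - n = 1 by omega, Nat.choose_succ_self_right]
  push_cast
  ring

theorem coeff_X_sub_one_pow_top (n : ℕ) : ((X - 1 : k[X]) ^ n).coeff n = 1 := by
  have := (monic_X_sub_one (k := k).pow n).coeff_natDegree
  rwa [natDegree_X_sub_one_pow] at this

variable [CharZero k]

theorem q_ne_zero_aux {a b : ℕ} (i j : ℕ) (hj : i + j = a + b + 2)
    (hmem : (X : k[X]) ^ i * (X - C (0 : k)) ^ j ∈ V k a b) : False := by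
  obtain ⟨G, H, c, hdec, hG, hH⟩ := mem_V hmem
  rw [C_0, sub_zero, ← pow_add, hj] at hdec
  have hdvd : (X : k[X]) ^ (a + 1) ∣ (X - 1) ^ (b + 1) * H :=
    ⟨X ^ (b + 1) - G - C c * (X - 1) ^ (b + 1), by linear_combination -hdec⟩
  have hdvd2 : (X : k[X]) ^ (a + 1) ∣ H :=
    (isCoprime_X_pow_X_sub_one_pow (a + 1) (b + 1)).dvd_of_dvd_mul_left hdvd
  have hH0 : H = 0 := by
    refine eq_zero_of_dvd_of_natDegree_lt hdvd2 ?_
    rw [natDegree_X_pow]
    have := natDegree_le_of_degree_le (le_of_lt hH)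
    omega
  subst hH0
  have h2 : (X : k[X]) ^ (b + 1) = G + C c * (X - 1) ^ (b + 1) := by
    refine mul_left_cancel₀ (pow_ne_zero (a + 1) (X_ne_zero (R := k))) ?_
    linear_combination hdec
  have hGb : G.coeff b = 0 := coeff_eq_zero_of_degree_lt hG
  have hGb1 : G.coeff (b + 1) = 0 :=
    coeff_eq_zero_of_degree_lt (lt_trans hG (by exact_mod_cast Nat.lt_succ_self b))
  have e1 := congrArg (fun p => coeff p (b + 1)) h2
  have e2 := congrArg (fun p => coeff p b) h2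
  simp only [coeff_add, coeff_C_mul, coeff_X_pow, hGb, hGb1, coeff_X_sub_one_pow,
    coeff_X_sub_one_pow_top, if_true, zero_add, mul_one] at e1 e2
  rw [if_neg (by omega)] at e2
  rw [← e1] at e2
  have h3 : ((b + 1 : ℕ) : k) ≠ 0 := Nat.cast_ne_zero.mpr (by omega)
  push_cast at h3
  apply h3
  linear_combination e2

theorem q_ne_one_aux {a b : ℕ} (i j : ℕ) (hia : i ≤ a) (hj : i + j = a + b + 2)
    (hmem : (X : k[X]) ^ i * (X - C (1 : k)) ^ j ∈ V k a b) : False := by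
  obtain ⟨G, H, c, hdec, hG, hH⟩ := mem_V hmem
  obtain ⟨m', hm'⟩ : ∃ m', a = i + m' := ⟨a - i, by omega⟩
  have hj' : j = b + 1 + (m' + 1) := by omega
  subst hj'
  subst hm'
  rw [C_1] at hdec
  have hdvd : (X - 1 : k[X]) ^ (b + 1) ∣ X ^ (i + m' + 1) * G :=
    ⟨X ^ i * (X - 1) ^ (m' + 1) - H - C c * X ^ (i + m' + 1), by linear_combination -hdec⟩
  have hdvd2 : (X - 1 : k[X]) ^ (b + 1) ∣ G :=
    (isCoprime_X_pow_X_sub_one_pow (i + m' + 1) (b + 1)).symm.dvd_of_dvd_mul_left hdvd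
  have hG0 : G = 0 := by
    refine eq_zero_of_dvd_of_natDegree_lt hdvd2 ?_
    rw [natDegree_X_sub_one_pow]
    have := natDegree_le_of_degree_le (le_of_lt hG)
    omega
  subst hG0
  have h2 : (X : k[X]) ^ i * (X - 1) ^ (m' + 1) = H + C c * X ^ (i + m' + 1) := by
    refine mul_left_cancel₀ (pow_ne_zero (b + 1) (monic_X_sub_one (k := k)).ne_zero) ?_
    linear_combination hdec
  have hHa : H.coeff (m' + i) = 0 := by
    refine coeff_eq_zero_of_degree_lt ?_
    rw [add_comm m' i]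
    exact hH
  have hHa1 : H.coeff (m' + 1 + i) = 0 := by
    refine coeff_eq_zero_of_degree_lt (lt_trans hH ?_)
    exact_mod_cast (by omega : i + m' < m' + 1 + i)
  have e2 := congrArg (fun p => coeff p (m' + i)) h2
  simp only [coeff_add, coeff_C_mul, coeff_X_pow_mul, coeff_X_pow, hHa, coeff_X_sub_one_pow,
    zero_add] at e2
  rw [if_neg (by omega), mul_zero] at e2
  have h3 : ((m' + 1 : ℕ) : k) ≠ 0 := Nat.cast_ne_zero.mpr (by omega)
  push_cast at h3
  apply h3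
  linear_combination -e2

/-- S16261 -/
theorem main (a b i j : ℕ) (ha : 0 < a) (hb : 0 < b) (hi : 0 < i) (hj : i + j = a + b + 2)
    (q : k)
    (h1 : 1 ≤ Module.finrank k
      ↥(V k a b ⊓ (Ideal.span {(X : k[X]) ^ i * (X - C q) ^ j}).restrictScalars k))
    (h2 : 2 ≤ Module.finrank k
      ↥(V k a b ⊓ (Ideal.span {(X : k[X]) ^ (i - 1) * (X - C q) ^ (j - 1)}).restrictScalars k)) :
    a + 1 ≤ i := by
  by_contra hcon
  push Not at hcon
  have hia : i ≤ a := by omega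
  have hP₀ : ((X : k[X]) ^ i * (X - C q) ^ j).Monic :=
    (monic_X_pow i).mul ((monic_X_sub_C q).pow j)
  have hP₀d : ((X : k[X]) ^ i * (X - C q) ^ j).natDegree = a + b + 2 := by
    rw [(monic_X_pow i).natDegree_mul ((monic_X_sub_C q).pow j), natDegree_X_pow,
      (monic_X_sub_C q).natDegree_pow, natDegree_X_sub_C]
    omega
  have hmem := mem_of_finrank_pos _ hP₀ hP₀d h1
  have hq0 : q ≠ 0 := by
    rintro rfl
    exact q_ne_zero_aux i j hj hmem
  have hq1 : q ≠ 1 := by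
    rintro rfl
    exact q_ne_one_aux i j hia hj hmem
  have hNm : ((X : k[X]) ^ (i - 1) * (X - C q) ^ (j - 1)).Monic :=
    (monic_X_pow _).mul ((monic_X_sub_C q).pow _)
  have hNd : ((X : k[X]) ^ (i - 1) * (X - C q) ^ (j - 1)).natDegree = a + b := by
    rw [(monic_X_pow _).natDegree_mul ((monic_X_sub_C q).pow _), natDegree_X_pow,
      (monic_X_sub_C q).natDegree_pow, natDegree_X_sub_C]
    omega
  obtain ⟨G, H, hN, hG, hH⟩ := decomp_of_two_le_finrank ha hb _ hNm hNd h2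
  obtain ⟨i', rfl⟩ : ∃ i', i = i' + 1 := ⟨i - 1, by omega⟩
  obtain ⟨m', hm'⟩ : ∃ m', a = i' + (m' + 1) := ⟨a - i' - 1, by omega⟩
  have hj' : j = (m' + 1) + b + 1 := by omega
  subst hj'
  subst hm'
  rw [Nat.add_sub_cancel, Nat.add_sub_cancel] at hN
  have hdvd : (X : k[X]) ^ i' ∣ (X - 1) ^ (b + 1) * H :=
    ⟨(X - C q) ^ (m' + 1 + b) - X ^ (m' + 1 + 1) * G, by linear_combination -hN⟩
  obtain ⟨H₁, rfl⟩ : (X : k[X]) ^ i' ∣ H :=
    (isCoprime_X_pow_X_sub_one_pow i' (b + 1)).dvd_of_dvd_mul_left hdvd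
  have hcore : (X - C q) ^ (m' + 1 + b) = X ^ (m' + 1 + 1) * G + (X - 1) ^ (b + 1) * H₁ := by
    refine mul_left_cancel₀ (pow_ne_zero i' (X_ne_zero (R := k))) ?_
    linear_combination hN
  have hH₁ : H₁.degree < ((m' + 1 : ℕ) : WithBot ℕ) :=
    degree_lt_of_mul (monic_X_pow i') (natDegree_X_pow i') hH
  exact core (m' + 1) b (by omega) hb q hq0 hq1 G H₁ hG hH₁ hcore

end Groth.Agent.Lib.helper13.ResSys
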