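import Groth.Agent.Lib.helper13.ResSys3

/-!
S16260: no pair `P, Q ∉ {A, B, C}` with `dim V(-iP-jQ) ≥ 1` and `dim V(-(i-1)P-(j-1)Q) ≥ 2`.

The proof uses the first-order operator `∇ w = φ w' - (i'(X-q) + j'(X-p)) w`, `φ = (X-p)(X-q)`,
which annihilates `N = (X-p)^i' (X-q)^j'`.
-/

set_option autoImplicit false

namespace Groth.Agent.Lib.helper13.ResSys

open Polynomial

variable {k : Type*} [Field k]

theorem eq_C_mul_of_dvd {P Q : k[X]} (hP : P.Monic) {d : ℕ} (hd : P.natDegree = d)
    (hdvd : P ∣ Q) (hQ : Q.natDegree ≤ d) : Q = C (Q.coeff d) * P := by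
  obtain ⟨K, rfl⟩ := hdvd
  by_cases hK : K = 0
  · subst hK
    simp
  · have h1 : (P * K).natDegree = P.natDegree + K.natDegree := hP.natDegree_mul' hK
    have hK0 : K.natDegree = 0 := by omega
    obtain ⟨c, rfl⟩ := natDegree_eq_zero.mp hK0
    have : (P * C c).coeff d = c := by
      rw [mul_comm, coeff_C_mul, ← hd, hP.coeff_natDegree, mul_one]
    rw [this, mul_comm]

theorem coeff_phi_mul (p q : k) (w : k[X]) (n : ℕ) (hw : w.natDegree ≤ n + 1) :
    ((X - C p) * (X - C q) * w).coeff (n + 3) = w.coeff (n + 1) ∧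
    ((X - C p) * (X - C q) * w).coeff (n + 2) = w.coeff n - (p + q) * w.coeff (n + 1) := by
  have e : (X - C p) * (X - C q) * w = w * X ^ 2 - C (p + q) * (w * X) + C (p * q) * w := by
    simp only [C_add, C_mul]
    ring
  have h2 : w.coeff (n + 2) = 0 := coeff_eq_zero_of_natDegree_lt (by omega)
  have h3 : w.coeff (n + 3) = 0 := coeff_eq_zero_of_natDegree_lt (by omega)
  have a1 : (w * X ^ 2).coeff (n + 3) = w.coeff (n + 1) := coeff_mul_X_pow w 2 (n + 1)
  have a2 : (w * X).coeff (n + 3) = w.coeff (n + 2) := coeff_mul_X w (n + 2)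
  have a3 : (w * X ^ 2).coeff (n + 2) = w.coeff n := coeff_mul_X_pow w 2 n
  have a4 : (w * X).coeff (n + 2) = w.coeff (n + 1) := coeff_mul_X w (n + 1)
  rw [e]
  constructor
  · rw [coeff_add, coeff_sub, coeff_C_mul, coeff_C_mul, a1, a2, h2, h3]
    ring
  · rw [coeff_add, coeff_sub, coeff_C_mul, coeff_C_mul, a3, a4, h2]
    ring

/-- the first-order operator annihilating `(X-p)^i' (X-q)^j'` -/
noncomputable def nab (p q : k) (i' j' : ℕ) (w : k[X]) : k[X] :=
  (X - C p) * (X - C q) * derivative w - (C (i' : k) * (X - C q) + C (j' : k) * (X - C p)) * w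

theorem nab_add (p q : k) (i' j' : ℕ) (w₀ w₁ : k[X]) :
    nab p q i' j' (w₀ + w₁) = nab p q i' j' w₀ + nab p q i' j' w₁ := by
  unfold nab
  rw [derivative_add]
  ring

theorem nab_N (p q : k) (i' j' : ℕ) :
    nab p q i' j' ((X - C p) ^ i' * (X - C q) ^ j') = 0 := by
  unfold nab
  rw [derivative_mul, derivative_X_sub_C_pow, derivative_X_sub_C_pow]
  have e1 := pow_pred_mul (X - C p : k[X]) i'
  have e2 := pow_pred_mul (X - C q : k[X]) j'
  linear_combination ((X - C q) ^ (j' + 1)) * e1 + ((X - C p) ^ (i' + 1)) * e2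

theorem coeff_X_sq_mul_derivative (w : k[X]) (n : ℕ) :
    (derivative w * X ^ 2).coeff (n + 1) = (n : k) * w.coeff n := by
  rcases n with _ | n
  · rw [coeff_mul_X_pow']
    simp
  · have : (derivative w * X ^ 2).coeff (n + 1 + 1) = (derivative w).coeff n :=
      coeff_mul_X_pow (derivative w) 2 n
    rw [this, coeff_derivative]
    push_cast
    ring

theorem coeff_nab (p q : k) (i' j' n : ℕ) (hij : i' + j' = n + 1) (w : k[X])
    (hw : w.natDegree ≤ n + 1) :
    (nab p q i' j' w).coeff (n + 2) = 0 ∧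
    (nab p q i' j' w).coeff (n + 1) =
      (-(i' : k) * p - j' * q) * w.coeff (n + 1) - w.coeff n := by
  have e : nab p q i' j' w = derivative w * X ^ 2 - C (p + q) * (derivative w * X) +
      C (p * q) * derivative w - C ((i' : k) + j') * (w * X) +
      C ((i' : k) * q + j' * p) * w := by
    unfold nab
    simp only [C_add, C_mul]
    ring
  have h2 : w.coeff (n + 2) = 0 := coeff_eq_zero_of_natDegree_lt (by omega)
  have h3 : w.coeff (n + 3) = 0 := coeff_eq_zero_of_natDegree_lt (by omega)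
  have hcast : ((i' : k) + j') = n + 1 := by exact_mod_cast congrArg (Nat.cast : ℕ → k) hij
  have a1 : (derivative w * X ^ 2).coeff (n + 2) = ((n : k) + 1) * w.coeff (n + 1) := by
    have := coeff_X_sq_mul_derivative w (n + 1)
    rw [this]
    push_cast
    ring
  have a2 : (derivative w * X).coeff (n + 2) = 0 := by
    have : (derivative w * X).coeff (n + 2) = (derivative w).coeff (n + 1) :=
      coeff_mul_X (derivative w) (n + 1)
    rw [this, coeff_derivative, h2, zero_mul]
  have a3 : (derivative w).coeff (n + 2) = 0 := by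
    rw [coeff_derivative, h3, zero_mul]
  have a4 : (w * X).coeff (n + 2) = w.coeff (n + 1) := coeff_mul_X w (n + 1)
  have b1 : (derivative w * X ^ 2).coeff (n + 1) = (n : k) * w.coeff n :=
    coeff_X_sq_mul_derivative w n
  have b2 : (derivative w * X).coeff (n + 1) = ((n : k) + 1) * w.coeff (n + 1) := by
    rw [coeff_mul_X, coeff_derivative]
    ring
  have b3 : (derivative w).coeff (n + 1) = 0 := by
    rw [coeff_derivative, h2, zero_mul]
  have b4 : (w * X).coeff (n + 1) = w.coeff n := coeff_mul_X w n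
  rw [e]
  constructor
  · simp only [coeff_add, coeff_sub, coeff_C_mul, a1, a2, a3, a4, h2, hcast]
    ring
  · simp only [coeff_add, coeff_sub, coeff_C_mul, b1, b2, b3, b4, hcast]
    linear_combination (w.coeff (n + 1) * (p + q)) * hcast

theorem natDegree_nab_le (p q : k) (i' j' n : ℕ) (hij : i' + j' = n + 1) (w : k[X])
    (hw : w.natDegree ≤ n + 1) : (nab p q i' j' w).natDegree ≤ n + 1 := by
  have h1 : (nab p q i' j' w).natDegree ≤ n + 2 := by
    unfold nab
    refine (natDegree_sub_le _ _).trans (max_le ?_ ?_)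
    · refine natDegree_mul_le.trans ?_
      have h1 : ((X - C p) * (X - C q) : k[X]).natDegree ≤ 2 := by
        refine natDegree_mul_le.trans ?_
        rw [natDegree_X_sub_C, natDegree_X_sub_C]
      have h2 := natDegree_derivative_le w
      omega
    · refine natDegree_mul_le.trans ?_
      have h1 : (C (i' : k) * (X - C q) + C (j' : k) * (X - C p) : k[X]).natDegree ≤ 1 := by
        refine (natDegree_add_le _ _).trans (max_le ?_ ?_)
        · refine (natDegree_C_mul_le _ _).trans ?_
          rw [natDegree_X_sub_C]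
        · refine (natDegree_C_mul_le _ _).trans ?_
          rw [natDegree_X_sub_C]
      omega
  have := natDegree_le_pred h1 (coeff_nab p q i' j' n hij w hw).1
  simpa using this

theorem dvd_nab_one (p q : k) (i' j' b : ℕ) (H : k[X]) :
    (X - 1 : k[X]) ^ b ∣ nab p q i' j' ((X - 1) ^ (b + 1) * H) := by
  refine ⟨(X - C p) * (X - C q) * (C ((b + 1 : ℕ) : k) * H + (X - 1) * derivative H) -
    (C (i' : k) * (X - C q) + C (j' : k) * (X - C p)) * ((X - 1) * H), ?_⟩
  unfold nab
  have h1 : derivative ((X - 1 : k[X]) ^ (b + 1)) = C ((b + 1 : ℕ) : k) * (X - 1) ^ b := by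
    rw [derivative_pow]
    simp
  rw [derivative_mul, h1]
  ring

theorem dvd_nab_zero (p q : k) (i' j' a : ℕ) (G : k[X]) :
    (X : k[X]) ^ a ∣ nab p q i' j' (X ^ (a + 1) * G) := by
  refine ⟨(X - C p) * (X - C q) * (C ((a + 1 : ℕ) : k) * G + X * derivative G) -
    (C (i' : k) * (X - C q) + C (j' : k) * (X - C p)) * (X * G), ?_⟩
  unfold nab
  have h1 : derivative ((X : k[X]) ^ (a + 1)) = C ((a + 1 : ℕ) : k) * X ^ a := by
    rw [derivative_pow]
    simp
  rw [derivative_mul, h1]
  ring

theorem nab_ne_zero [CharZero k] (p q : k) (hp1 : p ≠ 1) (hq1 : q ≠ 1) (i' j' : ℕ) (w : k[X])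
    (hw : w ≠ 0) (hroot : eval 1 w = 0) : nab p q i' j' w ≠ 0 := by
  intro h0
  obtain ⟨T, hfac, hT⟩ := exists_eq_pow_rootMultiplicity_mul_and_not_dvd w hw 1
  have hpos : 0 < rootMultiplicity 1 w := (rootMultiplicity_pos hw).mpr hroot
  obtain ⟨s, hs⟩ : ∃ s, rootMultiplicity 1 w = s + 1 := ⟨_, (Nat.sub_add_cancel hpos).symm⟩
  rw [hs] at hfac
  have hode : ((X - C p) * (X - C q)) * derivative w +
      (-(C (i' : k) * (X - C q) + C (j' : k) * (X - C p))) * w = (X - C 1) ^ (s + 1) * 0 := by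
    rw [mul_zero, ← h0]
    unfold nab
    ring
  have h4 := eval_eq_zero_of_ode1 w T _ _ _ 1 s hfac hode
  simp only [eval_mul, eval_sub, eval_X, eval_C] at h4
  have hTq : eval 1 T ≠ 0 := by
    intro h0
    exact hT (dvd_iff_isRoot.mpr h0)
  exact absurd h4 (mul_ne_zero (mul_ne_zero (sub_ne_zero.mpr (Ne.symm hp1))
    (sub_ne_zero.mpr (Ne.symm hq1))) hTq)

end Groth.Agent.Lib.helper13.ResSys
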