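import Groth.Agent.Lib.helper13.ResSys4

/-!
S16260: the core contradiction and the final statement.
-/

set_option autoImplicit false

namespace Groth.Agent.Lib.helper13.ResSys

open Polynomial

variable {k : Type*} [Field k] [CharZero k]

theorem core2 (a b i' j' n : ℕ) (ha : 0 < a) (hb : 0 < b) (hab : a + b = n + 1)
    (hij : i' + j' = n + 1)
    (p q : k) (hp0 : p ≠ 0) (hp1 : p ≠ 1) (hq0 : q ≠ 0) (hq1 : q ≠ 1)
    (G H G₂ H₂ : k[X]) (c : k)
    (hG : G.degree < (b : WithBot ℕ)) (hH : H.degree < (a : WithBot ℕ))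
    (hG₂ : G₂.degree < (b : WithBot ℕ)) (hH₂ : H₂.degree < (a : WithBot ℕ))
    (hN : (X - C p) ^ i' * (X - C q) ^ j' = X ^ (a + 1) * G + (X - 1) ^ (b + 1) * H)
    (hP : (X - C p) * (X - C q) * ((X - C p) ^ i' * (X - C q) ^ j') =
      X ^ (a + 1) * G₂ + (X - 1) ^ (b + 1) * H₂ +
        C c * (X ^ (a + 1) * (X - 1) ^ (b + 1))) : False := by
  have hGn := natDegree_lt_of_degree_lt hb hG
  have hHn := natDegree_lt_of_degree_lt ha hH
  have hG₂n := natDegree_lt_of_degree_lt hb hG₂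
  have hH₂n := natDegree_lt_of_degree_lt ha hH₂
  have hw₀deg : ((X - 1 : k[X]) ^ (b + 1) * H).natDegree ≤ n + 1 := by
    refine natDegree_mul_le.trans ?_
    rw [natDegree_X_sub_one_pow]
    omega
  have hw₁deg : ((X : k[X]) ^ (a + 1) * G).natDegree ≤ n + 1 := by
    refine natDegree_mul_le.trans ?_
    rw [natDegree_X_pow]
    omega
  have hv₀deg : ((X - 1 : k[X]) ^ (b + 1) * H₂).natDegree ≤ n + 1 := by
    refine natDegree_mul_le.trans ?_
    rw [natDegree_X_sub_one_pow]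
    omega
  have hv₁deg : ((X : k[X]) ^ (a + 1) * G₂).natDegree ≤ n + 1 := by
    refine natDegree_mul_le.trans ?_
    rw [natDegree_X_pow]
    omega
  have hP' := hP
  rw [hN] at hP'
  have hdvd : (X : k[X]) ^ (a + 1) ∣ (X - 1) ^ (b + 1) * ((X - C p) * (X - C q) * H - H₂) := by
    refine ⟨G₂ - (X - C p) * (X - C q) * G + C c * (X - 1) ^ (b + 1), ?_⟩
    linear_combination hP'
  have hdvd2 := (isCoprime_X_pow_X_sub_one_pow (k := k) (a + 1) (b + 1)).dvd_of_dvd_mul_left hdvd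
  have hdeg2 : ((X - C p) * (X - C q) * H - H₂).natDegree ≤ a + 1 := by
    refine (natDegree_sub_le _ _).trans (max_le ?_ (by omega))
    refine natDegree_mul_le.trans ?_
    have h1 : ((X - C p) * (X - C q) : k[X]).natDegree ≤ 2 := by
      refine natDegree_mul_le.trans ?_
      rw [natDegree_X_sub_C, natDegree_X_sub_C]
    omega
  have hc₀ := eq_C_mul_of_dvd (monic_X_pow (a + 1)) (natDegree_X_pow (a + 1)) hdvd2 hdeg2
  obtain ⟨c₀, hc₀def⟩ : ∃ c₀, c₀ = ((X - C p) * (X - C q) * H - H₂).coeff (a + 1) := ⟨_, rfl⟩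
  rw [← hc₀def] at hc₀
  have hφw₀ : (X - C p) * (X - C q) * ((X - 1) ^ (b + 1) * H) =
      (X - 1) ^ (b + 1) * H₂ + C c₀ * (X ^ (a + 1) * (X - 1) ^ (b + 1)) := by
    linear_combination ((X - 1) ^ (b + 1)) * hc₀
  have hφw₁ : (X - C p) * (X - C q) * (X ^ (a + 1) * G) =
      X ^ (a + 1) * G₂ + C (c - c₀) * (X ^ (a + 1) * (X - 1) ^ (b + 1)) := by
    rw [C_sub]
    linear_combination hP' - hφw₀
  have hD3 : ((X : k[X]) ^ (a + 1) * (X - 1) ^ (b + 1)).coeff (n + 3) = 1 := by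
    have := (monic_D (k := k) a b).coeff_natDegree
    rw [natDegree_D, show a + b + 2 = n + 3 by omega] at this
    exact this
  obtain ⟨δ, hδ⟩ : ∃ δ, δ = ((X : k[X]) ^ (a + 1) * (X - 1) ^ (b + 1)).coeff (n + 2) := ⟨_, rfl⟩
  obtain ⟨e03, e02⟩ := coeff_phi_mul p q _ n hw₀deg
  obtain ⟨e13, e12⟩ := coeff_phi_mul p q _ n hw₁deg
  rw [hφw₀, coeff_add, coeff_C_mul, hD3,
    coeff_eq_zero_of_natDegree_lt (lt_of_le_of_lt hv₀deg (by omega)), zero_add, mul_one] at e03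
  rw [hφw₀, coeff_add, coeff_C_mul, ← hδ,
    coeff_eq_zero_of_natDegree_lt (lt_of_le_of_lt hv₀deg (by omega)), zero_add] at e02
  rw [hφw₁, coeff_add, coeff_C_mul, hD3,
    coeff_eq_zero_of_natDegree_lt (lt_of_le_of_lt hv₁deg (by omega)), zero_add, mul_one] at e13
  rw [hφw₁, coeff_add, coeff_C_mul, ← hδ,
    coeff_eq_zero_of_natDegree_lt (lt_of_le_of_lt hv₁deg (by omega)), zero_add] at e12
  obtain ⟨-, A0⟩ := coeff_nab p q i' j' n hij _ hw₀deg
  obtain ⟨-, A1⟩ := coeff_nab p q i' j' n hij _ hw₁deg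
  have hsum : nab p q i' j' (X ^ (a + 1) * G) + nab p q i' j' ((X - 1) ^ (b + 1) * H) = 0 := by
    rw [← nab_add, ← hN, nab_N]
  have hsumc : (nab p q i' j' (X ^ (a + 1) * G)).coeff (n + 1) +
      (nab p q i' j' ((X - 1) ^ (b + 1) * H)).coeff (n + 1) = 0 := by
    rw [← coeff_add, hsum, coeff_zero]
  have hNmonic : ((X - C p) ^ i' * (X - C q) ^ j').coeff (n + 1) = 1 := by
    have hm : ((X - C p) ^ i' * (X - C q) ^ j').Monic :=
      ((monic_X_sub_C p).pow i').mul ((monic_X_sub_C q).pow j')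
    have hd : ((X - C p) ^ i' * (X - C q) ^ j').natDegree = n + 1 := by
      rw [((monic_X_sub_C p).pow i').natDegree_mul ((monic_X_sub_C q).pow j'),
        (monic_X_sub_C p).natDegree_pow, (monic_X_sub_C q).natDegree_pow, natDegree_X_sub_C,
        natDegree_X_sub_C]
      omega
    have := hm.coeff_natDegree
    rwa [hd] at this
  have hω : ((X : k[X]) ^ (a + 1) * G).coeff (n + 1) +
      ((X - 1 : k[X]) ^ (b + 1) * H).coeff (n + 1) = 1 := by
    rw [← coeff_add, ← hN, hNmonic]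
  have hlam : (-(i' : k) * p - j' * q) - (p + q) - δ = 0 := by
    linear_combination hsumc - A0 - A1 - e02 - e12 + δ * e03 + δ * e13 -
      ((-(i' : k) * p - j' * q) - (p + q) - δ) * hω
  have hA0zero : (nab p q i' j' ((X - 1) ^ (b + 1) * H)).coeff (n + 1) = 0 := by
    linear_combination A0 + e02 - δ * e03 +
      (((X - 1 : k[X]) ^ (b + 1) * H).coeff (n + 1)) * hlam
  have hd1 : (X - 1 : k[X]) ^ b ∣ nab p q i' j' ((X - 1) ^ (b + 1) * H) :=
    dvd_nab_one p q i' j' b H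
  have hd0 : (X : k[X]) ^ a ∣ nab p q i' j' ((X - 1) ^ (b + 1) * H) := by
    have h := dvd_nab_zero p q i' j' a G
    have e : nab p q i' j' ((X - 1) ^ (b + 1) * H) = -nab p q i' j' (X ^ (a + 1) * G) := by
      linear_combination hsum
    rw [e]
    exact (dvd_neg).mpr h
  have hE : (X : k[X]) ^ a * (X - 1) ^ b ∣ nab p q i' j' ((X - 1) ^ (b + 1) * H) :=
    (isCoprime_X_pow_X_sub_one_pow a b).mul_dvd hd0 hd1
  have hEm : ((X : k[X]) ^ a * (X - 1) ^ b).Monic :=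
    (monic_X_pow a).mul (monic_X_sub_one.pow b)
  have hEd : ((X : k[X]) ^ a * (X - 1) ^ b).natDegree = n + 1 := by
    rw [(monic_X_pow a).natDegree_mul (monic_X_sub_one.pow b), natDegree_X_pow,
      natDegree_X_sub_one_pow]
    exact hab
  have hzero := eq_C_mul_of_dvd hEm hEd hE (natDegree_nab_le p q i' j' n hij _ hw₀deg)
  rw [hA0zero, C_0, zero_mul] at hzero
  refine nab_ne_zero p q hp1 hq1 i' j' _ ?_ ?_ hzero
  · intro h0
    rw [h0, add_zero] at hN
    have := congrArg (eval 0) hN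
    simp only [eval_mul, eval_pow, eval_sub, eval_X, eval_C, zero_sub] at this
    rw [zero_pow (by omega), zero_mul] at this
    exact absurd this (mul_ne_zero (pow_ne_zero _ (neg_ne_zero.mpr hp0))
      (pow_ne_zero _ (neg_ne_zero.mpr hq0)))
  · simp

/-- S16260 -/
theorem main2 (a b i j : ℕ) (ha : 0 < a) (hb : 0 < b) (hi : 0 < i) (hiab : i ≤ a + b)
    (hj : i + j = a + b + 2) (p q : k) (hp0 : p ≠ 0) (hp1 : p ≠ 1) (hq0 : q ≠ 0) (hq1 : q ≠ 1) :
    ¬ (1 ≤ Module.finrank k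
        ↥(V k a b ⊓ (Ideal.span {(X - C p) ^ i * (X - C q) ^ j}).restrictScalars k) ∧
       2 ≤ Module.finrank k
        ↥(V k a b ⊓
          (Ideal.span {(X - C p) ^ (i - 1) * (X - C q) ^ (j - 1)}).restrictScalars k)) := by
  rintro ⟨h1, h2⟩
  obtain ⟨i', rfl⟩ : ∃ i', i = i' + 1 := ⟨i - 1, by omega⟩
  obtain ⟨j', rfl⟩ : ∃ j', j = j' + 1 := ⟨j - 1, by omega⟩
  rw [Nat.add_sub_cancel, Nat.add_sub_cancel] at h2
  obtain ⟨n, hn⟩ : ∃ n, a + b = n + 1 := ⟨a + b - 1, by omega⟩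
  have hij : i' + j' = n + 1 := by omega
  have hP₀ : ((X - C p) ^ (i' + 1) * (X - C q) ^ (j' + 1)).Monic :=
    ((monic_X_sub_C p).pow _).mul ((monic_X_sub_C q).pow _)
  have hP₀d : ((X - C p) ^ (i' + 1) * (X - C q) ^ (j' + 1)).natDegree = a + b + 2 := by
    rw [((monic_X_sub_C p).pow _).natDegree_mul ((monic_X_sub_C q).pow _),
      (monic_X_sub_C p).natDegree_pow, (monic_X_sub_C q).natDegree_pow, natDegree_X_sub_C,
      natDegree_X_sub_C]
    omega
  have hNm : ((X - C p) ^ i' * (X - C q) ^ j').Monic :=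
    ((monic_X_sub_C p).pow _).mul ((monic_X_sub_C q).pow _)
  have hNd : ((X - C p) ^ i' * (X - C q) ^ j').natDegree = a + b := by
    rw [((monic_X_sub_C p).pow _).natDegree_mul ((monic_X_sub_C q).pow _),
      (monic_X_sub_C p).natDegree_pow, (monic_X_sub_C q).natDegree_pow, natDegree_X_sub_C,
      natDegree_X_sub_C]
    omega
  have hmem := mem_of_finrank_pos _ hP₀ hP₀d h1
  obtain ⟨G₂, H₂, c, hdec, hG₂, hH₂⟩ := mem_V hmem
  obtain ⟨G, H, hN, hG, hH⟩ := decomp_of_two_le_finrank ha hb _ hNm hNd h2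
  refine core2 a b i' j' n ha hb hn hij p q hp0 hp1 hq0 hq1 G H G₂ H₂ c hG hH hG₂ hH₂ hN ?_
  rw [← hdec]
  ring

end Groth.Agent.Lib.helper13.ResSys
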