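import Groth.Agent.Lib.helper13.QIso4

/-!
# Simplicial homotopies of non-additive maps between simplicial abelian groups, on homology
(helper13)
-/

set_option autoImplicit false

open CategoryTheory Simplicial Opposite AlgebraicTopology

namespace Groth.Agent.Lib.helper13.SHtpy

universe u

/-- the free simplicial abelian group on a simplicial set -/
abbrev Zfree (S : SSet.{u}) : SimplicialObject AddCommGrpCat.{u} :=
  ((SimplicialObject.whiskering (Type u) AddCommGrpCat.{u}).obj AddCommGrpCat.free).obj S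

/-- the map of free simplicial abelian groups induced by a map of simplicial sets -/
abbrev Zmap {S T : SSet.{u}} (a : S ⟶ T) : Zfree S ⟶ Zfree T :=
  ((SimplicialObject.whiskering (Type u) AddCommGrpCat.{u}).obj AddCommGrpCat.free).map a

/-- the evaluation map -/
noncomputable def eps (W : SimplicialObject AddCommGrpCat.{u}) :
    Zfree (W ⋙ forget AddCommGrpCat.{u}) ⟶ W where
  app n := AddCommGrpCat.ofHom (FreeAbelianGroup.lift (fun w : W.obj n => w))
  naturality n m θ := by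
    apply AddCommGrpCat.hom_ext
    apply FreeAbelianGroup.lift_ext
    intro x
    show FreeAbelianGroup.lift (fun w : W.obj m => w)
        (FreeAbelianGroup.map ((W ⋙ forget AddCommGrpCat.{u}).map θ) (FreeAbelianGroup.of x)) =
      (W.map θ).hom (FreeAbelianGroup.lift (fun w : W.obj n => w) (FreeAbelianGroup.of x))
    rw [FreeAbelianGroup.map_of_apply, FreeAbelianGroup.lift_apply_of,
      FreeAbelianGroup.lift_apply_of]
    rfl

/-- a generator of the free simplicial abelian group -/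
def ofZ (S : SSet.{u}) (n : SimplexCategoryᵒᵖ) (s : S.obj n) : (Zfree S).obj n :=
  FreeAbelianGroup.of s

lemma eps_of (W : SimplicialObject AddCommGrpCat.{u}) (n : SimplexCategoryᵒᵖ) (w : W.obj n) :
    ((eps W).app n).hom (ofZ (W ⋙ forget AddCommGrpCat.{u}) n w) = w := by
  show FreeAbelianGroup.lift (fun w : W.obj n => w) (FreeAbelianGroup.of w) = w
  rw [FreeAbelianGroup.lift_apply_of]

lemma Zmap_of {S T : SSet.{u}} (a : S ⟶ T) (n : SimplexCategoryᵒᵖ) (s : S.obj n) :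
    ((Zmap a).app n).hom (ofZ S n s) = ofZ T n (a.app n s) := by
  show FreeAbelianGroup.map (a.app n) (FreeAbelianGroup.of s) = _
  rw [FreeAbelianGroup.map_of_apply]
  rfl

lemma eval_free {X W : SimplicialObject AddCommGrpCat.{u}}
    (a : (X ⋙ forget AddCommGrpCat.{u} : SSet.{u}) ⟶ (W ⋙ forget AddCommGrpCat.{u} : SSet.{u}))
    (n : ℕ) (z : X _⦋n⦌) :
    ((eps W).app (op ⦋n⦌)).hom (((Zmap a).app (op ⦋n⦌)).hom
      (ofZ (X ⋙ forget AddCommGrpCat.{u}) (op ⦋n⦌) z -
        ofZ (X ⋙ forget AddCommGrpCat.{u}) (op ⦋n⦌) (0 : X _⦋n⦌))) =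
      (a.app (op ⦋n⦌) z : W _⦋n⦌) - (a.app (op ⦋n⦌) (0 : X _⦋n⦌) : W _⦋n⦌) := by
  rw [map_sub, map_sub, Zmap_of, Zmap_of, eps_of, eps_of]
  rfl

/-- the key lemma: a simplicial homotopy between (possibly non-additive) maps of simplicial abelian
groups, evaluated on a normalised element -/
theorem key {X W : SimplicialObject AddCommGrpCat.{u}}
    (a b : (X ⋙ forget AddCommGrpCat.{u} : SSet.{u}) ⟶ (W ⋙ forget AddCommGrpCat.{u} : SSet.{u}))
    (Hs : SimplicialObject.Homotopy a b) (n : ℕ) (z : X _⦋n⦌)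
    (hξ : ∀ k, (AlternatingFaceMapComplex.obj (Zfree (X ⋙ forget AddCommGrpCat.{u}))).d n k
      (ofZ (X ⋙ forget AddCommGrpCat.{u}) (op ⦋n⦌) z -
        ofZ (X ⋙ forget AddCommGrpCat.{u}) (op ⦋n⦌) (0 : X _⦋n⦌)) = 0) :
    ∃ c : W _⦋n + 1⦌, (AlternatingFaceMapComplex.obj W).d (n + 1) n c =
      ((a.app (op ⦋n⦌) z : W _⦋n⦌) - (a.app (op ⦋n⦌) (0 : X _⦋n⦌) : W _⦋n⦌)) -
        ((b.app (op ⦋n⦌) z : W _⦋n⦌) - (b.app (op ⦋n⦌) (0 : X _⦋n⦌) : W _⦋n⦌)) := by
  let ch := (Hs.whiskerRight AddCommGrpCat.free.{u}).toChainHomotopy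
  have h1 := QIso.homotopy_apply ch n _ hξ
  let Eps := (alternatingFaceMapComplex AddCommGrpCat.{u}).map (eps W)
  refine ⟨Eps.f (n + 1) (ch.hom n (n + 1)
    (ofZ (X ⋙ forget AddCommGrpCat.{u}) (op ⦋n⦌) z -
        ofZ (X ⋙ forget AddCommGrpCat.{u}) (op ⦋n⦌) (0 : X _⦋n⦌))), ?_⟩
  rw [QIso.comm_apply, ← h1, map_sub]
  exact congrArg₂ (· - ·) (eval_free a n z) (eval_free b n z)

end Groth.Agent.Lib.helper13.SHtpy
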