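import Groth.Agent.Lib.helper13.SHtpy1

/-!
# Homotopy equivalences of simplicial abelian groups induce quasi-isomorphisms (helper13)
-/

set_option autoImplicit false

open CategoryTheory Simplicial Opposite AlgebraicTopology AlgebraicTopology.DoldKan

namespace Groth.Agent.Lib.helper13.SHtpy

universe u

/-- normalised elements: all faces vanish -/
def Nrm (X : SimplicialObject AddCommGrpCat.{u}) (n : ℕ) (z : X _⦋n⦌) : Prop :=
  match n, z with
  | 0, _ => True
  | m + 1, z => ∀ j : Fin (m + 2), (X.δ j).hom z = 0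

section one

variable (X : SimplicialObject AddCommGrpCat.{u})

lemma shape_apply (V : SimplicialObject AddCommGrpCat.{u}) (n k : ℕ) (hk : k + 1 ≠ n)
    (v : V _⦋n⦌) : (AlternatingFaceMapComplex.obj V).d n k v = 0 := by
  rw [(AlternatingFaceMapComplex.obj V).shape n k (by
    simp only [ComplexShape.down_Rel]
    exact hk)]
  rfl

lemma Nrm_cycle (n : ℕ) (z : X _⦋n⦌) (hz : Nrm X n z) (k : ℕ) :
    (AlternatingFaceMapComplex.obj X).d n k z = 0 := by
  by_cases hk : k + 1 = n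
  · subst hk
    rw [QIso.d_apply]
    apply Finset.sum_eq_zero
    intro j _
    rw [hz j, smul_zero]
  · exact shape_apply X n k hk z

lemma Zfree_δ_of (S : SSet.{u}) (m : ℕ) (j : Fin (m + 2)) (s : S _⦋m + 1⦌) :
    ((Zfree S).δ j).hom (ofZ S (op ⦋m + 1⦌) s) = ofZ S (op ⦋m⦌) (S.δ j s) := by
  show FreeAbelianGroup.map (S.δ j) (FreeAbelianGroup.of s) = _
  rw [FreeAbelianGroup.map_of_apply]
  rfl

lemma Nrm_free (n : ℕ) (z : X _⦋n⦌) (hz : Nrm X n z) (k : ℕ) :
    (AlternatingFaceMapComplex.obj (Zfree (X ⋙ forget AddCommGrpCat.{u}))).d n k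
      (ofZ (X ⋙ forget AddCommGrpCat.{u}) (op ⦋n⦌) z -
        ofZ (X ⋙ forget AddCommGrpCat.{u}) (op ⦋n⦌) (0 : X _⦋n⦌)) = 0 := by
  by_cases hk : k + 1 = n
  · subst hk
    rw [QIso.d_apply]
    apply Finset.sum_eq_zero
    intro j _
    rw [map_sub, Zfree_δ_of, Zfree_δ_of]
    have h1 : SimplicialObject.δ (X ⋙ forget AddCommGrpCat.{u}) j z = (0 : X _⦋k⦌) := hz j
    have h2 : SimplicialObject.δ (X ⋙ forget AddCommGrpCat.{u}) j (0 : X _⦋k + 1⦌) =
        (0 : X _⦋k⦌) :=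
      map_zero (X.δ j).hom
    rw [h1, h2, sub_self, smul_zero]
  · exact shape_apply _ n k hk _

lemma Nrm_PI (n : ℕ) (z : X _⦋n⦌) (hz : ∀ k, (AlternatingFaceMapComplex.obj X).d n k z = 0) :
    Nrm X n ((QIso.PI X).f n z) := by
  cases n with
  | zero => trivial
  | succ m =>
    intro j
    rcases Fin.eq_zero_or_eq_succ j with rfl | ⟨i, rfl⟩
    · have h := ConcreteCategory.congr_hom (QIso.PInfty_δ_zero X m) z
      have h' : (X.δ 0).hom ((QIso.PI X).f (m + 1) z) =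
          (QIso.PI X).f m ((AlternatingFaceMapComplex.obj X).d (m + 1) m z) := h
      rw [h', hz, map_zero]
    · exact ConcreteCategory.congr_hom (QIso.PInfty_δ_succ X m i) z

lemma PI_sub (n : ℕ) (z : X _⦋n⦌) (hz : ∀ k, (AlternatingFaceMapComplex.obj X).d n k z = 0) :
    ∃ u : X _⦋n + 1⦌, (show X _⦋n⦌ from (QIso.PI X).f n z) - z = (AlternatingFaceMapComplex.obj X).d (n + 1) n u :=
  ⟨_, QIso.homotopy_apply (homotopyPInftyToId X) n z hz⟩

end one

/-- the underlying function of a map of underlying simplicial sets, with clean types -/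
def gA {X Y : SimplicialObject AddCommGrpCat.{u}}
    (g : (Y ⋙ forget AddCommGrpCat.{u} : SSet.{u}) ⟶ (X ⋙ forget AddCommGrpCat.{u} : SSet.{u}))
    (n : ℕ) (y : Y _⦋n⦌) : X _⦋n⦌ := g.app (op ⦋n⦌) y

section two

variable {X Y : SimplicialObject AddCommGrpCat.{u}}
  (g : (Y ⋙ forget AddCommGrpCat.{u} : SSet.{u}) ⟶ (X ⋙ forget AddCommGrpCat.{u} : SSet.{u}))

/-- naturality of a map of underlying simplicial sets with respect to a face map -/
lemma g_δ (m : ℕ) (j : Fin (m + 2)) (y : Y _⦋m + 1⦌) :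
    (X.δ j).hom (gA g (m + 1) y) = gA g m ((Y.δ j).hom y) :=
  (NatTrans.naturality_apply g (SimplexCategory.δ j).op y).symm

lemma Nrm_map (n : ℕ) (y : Y _⦋n⦌) (hy : Nrm Y n y) :
    Nrm X n (gA g n y - gA g n 0) := by
  cases n with
  | zero => trivial
  | succ m =>
    intro j
    rw [map_sub, g_δ, g_δ, hy j, map_zero, sub_self]

lemma d_cone (n : ℕ) (y : Y _⦋n + 1⦌) (hy : ∀ j : Fin (n + 1), (Y.δ j.succ).hom y = 0) :
    (AlternatingFaceMapComplex.obj X).d (n + 1) n (gA g (n + 1) y - gA g (n + 1) 0) =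
      gA g n ((Y.δ 0).hom y) - gA g n 0 := by
  rw [QIso.d_apply, Fin.sum_univ_succ]
  rw [Finset.sum_eq_zero (fun j _ => by
    rw [map_sub, g_δ, g_δ, hy j, map_zero, sub_self, smul_zero])]
  rw [add_zero, Fin.val_zero, pow_zero, one_smul, map_sub, g_δ, g_δ, map_zero]

end two

section three

variable {X W : SimplicialObject AddCommGrpCat.{u}}
  (a b : (X ⋙ forget AddCommGrpCat.{u} : SSet.{u}) ⟶ (W ⋙ forget AddCommGrpCat.{u} : SSet.{u}))

lemma key' (h : Nonempty (SSet.Homotopy a b) ∨ Nonempty (SSet.Homotopy b a)) (n : ℕ)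
    (z : X _⦋n⦌) (hz : Nrm X n z) :
    ∃ c : W _⦋n + 1⦌, (AlternatingFaceMapComplex.obj W).d (n + 1) n c =
      (gA a n z - gA a n 0) - (gA b n z - gA b n 0) := by
  rcases h with ⟨⟨H⟩⟩ | ⟨⟨H⟩⟩
  · exact key a b H.toSimplicialObjectHomotopy n z (Nrm_free X n z hz)
  · obtain ⟨c, hc⟩ := key b a H.toSimplicialObjectHomotopy n z (Nrm_free X n z hz)
    have hc' : (AlternatingFaceMapComplex.obj W).d (n + 1) n c =
      (gA b n z - gA b n 0) - (gA a n z - gA a n 0) := hc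
    refine ⟨-c, ?_⟩
    rw [map_neg, hc', neg_sub]

end three

section main

variable {X Y : SimplicialObject AddCommGrpCat.{u}} (f : X ⟶ Y)
  (g : (Y ⋙ forget AddCommGrpCat.{u} : SSet.{u}) ⟶ (X ⋙ forget AddCommGrpCat.{u} : SSet.{u}))

lemma gA_comp_left (n : ℕ) (z : X _⦋n⦌) :
    gA (Functor.whiskerRight f (forget AddCommGrpCat.{u}) ≫ g) n z =
      gA g n ((f.app (op ⦋n⦌)).hom z) := rfl

lemma gA_comp_right (n : ℕ) (y : Y _⦋n⦌) :
    gA (g ≫ Functor.whiskerRight f (forget AddCommGrpCat.{u})) n y =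
      (f.app (op ⦋n⦌)).hom (gA g n y) := rfl

lemma gA_id (n : ℕ) (z : X _⦋n⦌) :
    gA (𝟙 (X ⋙ forget AddCommGrpCat.{u} : SSet.{u})) n z = z := rfl

/-- the Dold-Kan projector applied to an element, with clean types -/
noncomputable def piA (X : SimplicialObject AddCommGrpCat.{u}) (n : ℕ) (z : X _⦋n⦌) : X _⦋n⦌ :=
  (QIso.PI X).f n z

theorem quasiIso_of_homotopyEquiv
    (hX : Nonempty (SSet.Homotopy (Functor.whiskerRight f (forget AddCommGrpCat.{u}) ≫ g) (𝟙 _)) ∨
      Nonempty (SSet.Homotopy (𝟙 _) (Functor.whiskerRight f (forget AddCommGrpCat.{u}) ≫ g)))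
    (hY : Nonempty (SSet.Homotopy (g ≫ Functor.whiskerRight f (forget AddCommGrpCat.{u})) (𝟙 _)) ∨
      Nonempty (SSet.Homotopy (𝟙 _) (g ≫ Functor.whiskerRight f (forget AddCommGrpCat.{u})))) :
    QuasiIso ((alternatingFaceMapComplex AddCommGrpCat.{u}).map f) := by
  apply QIso.quasiIso_of_elementwise_complex
  · -- injectivity
    intro n (z : X _⦋n⦌) hz (y' : Y _⦋n + 1⦌) hy'
    have hy'' : (f.app (op ⦋n⦌)).hom z = (AlternatingFaceMapComplex.obj Y).d (n + 1) n y' := hy'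
    have hz' : Nrm X n (piA X n z) := Nrm_PI X n z hz
    obtain ⟨u, hu⟩ : ∃ u : X _⦋n + 1⦌, piA X n z - z =
        (AlternatingFaceMapComplex.obj X).d (n + 1) n u := PI_sub X n z hz
    -- the normalised bounding element
    have hy1 : ∀ j : Fin (n + 1), (Y.δ j.succ).hom (piA Y (n + 1) y') = 0 :=
      fun j => ConcreteCategory.congr_hom (QIso.PInfty_δ_succ Y n j) y'
    have hy0 : (Y.δ 0).hom (piA Y (n + 1) y') = (f.app (op ⦋n⦌)).hom (piA X n z) := by
      have h := ConcreteCategory.congr_hom (QIso.PInfty_δ_zero Y n) y'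
      have h' : (Y.δ 0).hom (piA Y (n + 1) y') =
          piA Y n ((AlternatingFaceMapComplex.obj Y).d (n + 1) n y') := h
      rw [h', ← hy'']
      exact ConcreteCategory.congr_hom (PInfty_f_naturality n f) z
    have hv := d_cone g n (piA Y (n + 1) y') hy1
    rw [hy0] at hv
    obtain ⟨c, hc⟩ := key' (Functor.whiskerRight f (forget AddCommGrpCat.{u}) ≫ g) (𝟙 _) hX n
      (piA X n z) hz'
    rw [gA_comp_left, gA_comp_left, gA_id, gA_id, map_zero, sub_zero] at hc
    refine ⟨gA g (n + 1) (piA Y (n + 1) y') - gA g (n + 1) 0 - c - u, ?_⟩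
    show (AlternatingFaceMapComplex.obj X).d (n + 1) n
      (gA g (n + 1) (piA Y (n + 1) y') - gA g (n + 1) 0 - c - u) = z
    rw [map_sub, map_sub, hv, hc, ← hu, sub_sub_cancel, sub_sub_cancel]
  · -- surjectivity
    intro n (y : Y _⦋n⦌) hy
    have hy' : Nrm Y n (piA Y n y) := Nrm_PI Y n y hy
    obtain ⟨u, hu⟩ : ∃ u : Y _⦋n + 1⦌, piA Y n y - y =
        (AlternatingFaceMapComplex.obj Y).d (n + 1) n u := PI_sub Y n y hy
    have hx := Nrm_map g n _ hy'
    refine ⟨gA g n (piA Y n y) - gA g n 0, Nrm_cycle X n _ hx, ?_⟩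
    obtain ⟨c, hc⟩ := key' (g ≫ Functor.whiskerRight f (forget AddCommGrpCat.{u})) (𝟙 _) hY n
      (piA Y n y) hy'
    rw [gA_comp_right, gA_comp_right, gA_id, gA_id, sub_zero] at hc
    refine ⟨c + u, ?_⟩
    show (f.app (op ⦋n⦌)).hom (gA g n (piA Y n y) - gA g n 0) - y =
      (AlternatingFaceMapComplex.obj Y).d (n + 1) n (c + u)
    rw [map_add, hc, ← hu, map_sub]
    exact (sub_add_sub_cancel _ _ _).symm

end main

end Groth.Agent.Lib.helper13.SHtpy
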