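import Groth.Agent.Lib.helper13.GLChar8

/-!
# `SL_n` is étale-locally contained in the commutator subgroup of `GL_n`: group theory (helper13)
-/

set_option autoImplicit false
universe u

namespace Groth.Agent.Lib.helper13.SLComm

open Matrix Groth.Agent.Lib.helper13.GLChar

/-- the ring has a unit `l` such that `l - 1` is a unit -/
def HasLam (B : Type u) [CommRing B] : Prop := ∃ l n : Bˣ, (n : B) = (l : B) - 1

lemma HasLam.map {B C : Type u} [CommRing B] [CommRing C] (f : B →+* C) (h : HasLam B) :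
    HasLam C := by
  obtain ⟨l, n, hln⟩ := h
  refine ⟨Units.map (f : B →* C) l, Units.map (f : B →* C) n, ?_⟩
  simp [hln]

lemma map_mem_commutator {G G' : Type*} [Group G] [Group G'] (f : G →* G') {g : G}
    (h : g ∈ commutator G) : f g ∈ commutator G' := by
  rw [commutator_def] at h ⊢
  have h1 : f g ∈ Subgroup.map f ⁅(⊤ : Subgroup G), ⊤⁆ := Subgroup.mem_map_of_mem f h
  rw [Subgroup.map_commutator] at h1
  exact Subgroup.commutator_mono le_top le_top h1

lemma comm_mem {G : Type*} [Group G] (a b : G) : a * b * a⁻¹ * b⁻¹ ∈ commutator G := by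
  rw [← commutatorElement_def, commutator_def]
  exact Subgroup.commutator_mem_commutator (Subgroup.mem_top _) (Subgroup.mem_top _)

variable {ι : Type} [Fintype ι] [DecidableEq ι] {B : Type u} [CommRing B]

lemma unipU_mem (h : HasLam B) (w : Matrix ι (Fin 1) B) :
    unipU w ∈ commutator (Matrix.GeneralLinearGroup (ι ⊕ Fin 1) B) := by
  obtain ⟨l, n, hln⟩ := h
  set v := w * Matrix.scalar (Fin 1) ((n⁻¹ : Bˣ) : B) with hv
  have hw : w = v * Matrix.scalar (Fin 1) (l : B) - v := by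
    have h1 : v * Matrix.scalar (Fin 1) (l : B) - v = v * Matrix.scalar (Fin 1) (n : B) := by
      rw [hln, map_sub, map_one, Matrix.mul_sub, Matrix.mul_one]
    rw [h1, hv, Matrix.mul_assoc, ← map_mul, Units.inv_mul, map_one, Matrix.mul_one]
  rw [hw, unipU_sub, ← conj_unipU]
  have := comm_mem ((Units.map (embD ι B) l)⁻¹) (unipU v)
  rwa [inv_inv] at this

lemma unipL_mem (h : HasLam B) (w : Matrix (Fin 1) ι B) :
    unipL w ∈ commutator (Matrix.GeneralLinearGroup (ι ⊕ Fin 1) B) := by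
  obtain ⟨l, n, hln⟩ := h
  set v := Matrix.scalar (Fin 1) ((n⁻¹ : Bˣ) : B) * w with hv
  have hw : w = Matrix.scalar (Fin 1) (l : B) * v - v := by
    have h1 : Matrix.scalar (Fin 1) (l : B) * v - v = Matrix.scalar (Fin 1) (n : B) * v := by
      rw [hln, map_sub, map_one, Matrix.sub_mul, Matrix.one_mul]
    rw [h1, hv, ← Matrix.mul_assoc, ← map_mul, Units.mul_inv, map_one, Matrix.one_mul]
  rw [hw, unipL_sub, ← conj_unipL]
  exact comm_mem (Units.map (embD ι B) l) (unipL v)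

/-- normalisation: an invertible matrix of determinant one with a unit corner is, up to
commutators, in the image of the upper left block -/
lemma exists_block_of_corner (h : HasLam B) (j₀ : ι)
    (t : Matrix.GeneralLinearGroup (ι ⊕ Fin 1) B) (hdet : Matrix.GeneralLinearGroup.det t = 1)
    (hc : IsUnit ((t : Matrix (ι ⊕ Fin 1) (ι ⊕ Fin 1) B) (Sum.inr 0) (Sum.inr 0))) :
    ∃ (x y : Matrix.GeneralLinearGroup (ι ⊕ Fin 1) B) (Sg : Matrix.GeneralLinearGroup ι B),
      x ∈ commutator (Matrix.GeneralLinearGroup (ι ⊕ Fin 1) B) ∧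
      y ∈ commutator (Matrix.GeneralLinearGroup (ι ⊕ Fin 1) B) ∧
      Matrix.GeneralLinearGroup.det Sg = 1 ∧ t = x * Units.map (embA ι B) Sg * y := by
  obtain ⟨l, hl⟩ := hc
  set c₀ := (t : Matrix (ι ⊕ Fin 1) (ι ⊕ Fin 1) B) (Sum.inr 0) (Sum.inl j₀) with hc₀
  set w : Matrix (Fin 1) ι B :=
    fun _ i => if i = j₀ then ((l⁻¹ : Bˣ) : B) * (1 - (l : B) - c₀) else 0 with hw
  set e : Matrix ι (Fin 1) B := fun i _ => if i = j₀ then 1 else 0 with he
  set t₁ := t * unipL w with ht₁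
  have h1 : (t₁ : Matrix (ι ⊕ Fin 1) (ι ⊕ Fin 1) B) (Sum.inr 0) (Sum.inr 0) = (l : B) := by
    rw [ht₁, Units.val_mul, coe_unipL, Matrix.mul_apply, Fintype.sum_sum_type]
    simp [hl]
  have h2 : (t₁ : Matrix (ι ⊕ Fin 1) (ι ⊕ Fin 1) B) (Sum.inr 0) (Sum.inl j₀) = 1 - (l : B) := by
    rw [ht₁, Units.val_mul, coe_unipL, Matrix.mul_apply, Fintype.sum_sum_type]
    simp only [fromBlocks_apply₁₁, fromBlocks_apply₂₁, Matrix.one_apply, mul_ite, mul_one, mul_zero,
      Finset.sum_ite_eq', Finset.mem_univ, if_true, Finset.univ_unique, Fin.default_eq_zero,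
      Finset.sum_singleton, hw, ← hl, ← hc₀]
    rw [← mul_assoc, Units.mul_inv, one_mul]
    ring
  set t₂ := t₁ * unipU e with ht₂
  have h3 : (t₂ : Matrix (ι ⊕ Fin 1) (ι ⊕ Fin 1) B) (Sum.inr 0) (Sum.inr 0) =
      ((1 : Bˣ) : B) := by
    rw [ht₂, Units.val_mul, coe_unipU, Matrix.mul_apply, Fintype.sum_sum_type]
    simp only [fromBlocks_apply₁₂, fromBlocks_apply₂₂, Matrix.one_apply, mul_ite, mul_one, mul_zero,
      Finset.sum_ite_eq', Finset.mem_univ, if_true, Finset.univ_unique, Fin.default_eq_zero,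
      Finset.mem_singleton, he, h1, h2, Units.val_one]
    ring
  obtain ⟨u, w', Sg, hs, hdet'⟩ := exists_decomp t₂ 1 h3
  have hdet₂ : Matrix.GeneralLinearGroup.det t₂ = 1 := by
    rw [ht₂, ht₁, map_mul, map_mul, hdet, det_unipL, det_unipU, one_mul, one_mul]
  refine ⟨unipU u, unipL w' * (unipU e)⁻¹ * (unipL w)⁻¹, Sg, unipU_mem h u, ?_, ?_, ?_⟩
  · exact Subgroup.mul_mem _ (Subgroup.mul_mem _ (unipL_mem h w')
      (Subgroup.inv_mem _ (unipU_mem h e))) (Subgroup.inv_mem _ (unipL_mem h w))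
  · rw [hdet₂, mul_one] at hdet'
    exact hdet'.symm
  · have h4 : t = t₂ * (unipU e)⁻¹ * (unipL w)⁻¹ := by
      rw [ht₂, ht₁, mul_inv_cancel_right, mul_inv_cancel_right]
    rw [h4, hs, map_one, mul_one]
    simp only [mul_assoc]

end Groth.Agent.Lib.helper13.SLComm
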