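import Groth.Agent.Lib.helper13.SLComm1

/-!
# `SL_n` is étale-locally contained in the commutator subgroup of `GL_n`: the induction (helper13)
-/

set_option autoImplicit false
universe u

namespace Groth.Agent.Lib.helper13.SLComm

open Matrix Groth.Agent.Lib.helper13.GLChar

/-- the inductive statement -/
def Good (ι : Type) [Fintype ι] [DecidableEq ι] : Prop :=
  ∀ (B : Type u) [CommRing B], HasLam B → ∀ (s : Matrix.GeneralLinearGroup ι B),
    Matrix.GeneralLinearGroup.det s = 1 → ∀ q : PrimeSpectrum B,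
    ∃ (B' : Type u) (_ : CommRing B') (_ : Algebra B B'), Algebra.Etale B B' ∧
      (∃ q' : PrimeSpectrum B', q'.asIdeal.comap (algebraMap B B') = q.asIdeal) ∧
      Matrix.GeneralLinearGroup.map (algebraMap B B') s ∈
        commutator (Matrix.GeneralLinearGroup ι B')

lemma good_of_eq_one {ι : Type} [Fintype ι] [DecidableEq ι]
    (h : ∀ (B : Type u) [CommRing B] (s : Matrix.GeneralLinearGroup ι B),
      Matrix.GeneralLinearGroup.det s = 1 → s = 1) : Good.{u} ι := by
  intro B _ _ s hdet q
  refine ⟨B, inferInstance, Algebra.id B, inferInstance, ⟨q, ?_⟩, ?_⟩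
  · simp
  · rw [h B s hdet, map_one]
    exact Subgroup.one_mem _

lemma good_zero : Good.{u} (Fin 0) :=
  good_of_eq_one fun _ _ _ _ => Units.ext (Subsingleton.elim _ _)

lemma good_one : Good.{u} (Fin 1) := by
  apply good_of_eq_one
  intro B _ s hdet
  apply Matrix.GeneralLinearGroup.ext
  intro i j
  rw [Subsingleton.elim i 0, Subsingleton.elim j 0]
  have h1 := congrArg Units.val hdet
  rw [Units.val_one] at h1
  change (s : Matrix (Fin 1) (Fin 1) B).det = 1 at h1
  rw [Matrix.det_fin_one] at h1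
  rw [h1]
  simp

lemma good_transfer {ι ι' : Type} [Fintype ι] [DecidableEq ι] [Fintype ι'] [DecidableEq ι']
    (e : ι ≃ ι') (h : Good.{u} ι) : Good.{u} ι' := by
  intro B _ hB s' hdet q
  obtain ⟨B', i1, i2, hEt, hq, hmem⟩ := h B hB (reidx e.symm B s') (by rw [det_reidx, hdet]) q
  refine ⟨B', i1, i2, hEt, hq, ?_⟩
  have h1 := map_mem_commutator (reidx e B') hmem
  rw [← map_reidx, reidx_reidx_symm] at h1
  exact h1

lemma good_step {ι : Type} [Fintype ι] [DecidableEq ι] [Nonempty ι] (hι : Good.{u} ι) :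
    Good.{u} (ι ⊕ Fin 1) := by
  intro B _ hB s hdet q
  obtain ⟨j₀⟩ := (inferInstance : Nonempty ι)
  -- an entry of the last row outside `q`
  have hrow : ∃ j : ι ⊕ Fin 1,
      (s : Matrix (ι ⊕ Fin 1) (ι ⊕ Fin 1) B) (Sum.inr 0) j ∉ q.asIdeal := by
    by_contra hno
    push Not at hno
    have h1 : ((s : Matrix (ι ⊕ Fin 1) (ι ⊕ Fin 1) B) *
        ((s⁻¹ : Matrix.GeneralLinearGroup (ι ⊕ Fin 1) B) : Matrix (ι ⊕ Fin 1) (ι ⊕ Fin 1) B))
        (Sum.inr 0) (Sum.inr 0) = 1 := by
      rw [← Units.val_mul, mul_inv_cancel, Units.val_one, Matrix.one_apply_eq]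
    rw [Matrix.mul_apply] at h1
    have h2 : (1 : B) ∈ q.asIdeal := by
      rw [← h1]
      exact Ideal.sum_mem _ fun x _ => Ideal.mul_mem_right _ _ (hno x)
    exact q.2.ne_top ((Ideal.eq_top_iff_one _).mpr h2)
  -- move it to the corner
  obtain ⟨v, hc⟩ : ∃ v : Matrix ι (Fin 1) B,
      ((s * unipU v : Matrix.GeneralLinearGroup (ι ⊕ Fin 1) B) :
        Matrix (ι ⊕ Fin 1) (ι ⊕ Fin 1) B) (Sum.inr 0) (Sum.inr 0) ∉ q.asIdeal := by
    have h0 : unipU (0 : Matrix ι (Fin 1) B) = 1 := by
      apply Units.ext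
      rw [coe_unipU]
      simp [fromBlocks_one]
    by_cases hcor : (s : Matrix (ι ⊕ Fin 1) (ι ⊕ Fin 1) B) (Sum.inr 0) (Sum.inr 0) ∈ q.asIdeal
    · obtain ⟨j, hj⟩ := hrow
      rcases j with i | i
      · refine ⟨fun i' _ => if i' = i then 1 else 0, ?_⟩
        have hcorner : ((s * unipU (fun i' _ => if i' = i then (1 : B) else 0) :
            Matrix.GeneralLinearGroup (ι ⊕ Fin 1) B) : Matrix (ι ⊕ Fin 1) (ι ⊕ Fin 1) B)
            (Sum.inr 0) (Sum.inr 0) =
            (s : Matrix (ι ⊕ Fin 1) (ι ⊕ Fin 1) B) (Sum.inr 0) (Sum.inl i) +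
              (s : Matrix (ι ⊕ Fin 1) (ι ⊕ Fin 1) B) (Sum.inr 0) (Sum.inr 0) := by
          rw [Units.val_mul, coe_unipU, Matrix.mul_apply, Fintype.sum_sum_type]
          simp
        rw [hcorner]
        intro hmem
        apply hj
        have := Ideal.sub_mem _ hmem hcor
        simpa using this
      · rw [Subsingleton.elim i 0] at hj
        exact absurd hcor hj
    · exact ⟨0, by rw [h0, mul_one]; exact hcor⟩
  set s₁ := s * unipU v with hs₁
  set c := (s₁ : Matrix (ι ⊕ Fin 1) (ι ⊕ Fin 1) B) (Sum.inr 0) (Sum.inr 0) with hcdef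
  -- localize at the corner
  have hq₁ : q ∈ Set.range (PrimeSpectrum.comap (algebraMap B (Localization.Away c))) := by
    rw [PrimeSpectrum.localization_away_comap_range (Localization.Away c) c]
    exact hc
  obtain ⟨q₁, hq₁⟩ := hq₁
  have hB₁ : HasLam (Localization.Away c) := hB.map (algebraMap B (Localization.Away c))
  set t := Matrix.GeneralLinearGroup.map (algebraMap B (Localization.Away c)) s₁ with ht
  have hdet_t : Matrix.GeneralLinearGroup.det t = 1 := by
    rw [ht, Matrix.GeneralLinearGroup.map_det, hs₁, map_mul, hdet, det_unipU, one_mul, map_one]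
  have hcorner_t : IsUnit ((t : Matrix (ι ⊕ Fin 1) (ι ⊕ Fin 1) (Localization.Away c))
      (Sum.inr 0) (Sum.inr 0)) := by
    rw [ht, Matrix.GeneralLinearGroup.map_apply]
    exact IsLocalization.Away.algebraMap_isUnit c
  obtain ⟨x, y, Sg, hx, hy, hSg, hxy⟩ := exists_block_of_corner hB₁ j₀ t hdet_t hcorner_t
  obtain ⟨B₂, i1, i2, hEt, ⟨q₂, hq₂⟩, hmem⟩ := hι (Localization.Away c) hB₁ Sg hSg q₁
  letI : Algebra B B₂ :=
    ((algebraMap (Localization.Away c) B₂).comp (algebraMap B (Localization.Away c))).toAlgebra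
  haveI : IsScalarTower B (Localization.Away c) B₂ := IsScalarTower.of_algebraMap_eq fun _ => rfl
  refine ⟨B₂, i1, inferInstance, Algebra.Etale.comp B (Localization.Away c) B₂, ⟨q₂, ?_⟩, ?_⟩
  · have h1 : algebraMap B B₂ =
        (algebraMap (Localization.Away c) B₂).comp (algebraMap B (Localization.Away c)) := rfl
    rw [h1, ← Ideal.comap_comap, hq₂]
    have := congrArg PrimeSpectrum.asIdeal hq₁
    exact this
  · have h1 : Matrix.GeneralLinearGroup.map (algebraMap B B₂) s =
        Matrix.GeneralLinearGroup.map (algebraMap (Localization.Away c) B₂)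
          (Matrix.GeneralLinearGroup.map (algebraMap B (Localization.Away c)) s) := by
      rw [← Matrix.GeneralLinearGroup.map_comp_apply]
      rfl
    have h2 : Matrix.GeneralLinearGroup.map (algebraMap B (Localization.Away c)) s =
        x * Units.map (embA ι (Localization.Away c)) Sg * y *
          (Matrix.GeneralLinearGroup.map (algebraMap B (Localization.Away c)) (unipU v))⁻¹ := by
      rw [← hxy, ht, hs₁, map_mul, mul_inv_cancel_right]
    rw [h1, h2, map_mul, map_mul, map_mul, map_inv, map_embA]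
    refine Subgroup.mul_mem _ (Subgroup.mul_mem _ (Subgroup.mul_mem _ ?_ ?_) ?_)
      (Subgroup.inv_mem _ ?_)
    · exact map_mem_commutator _ hx
    · exact map_mem_commutator (Units.map (embA ι B₂)) hmem
    · exact map_mem_commutator _ hy
    · rw [map_unipU]
      exact map_mem_commutator _ (unipU_mem hB₁ _)

theorem good_fin (n : ℕ) : Good.{u} (Fin n) := by
  induction n with
  | zero => exact good_zero
  | succ n ih =>
    rcases n with _ | n
    · exact good_one
    · exact good_transfer (finSumFinEquiv : Fin (n + 1) ⊕ Fin 1 ≃ Fin (n + 1 + 1)) (good_step ih)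

end Groth.Agent.Lib.helper13.SLComm
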