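import Groth.Agent.Lib.helper13.SLComm2

/-!
# `SL_n` is étale-locally contained in the commutator subgroup of `GL_n`: main theorem (helper13)
-/

set_option autoImplicit false
universe u

namespace Groth.Agent.Lib.helper13.SLComm

open Matrix Polynomial Groth.Agent.Lib.helper13.GLChar

lemma fpoly_degree (B : Type u) [CommRing B] [Nontrivial B] : (fpoly B).degree = 2 := by
  rw [fpoly, degree_add_eq_left_of_degree_lt, degree_X_pow]
  · rfl
  · rw [degree_X_pow]
    calc (1 - X : B[X]).degree ≤ max (1 : B[X]).degree (X : B[X]).degree := degree_sub_le _ _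
      _ ≤ 1 := by rw [degree_one, degree_X]; simp
      _ < ((2 : ℕ) : WithBot ℕ) := by norm_num

lemma fpoly_map {B C : Type u} [CommRing B] [CommRing C] (f : B →+* C) :
    (fpoly B).map f = fpoly C := by
  simp [fpoly]

lemma hasLam_of_root {B : Type u} [CommRing B] (x : B) (hx : x ^ 2 + (1 - x) = 0) : HasLam B :=
  ⟨⟨x, 1 - x, by linear_combination (-1 : B) * hx, by linear_combination (-1 : B) * hx⟩,
    ⟨x - 1, -x, by linear_combination (-1 : B) * hx, by linear_combination (-1 : B) * hx⟩, rfl⟩

/-- the standard étale pair `(X^2 - X + 1, 1)` over a ring in which `3` is invertible -/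
noncomputable def lamPair (B : Type u) [CommRing B] [Nontrivial B] (u : B) (hu : u * 3 = 1) :
    StandardEtalePair B where
  f := fpoly B
  monic_f := fpoly_monic B
  g := 1
  cond := by
    refine ⟨-(C u * (2 * X - 1)), C u * 4, 0, ?_⟩
    have hC : (C u * 3 : B[X]) = 1 := by
      rw [show (3 : B[X]) = C 3 from (map_ofNat C 3).symm, ← C_mul, hu, C_1]
    have hder : derivative (fpoly B) = 2 * X - 1 := by
      simp [fpoly]
      ring
    rw [hder, fpoly, pow_zero]
    linear_combination hC

lemma exists_prime_over {B : Type u} [CommRing B] [Nontrivial B] (u : B) (hu : u * 3 = 1)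
    (q : PrimeSpectrum B) :
    ∃ q' : PrimeSpectrum (lamPair B u hu).Ring,
      q'.asIdeal.comap (algebraMap B (lamPair B u hu).Ring) = q.asIdeal := by
  have hnt : Nontrivial (TensorProduct B q.asIdeal.ResidueField (lamPair B u hu).Ring) := by
    let L := AlgebraicClosure q.asIdeal.ResidueField
    obtain ⟨y, hy⟩ := IsAlgClosed.exists_root (fpoly L) (by rw [fpoly_degree]; norm_num)
    have hmap : (lamPair B u hu).HasMap y := by
      refine ⟨?_, ?_⟩
      · show aeval y (fpoly B) = 0
        rw [aeval_def, eval₂_eq_eval_map, fpoly_map]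
        exact hy
      · show IsUnit (aeval y (1 : B[X]))
        rw [map_one]
        exact isUnit_one
    let φ : (lamPair B u hu).Ring →ₐ[B] L := (lamPair B u hu).lift y hmap
    let ψ : TensorProduct B q.asIdeal.ResidueField (lamPair B u hu).Ring →ₐ[B] L :=
      Algebra.TensorProduct.productMap (IsScalarTower.toAlgHom B q.asIdeal.ResidueField L) φ
    refine ⟨⟨0, 1, fun h => ?_⟩⟩
    have := congrArg ψ h
    rw [map_zero, map_one] at this
    exact zero_ne_one this
  obtain ⟨q', hq'⟩ := (PrimeSpectrum.nontrivial_iff_mem_rangeComap q).mp hnt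
  exact ⟨q', congrArg PrimeSpectrum.asIdeal hq'⟩

lemma hasLam_lamPair {B : Type u} [CommRing B] [Nontrivial B] (u : B) (hu : u * 3 = 1) :
    HasLam (lamPair B u hu).Ring := by
  apply hasLam_of_root (lamPair B u hu).X
  have h := (lamPair B u hu).hasMap_X.1
  have h2 : aeval (lamPair B u hu).X (fpoly B) = 0 := h
  simpa [fpoly] using h2

theorem exists_lam (A : Type u) [CommRing A] (p : PrimeSpectrum A) :
    ∃ (A₀ : Type u) (_ : CommRing A₀) (_ : Algebra A A₀), Algebra.Etale A A₀ ∧
      (∃ q : PrimeSpectrum A₀, q.asIdeal.comap (algebraMap A A₀) = p.asIdeal) ∧ HasLam A₀ := by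
  by_cases h2 : (2 : A) ∈ p.asIdeal
  · -- then `3 ∉ p`
    have h3 : (3 : A) ∉ p.asIdeal := by
      intro h3
      have : (1 : A) ∈ p.asIdeal := by
        have := Ideal.sub_mem _ h3 h2
        norm_num at this
        exact this
      exact p.2.ne_top ((Ideal.eq_top_iff_one _).mpr this)
    have hq₃ : p ∈ Set.range (PrimeSpectrum.comap (algebraMap A (Localization.Away (3 : A)))) := by
      rw [PrimeSpectrum.localization_away_comap_range (Localization.Away (3 : A)) (3 : A)]
      exact h3
    obtain ⟨q₃, hq₃⟩ := hq₃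
    haveI : Nontrivial (Localization.Away (3 : A)) := by
      refine ⟨⟨0, 1, fun h => q₃.2.ne_top ((Ideal.eq_top_iff_one _).mpr ?_)⟩⟩
      rw [← h]; exact q₃.asIdeal.zero_mem
    obtain ⟨u', hu'⟩ := IsLocalization.Away.algebraMap_isUnit (S := Localization.Away (3 : A)) (3 : A)
    have hu : ((u'⁻¹ : (Localization.Away (3 : A))ˣ) : Localization.Away (3 : A)) * 3 = 1 := by
      have h3' : (3 : Localization.Away (3 : A)) = (u' : Localization.Away (3 : A)) := by
        rw [hu', map_ofNat]
      rw [h3', Units.inv_mul]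
    obtain ⟨q₀, hq₀⟩ := exists_prime_over _ hu q₃
    letI : Algebra A (lamPair (Localization.Away (3 : A)) _ hu).Ring :=
      ((algebraMap (Localization.Away (3 : A)) (lamPair (Localization.Away (3 : A)) _ hu).Ring).comp
        (algebraMap A (Localization.Away (3 : A)))).toAlgebra
    haveI : IsScalarTower A (Localization.Away (3 : A))
        (lamPair (Localization.Away (3 : A)) _ hu).Ring :=
      IsScalarTower.of_algebraMap_eq fun _ => rfl
    refine ⟨(lamPair (Localization.Away (3 : A)) _ hu).Ring, inferInstance, inferInstance,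
      Algebra.Etale.comp A (Localization.Away (3 : A)) _, ⟨q₀, ?_⟩, hasLam_lamPair _ hu⟩
    have h1 : algebraMap A (lamPair (Localization.Away (3 : A)) _ hu).Ring =
        (algebraMap (Localization.Away (3 : A)) (lamPair (Localization.Away (3 : A)) _ hu).Ring).comp
          (algebraMap A (Localization.Away (3 : A))) := rfl
    rw [h1, ← Ideal.comap_comap, hq₀]
    exact congrArg PrimeSpectrum.asIdeal hq₃
  · have hq : p ∈ Set.range (PrimeSpectrum.comap (algebraMap A (Localization.Away (2 : A)))) := by
      rw [PrimeSpectrum.localization_away_comap_range (Localization.Away (2 : A)) (2 : A)]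
      exact h2
    obtain ⟨q, hq⟩ := hq
    refine ⟨Localization.Away (2 : A), inferInstance, inferInstance, inferInstance,
      ⟨q, congrArg PrimeSpectrum.asIdeal hq⟩, ?_⟩
    obtain ⟨u', hu'⟩ := IsLocalization.Away.algebraMap_isUnit (S := Localization.Away (2 : A)) (2 : A)
    refine ⟨u', 1, ?_⟩
    rw [hu', map_ofNat, Units.val_one]
    norm_num

theorem main (A : Type u) [CommRing A] (n : ℕ)
    (s : Matrix.SpecialLinearGroup (Fin n) A) (p : PrimeSpectrum A) :
    ∃ (A' : Type u) (_ : CommRing A') (_ : Algebra A A'), Algebra.Etale A A' ∧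
      (∃ q : PrimeSpectrum A', q.asIdeal.comap (algebraMap A A') = p.asIdeal) ∧
      (Matrix.GeneralLinearGroup.map (algebraMap A A')) (Matrix.SpecialLinearGroup.toGL s) ∈
        commutator (Matrix.GeneralLinearGroup (Fin n) A') := by
  obtain ⟨A₀, i1, i2, hEt₀, ⟨q₀, hq₀⟩, hLam⟩ := exists_lam A p
  have hdet : Matrix.GeneralLinearGroup.det
      (Matrix.GeneralLinearGroup.map (algebraMap A A₀) (Matrix.SpecialLinearGroup.toGL s)) = 1 := by
    rw [Matrix.GeneralLinearGroup.map_det, Matrix.SpecialLinearGroup.coeToGL_det, map_one]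
  obtain ⟨A', j1, j2, hEt, ⟨q', hq'⟩, hmem⟩ := good_fin n A₀ hLam _ hdet q₀
  letI : Algebra A A' := ((algebraMap A₀ A').comp (algebraMap A A₀)).toAlgebra
  haveI : IsScalarTower A A₀ A' := IsScalarTower.of_algebraMap_eq fun _ => rfl
  refine ⟨A', j1, inferInstance, Algebra.Etale.comp A A₀ A', ⟨q', ?_⟩, ?_⟩
  · have h1 : algebraMap A A' = (algebraMap A₀ A').comp (algebraMap A A₀) := rfl
    rw [h1, ← Ideal.comap_comap, hq', hq₀]
  · have h1 : Matrix.GeneralLinearGroup.map (algebraMap A A') (Matrix.SpecialLinearGroup.toGL s) =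
        Matrix.GeneralLinearGroup.map (algebraMap A₀ A')
          (Matrix.GeneralLinearGroup.map (algebraMap A A₀) (Matrix.SpecialLinearGroup.toGL s)) := by
      rw [← Matrix.GeneralLinearGroup.map_comp_apply]
      rfl
    rw [h1]
    exact hmem

end Groth.Agent.Lib.helper13.SLComm
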