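import Mathlib

/-!
# Hilbert function of a Stanley–Reisner-type ring of a finite poset
-/

namespace Groth.Agent.Lib.helper13.SRHilb

open MvPolynomial

section Comb

variable {L : Type*} [PartialOrder L]

/-- exponents of the skew-pair monomials -/
def skewSet (L : Type*) [PartialOrder L] : Set (L →₀ ℕ) :=
  {s | ∃ a b : L, ¬ a ≤ b ∧ ¬ b ≤ a ∧ s = Finsupp.single a 1 + Finsupp.single b 1}

/-- standard monomials: support is a chain -/
def Std (d : L →₀ ℕ) : Prop := IsChain (fun a b : L => a ≤ b) (d.support : Set L)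

theorem not_std_iff (d : L →₀ ℕ) : (∃ s ∈ skewSet L, s ≤ d) ↔ ¬ Std d := by
  classical
  constructor
  · rintro ⟨s, ⟨a, b, h1, h2, rfl⟩, hle⟩ hstd
    have hab : a ≠ b := by rintro rfl; exact h1 le_rfl
    have ha : a ∈ d.support := by
      have := hle a
      rw [Finsupp.add_apply, Finsupp.single_eq_same] at this
      exact Finsupp.mem_support_iff.mpr (by omega)
    have hb : b ∈ d.support := by
      have := hle b
      rw [Finsupp.add_apply, Finsupp.single_eq_same] at this
      exact Finsupp.mem_support_iff.mpr (by omega)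
    rcases hstd ha hb hab with h | h
    · exact h1 h
    · exact h2 h
  · intro h
    rw [Std, IsChain, Set.Pairwise] at h
    push Not at h
    obtain ⟨a, ha, b, hb, hab, hn1, hn2⟩ := h
    refine ⟨_, ⟨a, b, hn1, hn2, rfl⟩, ?_⟩
    intro c
    rw [Finsupp.add_apply, Finsupp.single_apply, Finsupp.single_apply]
    have ha' := Finsupp.mem_support_iff.mp ha
    have hb' := Finsupp.mem_support_iff.mp hb
    split_ifs with h1 h2 h2
    · exact absurd (h1.trans h2.symm) hab
    · subst h1; omega
    · subst h2; omega
    · omega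

end Comb

section Alg

variable (K : Type*) [Field K] (L : Type*) [PartialOrder L]

theorem gens_eq : {f : MvPolynomial L K | ∃ a b : L, ¬ a ≤ b ∧ ¬ b ≤ a ∧ f = X a * X b}
    = (fun s => monomial s (1 : K)) '' skewSet L := by
  ext f
  constructor
  · rintro ⟨a, b, h1, h2, rfl⟩
    refine ⟨_, ⟨a, b, h1, h2, rfl⟩, ?_⟩
    simp [X, monomial_mul]
  · rintro ⟨s, ⟨a, b, h1, h2, rfl⟩, rfl⟩
    exact ⟨a, b, h1, h2, by simp [X, monomial_mul]⟩

theorem mem_I_iff (f : MvPolynomial L K) :
    f ∈ Ideal.span {f : MvPolynomial L K | ∃ a b : L, ¬ a ≤ b ∧ ¬ b ≤ a ∧ f = X a * X b}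
      ↔ ∀ d ∈ f.support, ¬ Std d := by
  rw [gens_eq, mem_ideal_span_monomial_image]
  exact forall₂_congr fun d _ => not_std_iff d

variable [Fintype L]

/-- the finite set of standard exponents of degree `m` -/
noncomputable def Tset (m : ℕ) : Finset (L →₀ ℕ) := by
  classical
  exact (Finset.finsuppAntidiag Finset.univ m).filter Std

variable {L}

theorem mem_Tset (m : ℕ) (d : L →₀ ℕ) : d ∈ Tset L m ↔ d.degree = m ∧ Std d := by
  classical
  rw [Tset, Finset.mem_filter, Finset.mem_finsuppAntidiag, Finsupp.degree_eq_sum]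
  simp

variable (L)

theorem finrank_eq_card (m : ℕ) :
    Module.finrank K ((MvPolynomial.homogeneousSubmodule L K m).map
        (Ideal.Quotient.mkₐ K (Ideal.span {f : MvPolynomial L K | ∃ a b : L, ¬ a ≤ b ∧ ¬ b ≤ a ∧
          f = MvPolynomial.X a * MvPolynomial.X b})).toLinearMap) = (Tset L m).card := by
  classical
  obtain ⟨I, hI⟩ : ∃ I : Ideal (MvPolynomial L K),
      I = Ideal.span {f : MvPolynomial L K | ∃ a b : L, ¬ a ≤ b ∧ ¬ b ≤ a ∧ f = X a * X b} :=
    ⟨_, rfl⟩
  rw [← hI]
  obtain ⟨M, hM⟩ : ∃ M, M = MvPolynomial.homogeneousSubmodule L K m := ⟨_, rfl⟩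
  rw [← hM]
  let π' : M →ₗ[K] (MvPolynomial L K ⧸ I) := (Ideal.Quotient.mkₐ K I).toLinearMap.comp M.subtype
  let g : M →ₗ[K] (↥(Tset L m) → K) :=
    LinearMap.pi fun t => (MvPolynomial.lcoeff (R := K) t.1).comp M.subtype
  have hrange : M.map (Ideal.Quotient.mkₐ K I).toLinearMap = LinearMap.range π' := by
    rw [LinearMap.range_comp, Submodule.range_subtype]
  have hker : LinearMap.ker π' = LinearMap.ker g := by
    ext f
    rw [LinearMap.mem_ker, LinearMap.mem_ker]
    have h1 : π' f = 0 ↔ ∀ d ∈ f.1.support, ¬ Std d := by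
      rw [← mem_I_iff, ← hI]
      exact Ideal.Quotient.eq_zero_iff_mem
    rw [h1]
    constructor
    · intro h
      funext t
      show coeff t.1 f.1 = 0
      by_contra hne
      exact h t.1 (mem_support_iff.mpr hne) ((mem_Tset m t.1).mp t.2).2
    · intro h d hd hstd
      have hdeg : d.degree = m := by
        have hf : f.1.IsHomogeneous m := by
          have h2 : f.1 ∈ M := f.2
          have h3 : f.1 ∈ MvPolynomial.homogeneousSubmodule L K m := hM ▸ h2
          exact h3
        by_contra hne
        exact (mem_support_iff.mp hd) (hf.coeff_eq_zero hne)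
      have := congrFun h ⟨d, (mem_Tset m d).mpr ⟨hdeg, hstd⟩⟩
      exact (mem_support_iff.mp hd) this
  have hsurj : Function.Surjective g := by
    intro v
    have hmem : (∑ t : ↥(Tset L m), monomial t.1 (v t)) ∈ M := by
      rw [hM]
      refine Submodule.sum_mem _ fun t _ => ?_
      exact isHomogeneous_monomial _ ((mem_Tset m t.1).mp t.2).1
    refine ⟨⟨_, hmem⟩, ?_⟩
    funext t'
    show coeff t'.1 (∑ t : ↥(Tset L m), monomial t.1 (v t)) = v t'
    rw [coeff_sum]
    simp_rw [coeff_monomial]
    rw [Finset.sum_eq_single t']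
    · simp
    · intro b _ hb
      rw [if_neg]
      intro h
      exact hb (Subtype.ext h)
    · intro h
      exact absurd (Finset.mem_univ _) h
  have e1 : (M ⧸ LinearMap.ker π') ≃ₗ[K] LinearMap.range π' := π'.quotKerEquivRange
  have e2 : (M ⧸ LinearMap.ker g) ≃ₗ[K] LinearMap.range g := g.quotKerEquivRange
  have e3 : (M ⧸ LinearMap.ker π') ≃ₗ[K] (M ⧸ LinearMap.ker g) :=
    Submodule.quotEquivOfEq _ _ hker
  rw [hrange, ← e1.finrank_eq, e3.finrank_eq, e2.finrank_eq, LinearMap.range_eq_top.mpr hsurj,
    finrank_top, Module.finrank_fintype_fun_eq_card, Fintype.card_coe]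

end Alg

section Count

variable {L : Type*} [PartialOrder L] [Fintype L]

/-- indicator of a finset as a finsupp -/
noncomputable def ind (C : Finset L) : L →₀ ℕ := by
  classical
  exact Finsupp.onFinset C (fun a => if a ∈ C then 1 else 0)
    (by intro a ha; by_contra h; simp [h] at ha)

theorem ind_mem {C : Finset L} {a : L} (h : a ∈ C) : ind C a = 1 := by
  classical
  rw [ind, Finsupp.onFinset_apply, if_pos h]

theorem ind_notMem {C : Finset L} {a : L} (h : a ∉ C) : ind C a = 0 := by
  classical
  rw [ind, Finsupp.onFinset_apply, if_neg h]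

theorem degree_ind (C : Finset L) : (ind C).degree = C.card := by
  classical
  rw [Finsupp.degree_eq_sum]
  have : ∀ a, ind C a = if a ∈ C then 1 else 0 := fun a => by
    by_cases h : a ∈ C
    · rw [ind_mem h, if_pos h]
    · rw [ind_notMem h, if_neg h]
  simp_rw [this]
  rw [Finset.sum_ite_mem, Finset.univ_inter, Finset.sum_const, smul_eq_mul, mul_one]

theorem ind_le {C : Finset L} {d : L →₀ ℕ} (h : d.support = C) : ind C ≤ d := by
  intro a
  by_cases ha : a ∈ C
  · rw [ind_mem ha]
    have : a ∈ d.support := h ▸ ha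
    have := Finsupp.mem_support_iff.mp this
    omega
  · rw [ind_notMem ha]
    exact Nat.zero_le _

theorem degree_eq_sum_of_subset {e : L →₀ ℕ} {C : Finset L} (h : e.support ⊆ C) :
    e.degree = ∑ a ∈ C, e a := by
  rw [Finsupp.degree_apply]
  exact Finset.sum_subset h (fun a _ ha => Finsupp.notMem_support_iff.mp ha)

theorem card_fiber (m : ℕ) (hm : 1 ≤ m) (C : Finset L) (hC : C.Nonempty)
    (hch : IsChain (fun a b : L => a ≤ b) (C : Set L)) [DecidablePred fun d : L →₀ ℕ => d.support = C] :
    ((Tset L m).filter (fun d => d.support = C)).card = Nat.choose (m - 1) (C.card - 1) := by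
  classical
  have hc1 : 1 ≤ C.card := hC.card_pos
  have key : ∀ d : L →₀ ℕ, d.support = C → d.degree = (d - ind C).degree + C.card := by
    intro d hsupp
    have h2 : d = (d - ind C) + ind C := (tsub_add_cancel_of_le (ind_le hsupp)).symm
    conv_lhs => rw [h2]
    rw [map_add, degree_ind]
  by_cases hmc : m < C.card
  · rw [Nat.choose_eq_zero_of_lt (by omega), Finset.card_eq_zero, Finset.filter_eq_empty_iff]
    intro d hd hsupp
    have h1 := (mem_Tset m d).mp hd
    have h3 := key d hsupp
    omega
  · push Not at hmc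
    have hcard : (Finset.finsuppAntidiag C (m - C.card)).card
        = Nat.choose (m - 1) (C.card - 1) := by
      rw [← Fintype.card_coe, Fintype.card_congr (Finset.finsuppAntidiagEquiv C (m - C.card)),
        Sym.card_sym_eq_choose, Fintype.card_coe]
      have : C.card + (m - C.card) - 1 = m - 1 := by omega
      rw [this]
      exact Nat.choose_symm_of_eq_add (by omega)
    rw [← hcard]
    refine Finset.card_bij' (fun d _ => d - ind C) (fun e _ => e + ind C) ?_ ?_ ?_ ?_
    · intro d hd
      rw [Finset.mem_filter] at hd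
      obtain ⟨hdT, hsupp⟩ := hd
      have h1 := (mem_Tset m d).mp hdT
      have h3 := key d hsupp
      have hsub : (d - ind C).support ⊆ C := by
        intro a ha
        rw [← hsupp]
        rw [Finsupp.mem_support_iff] at ha ⊢
        intro h0
        apply ha
        rw [Finsupp.tsub_apply, h0, Nat.zero_sub]
      rw [Finset.mem_finsuppAntidiag]
      refine ⟨?_, hsub⟩
      rw [← degree_eq_sum_of_subset hsub]
      omega
    · intro e he
      rw [Finset.mem_finsuppAntidiag] at he
      obtain ⟨hsum, hsub⟩ := he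
      have hsupp : (e + ind C).support = C := by
        ext a
        rw [Finsupp.mem_support_iff, Finsupp.add_apply]
        by_cases ha : a ∈ C
        · rw [ind_mem ha]
          simp [ha]
        · rw [ind_notMem ha, add_zero]
          have : e a = 0 := Finsupp.notMem_support_iff.mp (fun h => ha (hsub h))
          simp [this, ha]
      rw [Finset.mem_filter, mem_Tset]
      refine ⟨⟨?_, ?_⟩, hsupp⟩
      · rw [map_add, degree_ind, degree_eq_sum_of_subset hsub, hsum]
        omega
      · rw [Std, hsupp]
        exact hch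
    · intro d hd
      rw [Finset.mem_filter] at hd
      exact tsub_add_cancel_of_le (ind_le hd.2)
    · intro e _
      exact add_tsub_cancel_right e (ind C)

theorem card_Tset (m : ℕ) (hm : 1 ≤ m) :
    (Tset L m).card =
      ∑ᶠ C : {C : Finset L // C.Nonempty ∧ IsChain (fun a b : L => a ≤ b) (↑C : Set L)},
        Nat.choose (m - 1) (C.1.card - 1) := by
  classical
  rw [finsum_eq_sum_of_fintype]
  have hmaps : ((Tset L m : Finset _) : Set (L →₀ ℕ)).MapsTo Finsupp.support
      ((Finset.univ.filter (fun C : Finset L => C.Nonempty ∧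
        IsChain (fun a b : L => a ≤ b) (↑C : Set L)) : Finset (Finset L)) : Set (Finset L)) := by
    intro d hd
    have h1 := (mem_Tset m d).mp hd
    rw [Finset.mem_coe, Finset.mem_filter]
    refine ⟨Finset.mem_univ _, ?_, h1.2⟩
    rw [Finsupp.support_nonempty_iff]
    rintro rfl
    simp at h1
    omega
  rw [Finset.card_eq_sum_card_fiberwise hmaps]
  rw [← Finset.sum_subtype (Finset.univ.filter (fun C : Finset L => C.Nonempty ∧
        IsChain (fun a b : L => a ≤ b) (↑C : Set L))) (by simp)
      (fun C => Nat.choose (m - 1) (C.card - 1))]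
  apply Finset.sum_congr rfl
  intro C hC
  rw [Finset.mem_filter] at hC
  exact card_fiber m hm C hC.2.1 hC.2.2

end Count

end Groth.Agent.Lib.helper13.SRHilb
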