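import Mathlib

/-!
# Schubert conditions and Plücker minors (helper13)

Linear algebra behind `S14504`.
-/

set_option autoImplicit false

namespace Groth.Agent.Lib.helper13.SchubPl

open Module Matrix

variable {K : Type*} [Field K] {n d : ℕ}

/-- if the minor on columns `J` is nonzero and `J i ≥ D` then `W ∩ V_D` has dimension `≤ i` -/
theorem finrank_le_of_det_ne_zero (A : Matrix (Fin d) (Fin n) K) (V : Submodule K (Fin n → K))
    (D : ℕ) (hV : ∀ v : Fin n → K, v ∈ V ↔ ∀ l : Fin n, D ≤ (l : ℕ) → v l = 0)
    (J : Fin d → Fin n) (hJ : StrictMono J) (i : Fin d) (hi : D ≤ (J i : ℕ))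
    (hdet : (A.submatrix id J).det ≠ 0) :
    finrank K ↥(Submodule.span K (Set.range fun r : Fin d => A r) ⊓ V) ≤ (i : ℕ) := by
  let ρ : ↥(Submodule.span K (Set.range fun r : Fin d => A r) ⊓ V) →ₗ[K] (Fin (i : ℕ) → K) :=
    (LinearMap.funLeft K K (fun l : Fin (i : ℕ) => J (Fin.castLE i.2.le l))) ∘ₗ
      (Submodule.subtype _)
  have hρ : Function.Injective ρ := by
    rw [← LinearMap.ker_eq_bot, LinearMap.ker_eq_bot']
    rintro ⟨w, hwW, hwV⟩ hw
    have hπ : ∀ l : Fin d, w (J l) = 0 := by
      intro l
      by_cases hl : (l : ℕ) < i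
      · have := congrFun hw ⟨l, hl⟩
        simpa [ρ, LinearMap.funLeft_apply] using this
      · refine (hV w).mp hwV (J l) (le_trans hi ?_)
        have hil : i ≤ l := not_lt.mp hl
        exact hJ.monotone hil
    have hwW' : w ∈ LinearMap.range A.vecMulLinear := by
      rw [range_vecMulLinear]
      exact hwW
    obtain ⟨c, rfl⟩ := hwW'
    have h0 : c ᵥ* (A.submatrix id J) = 0 := by
      funext l
      have := hπ l
      simpa [Matrix.vecMul, dotProduct, Matrix.submatrix] using this
    have hc := Matrix.eq_zero_of_vecMul_eq_zero hdet h0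
    apply Subtype.ext
    simp [hc]
  have := LinearMap.finrank_le_finrank_of_injective hρ
  simpa using this

/-- if `W ∩ V_D` has dimension `≤ i` then some nonzero minor has `J i ≥ D` -/
theorem exists_minor_of_finrank_le (A : Matrix (Fin d) (Fin n) K)
    (hA : LinearIndependent K (fun r : Fin d => A r))
    (V : Submodule K (Fin n → K)) (D : ℕ)
    (hV : ∀ v : Fin n → K, v ∈ V ↔ ∀ l : Fin n, D ≤ (l : ℕ) → v l = 0)
    (i : Fin d)
    (hle : finrank K ↥(Submodule.span K (Set.range fun r : Fin d => A r) ⊓ V) ≤ (i : ℕ)) :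
    ∃ J : Fin d → Fin n, StrictMono J ∧ D ≤ (J i : ℕ) ∧ (A.submatrix id J).det ≠ 0 := by
  classical
  -- the tail columns have rank at least `d - i`
  let B : Matrix (Fin d) {l : Fin n // D ≤ (l : ℕ)} K := A.submatrix id (fun t => t.1)
  have hrank : d - (i : ℕ) ≤ B.rank := by
    rw [← Matrix.rank_transpose]
    have hrn := LinearMap.finrank_range_add_finrank_ker Bᵀ.mulVecLin
    rw [Module.finrank_fin_fun] at hrn
    have hker : finrank K (LinearMap.ker Bᵀ.mulVecLin) ≤ (i : ℕ) := by
      refine le_trans ?_ hle
      have hmem : ∀ c : LinearMap.ker Bᵀ.mulVecLin, A.vecMulLinear c.1 ∈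
          Submodule.span K (Set.range fun r : Fin d => A r) ⊓ V := by
        intro c
        refine ⟨?_, ?_⟩
        · have : A.vecMulLinear c.1 ∈ LinearMap.range A.vecMulLinear := ⟨c.1, rfl⟩
          rw [range_vecMulLinear] at this
          exact this
        · refine (hV _).mpr ?_
          intro l hl
          have hc := c.2
          rw [LinearMap.mem_ker, Matrix.mulVecLin_apply, Matrix.mulVec_transpose] at hc
          have := congrFun hc ⟨l, hl⟩
          simpa [Matrix.vecMul, dotProduct, B] using this
      let g : LinearMap.ker Bᵀ.mulVecLin →ₗ[K]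
          ↥(Submodule.span K (Set.range fun r : Fin d => A r) ⊓ V) :=
        LinearMap.codRestrict _ (A.vecMulLinear ∘ₗ (Submodule.subtype _)) hmem
      have hg : Function.Injective g := by
        intro c c' hcc
        have h1 : A.vecMulLinear c.1 = A.vecMulLinear c'.1 := congrArg Subtype.val hcc
        have hinj : Function.Injective A.vecMul := Matrix.vecMul_injective_iff.mpr hA
        exact Subtype.ext (hinj h1)
      exact LinearMap.finrank_le_finrank_of_injective hg
    unfold Matrix.rank
    omega
  -- choose independent tail columns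
  obtain ⟨b₁, hb₁T, -, hb₁span, hb₁li⟩ := exists_linearIndepOn_extension (K := K) (v := A.col)
    (s := ∅) (t := {l : Fin n | D ≤ (l : ℕ)}) (linearIndepOn_empty K A.col) (Set.empty_subset _)
  haveI : Fintype ↥b₁ := Fintype.ofFinite _
  have hcard₁ : d - (i : ℕ) ≤ Fintype.card ↥b₁ := by
    have h1 := finrank_span_eq_card hb₁li.linearIndependent
    have h2 : Submodule.span K (Set.range B.col) ≤
        Submodule.span K (Set.range fun x : ↥b₁ => A.col x) := by
      rw [Submodule.span_le]
      rintro _ ⟨t, rfl⟩
      have : A.col t.1 ∈ A.col '' {l : Fin n | D ≤ (l : ℕ)} := ⟨t.1, t.2, rfl⟩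
      have h3 := hb₁span this
      have e : (A.col '' b₁) = Set.range fun x : ↥b₁ => A.col x := by
        ext y
        constructor
        · rintro ⟨x, hx, rfl⟩
          exact ⟨⟨x, hx⟩, rfl⟩
        · rintro ⟨x, rfl⟩
          exact ⟨x.1, x.2, rfl⟩
      rw [e] at h3
      exact h3
    have h4 := Submodule.finrank_mono h2
    rw [← Matrix.rank_eq_finrank_span_cols, h1] at h4
    omega
  -- extend to a basis of columns
  obtain ⟨b, -, hb₁b, hbspan, hbli⟩ := exists_linearIndepOn_extension hb₁li (Set.subset_univ b₁)
  haveI : Fintype ↥b := Fintype.ofFinite _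
  have hcard : Fintype.card ↥b = d := by
    have h1 := finrank_span_eq_card hbli.linearIndependent
    have htop : Submodule.span K (Set.range fun x : ↥b => A.col x) = ⊤ := by
      have hcols : Submodule.span K (Set.range A.col) = ⊤ := by
        apply Submodule.eq_top_of_finrank_eq
        rw [← Matrix.rank_eq_finrank_span_cols, LinearIndependent.rank_matrix hA,
          Module.finrank_fin_fun, Fintype.card_fin]
      rw [eq_top_iff, ← hcols, Submodule.span_le]
      rintro _ ⟨l, rfl⟩
      have : A.col l ∈ A.col '' Set.univ := ⟨l, Set.mem_univ _, rfl⟩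
      have h3 := hbspan this
      have e : (A.col '' b) = Set.range fun x : ↥b => A.col x := by
        ext y
        constructor
        · rintro ⟨x, hx, rfl⟩
          exact ⟨⟨x, hx⟩, rfl⟩
        · rintro ⟨x, rfl⟩
          exact ⟨x.1, x.2, rfl⟩
      rw [e] at h3
      exact h3
    rw [htop, finrank_top, Module.finrank_fin_fun] at h1
    exact h1.symm
  have hScard : b.toFinset.card = d := by rw [Set.toFinset_card, hcard]
  let J : Fin d ↪o Fin n := b.toFinset.orderEmbOfFin hScard
  have hJmem : ∀ l, (J l) ∈ b := fun l => Set.mem_toFinset.mp (Finset.orderEmbOfFin_mem _ hScard l)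
  refine ⟨J, J.strictMono, ?_, ?_⟩
  · by_contra hlt
    push Not at hlt
    -- all elements of b₁ are of the form J l with i < l
    have hsub : b₁.toFinset ⊆ (Finset.Ioi i).image J := by
      intro x hx
      rw [Set.mem_toFinset] at hx
      have hxb : x ∈ b.toFinset := Set.mem_toFinset.mpr (hb₁b hx)
      have hxr : x ∈ Set.range J := by
        rw [Finset.range_orderEmbOfFin]
        exact hxb
      obtain ⟨l, rfl⟩ := hxr
      rw [Finset.mem_image]
      refine ⟨l, ?_, rfl⟩
      rw [Finset.mem_Ioi]
      by_contra hil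
      have hli : l ≤ i := not_lt.mp hil
      have h1 : (J l : ℕ) ≤ (J i : ℕ) := J.monotone hli
      have h2 : D ≤ (J l : ℕ) := hb₁T hx
      omega
    have h1 := Finset.card_le_card hsub
    have h2 : ((Finset.Ioi i).image J).card ≤ (Finset.Ioi i).card := Finset.card_image_le
    rw [Fin.card_Ioi] at h2
    rw [Set.toFinset_card] at h1
    have := i.2
    omega
  · have hli : LinearIndependent K (fun l : Fin d => A.col (J l)) := by
      have := hbli.linearIndependent.comp (fun l : Fin d => (⟨J l, hJmem l⟩ : ↥b)) (by
        intro l l' hll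
        have h := congrArg Subtype.val hll
        simp only at h
        exact J.injective h)
      exact this
    have hu : IsUnit (A.submatrix id J) := Matrix.linearIndependent_cols_iff_isUnit.mp hli
    exact ((Matrix.isUnit_iff_isUnit_det _).mp hu).ne_zero

end Groth.Agent.Lib.helper13.SchubPl
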