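import Mathlib
import Groth.Prelude.Def_W4c1hilbpnTgt

/-!
# Slices of strongly stable ideals in three variables (helper13)
-/

set_option autoImplicit false

namespace Groth.Agent.Lib.helper13.Slice

open MvPolynomial W4c1hilbpn

variable {k : Type*} [Field k]

/-- `x^i · (y,z)^β` -/
noncomputable def th (i : ℕ) (β : Fin 2 →₀ ℕ) : Fin 3 →₀ ℕ :=
  Finsupp.single 0 i + Finsupp.mapDomain Fin.succ β

lemma th_injective (i : ℕ) : Function.Injective (th i) := by
  intro β γ h
  exact Finsupp.mapDomain_injective (Fin.succ_injective _) (add_left_cancel h)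

@[simp] lemma th_apply_zero (i : ℕ) (β : Fin 2 →₀ ℕ) : th i β 0 = i := by
  rw [th, Finsupp.add_apply, Finsupp.single_eq_same,
    Finsupp.mapDomain_of_notMem_range _ _ (by rintro ⟨j, hj⟩; exact Fin.succ_ne_zero j hj), add_zero]

@[simp] lemma th_apply_succ (i : ℕ) (β : Fin 2 →₀ ℕ) (j : Fin 2) : th i β (Fin.succ j) = β j := by
  rw [th, Finsupp.add_apply, Finsupp.mapDomain_apply (Fin.succ_injective _),
    Finsupp.single_eq_of_ne (Fin.succ_ne_zero j), zero_add]

lemma mul_rename_eq (i : ℕ) (p : MvPolynomial (Fin 2) k) :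
    rename Fin.succ p * X 0 ^ i = ∑ β ∈ p.support, monomial (th i β) (coeff β p) := by
  conv_lhs => rw [p.as_sum]
  rw [map_sum, Finset.sum_mul]
  refine Finset.sum_congr rfl fun β _ => ?_
  rw [rename_monomial, X_pow_eq_monomial, monomial_mul, mul_one, th,
    add_comm (Finsupp.mapDomain Fin.succ β) (Finsupp.single 0 i)]

lemma monomial_mem {σ : Type*} {I : Ideal (MvPolynomial σ k)} {β : σ →₀ ℕ}
    (h : monomial β (1 : k) ∈ I) (c : k) : monomial β c ∈ I := by
  have : monomial β c = C c * monomial β 1 := by rw [C_mul_monomial, mul_one]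
  rw [this]; exact I.mul_mem_left _ h

lemma mem_slice_iff {I : Ideal (MvPolynomial (Fin 3) k)} (hI : IsMonomial I) (i : ℕ)
    (p : MvPolynomial (Fin 2) k) :
    p ∈ sliceX I i ↔ ∀ β ∈ p.support, th i β ∈ exps I := by
  classical
  have h1 : p ∈ sliceX I i ↔ rename Fin.succ p * X 0 ^ i ∈ I := by
    rw [sliceX, Ideal.mem_comap, Submodule.mem_colon_singleton, smul_eq_mul]
    rfl
  rw [h1, mul_rename_eq]
  constructor
  · intro h β hβ
    refine hI _ h (th i β) ?_
    rw [mem_support_iff, coeff_sum]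
    simp only [coeff_monomial]
    rw [Finset.sum_eq_single β]
    · rw [if_pos rfl]; exact mem_support_iff.mp hβ
    · intro γ _ hγ; rw [if_neg]; intro e; exact hγ (th_injective i e)
    · intro hβ'; exact absurd hβ hβ'
  · intro h
    exact Ideal.sum_mem _ fun β hβ => monomial_mem (h β hβ) _

lemma exps_slice {I : Ideal (MvPolynomial (Fin 3) k)} (hI : IsMonomial I) (i : ℕ)
    (β : Fin 2 →₀ ℕ) : β ∈ exps (sliceX I i) ↔ th i β ∈ exps I := by
  classical
  change monomial β (1 : k) ∈ sliceX I i ↔ _
  rw [mem_slice_iff hI, support_monomial, if_neg one_ne_zero]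
  simp

theorem main (I : Ideal (MvPolynomial (Fin 3) k)) (hI : IsStronglyStable I) (i : ℕ) :
    IsStronglyStable (sliceX I i) ∧
      (sliceX I i).colon {(MvPolynomial.X 0 : MvPolynomial (Fin 2) k)} ≤ sliceX I (i + 1) := by
  classical
  obtain ⟨hmon, hst⟩ := hI
  refine ⟨⟨?_, ?_⟩, ?_⟩
  · intro p hp β hβ
    have := (mem_slice_iff hmon i p).mp hp β hβ
    exact (exps_slice hmon i β).mpr this
  · intro β hβ a b hab hpos
    rw [exps_slice hmon] at hβ ⊢
    have h1 := hst (th i β) hβ (Fin.succ a) (Fin.succ b) (Fin.succ_lt_succ_iff.mpr hab)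
      (by rw [th_apply_succ]; exact hpos)
    have h2 : th i β - Finsupp.single (Fin.succ b) 1 + Finsupp.single (Fin.succ a) 1 =
        th i (β - Finsupp.single b 1 + Finsupp.single a 1) := by
      ext j
      refine Fin.cases ?_ (fun j => ?_) j
      · simp [Finsupp.single_apply, Fin.succ_ne_zero]
      · simp [Finsupp.single_apply, Fin.succ_inj]
    rw [← h2]; exact h1
  · intro p hp
    rw [Submodule.mem_colon_singleton, smul_eq_mul] at hp
    rw [mem_slice_iff hmon]
    intro β hβ
    have h0 : β + Finsupp.single 0 1 ∈ (p * X 0).support := by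
      rw [mem_support_iff, coeff_mul_X]; exact mem_support_iff.mp hβ
    have h1 := (mem_slice_iff hmon i _).mp hp _ h0
    have h2 := hst _ h1 (0 : Fin 3) (Fin.succ 0) (by decide)
      (by rw [th_apply_succ]; simp)
    have h3 : th i (β + Finsupp.single 0 1) - Finsupp.single (Fin.succ (0 : Fin 2)) 1
        + Finsupp.single (0 : Fin 3) 1 = th (i + 1) β := by
      ext j
      refine Fin.cases ?_ (fun j => ?_) j
      · simp [Finsupp.single_apply, Fin.succ_ne_zero]
      · simp [Finsupp.single_apply, Fin.succ_inj]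
        fin_cases j <;> simp
    rw [← h3]; exact h2

end Groth.Agent.Lib.helper13.Slice
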