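import Groth.Agent.Lib.helper13.PolyExist
import Groth.Agent.Lib.helper13.BinomialSpecial
import Groth.Agent.Lib.helper13.GammaFilSpan
import Groth.Agent.Lib.helper13.NewtonZ

/-!
Sub-λ-rings generated by elements, pull-back of λ-structures along injective ring maps, and the
criterion "a ring map commuting with the λ-operations on generators is a λ-homomorphism"
(helper13's helper library).
-/

set_option autoImplicit false
set_option linter.style.haveILetI false
set_option warn.classDefReducibility false

namespace Groth.Agent.Lib.helper13.SubLam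

open LambdaRing MvPolynomial Finset
open Groth.Agent.Lib.helper13.Newton Groth.Agent.Lib.helper13.PolyExist

universe u v w

section Basic

variable {A : Type u} [CommRing A] [LambdaOps A]

theorem lam_zero_arg (n : ℕ) (hn : n ≠ 0) : LambdaOps.lam n (0 : A) = 0 :=
  Groth.Agent.Lib.helper13.GammaFilSpan.lam_zero_arg n hn

/-- `λ^{n+1}(-y)` in terms of lower `λ^i(-y)` and the `λ^j(y)`. -/
theorem lam_succ_neg (y : A) (n : ℕ) :
    LambdaOps.lam (n + 1) (-y) =
      -∑ i ∈ range (n + 1), LambdaOps.lam i (-y) * LambdaOps.lam (n + 1 - i) y := by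
  have h := LambdaOps.lam_add (n + 1) (-y) y
  rw [neg_add_cancel, lam_zero_arg (n + 1) (Nat.succ_ne_zero n), Finset.sum_range_succ,
    Nat.sub_self, LambdaOps.lam_zero, mul_one] at h
  linear_combination (-1 : A) * h

omit [LambdaOps A] in
theorem aeval_mem_subring {σ : Type*} (T : Subring A) (f : σ → A) (hf : ∀ i, f i ∈ T)
    (p : MvPolynomial σ ℤ) : aeval f p ∈ T := by
  induction p using MvPolynomial.induction_on with
  | C a =>
    rw [aeval_C, eq_intCast (algebraMap ℤ A)]
    exact intCast_mem T a
  | add p q hp hq => rw [map_add]; exact T.add_mem hp hq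
  | mul_X p i hp => rw [map_mul, aeval_X]; exact T.mul_mem hp (hf i)

end Basic

section Closed

variable {A : Type u} [CommRing A] [LambdaOps A] (hA : IsSpecial A)

include hA in
theorem lam_one_mem (T : Subring A) (n : ℕ) : LambdaOps.lam n (1 : A) ∈ T := by
  rcases n with _ | _ | n
  · rw [LambdaOps.lam_zero]; exact T.one_mem
  · rw [LambdaOps.lam_one]; exact T.one_mem
  · rw [hA.lam_one_eq_zero (n + 2) (by omega)]; exact T.zero_mem

/-- The elements all of whose `λ^n` lie in a given subring form a subring. -/
def lamClosed (T : Subring A) : Subring A where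
  carrier := {y | ∀ n, LambdaOps.lam n y ∈ T}
  mul_mem' := by
    intro x y hx hy n
    obtain ⟨P, hP⟩ := exists_isMulPoly n
    rw [hA.lam_mul n P hP x y]
    apply aeval_mem_subring
    rintro (k | k)
    · exact hx _
    · exact hy _
  one_mem' := fun n => lam_one_mem hA T n
  add_mem' := by
    intro x y hx hy n
    rw [LambdaOps.lam_add]
    exact T.sum_mem fun i _ => T.mul_mem (hx i) (hy _)
  zero_mem' := by
    intro n
    rcases n with _ | n
    · rw [LambdaOps.lam_zero]; exact T.one_mem
    · rw [lam_zero_arg _ (Nat.succ_ne_zero n)]; exact T.zero_mem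
  neg_mem' := by
    intro y hy n
    induction n using Nat.strong_induction_on with
    | _ n ih =>
      rcases n with _ | n
      · rw [LambdaOps.lam_zero]; exact T.one_mem
      · rw [lam_succ_neg]
        refine T.neg_mem (T.sum_mem fun i hi => T.mul_mem (ih i ?_) (hy _))
        exact Finset.mem_range.mp hi

theorem mem_lamClosed {T : Subring A} {y : A} :
    y ∈ lamClosed hA T ↔ ∀ n, LambdaOps.lam n y ∈ T := Iff.rfl

theorem lamClosed_le (T : Subring A) : lamClosed hA T ≤ T := by
  intro y hy
  have := hy 1
  rwa [LambdaOps.lam_one] at this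

/-- Generator criterion for a polynomial ring. -/
theorem mem_lamClosed_of_generators {K : Type v} [CommRing K] {τ : Type w}
    (ι : MvPolynomial τ K →+* A)
    (hC : ∀ k : K, ι (C k) ∈ lamClosed hA ι.range)
    (hX : ∀ v : τ, ι (X v) ∈ lamClosed hA ι.range) (p : MvPolynomial τ K) :
    ι p ∈ lamClosed hA ι.range := by
  induction p using MvPolynomial.induction_on with
  | C a => exact hC a
  | add p q hp hq => rw [map_add]; exact (lamClosed hA ι.range).add_mem hp hq
  | mul_X p i hp => rw [map_mul]; exact (lamClosed hA ι.range).mul_mem hp (hX i)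

end Closed

section Pull

variable {R : Type v} [CommRing R] {A : Type u} [CommRing A] [LambdaOps A]
  (ι : R →+* A) (hι : Function.Injective ι)
  (h : ∀ (r : R) (n : ℕ), LambdaOps.lam n (ι r) ∈ ι.range)

/-- Pull back a λ-structure along an injective ring map whose image is stable under the `λ^n`. -/
noncomputable def pullLam : LambdaOps R where
  lam n r := Classical.choose (h r n)
  lam_zero r := hι (by
    rw [Classical.choose_spec (h r 0), LambdaOps.lam_zero, map_one])
  lam_one r := hι (by
    rw [Classical.choose_spec (h r 1), LambdaOps.lam_one])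
  lam_add k x y := hι (by
    rw [Classical.choose_spec (h (x + y) k), map_add, LambdaOps.lam_add, map_sum]
    refine Finset.sum_congr rfl fun i _ => ?_
    rw [map_mul, Classical.choose_spec (h x i), Classical.choose_spec (h y (k - i))])

theorem map_pullLam (n : ℕ) (r : R) :
    ι (@LambdaOps.lam R _ (pullLam ι hι h) n r) = LambdaOps.lam n (ι r) :=
  Classical.choose_spec (h r n)

theorem isSpecial_pullLam (hA : IsSpecial A) : @IsSpecial R _ (pullLam ι hι h) := by
  letI : LambdaOps R := pullLam ι hι h
  exact Groth.Agent.Lib.helper13.BinomialSpecial.isSpecial_of_injective ι hι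
    (fun n x => map_pullLam ι hι h n x) hA

end Pull

section Compat

variable {R : Type v} [CommRing R] [LambdaOps R] (hR : IsSpecial R)
  {A : Type u} [CommRing A] [LambdaOps A] (hA : IsSpecial A) (φ : R →+* A)

/-- The elements on which a ring map commutes with all `λ^n` form a subring. -/
def lamCompat : Subring R where
  carrier := {r | ∀ n, φ (LambdaOps.lam n r) = LambdaOps.lam n (φ r)}
  mul_mem' := by
    intro x y hx hy n
    obtain ⟨P, hP⟩ := exists_isMulPoly n
    rw [hR.lam_mul n P hP x y, map_mul, hA.lam_mul n P hP, ringHom_aeval]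
    congr 2
    funext i
    rcases i with k | k
    · exact hx _
    · exact hy _
  one_mem' := by
    intro n
    rw [map_one]
    rcases n with _ | _ | n
    · rw [LambdaOps.lam_zero, LambdaOps.lam_zero, map_one]
    · rw [LambdaOps.lam_one, LambdaOps.lam_one, map_one]
    · rw [hR.lam_one_eq_zero (n + 2) (by omega), hA.lam_one_eq_zero (n + 2) (by omega), map_zero]
  add_mem' := by
    intro x y hx hy n
    rw [LambdaOps.lam_add, map_add, LambdaOps.lam_add, map_sum]
    refine Finset.sum_congr rfl fun i _ => ?_
    rw [map_mul, hx, hy]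
  zero_mem' := by
    intro n
    rw [map_zero]
    rcases n with _ | n
    · rw [LambdaOps.lam_zero, LambdaOps.lam_zero, map_one]
    · rw [lam_zero_arg _ (Nat.succ_ne_zero n), lam_zero_arg _ (Nat.succ_ne_zero n), map_zero]
  neg_mem' := by
    intro y hy n
    induction n using Nat.strong_induction_on with
    | _ n ih =>
      rcases n with _ | n
      · rw [LambdaOps.lam_zero, LambdaOps.lam_zero, map_one]
      · rw [lam_succ_neg, map_neg, map_neg, lam_succ_neg, map_sum]
        congr 1
        refine Finset.sum_congr rfl fun i hi => ?_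
        rw [map_mul, ih i (Finset.mem_range.mp hi), map_neg, hy]

theorem mem_lamCompat {r : R} :
    r ∈ lamCompat hR hA φ ↔ ∀ n, φ (LambdaOps.lam n r) = LambdaOps.lam n (φ r) := Iff.rfl

end Compat

section CompatPoly

variable {K : Type v} [CommRing K] {τ : Type w} [LambdaOps (MvPolynomial τ K)]
  (hR : IsSpecial (MvPolynomial τ K))
  {A : Type u} [CommRing A] [LambdaOps A] (hA : IsSpecial A) (φ : MvPolynomial τ K →+* A)

/-- Generator criterion for a ring map out of a polynomial ring to be a λ-homomorphism. -/
theorem map_lam_of_generators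
    (hC : ∀ k : K, C k ∈ lamCompat hR hA φ) (hX : ∀ v : τ, X v ∈ lamCompat hR hA φ)
    (p : MvPolynomial τ K) (n : ℕ) : φ (LambdaOps.lam n p) = LambdaOps.lam n (φ p) := by
  have : p ∈ lamCompat hR hA φ := by
    induction p using MvPolynomial.induction_on with
    | C a => exact hC a
    | add p q hp hq => exact (lamCompat hR hA φ).add_mem hp hq
    | mul_X p i hp => exact (lamCompat hR hA φ).mul_mem hp (hX i)
  exact this n

end CompatPoly

end Groth.Agent.Lib.helper13.SubLam
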