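import Mathlib

/-!
# The commutative extension attached to a symmetric 2-cocycle

Helper for S8705 (helper13).
-/

set_option autoImplicit false

namespace Groth.Agent.Lib.helper13.SymCoc

universe u v

/-- A symmetric 2-cocycle on `P` with values in `E`. -/
structure SymCocycle (P : Type u) (E : Type v) [AddCommGroup P] [AddCommGroup E] where
  f : P → P → E
  symm : ∀ p q, f p q = f q p
  cocycle : ∀ p q r, f (p + q) r - f p (q + r) + f p q - f q r = 0

variable {P : Type u} {E : Type v} [AddCommGroup P] [AddCommGroup E]

namespace SymCocycle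

variable (c : SymCocycle P E)

theorem f_zero_left (q : P) : c.f 0 q = c.f 0 0 := by
  have := c.cocycle 0 0 q
  simp only [zero_add] at this
  have h : c.f 0 0 - c.f 0 q = 0 := by
    rw [← this]; abel
  exact (sub_eq_zero.mp h).symm

theorem f_zero_right (p : P) : c.f p 0 = c.f 0 0 := by
  rw [c.symm, f_zero_left]

theorem assoc_id (p q r : P) : c.f p q + c.f (p + q) r = c.f q r + c.f p (q + r) := by
  have := c.cocycle p q r
  rw [← sub_eq_zero, ← this]; abel

/-- The underlying type of the extension. -/
@[ext] structure Ext (c : SymCocycle P E) where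
  e : E
  p : P

instance : Add (Ext c) := ⟨fun a b => ⟨a.e + b.e + c.f a.p b.p, a.p + b.p⟩⟩
instance : Zero (Ext c) := ⟨⟨- c.f 0 0, 0⟩⟩
instance : Neg (Ext c) := ⟨fun a => ⟨- a.e - c.f a.p (-a.p) - c.f 0 0, - a.p⟩⟩

@[simp] theorem add_e (a b : Ext c) : (a + b).e = a.e + b.e + c.f a.p b.p := rfl
@[simp] theorem add_p (a b : Ext c) : (a + b).p = a.p + b.p := rfl
@[simp] theorem zero_e : (0 : Ext c).e = - c.f 0 0 := rfl
@[simp] theorem zero_p : (0 : Ext c).p = 0 := rfl
@[simp] theorem neg_e (a : Ext c) : (-a).e = - a.e - c.f a.p (-a.p) - c.f 0 0 := rfl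
@[simp] theorem neg_p (a : Ext c) : (-a).p = - a.p := rfl

instance : AddCommGroup (Ext c) :=
  { AddGroup.ofLeftAxioms (G := Ext c)
      (by
        intro a b d
        ext
        · simp only [add_e, add_p]
          have := c.assoc_id a.p b.p d.p
          calc a.e + b.e + c.f a.p b.p + d.e + c.f (a.p + b.p) d.p
              = a.e + b.e + d.e + (c.f a.p b.p + c.f (a.p + b.p) d.p) := by abel
            _ = a.e + b.e + d.e + (c.f b.p d.p + c.f a.p (b.p + d.p)) := by rw [this]
            _ = a.e + (b.e + d.e + c.f b.p d.p) + c.f a.p (b.p + d.p) := by abel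
        · simp [add_assoc])
      (by
        intro a
        ext
        · simp [f_zero_left]
        · simp)
      (by
        intro a
        ext
        · simp only [add_e, neg_e, neg_p, zero_e]
          rw [c.symm (-a.p) a.p]
          abel
        · simp) with
    add_comm := by
      intro a b
      ext
      · simp only [add_e]
        rw [c.symm a.p b.p]
        abel
      · simp [add_comm] }

/-- The inclusion of `E` in the extension. -/
def ι : E →+ Ext c where
  toFun e := ⟨e - c.f 0 0, 0⟩
  map_zero' := by ext <;> simp
  map_add' x y := by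
    ext
    · simp only [add_e]
      abel
    · simp

theorem ι_injective : Function.Injective c.ι := by
  intro x y h
  have := congrArg Ext.e h
  simpa [ι] using this

/-- The set-theoretic section. -/
def sec (p : P) : Ext c := ⟨0, p⟩

theorem sec_add_sec (p q : P) : c.sec p + c.sec q = c.ι (c.f p q) + c.sec (p + q) := by
  ext
  · simp [sec, ι, f_zero_left]
  · simp [sec, ι]

end SymCocycle

end Groth.Agent.Lib.helper13.SymCoc
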