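import Mathlib
import Groth.Prelude.Def_W4c1limliniiiiRamP1

/-!
# Pencils with three prescribed vanishing orders (helper13)
-/

set_option autoImplicit false

namespace Groth.Agent.Lib.helper13.ThreePt

open Polynomial W4c1limliniiii

variable {k : Type*} [Field k]

lemma dvd_smul' {q s : k[X]} (c : k) (h : q ∣ s) : q ∣ c • s := by
  rw [smul_eq_C_mul]; exact h.mul_left _

lemma dvd_of_dvd_smul {q s : k[X]} {c : k} (hc : c ≠ 0) (h : q ∣ c • s) : q ∣ s := by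
  have := dvd_smul' c⁻¹ h
  rwa [smul_smul, inv_mul_cancel₀ hc, one_smul] at this

/-- a polynomial of degree `≤ d` divisible by `(x-a)^m (x-b)^n`, `m+n>d`, vanishes -/
lemma eq_zero_of_two {d m n : ℕ} {a b : k} (hab : a ≠ b) {s : k[X]}
    (hs : s ∈ degreeLE k d) (h1 : (X - C a) ^ m ∣ s) (h2 : (X - C b) ^ n ∣ s) (hmn : d < m + n) :
    s = 0 := by
  by_contra hs0
  have hcop : IsCoprime ((X - C a) ^ m) ((X - C b) ^ n) :=
    (isCoprime_X_sub_C_of_isUnit_sub (sub_ne_zero.mpr hab).isUnit).pow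
  have hdvd := hcop.mul_dvd h1 h2
  have hdeg := natDegree_le_of_dvd hdvd hs0
  rw [natDegree_mul (pow_ne_zero _ (X_sub_C_ne_zero a)) (pow_ne_zero _ (X_sub_C_ne_zero b)),
    natDegree_pow, natDegree_pow, natDegree_X_sub_C, natDegree_X_sub_C, mul_one, mul_one] at hdeg
  have h3 : s.natDegree ≤ d := natDegree_le_of_degree_le (mem_degreeLE.mp hs)
  omega

/-- the solution space of the three-point problem -/
noncomputable def Lsp (d : ℕ) (a b c : k) (m₀ m₁ m₂ : ℕ) : Submodule k (k[X] × k[X]) where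
  carrier := {v | v.1 ∈ degreeLE k d ∧ v.2 ∈ degreeLE k d ∧ (X - C a) ^ m₀ ∣ v.1 ∧
    (X - C c) ^ m₂ ∣ v.2 ∧ (X - C b) ^ m₁ ∣ v.1 - v.2}
  zero_mem' := by simp
  add_mem' := by
    rintro v w ⟨h1, h2, h3, h4, h5⟩ ⟨g1, g2, g3, g4, g5⟩
    refine ⟨Submodule.add_mem _ h1 g1, Submodule.add_mem _ h2 g2, dvd_add h3 g3, dvd_add h4 g4, ?_⟩
    have : (v + w).1 - (v + w).2 = (v.1 - v.2) + (w.1 - w.2) := by
      simp only [Prod.fst_add, Prod.snd_add]; ring
    rw [this]; exact dvd_add h5 g5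
  smul_mem' := by
    rintro t v ⟨h1, h2, h3, h4, h5⟩
    refine ⟨Submodule.smul_mem _ _ h1, Submodule.smul_mem _ _ h2, dvd_smul' t h3,
      dvd_smul' t h4, ?_⟩
    have : (t • v).1 - (t • v).2 = t • (v.1 - v.2) := by
      simp only [Prod.smul_fst, Prod.smul_snd, smul_sub]
    rw [this]; exact dvd_smul' t h5

section

variable {d : ℕ} {a b c : k} {m₀ m₁ m₂ : ℕ}

lemma mem_Lsp {v : k[X] × k[X]} : v ∈ Lsp d a b c m₀ m₁ m₂ ↔
    v.1 ∈ degreeLE k d ∧ v.2 ∈ degreeLE k d ∧ (X - C a) ^ m₀ ∣ v.1 ∧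
    (X - C c) ^ m₂ ∣ v.2 ∧ (X - C b) ^ m₁ ∣ v.1 - v.2 := Iff.rfl

/-- standing hypotheses -/
structure Hyp (d : ℕ) (a b c : k) (m₀ m₁ m₂ : ℕ) : Prop where
  hab : a ≠ b
  hac : a ≠ c
  hbc : b ≠ c
  h0 : m₀ ≤ d
  h1 : m₁ ≤ d
  h2 : m₂ ≤ d
  hsum : m₀ + m₁ + m₂ = 2 * d + 1

variable (H : Hyp d a b c m₀ m₁ m₂)
include H

lemma fst_ne_zero {v : k[X] × k[X]} (hv : v ∈ Lsp d a b c m₀ m₁ m₂) (hv0 : v ≠ 0) : v.1 ≠ 0 := by
  obtain ⟨h1, h2, h3, h4, h5⟩ := hv
  intro h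
  apply hv0
  rw [h, zero_sub] at h5
  have h6 : (X - C b) ^ m₁ ∣ v.2 := (dvd_neg.mp h5)
  have := eq_zero_of_two H.hbc h2 h6 h4 (by have := H.hsum; have := H.h0; omega)
  exact Prod.ext h this

lemma snd_ne_zero {v : k[X] × k[X]} (hv : v ∈ Lsp d a b c m₀ m₁ m₂) (hv0 : v ≠ 0) : v.2 ≠ 0 := by
  obtain ⟨h1, h2, h3, h4, h5⟩ := hv
  intro h
  apply hv0
  rw [h, sub_zero] at h5
  have := eq_zero_of_two H.hab h1 h3 h5 (by have := H.hsum; have := H.h2; omega)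
  exact Prod.ext this h

lemma sub_ne_zero' {v : k[X] × k[X]} (hv : v ∈ Lsp d a b c m₀ m₁ m₂) (hv0 : v ≠ 0) :
    v.1 - v.2 ≠ 0 := by
  intro h
  have heq : v.1 = v.2 := sub_eq_zero.mp h
  obtain ⟨h1, h2, h3, h4, h5⟩ := hv
  have := eq_zero_of_two H.hac h1 h3 (heq ▸ h4) (by have := H.hsum; have := H.h1; omega)
  exact fst_ne_zero H ⟨h1, h2, h3, h4, h5⟩ hv0 this

lemma indep {v : k[X] × k[X]} (hv : v ∈ Lsp d a b c m₀ m₁ m₂) (hv0 : v ≠ 0) (s t : k)
    (h : s • v.1 + t • v.2 = 0) : s = 0 ∧ t = 0 := by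
  have hF := fst_ne_zero H hv hv0
  have hG := snd_ne_zero H hv hv0
  obtain ⟨h1, h2, h3, h4, h5⟩ := hv
  have hs : s = 0 := by
    by_contra hs
    have h6 : s • v.1 = -(t • v.2) := eq_neg_of_add_eq_zero_left h
    have h7 : (X - C c) ^ m₂ ∣ s • v.1 := by rw [h6]; exact (dvd_smul' t h4).neg_right
    have h8 := dvd_of_dvd_smul hs h7
    exact hF (eq_zero_of_two H.hac h1 h3 h8 (by have := H.hsum; have := H.h1; omega))
  refine ⟨hs, ?_⟩
  rw [hs, zero_smul, zero_add] at h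
  exact (smul_eq_zero.mp h).resolve_right hG

lemma finrank_span {v : k[X] × k[X]} (hv : v ∈ Lsp d a b c m₀ m₁ m₂) (hv0 : v ≠ 0) :
    Module.finrank k ↥(Submodule.span k ({v.1, v.2} : Set k[X])) = 2 := by
  have hli : LinearIndependent k ![v.1, v.2] := LinearIndependent.pair_iff.mpr (indep H hv hv0)
  have := finrank_span_eq_card hli
  have hr : Set.range ![v.1, v.2] = {v.1, v.2} := by
    ext x
    simp [eq_comm]
    exact or_comm
  rw [hr] at this
  simpa using this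

lemma span_le {v : k[X] × k[X]} (hv : v ∈ Lsp d a b c m₀ m₁ m₂) :
    Submodule.span k ({v.1, v.2} : Set k[X]) ≤ degreeLE k d := by
  rw [Submodule.span_le]
  rintro x (rfl | rfl)
  · exact hv.1
  · exact hv.2.1

lemma members {v : k[X] × k[X]} (hv : v ∈ Lsp d a b c m₀ m₁ m₂) (hv0 : v ≠ 0) :
    (∃ s ∈ Submodule.span k ({v.1, v.2} : Set k[X]), s ≠ 0 ∧ m₀ ≤ rootMultiplicity a s) ∧
    (∃ s ∈ Submodule.span k ({v.1, v.2} : Set k[X]), s ≠ 0 ∧ m₁ ≤ rootMultiplicity b s) ∧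
    (∃ s ∈ Submodule.span k ({v.1, v.2} : Set k[X]), s ≠ 0 ∧ m₂ ≤ rootMultiplicity c s) := by
  have hF := fst_ne_zero H hv hv0
  have hG := snd_ne_zero H hv hv0
  have hH := sub_ne_zero' H hv hv0
  obtain ⟨h1, h2, h3, h4, h5⟩ := hv
  refine ⟨⟨v.1, Submodule.subset_span (by simp), hF, (le_rootMultiplicity_iff hF).mpr h3⟩,
    ⟨v.1 - v.2, Submodule.sub_mem _ (Submodule.subset_span (by simp))
      (Submodule.subset_span (by simp)), hH, (le_rootMultiplicity_iff hH).mpr h5⟩,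
    ⟨v.2, Submodule.subset_span (by simp), hG, (le_rootMultiplicity_iff hG).mpr h4⟩⟩

/-- every admissible `V` comes from `Lsp` -/
lemma surj (V : Submodule k k[X]) (hV : V ≤ degreeLE k d) (hfin : Module.finrank k V = 2)
    (s₀ s₁ s₂ : k[X]) (hs₀ : s₀ ∈ V) (hs₁ : s₁ ∈ V) (hs₂ : s₂ ∈ V)
    (h₀0 : s₀ ≠ 0) (h₁0 : s₁ ≠ 0) (h₂0 : s₂ ≠ 0)
    (h₀ : m₀ ≤ rootMultiplicity a s₀) (h₁ : m₁ ≤ rootMultiplicity b s₁)
    (h₂ : m₂ ≤ rootMultiplicity c s₂) :
    ∃ v ∈ Lsp d a b c m₀ m₁ m₂, v ≠ 0 ∧ Submodule.span k ({v.1, v.2} : Set k[X]) = V := by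
  have d₀ := (le_rootMultiplicity_iff h₀0).mp h₀
  have d₁ := (le_rootMultiplicity_iff h₁0).mp h₁
  have d₂ := (le_rootMultiplicity_iff h₂0).mp h₂
  have hfd : FiniteDimensional k V := Module.finite_of_finrank_pos (by omega)
  -- s₀, s₂ independent
  have hind : ∀ s t : k, s • s₀ + t • s₂ = 0 → s = 0 ∧ t = 0 := by
    intro s t h
    have hs : s = 0 := by
      by_contra hs
      have h6 : s • s₀ = -(t • s₂) := eq_neg_of_add_eq_zero_left h
      have h7 : (X - C c) ^ m₂ ∣ s • s₀ := by rw [h6]; exact (dvd_smul' t d₂).neg_right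
      have h8 := dvd_of_dvd_smul hs h7
      exact h₀0 (eq_zero_of_two H.hac (hV hs₀) d₀ h8 (by have := H.hsum; have := H.h1; omega))
    refine ⟨hs, ?_⟩
    rw [hs, zero_smul, zero_add] at h
    exact (smul_eq_zero.mp h).resolve_right h₂0
  have hli : LinearIndependent k ![s₀, s₂] := LinearIndependent.pair_iff.mpr hind
  have hr : Set.range ![s₀, s₂] = {s₀, s₂} := by
    ext x
    simp [eq_comm]
    exact or_comm
  have hsp : Submodule.span k ({s₀, s₂} : Set k[X]) = V := by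
    refine Submodule.eq_of_le_of_finrank_eq ?_ ?_
    · rw [Submodule.span_le]
      rintro x (rfl | rfl)
      · exact hs₀
      · exact hs₂
    · have := finrank_span_eq_card hli
      rw [hr] at this
      rw [hfin]; simpa using this
  have hs₁' : s₁ ∈ Submodule.span k ({s₀, s₂} : Set k[X]) := hsp ▸ hs₁
  obtain ⟨α, β, hαβ⟩ := Submodule.mem_span_pair.mp hs₁'
  have hvmem : ((α • s₀, -(β • s₂)) : k[X] × k[X]) ∈ Lsp d a b c m₀ m₁ m₂ := by
    refine ⟨Submodule.smul_mem _ _ (hV hs₀), Submodule.neg_mem _ (Submodule.smul_mem _ _ (hV hs₂)),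
      dvd_smul' α d₀, (dvd_smul' β d₂).neg_right, ?_⟩
    simp only [sub_neg_eq_add, hαβ]; exact d₁
  have hv0 : ((α • s₀, -(β • s₂)) : k[X] × k[X]) ≠ 0 := by
    intro h
    have e1 : α • s₀ = 0 := congrArg Prod.fst h
    have e2 : -(β • s₂) = 0 := congrArg Prod.snd h
    apply h₁0
    rw [← hαβ, e1, neg_eq_zero.mp e2, add_zero]
  refine ⟨_, hvmem, hv0, ?_⟩
  refine Submodule.eq_of_le_of_finrank_eq ?_ ?_
  · rw [Submodule.span_le]
    rintro x (rfl | rfl)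
    · exact Submodule.smul_mem _ _ hs₀
    · exact Submodule.neg_mem _ (Submodule.smul_mem _ _ hs₂)
  · rw [hfin]; exact finrank_span H hvmem hv0

/-- injectivity up to scalars -/
lemma inj {v w : k[X] × k[X]} (hv : v ∈ Lsp d a b c m₀ m₁ m₂) (hw : w ∈ Lsp d a b c m₀ m₁ m₂)
    (hv0 : v ≠ 0) (hw0 : w ≠ 0)
    (h : Submodule.span k ({v.1, v.2} : Set k[X]) = Submodule.span k ({w.1, w.2} : Set k[X])) :
    ∃ t : k, w = t • v := by
  have hF := fst_ne_zero H hv hv0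
  have hG := snd_ne_zero H hv hv0
  have hw1 : w.1 ∈ Submodule.span k ({v.1, v.2} : Set k[X]) :=
    h ▸ Submodule.subset_span (by simp)
  have hw2 : w.2 ∈ Submodule.span k ({v.1, v.2} : Set k[X]) :=
    h ▸ Submodule.subset_span (by simp)
  obtain ⟨α, β, h1⟩ := Submodule.mem_span_pair.mp hw1
  obtain ⟨α', β', h2⟩ := Submodule.mem_span_pair.mp hw2
  obtain ⟨v1, v2, v3, v4, v5⟩ := hv
  obtain ⟨w1, w2, w3, w4, w5⟩ := hw
  have hβ : β = 0 := by
    by_contra hβ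
    have h3 : (X - C a) ^ m₀ ∣ β • v.2 := by
      have : β • v.2 = w.1 - α • v.1 := by rw [← h1]; ring
      rw [this]; exact dvd_sub w3 (dvd_smul' α v3)
    have h4 := dvd_of_dvd_smul hβ h3
    exact hG (eq_zero_of_two H.hac v2 h4 v4 (by have := H.hsum; have := H.h1; omega))
  have hα' : α' = 0 := by
    by_contra hα'
    have h3 : (X - C c) ^ m₂ ∣ α' • v.1 := by
      have : α' • v.1 = w.2 - β' • v.2 := by rw [← h2]; ring
      rw [this]; exact dvd_sub w4 (dvd_smul' β' v4)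
    have h4 := dvd_of_dvd_smul hα' h3
    exact hF (eq_zero_of_two H.hac v1 v3 h4 (by have := H.hsum; have := H.h1; omega))
  rw [hβ, zero_smul, add_zero] at h1
  rw [hα', zero_smul, zero_add] at h2
  have hαβ : α = β' := by
    by_contra hne
    have h3 : (X - C b) ^ m₁ ∣ (α - β') • v.1 := by
      have : (α - β') • v.1 = (w.1 - w.2) - β' • (v.1 - v.2) := by
        rw [← h1, ← h2, sub_smul, smul_sub]; ring
      rw [this]; exact dvd_sub w5 (dvd_smul' β' v5)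
    have h4 := dvd_of_dvd_smul (sub_ne_zero.mpr hne) h3
    exact hF (eq_zero_of_two H.hab v1 v3 h4 (by have := H.hsum; have := H.h2; omega))
  refine ⟨α, Prod.ext ?_ ?_⟩
  · simp only [Prod.smul_fst]; exact h1.symm
  · simp only [Prod.smul_snd]; rw [hαβ]; exact h2.symm

end

end Groth.Agent.Lib.helper13.ThreePt
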