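import Groth.Agent.Lib.helper13.ThreePt

/-!
# Pencils with three prescribed vanishing orders: existence (helper13)
-/

set_option autoImplicit false

namespace Groth.Agent.Lib.helper13.ThreePt

open Polynomial W4c1limliniiii

variable {k : Type*} [Field k]

lemma mul_mem_degreeLE {a : k} {m n d : ℕ} (hmn : m + n ≤ d + 1) {A : k[X]}
    (hA : A ∈ degreeLT k n) : (X - C a) ^ m * A ∈ degreeLE k d := by
  by_cases hA0 : A = 0
  · rw [hA0, mul_zero]; exact Submodule.zero_mem _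
  · have h1 : A.natDegree < n := (natDegree_lt_iff_degree_lt hA0).mpr (mem_degreeLT.mp hA)
    refine mem_degreeLE.mpr (degree_le_of_natDegree_le ?_)
    rw [natDegree_mul (pow_ne_zero _ (X_sub_C_ne_zero a)) hA0, natDegree_pow, natDegree_X_sub_C,
      mul_one]
    omega

instance finDegLT (n : ℕ) : Module.Finite k ↥(degreeLT k n) :=
  Module.Finite.equiv (degreeLTEquiv k n).symm

lemma finrank_degreeLT (n : ℕ) : Module.finrank k ↥(degreeLT k n) = n := by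
  rw [(degreeLTEquiv k n).finrank_eq, Module.finrank_fin_fun]

theorem Lsp_ne_bot {d : ℕ} {a b c : k} {m₀ m₁ m₂ : ℕ} (H : Hyp d a b c m₀ m₁ m₂) (hm₁ : 0 < m₁) :
    Lsp d a b c m₀ m₁ m₂ ≠ ⊥ := by
  set f : k[X] := (X - C b) ^ m₁ with hf
  have hfdeg : f.natDegree = m₁ := by
    rw [hf, natDegree_pow, natDegree_X_sub_C, mul_one]
  have hcod : Module.finrank k (k[X] ⧸ Ideal.span {f}) = m₁ := by
    rw [finrank_quotient_span_eq_natDegree, hfdeg]
  have hfin : Module.Finite k (k[X] ⧸ Ideal.span {f}) :=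
    Module.finite_of_finrank_pos (by rw [hcod]; exact hm₁)
  let ψ : k[X] × k[X] →ₗ[k] k[X] :=
    (LinearMap.mulLeft k ((X - C a) ^ m₀)).coprod (-(LinearMap.mulLeft k ((X - C c) ^ m₂)))
  let ι : ↥(degreeLT k (d - m₀ + 1)) × ↥(degreeLT k (d - m₂ + 1)) →ₗ[k] k[X] × k[X] :=
    LinearMap.prodMap (degreeLT k (d - m₀ + 1)).subtype (degreeLT k (d - m₂ + 1)).subtype
  let q : k[X] →ₗ[k] k[X] ⧸ Ideal.span {f} := (Ideal.Quotient.mkₐ k (Ideal.span {f})).toLinearMap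
  let Φ := q.comp (ψ.comp ι)
  have hlt : Module.finrank k (k[X] ⧸ Ideal.span {f}) <
      Module.finrank k (↥(degreeLT k (d - m₀ + 1)) × ↥(degreeLT k (d - m₂ + 1))) := by
    rw [hcod, Module.finrank_prod, finrank_degreeLT, finrank_degreeLT]
    have := H.hsum; have := H.h0; have := H.h2
    omega
  have hker := LinearMap.ker_ne_bot_of_finrank_lt (f := Φ) hlt
  obtain ⟨x, hx, hx0⟩ := Submodule.exists_mem_ne_zero_of_ne_bot hker
  obtain ⟨A, B⟩ := x
  have hΦ : Φ (A, B) = 0 := LinearMap.mem_ker.mp hx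
  have hΦ' : (X - C b) ^ m₁ ∣ (X - C a) ^ m₀ * A.1 - (X - C c) ^ m₂ * B.1 := by
    have h1 : Φ (A, B) = Ideal.Quotient.mk (Ideal.span {f})
        ((X - C a) ^ m₀ * A.1 - (X - C c) ^ m₂ * B.1) := by
      simp [Φ, q, ψ, ι, sub_eq_add_neg]
    rw [h1, Ideal.Quotient.eq_zero_iff_mem, Ideal.mem_span_singleton] at hΦ
    exact hΦ
  intro hbot
  have hmem : (((X - C a) ^ m₀ * A.1, (X - C c) ^ m₂ * B.1) : k[X] × k[X]) ∈
      Lsp d a b c m₀ m₁ m₂ := by
    refine ⟨mul_mem_degreeLE (by have := H.h0; omega) A.2,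
      mul_mem_degreeLE (by have := H.h2; omega) B.2, dvd_mul_right _ _, dvd_mul_right _ _, hΦ'⟩
  rw [hbot, Submodule.mem_bot] at hmem
  have e1 : (X - C a) ^ m₀ * A.1 = 0 := congrArg Prod.fst hmem
  have e2 : (X - C c) ^ m₂ * B.1 = 0 := congrArg Prod.snd hmem
  have hA : A.1 = 0 := (mul_eq_zero.mp e1).resolve_left (pow_ne_zero _ (X_sub_C_ne_zero a))
  have hB : B.1 = 0 := (mul_eq_zero.mp e2).resolve_left (pow_ne_zero _ (X_sub_C_ne_zero c))
  exact hx0 (Prod.ext (Subtype.ext hA) (Subtype.ext hB))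

lemma hyp_of_admissible [IsAlgClosed k] (p : ℕ) (d : ℕ) (P : Fin 3 → k)
    (hP : Function.Injective P) (e : Fin 3 → ℕ) (he : Admissible p d e) :
    Hyp d (P 0) (P 1) (P 2) (e 0) (e 1) (e 2) := by
  obtain ⟨h1, h2⟩ := he
  rw [Fin.sum_univ_three] at h2
  refine ⟨fun h => ?_, fun h => ?_, fun h => ?_, (h1 0).2.1, (h1 1).2.1, (h1 2).2.1, by omega⟩
  · exact absurd (hP h) (by decide)
  · exact absurd (hP h) (by decide)
  · exact absurd (hP h) (by decide)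

theorem main37 [IsAlgClosed k] (p : ℕ) (d : ℕ) (P : Fin 3 → k)
    (hP : Function.Injective P) (e : Fin 3 → ℕ) (he : Admissible p d e) :
    ∃ L : Submodule k (k[X] × k[X]), L ≠ ⊥ ∧
      (∀ v ∈ L, v ≠ 0 →
        Submodule.span k {v.1, v.2} ≤ Polynomial.degreeLE k d ∧
          Module.finrank k (Submodule.span k {v.1, v.2}) = 2 ∧
          ∀ i, ∃ s ∈ Submodule.span k {v.1, v.2}, s ≠ 0 ∧
            e i ≤ Polynomial.rootMultiplicity (P i) s) ∧
      (∀ V : Submodule k k[X], V ≤ Polynomial.degreeLE k d → Module.finrank k V = 2 →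
        (∀ i, ∃ s ∈ V, s ≠ 0 ∧ e i ≤ Polynomial.rootMultiplicity (P i) s) →
          ∃ v ∈ L, v ≠ 0 ∧ Submodule.span k {v.1, v.2} = V) ∧
      (∀ v ∈ L, ∀ w ∈ L, v ≠ 0 → w ≠ 0 →
        Submodule.span k {v.1, v.2} = Submodule.span k {w.1, w.2} → ∃ c : k, w = c • v) := by
  have H := hyp_of_admissible p d P hP e he
  refine ⟨Lsp d (P 0) (P 1) (P 2) (e 0) (e 1) (e 2), Lsp_ne_bot H (by have := (he.1 1).1; omega),
    ?_, ?_, ?_⟩
  · intro v hv hv0
    refine ⟨span_le H hv, finrank_span H hv hv0, ?_⟩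
    obtain ⟨h0, h1, h2⟩ := members H hv hv0
    intro i
    fin_cases i
    · exact h0
    · exact h1
    · exact h2
  · intro V hV hfin hmem
    obtain ⟨s₀, hs₀, h₀0, h₀⟩ := hmem 0
    obtain ⟨s₁, hs₁, h₁0, h₁⟩ := hmem 1
    obtain ⟨s₂, hs₂, h₂0, h₂⟩ := hmem 2
    exact surj H V hV hfin s₀ s₁ s₂ hs₀ hs₁ hs₂ h₀0 h₁0 h₂0 h₀ h₁ h₂
  · intro v hv w hw hv0 hw0 h
    exact inj H hv hw hv0 hw0 h

end Groth.Agent.Lib.helper13.ThreePt
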