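import Groth.Agent.Lib.helper13.ThreePt2
import Groth.Agent.Lib.helper13.RamInf

/-!
# Pencils with three prescribed vanishing orders: Wronskian tools (helper13)
-/

set_option autoImplicit false

namespace Groth.Agent.Lib.helper13.ThreePt

open Polynomial W4c1limliniiii

variable {k : Type*} [Field k]

/-- sum of root multiplicities over a finite set of points is at most the degree -/
lemma sum_rootMult_le [DecidableEq k] {W : k[X]} (hW : W ≠ 0) (S : Finset k) :
    ∑ x ∈ S, rootMultiplicity x W ≤ W.natDegree := by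
  have h1 : ∑ x ∈ S, rootMultiplicity x W = ∑ x ∈ S, (W.roots.filter (· ∈ S)).count x := by
    refine Finset.sum_congr rfl fun x hx => ?_
    rw [Multiset.count_filter_of_pos hx, count_roots]
  rw [h1, Multiset.sum_count_eq_card (fun a ha => (Multiset.mem_filter.mp ha).2)]
  exact (Multiset.card_le_card (Multiset.filter_le _ _)).trans (card_roots' W)

lemma sum3_le {W : k[X]} (hW : W ≠ 0) {a b c : k} (hab : a ≠ b) (hac : a ≠ c) (hbc : b ≠ c) :
    rootMultiplicity a W + rootMultiplicity b W + rootMultiplicity c W ≤ W.natDegree := by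
  classical
  have := sum_rootMult_le hW {a, b, c}
  rw [Finset.sum_insert (by simp [hab, hac]), Finset.sum_pair hbc] at this
  omega

lemma sum4_le {W : k[X]} (hW : W ≠ 0) {a b c x : k} (hab : a ≠ b) (hac : a ≠ c) (hbc : b ≠ c)
    (hxa : x ≠ a) (hxb : x ≠ b) (hxc : x ≠ c) :
    rootMultiplicity x W + rootMultiplicity a W + rootMultiplicity b W + rootMultiplicity c W
      ≤ W.natDegree := by
  classical
  have := sum_rootMult_le hW {x, a, b, c}
  rw [Finset.sum_insert (by simp [hxa, hxb, hxc]), Finset.sum_insert (by simp [hab, hac]),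
    Finset.sum_pair hbc] at this
  omega

/-- order of vanishing of a Wronskian -/
lemma wronskian_dvd {x : k} {m n : ℕ} {s t : k[X]} (hs : (X - C x) ^ m ∣ s)
    (ht : (X - C x) ^ n ∣ t) : (X - C x) ^ (m + n - 1) ∣ wronskian s t := by
  have hs' := pow_sub_one_dvd_derivative_of_pow_dvd hs
  have ht' := pow_sub_one_dvd_derivative_of_pow_dvd ht
  unfold wronskian
  refine dvd_sub ?_ ?_
  · refine (pow_dvd_pow _ (by omega : m + n - 1 ≤ m + (n - 1))).trans ?_
    rw [pow_add]; exact mul_dvd_mul hs ht'
  · refine (pow_dvd_pow _ (by omega : m + n - 1 ≤ (m - 1) + n)).trans ?_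
    rw [pow_add]; exact mul_dvd_mul hs' ht

/-- the Wronskian of two polynomials of degree `≤ n` has degree `≤ 2n - 2` -/
lemma natDegree_wronskian_le {n : ℕ} {F G : k[X]} (hF : F ∈ degreeLE k n) (hG : G ∈ degreeLE k n)
    (hW : wronskian F G ≠ 0) : (wronskian F G).natDegree + 2 ≤ 2 * n := by
  have hF0 : F ≠ 0 := by rintro rfl; exact hW (wronskian_zero_left _)
  have hG0 : G ≠ 0 := by rintro rfl; exact hW (wronskian_zero_right _)
  have hFn : F.natDegree ≤ n := natDegree_le_of_degree_le (mem_degreeLE.mp hF)
  have hGn : G.natDegree ≤ n := natDegree_le_of_degree_le (mem_degreeLE.mp hG)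
  have key := natDegree_wronskian_lt_add hW
  by_cases hlt : F.natDegree < n ∨ G.natDegree < n
  · rcases hlt with h | h <;> omega
  · push Not at hlt
    have hFe : F.natDegree = n := le_antisymm hFn hlt.1
    have hGe : G.natDegree = n := le_antisymm hGn hlt.2
    set c : k := G.leadingCoeff / F.leadingCoeff with hc
    have hlF : F.leadingCoeff ≠ 0 := leadingCoeff_ne_zero.mpr hF0
    have hlG : G.leadingCoeff ≠ 0 := leadingCoeff_ne_zero.mpr hG0
    have hc0 : c ≠ 0 := div_ne_zero hlG hlF
    set G₂ : k[X] := G - C c * F with hG₂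
    have hW2 : wronskian F G₂ = wronskian F G := by
      rw [hG₂]
      simp only [wronskian, derivative_sub, derivative_mul, derivative_C, zero_mul, zero_add]
      ring
    have hdeg : (C c * F).degree = G.degree := by
      rw [degree_C_mul hc0, degree_eq_natDegree hF0, degree_eq_natDegree hG0, hFe, hGe]
    have hlc : G.leadingCoeff = (C c * F).leadingCoeff := by
      rw [leadingCoeff_mul, leadingCoeff_C, hc, div_mul_cancel₀ _ hlF]
    have hlt2 : G₂.degree < G.degree := degree_sub_lt hdeg.symm hG0 hlc
    have hW2' : wronskian F G₂ ≠ 0 := by rw [hW2]; exact hW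
    have hG₂0 : G₂ ≠ 0 := by rintro h; rw [h] at hW2'; exact hW2' (wronskian_zero_right _)
    have hlt3 : G₂.natDegree < n := by
      rw [← hGe]
      exact (natDegree_lt_natDegree_iff hG₂0).mpr hlt2
    have key2 := natDegree_wronskian_lt_add hW2'
    rw [hW2] at key2
    omega

end Groth.Agent.Lib.helper13.ThreePt
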