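import Groth.Agent.Lib.helper13.ThreePt3

/-!
# Pencils with three prescribed vanishing orders: uniqueness and existence criterion (helper13)
-/

set_option autoImplicit false

namespace Groth.Agent.Lib.helper13.ThreePt

open Polynomial W4c1limliniiii

variable {k : Type*} [Field k] {d : ℕ} {a b c : k} {m₀ m₁ m₂ : ℕ}

lemma wronskian_span {F G s t : k[X]} (hs : s ∈ Submodule.span k ({F, G} : Set k[X]))
    (ht : t ∈ Submodule.span k ({F, G} : Set k[X])) :
    ∃ r : k, wronskian s t = r • wronskian F G := by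
  obtain ⟨α, β, rfl⟩ := Submodule.mem_span_pair.mp hs
  obtain ⟨α', β', rfl⟩ := Submodule.mem_span_pair.mp ht
  exact ⟨_, RamInf.wronskian_comb F G α β α' β'⟩

lemma wronskian_mul_mul (q F G : k[X]) : wronskian (q * F) (q * G) = q ^ 2 * wronskian F G := by
  simp only [wronskian, derivative_mul]
  ring

lemma coprime_of_bpf [IsAlgClosed k] {F G : k[X]}
    (h : ∀ x : k, ∃ s ∈ Submodule.span k ({F, G} : Set k[X]), s.eval x ≠ 0) : IsCoprime F G := by
  rw [isCoprime_iff_aeval_ne_zero_of_isAlgClosed (k := k) k F G]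
  intro x
  by_contra hh
  push Not at hh
  obtain ⟨s, hs, hsx⟩ := h x
  obtain ⟨α, β, rfl⟩ := Submodule.mem_span_pair.mp hs
  apply hsx
  have h1 : F.eval x = 0 := by simpa [coe_aeval_eq_eval] using hh.1
  have h2 : G.eval x = 0 := by simpa [coe_aeval_eq_eval] using hh.2
  simp [h1, h2]

/-- general bound on vanishing orders in a pencil from the order of the Wronskian -/
lemma ram_bound {x : k} {m : ℕ} {s₀ t₀ : k[X]}
    (hmax : ∀ n, (X - C x) ^ n ∣ wronskian s₀ t₀ → n + 1 ≤ m) (hs : (X - C x) ^ m ∣ s₀) :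
    t₀.eval x ≠ 0 ∧ ∀ α β : k, α • s₀ + β • t₀ ≠ 0 →
      rootMultiplicity x (α • s₀ + β • t₀) ≤ m := by
  constructor
  · intro h0
    have h1 : (X - C x) ^ 1 ∣ t₀ := by rw [pow_one]; exact dvd_iff_isRoot.mpr h0
    have := hmax _ (wronskian_dvd hs h1)
    omega
  · intro α β hne
    set s := α • s₀ + β • t₀ with hsdef
    set n := rootMultiplicity x s with hn
    have hnd : (X - C x) ^ n ∣ s := pow_rootMultiplicity_dvd s x
    have hWs : wronskian s₀ s = β • wronskian s₀ t₀ := by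
      have := RamInf.wronskian_comb s₀ t₀ 1 0 α β
      simpa using this
    by_cases hβ : β = 0
    · have hα : α ≠ 0 := by
        rintro rfl
        apply hne
        rw [hsdef, hβ]; simp
      have hs' : s = α • s₀ := by rw [hsdef, hβ]; simp
      rw [hs'] at hnd
      have h2 := dvd_of_dvd_smul hα hnd
      have h3 := wronskian_dvd (n := 0) (t := t₀) h2 (by simp)
      have := hmax _ h3
      omega
    · have h3 := wronskian_dvd hs hnd
      rw [hWs] at h3
      have := hmax _ (dvd_of_dvd_smul hβ h3)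
      omega

section
variable (H : Hyp d a b c m₀ m₁ m₂)
include H

/-- cross relation between any two solutions -/
lemma cross {v w : k[X] × k[X]} (hv : v ∈ Lsp d a b c m₀ m₁ m₂)
    (hw : w ∈ Lsp d a b c m₀ m₁ m₂) : v.1 * w.2 = w.1 * v.2 := by
  obtain ⟨h1, h2, h3, h4, h5⟩ := hv
  obtain ⟨g1, g2, g3, g4, g5⟩ := hw
  by_contra hne
  set D := v.1 * w.2 - w.1 * v.2 with hD
  have hD0 : D ≠ 0 := sub_ne_zero.mpr hne
  have da : (X - C a) ^ m₀ ∣ D := dvd_sub (h3.mul_right _) (g3.mul_right _)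
  have dc : (X - C c) ^ m₂ ∣ D := dvd_sub (g4.mul_left _) (h4.mul_left _)
  have db : (X - C b) ^ m₁ ∣ D := by
    have : D = w.1 * (v.1 - v.2) - v.1 * (w.1 - w.2) := by rw [hD]; ring
    rw [this]; exact dvd_sub (h5.mul_left _) (g5.mul_left _)
  have ra := (le_rootMultiplicity_iff hD0).mpr da
  have rb := (le_rootMultiplicity_iff hD0).mpr db
  have rc := (le_rootMultiplicity_iff hD0).mpr dc
  have s3 := sum3_le hD0 H.hab H.hac H.hbc
  have n1 : v.1.natDegree ≤ d := natDegree_le_of_degree_le (mem_degreeLE.mp h1)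
  have n2 : v.2.natDegree ≤ d := natDegree_le_of_degree_le (mem_degreeLE.mp h2)
  have n3 : w.1.natDegree ≤ d := natDegree_le_of_degree_le (mem_degreeLE.mp g1)
  have n4 : w.2.natDegree ≤ d := natDegree_le_of_degree_le (mem_degreeLE.mp g2)
  have hdeg : D.natDegree ≤ max (d + d) (d + d) :=
    natDegree_sub_le_of_le (natDegree_mul_le_of_le n1 n4) (natDegree_mul_le_of_le n3 n2)
  rw [max_self] at hdeg
  have := H.hsum
  omega

lemma exists_mul {v w : k[X] × k[X]} (hv : v ∈ Lsp d a b c m₀ m₁ m₂)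
    (hw : w ∈ Lsp d a b c m₀ m₁ m₂) (hv0 : v ≠ 0) (hcop : IsCoprime v.1 v.2) :
    ∃ q : k[X], w.1 = q * v.1 ∧ w.2 = q * v.2 := by
  have hc := cross H hv hw
  have hF := fst_ne_zero H hv hv0
  have hdvd : v.1 ∣ w.1 := hcop.dvd_of_dvd_mul_right (Dvd.intro _ hc)
  obtain ⟨q, hq⟩ := hdvd
  refine ⟨q, by rw [hq]; ring, ?_⟩
  apply mul_left_cancel₀ hF
  rw [hc, hq]; ring

lemma span_le_span {v w : k[X] × k[X]} (hv : v ∈ Lsp d a b c m₀ m₁ m₂)
    (hw : w ∈ Lsp d a b c m₀ m₁ m₂) (hv0 : v ≠ 0) (hw0 : w ≠ 0) (hcv : IsCoprime v.1 v.2)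
    (hcw : IsCoprime w.1 w.2) :
    Submodule.span k ({w.1, w.2} : Set k[X]) ≤ Submodule.span k ({v.1, v.2} : Set k[X]) := by
  obtain ⟨q, hq1, hq2⟩ := exists_mul H hv hw hv0 hcv
  obtain ⟨q', hq1', hq2'⟩ := exists_mul H hw hv hw0 hcw
  have hF := fst_ne_zero H hv hv0
  have hqq : q' * q = 1 := by
    apply mul_right_cancel₀ hF
    rw [one_mul, mul_assoc, ← hq1, ← hq1']
  have hu : IsUnit q := IsUnit.of_mul_eq_one _ (by rw [mul_comm]; exact hqq)
  obtain ⟨r, _, hr⟩ := Polynomial.isUnit_iff.mp hu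
  rw [Submodule.span_le]
  rintro y (rfl | rfl)
  · rw [hq1, ← hr, ← smul_eq_C_mul]
    exact Submodule.smul_mem _ _ (Submodule.subset_span (by simp))
  · rw [hq2, ← hr, ← smul_eq_C_mul]
    exact Submodule.smul_mem _ _ (Submodule.subset_span (by simp))

end

end Groth.Agent.Lib.helper13.ThreePt
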