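import Groth.Agent.Lib.helper13.ThreePt4

/-!
# Pencils with three prescribed vanishing orders: the separable solution (helper13)
-/

set_option autoImplicit false

namespace Groth.Agent.Lib.helper13.ThreePt

open Polynomial W4c1limliniiii

variable {k : Type*} [Field k] {d : ℕ}

/-- a solution with non-zero Wronskian is a separable base-point-free pencil with exactly the
prescribed ramification -/
theorem mem_ramMaps {P : Fin 3 → k} {e : Fin 3 → ℕ}
    (H : Hyp d (P 0) (P 1) (P 2) (e 0) (e 1) (e 2)) {v : k[X] × k[X]}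
    (hv : v ∈ Lsp d (P 0) (P 1) (P 2) (e 0) (e 1) (e 2)) (hv0 : v ≠ 0)
    (hW : wronskian v.1 v.2 ≠ 0) :
    Submodule.span k ({v.1, v.2} : Set k[X]) ∈ ramMaps d P e := by
  obtain ⟨F, G⟩ := v
  have hmem := members H hv hv0
  have hfin := finrank_span H hv hv0
  have hle := span_le H hv
  obtain ⟨h1, h2, h3, h4, h5⟩ := hv
  simp only at h1 h2 h3 h4 h5 hW hmem hfin hle ⊢
  have hWdeg := natDegree_wronskian_le h1 h2 hW
  have da : (X - C (P 0)) ^ (e 0 - 1) ∣ (wronskian F G) := by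
    have := wronskian_dvd (n := 0) (t := G) h3 (by simp)
    simpa using this
  have dc : (X - C (P 2)) ^ (e 2 - 1) ∣ (wronskian F G) := by
    have := wronskian_dvd (m := 0) (s := F) (by simp) h4
    simpa using this
  have hWb : wronskian (F - G) G = (wronskian F G) := by
    simp only [wronskian, derivative_sub]
    ring
  have hWc : wronskian G F = -(wronskian F G) := by rw [wronskian_neg_eq]
  have db : (X - C (P 1)) ^ (e 1 - 1) ∣ (wronskian F G) := by
    have := wronskian_dvd (n := 0) (t := G) h5 (by simp)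
    rw [hWb] at this
    simpa using this
  have ra := (le_rootMultiplicity_iff hW).mpr da
  have rb := (le_rootMultiplicity_iff hW).mpr db
  have rc := (le_rootMultiplicity_iff hW).mpr dc
  have s3 := sum3_le hW H.hab H.hac H.hbc
  have hsum := H.hsum
  have b0 := H.h0
  have b1 := H.h1
  have b2 := H.h2
  have ea : rootMultiplicity (P 0) (wronskian F G) + 1 = e 0 := by omega
  have eb : rootMultiplicity (P 1) (wronskian F G) + 1 = e 1 := by omega
  have ec : rootMultiplicity (P 2) (wronskian F G) + 1 = e 2 := by omega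
  have hdegW : (wronskian F G).natDegree + 2 = 2 * d := by omega
  have maxa : ∀ n, (X - C (P 0)) ^ n ∣ wronskian F G → n + 1 ≤ e 0 := by
    intro n hn
    have := (le_rootMultiplicity_iff hW).mpr hn
    omega
  have maxb : ∀ n, (X - C (P 1)) ^ n ∣ wronskian (F - G) G → n + 1 ≤ e 1 := by
    intro n hn
    rw [hWb] at hn
    have := (le_rootMultiplicity_iff hW).mpr hn
    omega
  have maxc : ∀ n, (X - C (P 2)) ^ n ∣ wronskian G F → n + 1 ≤ e 2 := by
    intro n hn
    rw [hWc, dvd_neg] at hn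
    have := (le_rootMultiplicity_iff hW).mpr hn
    omega
  obtain ⟨Ga, Ba⟩ := ram_bound maxa h3
  obtain ⟨Gb, Bb⟩ := ram_bound maxb h5
  obtain ⟨Fc, Bc⟩ := ram_bound maxc h4
  have hFmem : F ∈ Submodule.span k ({F, G} : Set k[X]) := Submodule.subset_span (by simp)
  have hGmem : G ∈ Submodule.span k ({F, G} : Set k[X]) := Submodule.subset_span (by simp)
  refine ⟨⟨hle, hfin, ?_, ?_⟩, ⟨F, hFmem, G, hGmem, hW⟩, ?_⟩
  · -- a member of degree exactly d
    by_contra hno
    push Not at hno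
    have hF1 : F.natDegree ≠ d := hno F hFmem
    have hG1 : G.natDegree ≠ d := hno G hGmem
    have hFn : F.natDegree ≤ d := natDegree_le_of_degree_le (mem_degreeLE.mp h1)
    have hGn : G.natDegree ≤ d := natDegree_le_of_degree_le (mem_degreeLE.mp h2)
    have hF3 : F.natDegree ≤ d - 1 := by omega
    have hG3 : G.natDegree ≤ d - 1 := by omega
    have hF2 : F ∈ degreeLE k ((d - 1 : ℕ) : WithBot ℕ) := mem_degreeLE.mpr (degree_le_of_natDegree_le hF3)
    have hG2 : G ∈ degreeLE k ((d - 1 : ℕ) : WithBot ℕ) := mem_degreeLE.mpr (degree_le_of_natDegree_le hG3)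
    have := natDegree_wronskian_le hF2 hG2 hW
    omega
  · -- no base points
    intro x
    by_cases hxa : x = P 0
    · exact ⟨G, hGmem, hxa ▸ Ga⟩
    by_cases hxb : x = P 1
    · exact ⟨G, hGmem, hxb ▸ Gb⟩
    by_cases hxc : x = P 2
    · exact ⟨F, hFmem, hxc ▸ Fc⟩
    have s4 := sum4_le hW H.hab H.hac H.hbc hxa hxb hxc
    have hx0 : rootMultiplicity x (wronskian F G) = 0 := by omega
    by_cases hFx : F.eval x = 0
    · refine ⟨G, hGmem, fun hGx => ?_⟩
      have d1 : (X - C x) ^ 1 ∣ F := by rw [pow_one]; exact dvd_iff_isRoot.mpr hFx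
      have d2 : (X - C x) ^ 1 ∣ G := by rw [pow_one]; exact dvd_iff_isRoot.mpr hGx
      have := (le_rootMultiplicity_iff hW).mpr (wronskian_dvd d1 d2)
      omega
    · exact ⟨F, hFmem, hFx⟩
  · intro i
    fin_cases i
    · refine ⟨hmem.1, ?_⟩
      intro s hs hs0
      obtain ⟨α, β, rfl⟩ := Submodule.mem_span_pair.mp hs
      exact Ba α β hs0
    · refine ⟨hmem.2.1, ?_⟩
      intro s hs hs0
      obtain ⟨α, β, rfl⟩ := Submodule.mem_span_pair.mp hs
      have heq : α • F + β • G = α • (F - G) + (α + β) • G := by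
        rw [smul_sub, add_smul]; abel
      rw [heq] at hs0 ⊢
      exact Bb α (α + β) hs0
    · refine ⟨hmem.2.2, ?_⟩
      intro s hs hs0
      obtain ⟨α, β, rfl⟩ := Submodule.mem_span_pair.mp hs
      have heq : α • F + β • G = β • G + α • F := add_comm _ _
      rw [heq] at hs0 ⊢
      exact Bc β α hs0

/-- extracting a coprime solution with non-zero Wronskian from an element of `ramMaps` -/
lemma of_ramMaps [IsAlgClosed k] {P : Fin 3 → k} {e : Fin 3 → ℕ}
    (H : Hyp d (P 0) (P 1) (P 2) (e 0) (e 1) (e 2)) {V : Submodule k k[X]}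
    (hV : V ∈ ramMaps d P e) :
    ∃ v ∈ Lsp d (P 0) (P 1) (P 2) (e 0) (e 1) (e 2), v ≠ 0 ∧
      Submodule.span k ({v.1, v.2} : Set k[X]) = V ∧ IsCoprime v.1 v.2 ∧
      wronskian v.1 v.2 ≠ 0 := by
  obtain ⟨⟨hle, hfin, -, hbpf⟩, ⟨F₁, hF₁, G₁, hG₁, hW₁⟩, hram⟩ := hV
  obtain ⟨s₀, hs₀, h₀0, h₀⟩ := (hram 0).1
  obtain ⟨s₁, hs₁, h₁0, h₁⟩ := (hram 1).1
  obtain ⟨s₂, hs₂, h₂0, h₂⟩ := (hram 2).1
  obtain ⟨v, hv, hv0, hspan⟩ := surj H V hle hfin s₀ s₁ s₂ hs₀ hs₁ hs₂ h₀0 h₁0 h₂0 h₀ h₁ h₂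
  refine ⟨v, hv, hv0, hspan, ?_, ?_⟩
  · apply coprime_of_bpf
    rw [hspan]
    exact hbpf
  · intro h0
    rw [← hspan] at hF₁ hG₁
    obtain ⟨r, hr⟩ := wronskian_span hF₁ hG₁
    rw [h0, smul_zero] at hr
    exact hW₁ hr

theorem main18 [IsAlgClosed k] (p : ℕ) (d : ℕ) (P : Fin 3 → k)
    (hP : Function.Injective P) (e : Fin 3 → ℕ) (he : Admissible p d e) :
    (ramMaps d P e).Subsingleton ∧
      (ramMaps d P e = ∅ ↔
        ∃ V : Submodule k k[X], V ≤ Polynomial.degreeLE k d ∧ Module.finrank k V = 2 ∧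
          ¬ IsSeparable V ∧
          ∀ i, ∃ s ∈ V, s ≠ 0 ∧ e i ≤ Polynomial.rootMultiplicity (P i) s) := by
  have H := hyp_of_admissible p d P hP e he
  refine ⟨?_, ?_, ?_⟩
  · intro V hV V' hV'
    obtain ⟨v, hv, hv0, hsv, hcv, -⟩ := of_ramMaps H hV
    obtain ⟨w, hw, hw0, hsw, hcw, -⟩ := of_ramMaps H hV'
    rw [← hsv, ← hsw]
    exact le_antisymm (span_le_span H hw hv hw0 hv0 hcw hcv) (span_le_span H hv hw hv0 hw0 hcv hcw)
  · intro hempty
    have hne := Lsp_ne_bot H (by have := (he.1 1).1; omega)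
    obtain ⟨v, hv, hv0⟩ := Submodule.exists_mem_ne_zero_of_ne_bot hne
    by_cases hW : wronskian v.1 v.2 = 0
    · refine ⟨Submodule.span k {v.1, v.2}, span_le H hv, finrank_span H hv hv0, ?_, ?_⟩
      · rintro ⟨F₁, hF₁, G₁, hG₁, hW₁⟩
        obtain ⟨r, hr⟩ := wronskian_span hF₁ hG₁
        rw [hW, smul_zero] at hr
        exact hW₁ hr
      · obtain ⟨h0, h1, h2⟩ := members H hv hv0
        intro i
        fin_cases i
        · exact h0
        · exact h1
        · exact h2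
    · have := mem_ramMaps H hv hv0 hW
      rw [hempty] at this
      exact absurd this (Set.notMem_empty _)
  · rintro ⟨V₁, hle, hfin, hsep, hmem⟩
    rw [Set.eq_empty_iff_forall_notMem]
    intro V hV
    obtain ⟨v, hv, hv0, hsv, hcv, hWv⟩ := of_ramMaps H hV
    obtain ⟨s₀, hs₀, h₀0, h₀⟩ := hmem 0
    obtain ⟨s₁, hs₁, h₁0, h₁⟩ := hmem 1
    obtain ⟨s₂, hs₂, h₂0, h₂⟩ := hmem 2
    obtain ⟨w, hw, hw0, hsw⟩ := surj H V₁ hle hfin s₀ s₁ s₂ hs₀ hs₁ hs₂ h₀0 h₁0 h₂0 h₀ h₁ h₂
    obtain ⟨q, hq1, hq2⟩ := exists_mul H hv hw hv0 hcv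
    have hw1 : w.1 ∈ V₁ := hsw ▸ Submodule.subset_span (by simp)
    have hw2 : w.2 ∈ V₁ := hsw ▸ Submodule.subset_span (by simp)
    have hW0 : wronskian w.1 w.2 = 0 := by
      by_contra hne
      exact hsep ⟨w.1, hw1, w.2, hw2, hne⟩
    rw [hq1, hq2, wronskian_mul_mul] at hW0
    have hq0 : q ≠ 0 := by
      rintro rfl
      exact fst_ne_zero H hw hw0 (by rw [hq1, zero_mul])
    rcases mul_eq_zero.mp hW0 with h | h
    · exact hq0 (pow_eq_zero_iff (by norm_num) |>.mp h)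
    · exact hWv h

end Groth.Agent.Lib.helper13.ThreePt
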