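import Groth.Agent.Lib.helper13.ThreePt5

/-!
# Pencils with three prescribed vanishing orders: the count in the tame / wild cases (helper13)
-/

set_option autoImplicit false

namespace Groth.Agent.Lib.helper13.ThreePt

open Polynomial W4c1limliniiii

variable {k : Type*} [Field k]

lemma exists_coprime_factor (F G : k[X]) (hF : F ≠ 0) :
    ∃ g F₁ G₁ : k[X], F = g * F₁ ∧ G = g * G₁ ∧ IsCoprime F₁ G₁ := by
  classical
  obtain ⟨F₁, hF₁⟩ := EuclideanDomain.gcd_dvd_left F G
  obtain ⟨G₁, hG₁⟩ := EuclideanDomain.gcd_dvd_right F G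
  have hg : EuclideanDomain.gcd F G ≠ 0 := by
    intro h
    rw [h, zero_mul] at hF₁
    exact hF hF₁
  refine ⟨EuclideanDomain.gcd F G, F₁, G₁, hF₁, hG₁, EuclideanDomain.gcdA F G,
    EuclideanDomain.gcdB F G, ?_⟩
  apply mul_left_cancel₀ hg
  have hb := EuclideanDomain.gcd_eq_gcd_ab F G
  calc EuclideanDomain.gcd F G * (EuclideanDomain.gcdA F G * F₁ + EuclideanDomain.gcdB F G * G₁)
      = (EuclideanDomain.gcd F G * F₁) * EuclideanDomain.gcdA F G +
        (EuclideanDomain.gcd F G * G₁) * EuclideanDomain.gcdB F G := by ring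
    _ = F * EuclideanDomain.gcdA F G + G * EuclideanDomain.gcdB F G := by rw [← hF₁, ← hG₁]
    _ = EuclideanDomain.gcd F G * 1 := by rw [mul_one]; exact hb.symm

lemma eq_C_of_derivative_eq_zero' (p : ℕ) [CharP k p] {f : k[X]} (hp : p = 0 ∨ f.natDegree < p)
    (hf : derivative f = 0) : f = C (f.coeff 0) := by
  ext n
  rcases n with _ | n
  · simp
  · rw [coeff_C_succ]
    by_cases hn : n + 1 ≤ f.natDegree
    · have h1 := congrArg (fun q => coeff q n) hf
      simp only [coeff_derivative, coeff_zero] at h1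
      have h2 : ((n : k) + 1) ≠ 0 := by
        have h3 : ((n : k) + 1) = ((n + 1 : ℕ) : k) := by push_cast; rfl
        rw [h3, Ne, CharP.cast_eq_zero_iff k p (n + 1)]
        intro hdvd
        rcases hp with hp | hp
        · rw [hp] at hdvd
          have := Nat.eq_zero_of_zero_dvd hdvd
          omega
        · have := Nat.le_of_dvd (Nat.succ_pos n) hdvd
          omega
      exact (mul_eq_zero.mp h1).resolve_right h2
    · exact coeff_eq_zero_of_natDegree_lt (by omega)

lemma dep_of_wronskian_zero (p : ℕ) [CharP k p] {d : ℕ} (hp : p = 0 ∨ d < p) {F G : k[X]}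
    (hF : F ∈ degreeLE k d) (hG : G ∈ degreeLE k d) (hF0 : F ≠ 0) (hW : wronskian F G = 0) :
    ∃ c : k, G = c • F := by
  obtain ⟨g, F₁, G₁, hF₁, hG₁, hcop⟩ := exists_coprime_factor F G hF0
  have hg : g ≠ 0 := by rintro rfl; rw [zero_mul] at hF₁; exact hF0 hF₁
  have hF₁0 : F₁ ≠ 0 := by rintro rfl; rw [mul_zero] at hF₁; exact hF0 hF₁
  by_cases hG₁0 : G₁ = 0
  · refine ⟨0, ?_⟩
    rw [hG₁, hG₁0, mul_zero, zero_smul]
  have hFn : F.natDegree ≤ d := natDegree_le_of_degree_le (mem_degreeLE.mp hF)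
  have hGn : G.natDegree ≤ d := natDegree_le_of_degree_le (mem_degreeLE.mp hG)
  have hF₁n : F₁.natDegree ≤ d := by
    rw [hF₁, natDegree_mul hg hF₁0] at hFn; omega
  have hG₁n : G₁.natDegree ≤ d := by
    rw [hG₁, natDegree_mul hg hG₁0] at hGn; omega
  rw [hF₁, hG₁, wronskian_mul_mul] at hW
  have hW1 : wronskian F₁ G₁ = 0 :=
    (mul_eq_zero.mp hW).resolve_left (pow_ne_zero _ hg)
  obtain ⟨dF, dG⟩ := hcop.wronskian_eq_zero_iff.mp hW1
  have cF := eq_C_of_derivative_eq_zero' p (hp.imp id (fun h => by omega)) dF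
  have cG := eq_C_of_derivative_eq_zero' p (hp.imp id (fun h => by omega)) dG
  set c₁ := F₁.coeff 0
  set c₂ := G₁.coeff 0
  have hc₁ : c₁ ≠ 0 := by
    intro h
    rw [h, C_0] at cF
    exact hF₁0 cF
  refine ⟨c₂ / c₁, ?_⟩
  calc G = g * C c₂ := by rw [hG₁, cG]
    _ = C (c₂ / c₁ * c₁) * g := by rw [div_mul_cancel₀ _ hc₁, mul_comm]
    _ = C (c₂ / c₁) * (g * C c₁) := by rw [C_mul]; ring
    _ = (c₂ / c₁) • F := by rw [smul_eq_C_mul, hF₁, cF]

theorem main19 [IsAlgClosed k] (p : ℕ) [CharP k p] (d : ℕ) (P : Fin 3 → k)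
    (hP : Function.Injective P) (e : Fin 3 → ℕ) (he : Admissible p d e) :
    (p ≠ 0 → e 0 < p → e 1 < p → p ≤ d → ramMaps d P e = ∅) ∧
      (p = 0 ∨ d < p → ∃ V : Submodule k k[X], ramMaps d P e = {V}) := by
  have H := hyp_of_admissible p d P hP e he
  obtain ⟨hsub, hiff⟩ := main18 p d P hP e he
  constructor
  · intro hp0 h0 h1 hpd
    rw [hiff]
    have hprime : p.Prime := (CharP.char_is_prime_or_zero k p).resolve_right hp0
    haveI : Fact p.Prime := ⟨hprime⟩
    set g : k[X] := (X - C (P 2)) ^ (e 2 - p) with hg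
    have hg0 : g ≠ 0 := pow_ne_zero _ (X_sub_C_ne_zero _)
    have hgdeg : g.natDegree = e 2 - p := by
      rw [hg, natDegree_pow, natDegree_X_sub_C, mul_one]
    have hXg : (X ^ p * g).natDegree = p + (e 2 - p) := by
      rw [natDegree_mul (pow_ne_zero _ X_ne_zero) hg0, natDegree_X_pow, hgdeg]
    have hpk : (p : k) = 0 := CharP.cast_eq_zero k p
    have hW0 : wronskian (X ^ p * g) g = 0 := by
      simp only [wronskian, derivative_mul, derivative_X_pow, hpk, C_0, zero_mul, zero_add]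
      ring
    have e2d : e 2 ≤ d := H.h2
    refine ⟨Submodule.span k {X ^ p * g, g}, ?_, ?_, ?_, ?_⟩
    · rw [Submodule.span_le]
      rintro y (rfl | rfl)
      · refine mem_degreeLE.mpr (degree_le_of_natDegree_le ?_)
        rw [hXg]; omega
      · refine mem_degreeLE.mpr (degree_le_of_natDegree_le ?_)
        rw [hgdeg]; omega
    · exact RamInf.span_pair_finrank hg0 (by rw [hXg, hgdeg]; have := hprime.pos; omega)
    · rintro ⟨F₁, hF₁, G₁, hG₁, hW₁⟩
      obtain ⟨r, hr⟩ := wronskian_span hF₁ hG₁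
      rw [hW0, smul_zero] at hr
      exact hW₁ hr
    · have key : ∀ x : k, (X - C x) ^ p * g ∈ Submodule.span k ({X ^ p * g, g} : Set k[X]) := by
        intro x
        have h1 : (X - C x) ^ p * g = (1 : k) • (X ^ p * g) + (-(x ^ p)) • g := by
          rw [sub_pow_char, ← C_pow, one_smul, smul_eq_C_mul, C_neg]
          ring
        rw [h1]
        exact Submodule.add_mem _
          (Submodule.smul_mem _ _ (Submodule.subset_span (by simp)))
          (Submodule.smul_mem _ _ (Submodule.subset_span (by simp)))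
      have hne : ∀ x : k, (X - C x) ^ p * g ≠ 0 := fun x =>
        mul_ne_zero (pow_ne_zero _ (X_sub_C_ne_zero _)) hg0
      intro i
      refine ⟨(X - C (P i)) ^ p * g, key _, hne _, ?_⟩
      rw [le_rootMultiplicity_iff (hne _)]
      fin_cases i
      · exact (pow_dvd_pow _ h0.le).trans (dvd_mul_right _ _)
      · exact (pow_dvd_pow _ h1.le).trans (dvd_mul_right _ _)
      · show (X - C (P 2)) ^ e 2 ∣ (X - C (P 2)) ^ p * g
        rw [hg, ← pow_add]
        exact pow_dvd_pow _ (by omega)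
  · intro hp
    have hne : ramMaps d P e ≠ ∅ := by
      intro hempty
      obtain ⟨V₁, hle, hfin, hsep, hmem⟩ := hiff.mp hempty
      obtain ⟨s₀, hs₀, h₀0, h₀⟩ := hmem 0
      obtain ⟨s₁, hs₁, h₁0, h₁⟩ := hmem 1
      obtain ⟨s₂, hs₂, h₂0, h₂⟩ := hmem 2
      obtain ⟨w, hw, hw0, hsw⟩ := surj H V₁ hle hfin s₀ s₁ s₂ hs₀ hs₁ hs₂ h₀0 h₁0 h₂0 h₀ h₁ h₂
      have hw1 : w.1 ∈ V₁ := hsw ▸ Submodule.subset_span (by simp)
      have hw2 : w.2 ∈ V₁ := hsw ▸ Submodule.subset_span (by simp)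
      have hW0 : wronskian w.1 w.2 = 0 := by
        by_contra hne
        exact hsep ⟨w.1, hw1, w.2, hw2, hne⟩
      obtain ⟨c, hc⟩ := dep_of_wronskian_zero p hp hw.1 hw.2.1 (fst_ne_zero H hw hw0) hW0
      have := indep H hw hw0 c (-1) (by rw [hc]; simp)
      exact absurd this.2 (by norm_num)
    obtain ⟨V, hV⟩ := Set.nonempty_iff_ne_empty.mpr hne
    exact ⟨V, hsub.eq_singleton_of_mem hV⟩

end Groth.Agent.Lib.helper13.ThreePt
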