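import Mathlib

set_option autoImplicit false

namespace Groth.Agent.Lib.helper13.Todd

open PowerSeries

/-- `(e^t - 1)/t` -/
noncomputable def E1 : PowerSeries ℚ := PowerSeries.mk fun n => 1 / ((n + 1).factorial : ℚ)

theorem X_mul_E1 : X * E1 = exp ℚ - 1 := by
  ext n
  rcases n with _ | n
  · simp
  · rw [coeff_succ_X_mul, E1, coeff_mk, map_sub, coeff_exp, coeff_one, if_neg (by omega)]
    simp

theorem constantCoeff_E1 : constantCoeff E1 = 1 := by
  rw [← coeff_zero_eq_constantCoeff_apply, E1, coeff_mk]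
  simp

/-- the Todd series `t e^t/(e^t - 1)` -/
noncomputable def T : PowerSeries ℚ := exp ℚ * E1⁻¹

theorem T_spec : T * (exp ℚ - 1) = X * exp ℚ := by
  rw [T, ← X_mul_E1]
  have : E1⁻¹ * E1 = 1 := PowerSeries.inv_mul_cancel _ (by rw [constantCoeff_E1]; exact one_ne_zero)
  calc exp ℚ * E1⁻¹ * (X * E1) = X * exp ℚ * (E1⁻¹ * E1) := by ring
    _ = X * exp ℚ := by rw [this, mul_one]

theorem exp_sub_one_ne_zero : exp ℚ - 1 ≠ 0 := by
  intro h
  have := congrArg (coeff 1) h
  rw [map_sub, coeff_exp, coeff_one, if_neg (by omega)] at this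
  simp at this

section ODE

variable {f : PowerSeries ℚ} (hf : f * (exp ℚ - 1) = X * exp ℚ)

include hf

theorem coeff_zero_todd : coeff 0 f = 1 := by
  have h1 : X * (f * E1) = X * exp ℚ := by
    rw [← hf, ← X_mul_E1]; ring
  have h2 := congrArg (coeff 1) h1
  rw [coeff_succ_X_mul, coeff_succ_X_mul, coeff_zero_eq_constantCoeff_apply,
    coeff_zero_eq_constantCoeff_apply, map_mul, constantCoeff_E1, mul_one, constantCoeff_exp] at h2
  rw [coeff_zero_eq_constantCoeff_apply]
  exact h2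

/-- the differential equation `t f' = f - f^2 + t f` of the Todd series -/
theorem todd_ode : X * d⁄dX ℚ f = f - f ^ 2 + X * f := by
  have hd := congrArg (d⁄dX ℚ) hf
  rw [Derivation.leibniz, Derivation.leibniz, map_sub, derivative_exp, derivative_X] at hd
  simp only [smul_eq_mul, Derivation.map_one_eq_zero, sub_zero, mul_one] at hd
  -- hd : f * exp + (exp - 1) * f' = X * exp + exp * 1
  have key : (exp ℚ - 1) * (X * d⁄dX ℚ f - (f - f ^ 2 + X * f)) = 0 := by
    linear_combination X * hd + (f - 1 - X) * hf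
  rcases mul_eq_zero.mp key with h | h
  · exact absurd h exp_sub_one_ne_zero
  · exact sub_eq_zero.mp h

theorem coeff_pow_mul_sub (n : ℕ) (hn : 1 ≤ n) : coeff n (f ^ n * (f - X)) = 0 := by
  have hode := todd_ode hf
  -- n * f^n (f - X) = n f^n - X (f^n)'
  have h1 : (n : PowerSeries ℚ) * (f ^ n * (f - X)) = (n : PowerSeries ℚ) * f ^ n - X * d⁄dX ℚ (f ^ n) := by
    rw [Derivation.leibniz_pow]
    obtain ⟨m, rfl⟩ : ∃ m, n = m + 1 := ⟨n - 1, by omega⟩
    simp only [Nat.add_sub_cancel, smul_eq_mul, nsmul_eq_mul]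
    rw [pow_succ]
    push_cast
    linear_combination ((m + 1 : PowerSeries ℚ) * f ^ m) * hode
  have h2 := congrArg (coeff n) h1
  rw [map_sub] at h2
  have h3 : coeff n ((n : PowerSeries ℚ) * f ^ n) = (n : ℚ) * coeff n (f ^ n) := by
    rw [← map_natCast (C (R := ℚ)), coeff_C_mul]
  have h4 : coeff n ((n : PowerSeries ℚ) * (f ^ n * (f - X))) =
      (n : ℚ) * coeff n (f ^ n * (f - X)) := by
    rw [← map_natCast (C (R := ℚ)), coeff_C_mul]
  have h5 : coeff n (X * d⁄dX ℚ (f ^ n)) = (n : ℚ) * coeff n (f ^ n) := by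
    obtain ⟨m, rfl⟩ : ∃ m, n = m + 1 := ⟨n - 1, by omega⟩
    rw [coeff_succ_X_mul, coeff_derivative]
    push_cast
    ring
  rw [h3, h4, h5, sub_self] at h2
  have hn0 : (n : ℚ) ≠ 0 := by exact_mod_cast (by omega : n ≠ 0)
  exact (mul_eq_zero.mp h2).resolve_left hn0

/-- the coefficient of `t^n` in `f^(n+1)` is one -/
theorem coeff_pow_succ_todd (n : ℕ) : coeff n (f ^ (n + 1)) = 1 := by
  induction n with
  | zero => rw [zero_add, pow_one]; exact coeff_zero_todd hf
  | succ n ih =>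
    have h := coeff_pow_mul_sub hf (n + 1) (by omega)
    rw [mul_sub, map_sub, ← pow_succ, mul_comm (f ^ (n + 1)) X, coeff_succ_X_mul, ih] at h
    exact sub_eq_zero.mp h

end ODE

end Groth.Agent.Lib.helper13.Todd
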