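import Mathlib
import Groth.Agent.Lib.helper13.Todd1

set_option autoImplicit false

namespace Groth.Agent.Lib.helper13.Todd

open PowerSeries

/-- uniqueness: the conditions `[t^n] f^(n+1) = 1` determine `f` -/
theorem eq_of_coeff_pow_succ {f g : PowerSeries ℚ}
    (hf : ∀ n : ℕ, coeff n (f ^ (n + 1)) = 1) (hg : ∀ n : ℕ, coeff n (g ^ (n + 1)) = 1) :
    f = g := by
  have hf0 : constantCoeff f = 1 := by
    have := hf 0
    rwa [zero_add, pow_one, coeff_zero_eq_constantCoeff_apply] at this
  have hg0 : constantCoeff g = 1 := by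
    have := hg 0
    rwa [zero_add, pow_one, coeff_zero_eq_constantCoeff_apply] at this
  ext n
  induction n using Nat.strong_induction_on with
  | _ n ih =>
  have hdvd : X ^ n ∣ f - g := by
    rw [X_pow_dvd_iff]
    intro m hm
    rw [map_sub, ih m hm, sub_self]
  obtain ⟨h, hh⟩ := hdvd
  have hgeom := Commute.geom_sum₂_mul (Commute.all f g) (n + 1)
  -- (∑ i ∈ range (n+1), f^i g^(n-i)) * (f - g) = f^(n+1) - g^(n+1)
  have h1 := congrArg (coeff n) hgeom
  rw [map_sub, hf n, hg n, sub_self, hh] at h1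
  rw [mul_comm _ (X ^ n * h), mul_assoc, coeff_X_pow_mul', if_pos le_rfl, Nat.sub_self,
    coeff_zero_eq_constantCoeff_apply, map_mul, map_sum] at h1
  have h2 : ∑ i ∈ Finset.range (n + 1), constantCoeff (f ^ i * g ^ (n + 1 - 1 - i)) =
      (n + 1 : ℚ) := by
    have : ∀ i ∈ Finset.range (n + 1), constantCoeff (f ^ i * g ^ (n + 1 - 1 - i)) = (1 : ℚ) := by
      intro i _
      rw [map_mul, map_pow, map_pow, hf0, hg0, one_pow, one_pow, one_mul]
    rw [Finset.sum_congr rfl this]
    simp
  rw [h2] at h1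
  have h3 : constantCoeff h = 0 := by
    have hne : (n + 1 : ℚ) ≠ 0 := by positivity
    exact (mul_eq_zero.mp h1).resolve_right hne
  have h4 := congrArg (coeff n) hh
  rw [map_sub, coeff_X_pow_mul', if_pos le_rfl, Nat.sub_self, coeff_zero_eq_constantCoeff_apply,
    h3] at h4
  exact sub_eq_zero.mp h4

/-- S14506 -/
theorem todd_iff (f : PowerSeries ℚ) :
    (∀ n : ℕ, coeff n (f ^ (n + 1)) = 1) ↔ f * (exp ℚ - 1) = X * exp ℚ := by
  constructor
  · intro h
    have : f = T := eq_of_coeff_pow_succ h (coeff_pow_succ_todd T_spec)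
    rw [this]
    exact T_spec
  · intro h n
    exact coeff_pow_succ_todd h n

end Groth.Agent.Lib.helper13.Todd

namespace Groth.Agent.Lib.helper13.Todd

open PowerSeries

section Pascal

variable {f : PowerSeries ℚ} (hf : f * (exp ℚ - 1) = X * exp ℚ)

include hf

theorem one_sub_exp_neg_mul : (1 - rescale (-1 : ℚ) (exp ℚ)) * f = X := by
  have h1 : exp ℚ * rescale (-1 : ℚ) (exp ℚ) = 1 := by
    have := exp_mul_exp_eq_exp_add (A := ℚ) 1 (-1)
    rw [rescale_one, RingHom.id_apply, add_neg_cancel, rescale_zero] at this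
    simpa using this
  linear_combination (rescale (-1 : ℚ) (exp ℚ)) * hf + (X - f) * h1

theorem pascal (m : ℚ) (n : ℕ) :
    coeff (n + 1) (rescale m (exp ℚ) * f ^ (n + 2)) -
      coeff (n + 1) (rescale (m - 1) (exp ℚ) * f ^ (n + 2)) =
      coeff n (rescale m (exp ℚ) * f ^ (n + 1)) := by
  have h1 : rescale (m - 1) (exp ℚ) = rescale m (exp ℚ) * rescale (-1 : ℚ) (exp ℚ) := by
    rw [exp_mul_exp_eq_exp_add, sub_eq_add_neg]
  have h2 := one_sub_exp_neg_mul hf
  have h3 : rescale m (exp ℚ) * f ^ (n + 2) - rescale (m - 1) (exp ℚ) * f ^ (n + 2) =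
      X * (rescale m (exp ℚ) * f ^ (n + 1)) := by
    rw [h1, pow_succ f (n + 1)]
    linear_combination (rescale m (exp ℚ) * f ^ (n + 1)) * h2
  rw [← map_sub, h3, coeff_succ_X_mul]

theorem coeff_exp_mul_zero (m : ℚ) : coeff 0 (rescale m (exp ℚ) * f ^ (0 + 1)) = 1 := by
  rw [zero_add, pow_one, coeff_zero_eq_constantCoeff_apply, map_mul,
    ← coeff_zero_eq_constantCoeff_apply, coeff_rescale, pow_zero, one_mul,
    coeff_zero_eq_constantCoeff_apply, constantCoeff_exp, one_mul,
    ← coeff_zero_eq_constantCoeff_apply]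
  exact coeff_zero_todd hf

/-- S14509 -/
theorem coeff_exp_mul_todd_pow : ∀ (n : ℕ) (m : ℤ),
    coeff n (rescale (m : ℚ) (exp ℚ) * f ^ (n + 1)) = ((Ring.choose (m + n : ℤ) n : ℤ) : ℚ) := by
  intro n
  induction n with
  | zero =>
    intro m
    rw [coeff_exp_mul_zero hf, Ring.choose_zero_right, Int.cast_one]
  | succ n ih =>
    intro m
    induction m using Int.induction_on with
    | zero =>
      rw [Int.cast_zero, rescale_zero, RingHom.comp_apply, constantCoeff_exp, map_one, one_mul,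
        coeff_pow_succ_todd hf, zero_add]
      have : Ring.choose ((n + 1 : ℕ) : ℤ) (n + 1) = 1 := by
        rw [Ring.choose_natCast, Nat.choose_self, Nat.cast_one]
      rw [this, Int.cast_one]
    | succ i hi =>
      have hp := pascal hf ((i : ℚ) + 1) n
      rw [add_sub_cancel_right] at hp
      have h1 := ih ((i : ℤ) + 1)
      push_cast at hi h1 hp ⊢
      have hc := Ring.choose_succ_succ ((i : ℤ) + 1 + n) n
      have e1 : (i : ℤ) + 1 + ((n : ℤ) + 1) = (i : ℤ) + 1 + n + 1 := by ring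
      have e2 : (i : ℤ) + ((n : ℤ) + 1) = (i : ℤ) + 1 + n := by ring
      rw [e1, hc]
      rw [e2] at hi
      rw [h1, hi] at hp
      push_cast
      linarith
    | pred i hi =>
      have hp := pascal hf (-(i : ℚ)) n
      have h1 := ih (-(i : ℤ))
      push_cast at hi h1 hp ⊢
      have hc := Ring.choose_succ_succ (-(i : ℤ) + n) n
      have e1 : -(i : ℤ) + ((n : ℤ) + 1) = -(i : ℤ) + n + 1 := by ring
      have e2 : -(i : ℤ) - 1 + ((n : ℤ) + 1) = -(i : ℤ) + n := by ring
      rw [e2]
      rw [e1, hc] at hi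
      rw [h1, hi] at hp
      push_cast at hp
      linarith

end Pascal

end Groth.Agent.Lib.helper13.Todd
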