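import Mathlib
import Groth.Agent.Lib.helper13.ToepDet3

set_option autoImplicit false

namespace Groth.Agent.Lib.helper13.ToepDet

open PowerSeries Finset

variable {R : Type*} [CommRing R]

/-- Toeplitz-like matrix with a row-dependent series -/
noncomputable def Pm (d f : ℕ) (s : ℕ → PowerSeries R) : Matrix (Fin d) (Fin d) R :=
  Matrix.of fun i j => ent (s i) f i j

/-- reduced matrix for `Pm` -/
noncomputable def Nm' (d f : ℕ) (s : ℕ → PowerSeries R) (g0 : R) :
    Matrix (Fin (d + 1)) (Fin (d + 1)) R :=
  Matrix.of fun i j =>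
    if (j : ℕ) < d then ent (s i) f i j else (if (i : ℕ) < d then 0 else g0)

theorem Pm_mul_Km (d f : ℕ) (a : Polynomial R) (ha : a.natDegree ≤ d) (s : ℕ → PowerSeries R)
    (hs : ∀ i < d, coeff (f + d - i) ((a : PowerSeries R) * s i) = 0) :
    Pm (d + 1) f s * Km d a = Nm' d f s (coeff f ((a : PowerSeries R) * s d)) := by
  ext i j
  rw [Matrix.mul_apply]
  simp only [Pm, Km, Nm', Matrix.of_apply]
  have hi := i.2
  by_cases hj : (j : ℕ) < d
  · simp only [hj, if_true]
    rw [Fin.sum_univ_eq_sum_range
      (fun k => ent (s i) f i k * (if k = (j : ℕ) then (1 : R) else 0)) (d + 1)]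
    simp only [mul_ite, mul_one, mul_zero, Finset.sum_ite_eq', mem_range]
    rw [if_pos (by omega)]
  · simp only [hj, if_false]
    rw [Fin.sum_univ_eq_sum_range (fun k => ent (s i) f i k * a.coeff (d - k)) (d + 1)]
    rw [← Finset.sum_range_reflect]
    have hre : ∀ l ∈ range (d + 1),
        ent (s i) f i (d + 1 - 1 - l) * a.coeff (d - (d + 1 - 1 - l)) =
        a.coeff l * ent (s i) f i (d - l) := by
      intro l hl
      rw [mem_range] at hl
      have h1 : d + 1 - 1 - l = d - l := by omega
      have h2 : d - (d - l) = l := by omega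
      rw [h1, h2, mul_comm]
    rw [Finset.sum_congr rfl hre, sum_coeff_mul_ent a d ha _ f i (by omega)]
    by_cases hid : (i : ℕ) < d
    · rw [if_pos hid, hs i hid]
    · have : (i : ℕ) = d := by omega
      rw [if_neg hid, this, Nat.add_sub_cancel]

theorem det_Nm' (d f : ℕ) (s : ℕ → PowerSeries R) (g0 : R) :
    (Nm' d f s g0).det = (Pm d f s).det * g0 := by
  rw [Matrix.det_succ_column _ (Fin.last d), Finset.sum_eq_single (Fin.last d)]
  · have hsub : (Nm' d f s g0).submatrix (Fin.last d).succAbove (Fin.last d).succAbove =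
        Pm d f s := by
      ext i j
      simp only [Fin.succAbove_last, Matrix.submatrix_apply, Nm', Pm, Matrix.of_apply,
        Fin.val_castSucc]
      rw [if_pos j.2]
    rw [hsub]
    have hent : Nm' d f s g0 (Fin.last d) (Fin.last d) = g0 := by
      simp [Nm']
    rw [hent]
    have : (-1 : R) ^ ((Fin.last d : ℕ) + (Fin.last d : ℕ)) = 1 :=
      Even.neg_one_pow ⟨_, rfl⟩
    rw [this, one_mul, mul_comm]
  · intro i _ hi
    have hid : (i : ℕ) < d := by
      have := i.2
      have : (i : ℕ) ≠ d := fun h => hi (Fin.ext (by simpa using h))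
      omega
    have : Nm' d f s g0 i (Fin.last d) = 0 := by
      simp [Nm', hid]
    rw [this, mul_zero, zero_mul]
  · intro h
    exact absurd (Finset.mem_univ _) h

theorem det_Pm_succ (d f : ℕ) (a : Polynomial R) (ha : a.natDegree ≤ d) (ha0 : a.coeff 0 = 1)
    (s : ℕ → PowerSeries R)
    (hs : ∀ i < d, coeff (f + d - i) ((a : PowerSeries R) * s i) = 0) :
    (Pm (d + 1) f s).det = (Pm d f s).det * coeff f ((a : PowerSeries R) * s d) := by
  have h := congrArg Matrix.det (Pm_mul_Km d f a ha s hs)
  rw [Matrix.det_mul, det_Km d a ha0, mul_one, det_Nm'] at h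
  exact h

end Groth.Agent.Lib.helper13.ToepDet
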