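import Mathlib
import Groth.Agent.Lib.helper13.ToepDet4

set_option autoImplicit false

namespace Groth.Agent.Lib.helper13.ToepDet

open PowerSeries Finset

variable {R : Type*} [CommRing R]

/-- geometric series `1/(1 + α t)` -/
noncomputable def geo (α : R) : PowerSeries R := PowerSeries.mk fun m => (-α) ^ m

theorem linear_mul_geo (α : R) : (1 + C α * X) * geo α = 1 := by
  ext n
  rw [coeff_one_add_mul]
  rcases n with _ | n
  · simp [geo]
  · rw [if_pos (by omega), Nat.add_sub_cancel, geo, coeff_mk, coeff_mk, coeff_one,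
      if_neg (by omega)]
    ring

section Partial

variable (α' : ℕ → R) {e : ℕ} (β : Fin e → R)

/-- `∏_{l<d} (1 + α_l t)` -/
noncomputable def Apoly (d : ℕ) : Polynomial R := lin (fun l : Fin d => α' l)

/-- `∏_{l<d} 1/(1 + α_l t)` -/
noncomputable def Gser (d : ℕ) : PowerSeries R := ∏ l ∈ range d, geo (α' l)

/-- the `i`-th partial quotient -/
noncomputable def Sser (i : ℕ) : PowerSeries R := ((lin β : Polynomial R) : PowerSeries R) * Gser α' (i + 1)

theorem Apoly_succ (d : ℕ) :
    Apoly α' (d + 1) = Apoly α' d * (1 + Polynomial.C (α' d) * Polynomial.X) := by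
  rw [Apoly, lin_succ]
  simp [Apoly]

theorem Gser_succ (d : ℕ) : Gser α' (d + 1) = Gser α' d * geo (α' d) := by
  rw [Gser, Finset.prod_range_succ]
  rfl

theorem Apoly_mul_Gser (d : ℕ) : ((Apoly α' d : Polynomial R) : PowerSeries R) * Gser α' d = 1 := by
  induction d with
  | zero => simp [Apoly, Gser, lin]
  | succ d ih =>
    rw [Apoly_succ, Gser_succ, Polynomial.coe_mul, coe_linear]
    calc (↑(Apoly α' d) : PowerSeries R) * (1 + C (α' d) * X) * (Gser α' d * geo (α' d))
        = ((↑(Apoly α' d) : PowerSeries R) * Gser α' d) * ((1 + C (α' d) * X) * geo (α' d)) := by ring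
      _ = 1 := by rw [ih, linear_mul_geo, one_mul]

theorem exists_poly_Apoly_mul_Gser (i : ℕ) : ∀ d, i + 1 ≤ d →
    ∃ Q : Polynomial R, Q.natDegree ≤ d - (i + 1) ∧
      ((Apoly α' d : Polynomial R) : PowerSeries R) * Gser α' (i + 1) = (Q : PowerSeries R) := by
  intro d hd
  induction d, hd using Nat.le_induction with
  | base => exact ⟨1, by simp, by rw [Apoly_mul_Gser]; simp⟩
  | succ d hd ih =>
    obtain ⟨Q, hQ, hQe⟩ := ih
    refine ⟨Q * (1 + Polynomial.C (α' d) * Polynomial.X), ?_, ?_⟩
    · refine (Polynomial.natDegree_mul_le).trans ?_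
      have : (1 + Polynomial.C (α' d) * Polynomial.X).natDegree ≤ 1 := by
        refine (Polynomial.natDegree_add_le _ _).trans ?_
        rw [Polynomial.natDegree_one]
        exact max_le (by omega)
          ((Polynomial.natDegree_C_mul_le _ _).trans Polynomial.natDegree_X_le)
      omega
    · rw [Apoly_succ, Polynomial.coe_mul, Polynomial.coe_mul, ← hQe]
      ring

theorem coeff_Apoly_mul_Sser_eq_zero (d i : ℕ) (hi : i < d) :
    coeff (e + d - i) (((Apoly α' d : Polynomial R) : PowerSeries R) * Sser α' β i) = 0 := by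
  obtain ⟨Q, hQ, hQe⟩ := exists_poly_Apoly_mul_Gser α' i d hi
  have : ((Apoly α' d : Polynomial R) : PowerSeries R) * Sser α' β i =
      ((lin β * Q : Polynomial R) : PowerSeries R) := by
    rw [Sser, Polynomial.coe_mul, ← hQe]
    ring
  rw [this, Polynomial.coeff_coe]
  apply Polynomial.coeff_eq_zero_of_natDegree_lt
  have h1 := Polynomial.natDegree_mul_le (p := lin β) (q := Q)
  have h2 := natDegree_lin_le β
  omega

theorem coeff_Apoly_mul_Sser_last (d : ℕ) :
    coeff e (((Apoly α' d : Polynomial R) : PowerSeries R) * Sser α' β d) =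
      ∏ j, (β j - α' d) := by
  have : ((Apoly α' d : Polynomial R) : PowerSeries R) * Sser α' β d =
      ((lin β : Polynomial R) : PowerSeries R) * geo (α' d) := by
    rw [Sser, Gser_succ]
    calc (↑(Apoly α' d) : PowerSeries R) * (↑(lin β) * (Gser α' d * geo (α' d)))
        = ((↑(Apoly α' d) : PowerSeries R) * Gser α' d) * (↑(lin β) * geo (α' d)) := by ring
      _ = _ := by rw [Apoly_mul_Gser, one_mul]
  rw [this]
  apply coeff_quot
  calc (1 + C (α' d) * X) * ((↑(lin β) : PowerSeries R) * geo (α' d))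
      = (↑(lin β) : PowerSeries R) * ((1 + C (α' d) * X) * geo (α' d)) := by ring
    _ = _ := by rw [linear_mul_geo, mul_one]

theorem det_Pm_Sser : ∀ d : ℕ,
    (Pm d e (Sser α' β)).det = ∏ i ∈ range d, ∏ j, (β j - α' i) := by
  intro d
  induction d with
  | zero => simp
  | succ d ih =>
    rw [det_Pm_succ d e (Apoly α' d) (natDegree_lin_le _) (coeff_zero_lin _) (Sser α' β)
      (fun i hi => coeff_Apoly_mul_Sser_eq_zero α' β d i hi), ih, coeff_Apoly_mul_Sser_last,
      Finset.prod_range_succ]

end Partial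

end Groth.Agent.Lib.helper13.ToepDet
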