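import Mathlib
import Groth.Agent.Lib.helper13.ToepDet5

set_option autoImplicit false

namespace Groth.Agent.Lib.helper13.ToepDet

open PowerSeries Finset

variable {R : Type*} [CommRing R]

theorem coe_lin {e : ℕ} (β : Fin e → R) :
    ((lin β : Polynomial R) : PowerSeries R) = ∏ j : Fin e, (1 + C (β j) * X) := by
  unfold lin
  rw [← Polynomial.coeToPowerSeries.ringHom_apply, map_prod]
  apply Finset.prod_congr rfl
  intro j _
  rw [Polynomial.coeToPowerSeries.ringHom_apply, coe_linear]

theorem partial_det (d e : ℕ) (α : Fin d → R) (β : Fin e → R) :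
    ∏ i : Fin d, ∏ j : Fin e, (β j - α i) =
      (Matrix.of fun i j : Fin d =>
        if (i : ℕ) ≤ e + (j : ℕ) then
          PowerSeries.coeff (e + (j : ℕ) - (i : ℕ))
            ((∏ j : Fin e, (1 + PowerSeries.C (β j) * PowerSeries.X)) *
              ∏ l : Fin d, if l ≤ i then PowerSeries.mk (fun m => (-α l) ^ m) else 1)
        else 0).det := by
  classical
  set α' : ℕ → R := fun l => if h : l < d then α ⟨l, h⟩ else 0 with hα'def
  have hα' : ∀ l : Fin d, α' l = α l := by
    intro l
    simp only [hα'def]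
    rw [dif_pos l.2]
  have hser : ∀ i : Fin d,
      (∏ j : Fin e, (1 + PowerSeries.C (β j) * PowerSeries.X)) *
        (∏ l : Fin d, if l ≤ i then PowerSeries.mk (fun m => (-α l) ^ m) else 1) =
      Sser α' β i := by
    intro i
    rw [Sser, coe_lin, Gser]
    congr 1
    have h1 : ∀ l : Fin d, (if l ≤ i then PowerSeries.mk (fun m => (-α l) ^ m) else (1 : PowerSeries R)) =
        (fun l : ℕ => if l ≤ (i : ℕ) then geo (α' l) else 1) l := by
      intro l
      simp only [Fin.le_def, geo, hα' l]
    rw [Finset.prod_congr rfl (fun l _ => h1 l),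
      Fin.prod_univ_eq_prod_range (fun l : ℕ => if l ≤ (i : ℕ) then geo (α' l) else 1) d,
      ← Finset.prod_filter]
    apply Finset.prod_congr _ (fun _ _ => rfl)
    ext l
    have := i.2
    simp only [mem_filter, mem_range]
    omega
  have hmat : (Matrix.of fun i j : Fin d =>
        if (i : ℕ) ≤ e + (j : ℕ) then
          PowerSeries.coeff (e + (j : ℕ) - (i : ℕ))
            ((∏ j : Fin e, (1 + PowerSeries.C (β j) * PowerSeries.X)) *
              ∏ l : Fin d, if l ≤ i then PowerSeries.mk (fun m => (-α l) ^ m) else 1)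
        else 0) = Pm d e (Sser α' β) := by
    ext i j
    simp only [Matrix.of_apply, Pm, ent]
    rw [hser i]
  rw [hmat, det_Pm_Sser,
    ← Fin.prod_univ_eq_prod_range (fun i : ℕ => ∏ j : Fin e, (β j - α' i)) d]
  apply Finset.prod_congr rfl
  intro i _
  rw [hα' i]

end Groth.Agent.Lib.helper13.ToepDet
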