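import Mathlib

/-!
# Trivial Kan fibrations: sections and fibrewise homotopies (helper13)
-/

set_option autoImplicit false

open CategoryTheory Simplicial Opposite SSet MonoidalCategory CartesianMonoidalCategory

namespace Groth.Agent.Lib.helper13.TrivFib

universe u

lemma ι₀_ne_ι₁ {Z : SSet.{u}} (m : SimplexCategoryᵒᵖ) (z z' : Z.obj m) :
    (ι₀ : Z ⟶ Z ⊗ Δ[1]).app m z ≠ (ι₁ : Z ⟶ Z ⊗ Δ[1]).app m z' := by
  induction m using Opposite.rec with
  | _ m =>
    induction m using SimplexCategory.rec with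
    | _ k =>
      intro h
      have h2 := congrArg (fun a => a.2 (0 : Fin (k + 1))) h
      simp at h2

open Classical in
/-- two maps into the source of a trivial Kan fibration with the same image are homotopic -/
theorem homotopy_of_comp_eq {X Y Z : SSet.{u}} (f : X ⟶ Y)
    (hf : (MorphismProperty.monomorphisms SSet.{u}).rlp f) (u v : Z ⟶ X)
    (huv : u ≫ f = v ≫ f) : Nonempty (SSet.Homotopy u v) := by
  let A : (Z ⊗ Δ[1]).Subcomplex :=
    Subfunctor.range (ι₀ : Z ⟶ Z ⊗ Δ[1]) ⊔ Subfunctor.range (ι₁ : Z ⟶ Z ⊗ Δ[1])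
  let t : (A : SSet.{u}) ⟶ X :=
    { app := fun n => ↾fun a =>
        if a.1 ∈ Set.range ((ι₀ : Z ⟶ Z ⊗ Δ[1]).app n) then u.app n a.1.1 else v.app n a.1.1
      naturality := by
        intro n m θ
        ext a
        simp only [TypeCat.Fun.toFun_apply, types_comp_apply, TypeCat.hom_ofHom, TypeCat.Fun.coe_mk,
          TypeCat.ofHom_apply]
        by_cases ha : a.1 ∈ Set.range ((ι₀ : Z ⟶ Z ⊗ Δ[1]).app n)
        · have ha' : ((A : SSet.{u}).map θ a).1 ∈ Set.range ((ι₀ : Z ⟶ Z ⊗ Δ[1]).app m) :=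
            (Subfunctor.range (ι₀ : Z ⟶ Z ⊗ Δ[1])).map θ ha
          rw [if_pos ha, if_pos ha']
          exact NatTrans.naturality_apply u θ a.1.1
        · have ha1 : a.1 ∈ Set.range ((ι₁ : Z ⟶ Z ⊗ Δ[1]).app n) := by
            rcases a.2 with h | h
            · exact absurd h ha
            · exact h
          have ha' : ((A : SSet.{u}).map θ a).1 ∉ Set.range ((ι₀ : Z ⟶ Z ⊗ Δ[1]).app m) := by
            rintro ⟨z, hz⟩
            obtain ⟨z', hz'⟩ := (Subfunctor.range (ι₁ : Z ⟶ Z ⊗ Δ[1])).map θ ha1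
            exact ι₀_ne_ι₁ m z z' (hz.trans hz'.symm)
          rw [if_neg ha, if_neg ha']
          exact NatTrans.naturality_apply v θ a.1.1 }
  have sq : CommSq t A.ι f (fst _ _ ≫ u ≫ f) := ⟨by
    ext n a
    simp only [t, NatTrans.comp_app, TypeCat.Fun.toFun_apply, types_comp_apply, TypeCat.hom_ofHom,
      TypeCat.Fun.coe_mk, TypeCat.ofHom_apply]
    by_cases ha : a.1 ∈ Set.range ((ι₀ : Z ⟶ Z ⊗ Δ[1]).app n)
    · rw [if_pos ha]
      rfl
    · rw [if_neg ha]
      exact (ConcreteCategory.congr_hom (congr_app huv n) a.1.1).symm⟩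
  have hl : HasLiftingProperty A.ι f := hf A.ι (MorphismProperty.monomorphisms.infer_property _)
  let H : Z ⊗ Δ[1] ⟶ X := sq.lift
  have hH : A.ι ≫ H = t := sq.fac_left
  have h0 : ι₀ ≫ H = u := by
    ext n z
    have h := ConcreteCategory.congr_hom (congr_app hH n)
      (⟨(ι₀ : Z ⟶ Z ⊗ Δ[1]).app n z, Or.inl ⟨z, rfl⟩⟩ : A.obj n)
    simp only [t, NatTrans.comp_app, TypeCat.Fun.toFun_apply, types_comp_apply, TypeCat.hom_ofHom,
      TypeCat.Fun.coe_mk, TypeCat.ofHom_apply] at h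
    rw [if_pos ⟨z, rfl⟩] at h
    exact h
  have h1 : ι₁ ≫ H = v := by
    ext n z
    have h := ConcreteCategory.congr_hom (congr_app hH n)
      (⟨(ι₁ : Z ⟶ Z ⊗ Δ[1]).app n z, Or.inr ⟨z, rfl⟩⟩ : A.obj n)
    simp only [t, NatTrans.comp_app, TypeCat.Fun.toFun_apply, types_comp_apply, TypeCat.hom_ofHom,
      TypeCat.Fun.coe_mk, TypeCat.ofHom_apply] at h
    rw [if_neg (by rintro ⟨z', hz'⟩; exact ι₀_ne_ι₁ n z' z hz')] at h
    exact h
  refine ⟨(RelativeMorphism.Homotopy.mk H h0 h1 ?_ : RelativeMorphism.Homotopy _ _)⟩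
  ext n ⟨⟨x, hx⟩, s⟩
  exact hx.elim

end Groth.Agent.Lib.helper13.TrivFib
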