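import Mathlib

/-!
# Truncated polynomial algebras `k[X_i]/(X_i^{d_i})`

* `mem_I_iff`: membership in the monomial ideal `(X_i^{d_i})`.
* `finrank_quot`: `dim_k k[X]/(X_i^{d_i}) = ∏ d_i`.
-/

set_option autoImplicit false

namespace Groth.Agent.Lib.helper13.TruncPoly

open MvPolynomial

variable {k : Type*} [Field k] {σ : Type*}

/-- The ideal `(X_i^{d_i})`. -/
noncomputable def I (k : Type*) [Field k] {σ : Type*} (d : σ → ℕ) : Ideal (MvPolynomial σ k) :=
  Ideal.span (Set.range fun i : σ => (X i : MvPolynomial σ k) ^ d i)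

theorem mem_I_iff (d : σ → ℕ) (x : MvPolynomial σ k) :
    x ∈ I k d ↔ ∀ α ∈ x.support, ∃ i, d i ≤ α i := by
  classical
  have h1 : (Set.range fun i : σ => (X i : MvPolynomial σ k) ^ d i) =
      (fun s => monomial s (1 : k)) '' (Set.range fun i : σ => Finsupp.single i (d i)) := by
    ext y
    simp only [Set.mem_range, Set.mem_image, exists_exists_eq_and]
    constructor
    · rintro ⟨i, rfl⟩
      exact ⟨i, (X_pow_eq_monomial).symm⟩
    · rintro ⟨i, rfl⟩
      exact ⟨i, X_pow_eq_monomial⟩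
  rw [I, h1, mem_ideal_span_monomial_image]
  constructor
  · intro h α hα
    obtain ⟨_, ⟨i, rfl⟩, hle⟩ := h α hα
    exact ⟨i, by simpa using hle i⟩
  · intro h α hα
    obtain ⟨i, hi⟩ := h α hα
    refine ⟨_, ⟨i, rfl⟩, ?_⟩
    intro j
    by_cases hj : j = i
    · subst hj; simpa using hi
    · simp [Ne.symm hj]

/-- The box of exponents `α` with `α i < d i`. -/
def box (d : σ → ℕ) : Set (σ →₀ ℕ) := {α | ∀ i, α i < d i}

theorem isCompl_I_box (d : σ → ℕ) :
    IsCompl ((I k d).restrictScalars k) (restrictSupport k (box d)) := by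
  classical
  constructor
  · rw [Submodule.disjoint_def]
    intro x hx1 hx2
    rw [Submodule.restrictScalars_mem, mem_I_iff] at hx1
    rw [mem_restrictSupport_iff] at hx2
    by_contra hne
    obtain ⟨α, hα⟩ := (MvPolynomial.support_nonempty.mpr hne)
    obtain ⟨i, hi⟩ := hx1 α hα
    have := hx2 (Finset.mem_coe.mpr hα) i
    omega
  · rw [codisjoint_iff, eq_top_iff]
    intro x _
    rw [← MvPolynomial.support_sum_monomial_coeff x,
      ← Finset.sum_filter_add_sum_filter_not x.support (fun α => α ∈ box d)]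
    rw [add_comm]
    apply Submodule.add_mem_sup
    · apply Submodule.sum_mem
      intro α hα
      rw [Submodule.restrictScalars_mem, mem_I_iff]
      intro β hβ
      have hβα : β = α := by
        by_contra hne
        rw [mem_support_iff, coeff_monomial, if_neg (Ne.symm hne)] at hβ
        exact hβ rfl
      subst hβα
      have h2 := (Finset.mem_filter.mp hα).2
      simp only [box, Set.mem_ofPred_eq, not_forall, not_lt] at h2
      exact h2
    · apply Submodule.sum_mem
      intro α hα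
      rw [monomial_mem_restrictSupport]
      exact Or.inl (Finset.mem_filter.mp hα).2

theorem natCard_box [Fintype σ] (d : σ → ℕ) : Nat.card (box d) = ∏ i, d i := by
  classical
  have e1 : box d ≃ {g : σ → ℕ // ∀ i, g i < d i} :=
    { toFun := fun α => ⟨fun i => α.1 i, α.2⟩
      invFun := fun g => ⟨Finsupp.equivFunOnFinite.symm g.1, fun i => by simpa using g.2 i⟩
      left_inv := fun α => by ext; simp
      right_inv := fun g => by ext; simp }
  have e2 : {g : σ → ℕ // ∀ i, g i < d i} ≃ (∀ i, {n : ℕ // n < d i}) :=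
    Equiv.subtypePiEquivPi (p := fun i n => n < d i)
  have e3 : (∀ i, {n : ℕ // n < d i}) ≃ (∀ i, Fin (d i)) :=
    Equiv.piCongrRight fun i => Fin.equivSubtype.symm
  rw [Nat.card_congr (e1.trans (e2.trans e3)), Nat.card_pi]
  simp

theorem finrank_quot [Fintype σ] (d : σ → ℕ) :
    Module.finrank k (MvPolynomial σ k ⧸ I k d) = ∏ i, d i := by
  have e1 : (MvPolynomial σ k ⧸ I k d) ≃ₗ[k] (MvPolynomial σ k ⧸ (I k d).restrictScalars k) :=
    (Submodule.Quotient.restrictScalarsEquiv k (I k d)).symm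
  have e2 := Submodule.quotientEquivOfIsCompl _ _ (isCompl_I_box (k := k) d)
  rw [(e1.trans e2).finrank_eq, Module.finrank_eq_nat_card_basis (basisRestrictSupport k (box d)),
    natCard_box]

/-! ### The ideal generated by `q`-th powers of nilpotents -/

/-- The ideal generated by the `q`-th powers of nilpotent elements. -/
def J (A : Type*) [CommRing A] (q : ℕ) : Ideal A :=
  Ideal.span {y | ∃ x, IsNilpotent x ∧ y = x ^ q}

theorem J_map_equiv {A B : Type*} [CommRing A] [CommRing B] (φ : A ≃+* B) (q : ℕ) :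
    (J A q).map (φ : A →+* B) = J B q := by
  rw [J, J, Ideal.map_span]
  congr 1
  ext y
  simp only [Set.mem_image, Set.mem_ofPred_eq]
  constructor
  · rintro ⟨_, ⟨x, hx, rfl⟩, rfl⟩
    exact ⟨φ x, hx.map φ, by simp⟩
  · rintro ⟨x, hx, rfl⟩
    refine ⟨(φ.symm x) ^ q, ⟨φ.symm x, hx.map φ.symm, rfl⟩, by simp⟩

section CharP

variable (p : ℕ) [hp : Fact p.Prime] [CharP k p] [Fintype σ]

omit [CharP k p] [Fintype σ] in
theorem I_le_I (e : σ → ℕ) (j : ℕ) :
    I k (fun i => p ^ e i) ≤ I k (fun i => p ^ min (e i) j) := by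
  rw [I, Ideal.span_le]
  rintro _ ⟨i, rfl⟩
  have h1 : p ^ e i = p ^ min (e i) j * p ^ (e i - min (e i) j) := by
    rw [← pow_add]; congr 1; omega
  show (X i : MvPolynomial σ k) ^ p ^ e i ∈ I k (fun i => p ^ min (e i) j)
  rw [h1, pow_mul]
  exact Ideal.pow_mem_of_mem _ (Ideal.subset_span
    (Set.mem_range_self (f := fun i => (X i : MvPolynomial σ k) ^ p ^ min (e i) j) i)) _
    (pow_pos hp.out.pos _)

theorem J_quot_eq (e : σ → ℕ) (j : ℕ) :
    J (MvPolynomial σ k ⧸ I k (fun i => p ^ e i)) (p ^ j) =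
      (I k (fun i => p ^ min (e i) j)).map (Ideal.Quotient.mk (I k (fun i => p ^ e i))) := by
  classical
  apply le_antisymm
  · rw [J, Ideal.span_le]
    rintro _ ⟨x, ⟨N, hN⟩, rfl⟩
    obtain ⟨P, rfl⟩ := Ideal.Quotient.mk_surjective x
    have hc : constantCoeff P = 0 := by
      by_contra hne
      rw [← map_pow, Ideal.Quotient.eq_zero_iff_mem, mem_I_iff] at hN
      have h0 : (0 : σ →₀ ℕ) ∈ (P ^ N).support := by
        rw [mem_support_iff, ← constantCoeff_eq, map_pow]
        exact pow_ne_zero _ hne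
      obtain ⟨i, hi⟩ := hN 0 h0
      have : 0 < p ^ e i := pow_pos hp.out.pos _
      simp only [Finsupp.coe_zero, Pi.zero_apply] at hi
      omega
    rw [SetLike.mem_coe, ← map_pow]
    apply Ideal.mem_map_of_mem
    rw [mem_I_iff]
    intro β hβ
    rw [← MvPolynomial.map_iterateFrobenius_expand p P j] at hβ
    have hβ2 : β ∈ (expand (p ^ j) P).support := MvPolynomial.support_map_subset _ _ hβ
    have hβ3 := support_expand_subset P hβ2
    obtain ⟨α, hα, rfl⟩ := Finset.mem_image.mp hβ3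
    have hα0 : α ≠ 0 := by
      rintro rfl
      rw [mem_support_iff, ← constantCoeff_eq] at hα
      exact hα hc
    obtain ⟨i, hi⟩ : ∃ i, α i ≠ 0 := by
      by_contra hcon
      push Not at hcon
      exact hα0 (Finsupp.ext hcon)
    refine ⟨i, ?_⟩
    simp only [Finsupp.coe_smul, Pi.smul_apply, smul_eq_mul]
    calc p ^ min (e i) j ≤ p ^ j := Nat.pow_le_pow_right hp.out.pos (min_le_right _ _)
      _ = p ^ j * 1 := (mul_one _).symm
      _ ≤ p ^ j * α i := Nat.mul_le_mul_left _ (Nat.one_le_iff_ne_zero.mpr hi)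
  · unfold I
    rw [Ideal.map_span, Ideal.span_le]
    rintro _ ⟨_, ⟨i, rfl⟩, rfl⟩
    rw [SetLike.mem_coe]
    show Ideal.Quotient.mk _ ((X i : MvPolynomial σ k) ^ p ^ min (e i) j) ∈ _
    by_cases hij : j ≤ e i
    · rw [min_eq_right hij, map_pow]
      apply Ideal.subset_span
      refine ⟨Ideal.Quotient.mk _ (X i), ⟨p ^ e i, ?_⟩, rfl⟩
      rw [← map_pow, Ideal.Quotient.eq_zero_iff_mem]
      exact Ideal.subset_span ⟨i, rfl⟩
    · rw [min_eq_left (by omega : e i ≤ j)]
      have : Ideal.Quotient.mk (I k (fun i => p ^ e i)) ((X i : MvPolynomial σ k) ^ p ^ e i) = 0 := by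
        rw [Ideal.Quotient.eq_zero_iff_mem]
        exact Ideal.subset_span ⟨i, rfl⟩
      have h0 := Ideal.zero_mem (J (MvPolynomial σ k ⧸ I k (fun i => p ^ e i)) (p ^ j))
      rw [← this] at h0
      exact h0

theorem finrank_quot_J (e : σ → ℕ) (j : ℕ) :
    Module.finrank k ((MvPolynomial σ k ⧸ I k (fun i => p ^ e i)) ⧸
      J (MvPolynomial σ k ⧸ I k (fun i => p ^ e i)) (p ^ j)) = ∏ i, p ^ min (e i) j := by
  rw [J_quot_eq p e j]
  have e1 := DoubleQuot.quotQuotEquivQuotOfLEₐ k (I_le_I (k := k) p e j)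
  rw [← finrank_quot (k := k) (fun i => p ^ min (e i) j)]
  exact e1.toLinearEquiv.finrank_eq

end CharP

end Groth.Agent.Lib.helper13.TruncPoly
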