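import Mathlib

/-!
The polynomial `F = (X+1)^i (X-q)^M` (`q ≠ 0`, characteristic zero) never has two consecutive
vanishing coefficients below its degree; consequence for a pencil condition.
-/

set_option autoImplicit false

namespace Groth.Agent.Lib.helper13.TwoTerm

open Polynomial

variable {k : Type*} [Field k] [CharZero k]

omit [CharZero k] in
theorem pow_pred_mul (p : k[X]) (n : ℕ) : C (n : k) * p ^ (n - 1) * p = C (n : k) * p ^ n := by
  rcases n with _ | n
  · simp
  · simp [pow_succ, mul_assoc]

/-- `F = (X+1)^i (X-q)^M` -/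
noncomputable def F (q : k) (i M : ℕ) : k[X] := (X + 1) ^ i * (X - C q) ^ M

omit [CharZero k] in
theorem ode (q : k) (i M : ℕ) :
    (X + 1) * (X - C q) * derivative (F q i M) =
      (C (i : k) * (X - C q) + C (M : k) * (X + 1)) * F q i M := by
  unfold F
  rw [derivative_mul, derivative_pow, derivative_pow]
  have h1 : derivative (X + 1 : k[X]) = 1 := by simp
  have h2 : derivative (X - C q : k[X]) = 1 := by simp
  rw [h1, h2]
  have e1 := pow_pred_mul (X + 1 : k[X]) i
  have e2 := pow_pred_mul (X - C q : k[X]) M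
  calc _ = (X - C q) * (C (i : k) * (X + 1) ^ (i - 1) * (X + 1)) * (X - C q) ^ M +
        (X + 1) * (X + 1) ^ i * (C (M : k) * (X - C q) ^ (M - 1) * (X - C q)) := by ring
    _ = _ := by rw [e1, e2]; ring

omit [CharZero k] in
theorem rec (q : k) (i M s : ℕ) :
    q * ((s : k) + 2) * (F q i M).coeff (s + 2) =
      ((s : k) - i - M) * (F q i M).coeff s +
        ((1 - q) * ((s : k) + 1) - M + i * q) * (F q i M).coeff (s + 1) := by
  have h : ((X + 1) * (X - C q) * derivative (F q i M)).coeff (s + 1) =
      ((C (i : k) * (X - C q) + C (M : k) * (X + 1)) * F q i M).coeff (s + 1) := by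
    rw [ode]
  have e1 : (X + 1) * (X - C q) * derivative (F q i M) =
      derivative (F q i M) * X ^ 2 + C (1 - q) * (derivative (F q i M) * X) -
        C q * derivative (F q i M) := by
    simp only [map_sub, map_one]
    ring
  have e2 : (C (i : k) * (X - C q) + C (M : k) * (X + 1)) * F q i M =
      C ((i : k) + M) * (F q i M * X) + C ((M : k) - i * q) * F q i M := by
    simp only [map_sub, map_add, map_mul]
    ring
  rw [e1, e2] at h
  simp only [coeff_sub, coeff_add, coeff_C_mul, coeff_mul_X_pow', coeff_mul_X,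
    coeff_derivative] at h
  rcases s with _ | s
  · simp only [show ¬ (2 ≤ 0 + 1) by norm_num, if_false] at h
    push_cast at h ⊢
    linear_combination -h
  · simp only [show (2 ≤ s + 1 + 1) by omega, if_true, show s + 1 + 1 - 2 = s by omega] at h
    push_cast at h ⊢
    linear_combination -h

omit [CharZero k] in
theorem monic_F (q : k) (i M : ℕ) : (F q i M).Monic := by
  unfold F
  have h1 : (X + 1 : k[X]).Monic := by
    have := monic_X_add_C (1 : k)
    simpa using this
  exact (h1.pow i).mul ((monic_X_sub_C q).pow M)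

omit [CharZero k] in
theorem natDegree_F (q : k) (i M : ℕ) : (F q i M).natDegree = i + M := by
  unfold F
  have h1 : (X + 1 : k[X]).Monic := by
    have := monic_X_add_C (1 : k)
    simpa using this
  have h1d : (X + 1 : k[X]).natDegree = 1 := by
    have := natDegree_X_add_C (1 : k)
    simpa using this
  rw [(h1.pow i).natDegree_mul ((monic_X_sub_C q).pow M), h1.natDegree_pow,
    (monic_X_sub_C q).natDegree_pow, h1d, natDegree_X_sub_C]
  ring

/-- No two consecutive vanishing coefficients. -/
theorem coeff_ne (q : k) (hq : q ≠ 0) (i M s : ℕ) (hs : s ≤ i + M) :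
    ¬ ((F q i M).coeff s = 0 ∧ (F q i M).coeff (s + 1) = 0) := by
  rintro ⟨h0, h1⟩
  have key : ∀ t, (F q i M).coeff (s + t) = 0 ∧ (F q i M).coeff (s + t + 1) = 0 := by
    intro t
    induction t with
    | zero => exact ⟨h0, h1⟩
    | succ t ih =>
      refine ⟨ih.2, ?_⟩
      have h := rec q i M (s + t)
      rw [ih.1, ih.2, mul_zero, mul_zero, add_zero] at h
      have h2 : ((s + t + 2 : ℕ) : k) ≠ 0 := Nat.cast_ne_zero.mpr (by omega)
      push_cast at h2
      rcases mul_eq_zero.mp h with h3 | h3
      · rcases mul_eq_zero.mp h3 with h4 | h4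
        · exact absurd h4 hq
        · push_cast at h4
          exact absurd h4 h2
      · exact h3
  have h2 := (key (i + M - s)).1
  rw [show s + (i + M - s) = i + M by omega] at h2
  have h3 := (monic_F q i M).coeff_natDegree
  rw [natDegree_F] at h3
  rw [h3] at h2
  exact one_ne_zero h2

omit [CharZero k] in
theorem coeff_pow_mul_lin (q α β : k) (M : ℕ) :
    ((X - C q) ^ M * (C α * X + C β)).coeff (M + 1) = α := by
  have e : (X - C q) ^ M * (C α * X + C β) =
      C α * ((X - C q) ^ M * X) + C β * (X - C q) ^ M := by ring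
  have hm : ((X - C q) ^ M).Monic := (monic_X_sub_C q).pow M
  have hd : ((X - C q) ^ M).natDegree = M := by
    rw [(monic_X_sub_C q).natDegree_pow, natDegree_X_sub_C, mul_one]
  have h1 : ((X - C q) ^ M).coeff M = 1 := by
    have := hm.coeff_natDegree
    rwa [hd] at this
  have h2 : ((X - C q) ^ M).coeff (M + 1) = 0 :=
    coeff_eq_zero_of_natDegree_lt (by omega)
  rw [e, coeff_add, coeff_C_mul, coeff_C_mul, coeff_mul_X, h1, h2]
  ring

omit [CharZero k] in
theorem coeff_pow_mul_C (q β : k) (M : ℕ) :
    ((X - C q) ^ M * (C 0 * X + C β)).coeff M = β := by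
  have hm : ((X - C q) ^ M).Monic := (monic_X_sub_C q).pow M
  have hd : ((X - C q) ^ M).natDegree = M := by
    rw [(monic_X_sub_C q).natDegree_pow, natDegree_X_sub_C, mul_one]
  have h1 : ((X - C q) ^ M).coeff M = 1 := by
    have := hm.coeff_natDegree
    rwa [hd] at this
  rw [map_zero, zero_mul, zero_add, mul_comm, coeff_C_mul, h1, mul_one]

theorem finrank_le_one (a b i : ℕ) (ha : 0 < a) (hiab : i < a + b)
    (q : k) (hq : q ≠ 0) :
    Module.finrank k ↥((Polynomial.degreeLE k ↑(a + b - i) ⊓
      LinearMap.ker ((Polynomial.lcoeff k a).comp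
        (LinearMap.mulLeft k (((X : Polynomial k) + 1) ^ i)))) ⊓
      (Ideal.span {(X - C q) ^ (a + b - i - 1)}).restrictScalars k) ≤ 1 := by
  obtain ⟨M, hM⟩ : ∃ M, a + b - i = M + 1 := ⟨a + b - i - 1, by omega⟩
  obtain ⟨a', rfl⟩ : ∃ a', a = a' + 1 := ⟨a - 1, by omega⟩
  rw [show a' + 1 + b - i - 1 = M by omega, hM]
  have hne := coeff_ne q hq i M a' (by omega)
  have hstruct : ∀ G : k[X], G ∈ ((Polynomial.degreeLE k ↑(M + 1) ⊓
      LinearMap.ker ((Polynomial.lcoeff k (a' + 1)).comp
        (LinearMap.mulLeft k (((X : Polynomial k) + 1) ^ i)))) ⊓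
      (Ideal.span {(X - C q) ^ M}).restrictScalars k) →
      ∃ α β : k, G = (X - C q) ^ M * (C α * X + C β) ∧
        α * (F q i M).coeff a' + β * (F q i M).coeff (a' + 1) = 0 := by
    intro G hG
    obtain ⟨⟨hdeg, hker⟩, hspan⟩ := hG
    rw [SetLike.mem_coe, Submodule.restrictScalars_mem, Ideal.mem_span_singleton] at hspan
    obtain ⟨L, rfl⟩ := hspan
    rw [SetLike.mem_coe, Polynomial.mem_degreeLE] at hdeg
    have hL : L.natDegree ≤ 1 := by
      by_cases hL0 : L = 0
      · simp [hL0]
      · have hmon : ((X - C q) ^ M).Monic := (monic_X_sub_C q).pow M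
        have h1 : ((X - C q) ^ M * L).natDegree = M + L.natDegree := by
          rw [hmon.natDegree_mul' hL0, (monic_X_sub_C q).natDegree_pow, natDegree_X_sub_C,
            mul_one]
        have h2 : ((X - C q) ^ M * L).natDegree ≤ M + 1 := natDegree_le_of_degree_le hdeg
        omega
    obtain ⟨α, β, rfl⟩ := exists_eq_X_add_C_of_natDegree_le_one hL
    refine ⟨α, β, rfl, ?_⟩
    rw [SetLike.mem_coe, LinearMap.mem_ker, LinearMap.comp_apply, LinearMap.mulLeft_apply,
      lcoeff_apply] at hker
    have e : (X + 1) ^ i * ((X - C q) ^ M * (C α * X + C β)) =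
        C α * (F q i M * X) + C β * F q i M := by
      unfold F
      ring
    rw [e] at hker
    simpa only [coeff_add, coeff_C_mul, coeff_mul_X] using hker
  by_cases hfa : (F q i M).coeff (a' + 1) = 0
  · have hfa1 : (F q i M).coeff a' ≠ 0 := fun h => hne ⟨h, hfa⟩
    have hinj : Function.Injective ((lcoeff k M).comp (((Polynomial.degreeLE k ↑(M + 1) ⊓
      LinearMap.ker ((Polynomial.lcoeff k (a' + 1)).comp
        (LinearMap.mulLeft k (((X : Polynomial k) + 1) ^ i)))) ⊓
      (Ideal.span {(X - C q) ^ M}).restrictScalars k).subtype)) := by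
      rw [← LinearMap.ker_eq_bot, LinearMap.ker_eq_bot']
      rintro ⟨G, hG⟩ h0
      obtain ⟨α, β, rfl, hαβ⟩ := hstruct G hG
      rw [hfa, mul_zero, add_zero] at hαβ
      have hα : α = 0 := by
        rcases mul_eq_zero.mp hαβ with h | h
        · exact h
        · exact absurd h hfa1
      subst hα
      rw [LinearMap.comp_apply, Submodule.subtype_apply, lcoeff_apply, coeff_pow_mul_C] at h0
      subst h0
      ext1
      simp
    calc _ ≤ Module.finrank k k := LinearMap.finrank_le_finrank_of_injective hinj
      _ = 1 := Module.finrank_self k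
  · have hinj : Function.Injective ((lcoeff k (M + 1)).comp
      (((Polynomial.degreeLE k ↑(M + 1) ⊓
      LinearMap.ker ((Polynomial.lcoeff k (a' + 1)).comp
        (LinearMap.mulLeft k (((X : Polynomial k) + 1) ^ i)))) ⊓
      (Ideal.span {(X - C q) ^ M}).restrictScalars k).subtype)) := by
      rw [← LinearMap.ker_eq_bot, LinearMap.ker_eq_bot']
      rintro ⟨G, hG⟩ h0
      obtain ⟨α, β, rfl, hαβ⟩ := hstruct G hG
      rw [LinearMap.comp_apply, Submodule.subtype_apply, lcoeff_apply, coeff_pow_mul_lin] at h0
      subst h0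
      rw [zero_mul, zero_add] at hαβ
      have hβ : β = 0 := by
        rcases mul_eq_zero.mp hαβ with h | h
        · exact h
        · exact absurd h hfa
      subst hβ
      ext1
      simp
    calc _ ≤ Module.finrank k k := LinearMap.finrank_le_finrank_of_injective hinj
      _ = 1 := Module.finrank_self k

end Groth.Agent.Lib.helper13.TwoTerm
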