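import Groth.Agent.Lib.helper13.USplit
import Groth.Agent.Lib.helper13.MultiSym
import Groth.Agent.S8651

/-!
The free augmented `K`-λ-algebra `Fr K S` on a set `S` of generators, its description by the
γ-operations of the generators, the splitting maps into the split models and the transfer theorem:
an element of `Fr K S` whose images in all split models lie in the `n`-th power of the
augmentation ideal is a polynomial of weight `≥ n` in the `γ^j` of the generators
(helper13's helper library).
-/

set_option autoImplicit false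
set_option linter.style.haveILetI false
set_option linter.unusedSectionVars false

namespace Groth.Agent.Lib.helper13.UFree

open LambdaRing MvPolynomial Finset
open Groth.Agent.Lib.helper13.UModel Groth.Agent.Lib.helper13.USplit
  Groth.Agent.Lib.helper13.GammaBasic Groth.Agent.Lib.helper13.MultiSym

universe u v w

section Filt

variable {K : Type u} [CommRing K] {B : Type v} [CommRing B] [Algebra K B]

/-- A multiplicative decreasing filtration by ideals, starting with the whole ring. -/
structure GoodFil (V : ℕ → Ideal B) : Prop where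
  mul : ∀ a b, V a * V b ≤ V (a + b)
  anti : ∀ a b, a ≤ b → V b ≤ V a
  zero : V 0 = ⊤

variable {V : ℕ → Ideal B}

theorem GoodFil.mul_mem (hV : GoodFil V) {a b : ℕ} {x y : B} (hx : x ∈ V a) (hy : y ∈ V b) :
    x * y ∈ V (a + b) := hV.mul a b (Ideal.mul_mem_mul hx hy)

theorem GoodFil.one_mem (hV : GoodFil V) : (1 : B) ∈ V 0 := by
  rw [hV.zero]; trivial

theorem GoodFil.pow_mem (hV : GoodFil V) {a : ℕ} {x : B} (hx : x ∈ V a) (e : ℕ) :
    x ^ e ∈ V (a * e) := by
  induction e with
  | zero => rw [pow_zero, Nat.mul_zero]; exact hV.one_mem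
  | succ e ih => rw [pow_succ, Nat.mul_succ]; exact hV.mul_mem ih hx

theorem GoodFil.prod_mem (hV : GoodFil V) {ι : Type*} (s : Finset ι) (x : ι → B) (n : ι → ℕ)
    (h : ∀ i ∈ s, x i ∈ V (n i)) : ∏ i ∈ s, x i ∈ V (∑ i ∈ s, n i) := by
  classical
  induction s using Finset.induction_on with
  | empty => simpa using hV.one_mem
  | insert a s ha ih =>
    rw [Finset.prod_insert ha, Finset.sum_insert ha]
    exact hV.mul_mem (h a (Finset.mem_insert_self a s))
      (ih fun i hi => h i (Finset.mem_insert_of_mem hi))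

/-- A polynomial all of whose monomials have weight `≥ n`, evaluated at elements `g v ∈ V (wf v)`,
lies in `V n`. -/
theorem GoodFil.aeval_mem (hV : GoodFil V) {σ : Type*} (g : σ → B) (wf : σ → ℕ)
    (hg : ∀ v, g v ∈ V (wf v)) (q : MvPolynomial σ K) (n : ℕ)
    (hq : ∀ t ∈ q.support, n ≤ wt wf t) : aeval g q ∈ V n := by
  rw [aeval_def, eval₂_eq]
  refine Ideal.sum_mem _ fun t ht => Ideal.mul_mem_left _ _ ?_
  have h1 := hV.prod_mem t.support (fun i => g i ^ t i) (fun i => wf i * t i)
    (fun i _ => hV.pow_mem (hg i) (t i))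
  exact hV.anti _ _ (hq t ht) h1

end Filt

section FilGood

variable {K : Type u} {A : Type v} [CommRing K] [CommRing A] [LambdaOps A] (ε : A →+* K)

theorem gammaFil_good : GoodFil (gammaFil ε) where
  mul a b := by
    rw [Ideal.mul_le]
    intro x hx y hy
    exact mul_mem_gammaFil ε hx hy
  anti a b h := gammaFil_anti ε h
  zero := gammaFil_zero ε

/-- The γ-filtration is the smallest good filtration `V` with `γ^i(z) ∈ V i` for all `z` of
augmentation zero. -/
theorem gammaFil_le_of_good {V : ℕ → Ideal A} (hV : GoodFil V)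
    (h : ∀ z : A, ε z = 0 → ∀ i : ℕ, gamma i z ∈ V i) (k : ℕ) : gammaFil ε k ≤ V k := by
  unfold gammaFil
  apply Ideal.span_le.mpr
  rintro y ⟨l, hl, hn, rfl⟩
  have key : ∀ l : List (ℕ × A), (∀ p ∈ l, ε p.2 = 0) →
      (l.map fun p => gamma p.1 p.2).prod ∈ V (l.map Prod.fst).sum := by
    intro l
    induction l with
    | nil => intro _; simpa using hV.one_mem
    | cons q l ih =>
      intro hl
      simp only [List.map_cons, List.prod_cons, List.sum_cons]
      exact hV.mul_mem (h q.2 (hl q List.mem_cons_self) q.1)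
        (ih fun p hp => hl p (List.mem_cons_of_mem _ hp))
  exact hV.anti _ _ hn (key l hl)

end FilGood

section Free

variable (K : Type u) [CommRing K] [BinomialRing K] (S : Type v)

/-- The free augmented `K`-λ-algebra on `S`. -/
abbrev Fr : Type (max u v) := Mod K S PEmpty.{1}

/-- The generators. -/
noncomputable def xg (s : S) : Fr K S := X (Sum.inl (s, 0))

/-- The polynomial ring on the `γ^{j+1}(x_s)`. -/
noncomputable def Gam : MvPolynomial (S × ℕ) K →ₐ[K] Fr K S :=
  aeval fun v : S × ℕ => gamma (v.2 + 1) (xg K S v.1)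

theorem Gam_X (s : S) (j : ℕ) : Gam K S (X (s, j)) = gamma (j + 1) (xg K S s) := by
  simp [Gam]

theorem Gam_surjective : Function.Surjective (Gam K S) := by
  intro p
  have hT : ∀ (s : S) (k : ℕ), LambdaOps.lam k (xg K S s) ∈ (Gam K S).range.toSubring := by
    intro s k
    apply lam_mem_of_gamma_mem
    intro j hj
    obtain ⟨j, rfl⟩ : ∃ j', j = j' + 1 := ⟨j - 1, by omega⟩
    exact ⟨X (s, j), Gam_X K S s j⟩
  have : p ∈ (Gam K S).range := by
    induction p using MvPolynomial.induction_on with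
    | C a => exact ⟨C a, by simp [Gam]⟩
    | add p q hp hq => exact Subalgebra.add_mem _ hp hq
    | mul_X p i hp =>
      refine Subalgebra.mul_mem _ hp ?_
      rcases i with ⟨s, i⟩ | t
      · have := hT s (i + 1)
        rw [xg, lam_X_inl] at this
        exact this
      · exact t.elim
  exact this

/-- The split model in `N` variables per generator. -/
abbrev Sp (N : ℕ) : Type (max u v) := Mod K PEmpty.{1} (S × Fin N)

/-- The splitting map `x_s ↦ ∑_l a_{s,l}`. -/
noncomputable def piN (N : ℕ) : Fr K S →ₐ[K] Sp K S N :=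
  ev (fun s : S => ∑ l : Fin N, (X (Sum.inr (s, l)) : Sp K S N)) (fun t : PEmpty.{1} => t.elim)

end Free

section Aux

theorem mem_pow_of_rename_mem_pow {σ τ R : Type*} [CommRing R] (f : σ → τ)
    (hf : Function.Injective f) (p : MvPolynomial σ R) (n : ℕ)
    (h : rename f p ∈ idealOfVars τ R ^ n) : p ∈ idealOfVars σ R ^ n := by
  classical
  rw [mem_pow_idealOfVars_iff] at h ⊢
  intro x hx
  have := h (Finsupp.mapDomain f x) (by
    rw [support_rename_of_injective hf]
    exact Finset.mem_image_of_mem _ hx)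
  rwa [Finsupp.degree_mapDomain] at this

theorem wt_mapDomain {σ τ : Type*} (wf : τ → ℕ) (f : σ → τ) (hf : Function.Injective f)
    (t : σ →₀ ℕ) : wt wf (Finsupp.mapDomain f t) = wt (fun i => wf (f i)) t :=
  Finsupp.sum_mapDomain_index_inj (h := fun i n => wf i * n) hf (s := t)

end Aux

section Split

variable {K : Type u} [CommRing K] [BinomialRing K] [LambdaOps K] (hKb : IsBinomial K)
  (S : Type v)

include hKb in
theorem piN_lam (N : ℕ) (p : Fr K S) (n : ℕ) :
    piN K S N (LambdaOps.lam n p) = LambdaOps.lam n (piN K S N p) :=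
  ev_lam hKb mod_isSpecial (mod_isLambdaAlg hKb _ _) _ _ (fun t => t.elim) p n

include hKb in
theorem piN_gamma (N : ℕ) (p : Fr K S) (n : ℕ) :
    piN K S N (gamma n p) = gamma n (piN K S N p) :=
  map_gamma ((piN K S N : Fr K S →ₐ[K] Sp K S N) : Fr K S →+* Sp K S N) p
    (fun k => piN_lam hKb S N p k) n

theorem piN_xg (N : ℕ) (s : S) :
    piN K S N (xg K S s) = ∑ l : Fin N, (X (Sum.inr (s, l)) : Sp K S N) := by
  rw [xg, piN, ev_X_inl, LambdaOps.lam_one]

theorem aug_piN (N : ℕ) (p : Fr K S) :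
    aug PEmpty.{1} (S × Fin N) (piN K S N p) = aug S PEmpty.{1} p := by
  have h : ((aug PEmpty.{1} (S × Fin N) : Sp K S N →ₐ[K] K).comp (piN K S N)) =
      aug S PEmpty.{1} := by
    apply MvPolynomial.algHom_ext
    rintro (⟨s, i⟩ | t)
    · rw [AlgHom.comp_apply, aug_eq_constantCoeff (S := S), constantCoeff_X, piN, ev_X_inl,
        aug_eq_zero_iff]
      have h1 : (∑ l : Fin N, (X (Sum.inr (s, l)) : Sp K S N)) ∈
          IK K PEmpty.{1} (S × Fin N) ^ 1 := by
        rw [pow_one]
        exact Ideal.sum_mem _ fun l _ => X_mem_idealOfVars _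
      have h2 := lam_mem_pow K PEmpty.{1} (S × Fin N) (i + 1) (by omega) 1 h1
      rwa [pow_one] at h2
    · exact t.elim
  exact DFunLike.congr_fun h p

include hKb in
theorem piN_Gam_X (N : ℕ) (s : S) (j : ℕ) :
    piN K S N (Gam K S (X (s, j))) =
      rename (fun l : Fin N => (Sum.inr (s, l) : Var PEmpty.{1} (S × Fin N)))
        (esymm (Fin N) K (j + 1)) := by
  rw [Gam_X, piN_gamma hKb, piN_xg]
  have h := Groth.Agent.S8651.result (Sp K S N) (mod_isSpecial.lam_one_eq_zero) N
    (fun l => 1 + X (Sum.inr (s, l))) (fun l k hk => lam_line (s, l) k hk) (j + 1)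
  have e : ∑ l : Fin N, (1 + X (Sum.inr (s, l)) : Sp K S N) - (N : Sp K S N) =
      ∑ l : Fin N, X (Sum.inr (s, l)) := by
    rw [Finset.sum_add_distrib]
    simp
  rw [e] at h
  rw [h, esymm, map_sum]
  refine Finset.sum_congr rfl fun t _ => ?_
  rw [map_prod]
  refine Finset.prod_congr rfl fun i _ => ?_
  rw [rename_X]
  ring

/-- Restriction of `Gam` to the variables `(s, j)` with `j < N`. -/
noncomputable def incl (N : ℕ) : S × Fin N → S × ℕ := Prod.map id Fin.val

theorem incl_injective (N : ℕ) : Function.Injective (incl S N) :=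
  Function.Injective.prodMap Function.injective_id Fin.val_injective

include hKb in
theorem piN_Gam_rename (N : ℕ) (q : MvPolynomial (S × Fin N) K) :
    piN K S N (Gam K S (rename (incl S N) q)) =
      rename (Sum.inr : S × Fin N → Var PEmpty.{1} (S × Fin N)) (EAll K S N q) := by
  have h : ((piN K S N).comp ((Gam K S).comp (rename (incl S N)))) =
      (rename (Sum.inr : S × Fin N → Var PEmpty.{1} (S × Fin N))).comp (EAll K S N) := by
    apply MvPolynomial.algHom_ext
    rintro ⟨s, l⟩
    simp only [AlgHom.comp_apply, rename_X, incl, Prod.map, id]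
    rw [piN_Gam_X hKb, EAll, aeval_X, eFam, rename_rename]
    rfl
  exact DFunLike.congr_fun h q

include hKb in
/-- The transfer theorem for the free λ-ring. -/
theorem transfer (f : Fr K S) (n : ℕ)
    (h : ∀ N : ℕ, piN K S N f ∈ IK K PEmpty.{1} (S × Fin N) ^ n) :
    ∃ q : MvPolynomial (S × ℕ) K, Gam K S q = f ∧
      ∀ t ∈ q.support, n ≤ wt (fun v : S × ℕ => v.2 + 1) t := by
  classical
  obtain ⟨q, hq⟩ := Gam_surjective K S f
  let N := (q.vars.sup fun v => v.2) + 1
  have hvars : (q.vars : Set (S × ℕ)) ⊆ Set.range (incl S N) := by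
    intro v hv
    have : v.2 < N := Nat.lt_succ_of_le (Finset.le_sup (f := fun v : S × ℕ => v.2) hv)
    exact ⟨(v.1, ⟨v.2, this⟩), rfl⟩
  obtain ⟨q', hq'⟩ :=
    exists_rename_eq_of_vars_subset_range q (incl S N) (incl_injective S N) hvars
  refine ⟨q, hq, ?_⟩
  have h1 := h N
  rw [← hq, ← hq', piN_Gam_rename hKb] at h1
  have h2 := mem_pow_of_rename_mem_pow _ Sum.inr_injective _ _ h1
  have h3 := wt_le_of_mem_pow (fun v : S × Fin N => (v.2 : ℕ) + 1) (EAll K S N)
    (EAll_injective K S N) (fun v => by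
      rw [EAll, aeval_X]
      exact eFam_isHomogeneous K S N v.1 v.2) q' n h2
  intro t ht
  rw [← hq', support_rename_of_injective (incl_injective S N)] at ht
  obtain ⟨t', ht', rfl⟩ := Finset.mem_image.mp ht
  rw [wt_mapDomain _ _ (incl_injective S N)]
  exact h3 t' ht'

end Split

section Apply

variable {K : Type u} [CommRing K] [BinomialRing K] [LambdaOps K] (hKb : IsBinomial K)
  (hK : IsSpecial K)
  {A : Type w} [CommRing A] [LambdaOps A] [Algebra K A] (hA : IsSpecial A)
  (ε : A →ₐ[K] K) (hε : IsAugLambdaAlg K A ε)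
  {S : Type v} (f : S → A) (hf : ∀ s, ε (f s) = 0)

/-- The evaluation map of the free λ-ring. -/
noncomputable def evA : Fr K S →ₐ[K] A := ev f (fun t : PEmpty.{1} => t.elim)

include hKb hA hε in
theorem evA_lam (p : Fr K S) (n : ℕ) :
    evA f (LambdaOps.lam n p) = LambdaOps.lam n (evA f p) :=
  ev_lam hKb hA hε.isLambdaAlg f _ (fun t => t.elim) p n

include hKb hA hε in
theorem evA_gamma (p : Fr K S) (n : ℕ) : evA f (gamma n p) = gamma n (evA f p) :=
  map_gamma ((evA f : Fr K S →ₐ[K] A) : Fr K S →+* A) p (fun k => evA_lam hKb hA ε hε f p k) n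

theorem evA_xg (s : S) : evA f (xg K S s) = f s := by
  rw [xg, evA, ev_X_inl, LambdaOps.lam_one]

include hε hf in
theorem eps_evA (p : Fr K S) : ε (evA f p) = aug S PEmpty.{1} p := by
  have h : (ε.comp (evA f : Fr K S →ₐ[K] A)) = aug S PEmpty.{1} := by
    apply MvPolynomial.algHom_ext
    rintro (⟨s, i⟩ | t)
    · rw [AlgHom.comp_apply, aug_eq_constantCoeff, constantCoeff_X, evA, ev_X_inl, hε.map_lam,
        hf]
      exact Groth.Agent.Lib.helper13.SubLam.lam_zero_arg (i + 1) (Nat.succ_ne_zero i)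
    · exact t.elim
  exact DFunLike.congr_fun h p

include hKb hA hε in
theorem evA_Gam (q : MvPolynomial (S × ℕ) K) :
    evA f (Gam K S q) = aeval (fun v : S × ℕ => gamma (v.2 + 1) (f v.1)) q := by
  have h : (evA f : Fr K S →ₐ[K] A).comp (Gam K S) =
      aeval (fun v : S × ℕ => gamma (v.2 + 1) (f v.1)) := by
    apply MvPolynomial.algHom_ext
    rintro ⟨s, j⟩
    rw [AlgHom.comp_apply, Gam_X, evA_gamma hKb hA ε hε, evA_xg, aeval_X]
  exact DFunLike.congr_fun h q

include hKb hA hε in
/-- The `γ^i` of an element of augmentation zero lies in the `i`-th step of any good filtration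
containing the `γ^j` of the generators in degree `j`. -/
theorem gamma_mem_good {V : ℕ → Ideal A} (hV : GoodFil V)
    (hgen : ∀ (s : S) (j : ℕ), gamma (j + 1) (f s) ∈ V (j + 1))
    (p : Fr K S) (hp : aug S PEmpty.{1} p = 0) (i : ℕ) : gamma i (evA f p) ∈ V i := by
  have h : ∀ N : ℕ, piN K S N (gamma i p) ∈ IK K PEmpty.{1} (S × Fin N) ^ i := by
    intro N
    rw [piN_gamma hKb]
    apply gamma_mem_pow
    rw [← aug_eq_zero_iff, aug_piN, hp]
  obtain ⟨q, hq, hw⟩ := transfer hKb S (gamma i p) i h
  rw [← evA_gamma hKb hA ε hε, ← hq, evA_Gam hKb hA ε hε]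
  exact hV.aeval_mem (K := K) _ (fun v : S × ℕ => v.2 + 1) (fun v => hgen v.1 v.2) q i hw

include hKb hA hε hf in
/-- If the `f s` generate `A` as a `K`-λ-algebra, the γ-filtration is the smallest good filtration
containing the `γ^j(f s)` in degree `j`. -/
theorem gammaFil_le_good (hsurj : Function.Surjective (evA (K := K) f)) {V : ℕ → Ideal A}
    (hV : GoodFil V) (hgen : ∀ (s : S) (j : ℕ), gamma (j + 1) (f s) ∈ V (j + 1)) (k : ℕ) :
    gammaFil (ε : A →+* K) k ≤ V k := by
  refine gammaFil_le_of_good (ε : A →+* K) hV ?_ k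
  intro z hz i
  obtain ⟨p, rfl⟩ := hsurj z
  refine gamma_mem_good hKb hA ε hε f hV hgen p ?_ i
  rw [← eps_evA ε hε f hf]
  exact hz

include hKb hA hε hf in
/-- `γ^{m+1}` acts on `Fil^{m+1} / Fil^{m+2}` as `(-1)^m m!`. -/
theorem gamma_sub_mem_gammaFil (hsurj : Function.Surjective (evA (K := K) f)) (m : ℕ) (z : A)
    (hz : z ∈ gammaFil (ε : A →+* K) (m + 1)) :
    gamma (m + 1) z - (-1) ^ m * (m.factorial : A) * z ∈ gammaFil (ε : A →+* K) (m + 2) := by
  obtain ⟨z', hz', rfl⟩ := exists_mem_gammaFil_of_surjective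
    ((aug S PEmpty.{1} : Fr K S →ₐ[K] K) : Fr K S →+* K) (ε : A →+* K)
    ((evA f : Fr K S →ₐ[K] A) : Fr K S →+* A) hsurj
    (fun b hb => by
      obtain ⟨a, rfl⟩ := hsurj b
      refine ⟨a, ?_, rfl⟩
      simp only [RingHom.coe_coe] at hb ⊢
      rw [← eps_evA ε hε f hf]
      exact hb)
    (fun k a => evA_gamma hKb hA ε hε f a k) hz
  simp only [RingHom.coe_coe]
  have h : ∀ N : ℕ, piN K S N (gamma (m + 1) z' - (-1) ^ m * (m.factorial : Fr K S) * z') ∈
      IK K PEmpty.{1} (S × Fin N) ^ (m + 2) := by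
    intro N
    have h1 : piN K S N z' ∈ gammaFil
        ((aug PEmpty.{1} (S × Fin N) : Sp K S N →ₐ[K] K) : Sp K S N →+* K) (m + 1) :=
      map_mem_gammaFil ((aug S PEmpty.{1} : Fr K S →ₐ[K] K) : Fr K S →+* K)
        ((aug PEmpty.{1} (S × Fin N) : Sp K S N →ₐ[K] K) : Sp K S N →+* K)
        ((piN K S N : Fr K S →ₐ[K] Sp K S N) : Fr K S →+* Sp K S N)
        (fun a => aug_piN S N a) (fun k a => piN_gamma hKb S N a k) hz'
    have h2 := gammaFil_le_pow PEmpty.{1} (S × Fin N) (m + 1) h1
    have h3 := gamma_sub_mem K PEmpty.{1} (S × Fin N) m h2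
    rw [map_sub, map_mul, map_mul, map_pow, map_neg, map_one, map_natCast, piN_gamma hKb]
    exact h3
  obtain ⟨q, hq, hw⟩ := transfer hKb S _ (m + 2) h
  have e : gamma (m + 1) (evA f z') - (-1) ^ m * (m.factorial : A) * evA f z' =
      evA f (gamma (m + 1) z' - (-1) ^ m * (m.factorial : Fr K S) * z') := by
    rw [map_sub, map_mul, map_mul, map_pow, map_neg, map_one, map_natCast,
      evA_gamma hKb hA ε hε]
  rw [e, ← hq, evA_Gam hKb hA ε hε]
  exact (gammaFil_good (ε : A →+* K)).aeval_mem (K := K) _ (fun v : S × ℕ => v.2 + 1)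
    (fun v => gamma_mem_gammaFil (ε : A →+* K) (hf v.1) (v.2 + 1)) q (m + 2) hw

end Apply

section Canon

variable {K : Type u} [CommRing K] [BinomialRing K] [LambdaOps K]
  {A : Type w} [CommRing A] [LambdaOps A] [Algebra K A] (ε : A →ₐ[K] K)

/-- Every augmented `K`-algebra is generated by its augmentation ideal. -/
theorem evA_ker_surjective :
    Function.Surjective (evA (K := K) (fun s : {a : A // ε a = 0} => s.1)) := by
  intro a
  have h0 : ε (a - algebraMap K A (ε a)) = 0 := by
    rw [map_sub, ε.commutes]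
    simp
  refine ⟨C (ε a) + xg K _ ⟨a - algebraMap K A (ε a), h0⟩, ?_⟩
  rw [map_add, evA_xg, evA, ev_C]
  ring

end Canon

end Groth.Agent.Lib.helper13.UFree
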