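import Groth.Agent.Lib.helper13.LamGhost
import Groth.Agent.Lib.helper13.SubLam

/-!
The universal model `MvPolynomial ((S × ℕ) ⊕ T) K` over a binomial ring `K`: the free
(augmented) `K`-λ-algebra on generators `x_s` (`s : S`), with `X (inl (s, i)) = λ^{i+1}(x_s)`,
together with elements `a_t = X (inr t)` such that `1 + a_t` is a line element.
Its λ-structure is obtained from ghost coordinates over `FractionRing K`
(helper13's helper library).
-/

set_option autoImplicit false
set_option linter.style.haveILetI false
set_option warn.classDefReducibility false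
set_option linter.unusedSectionVars false

namespace Groth.Agent.Lib.helper13.UModel

open LambdaRing MvPolynomial Finset
open Groth.Agent.Lib.helper13.Newton Groth.Agent.Lib.helper13.NewtonLambda
  Groth.Agent.Lib.helper13.LamGhost Groth.Agent.Lib.helper13.SubLam
  Groth.Agent.Lib.helper13.PolyExist Groth.Agent.Lib.helper13.BinomialSpecial

universe u v w

/-- The variables of the model. -/
abbrev Var (S : Type v) (T : Type w) : Type (max v w) := (S × ℕ) ⊕ T

section Ghost

variable (K : Type u) [CommRing K] [BinomialRing K] (S : Type v) (T : Type w)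

/-- The ℚ-algebra structure on the total ring of fractions of a binomial ring. -/
noncomputable scoped instance ratAlg : Algebra ℚ (FractionRing K) := ratAlgebraFrac K

/-- The ghost ring. -/
abbrev Gh : Type (max u v w) := MvPolynomial (Var S T) (FractionRing K)

/-- The Adams operations on the variables of the ghost ring. -/
noncomputable def psiFun (k : ℕ) : Var S T → Gh K S T
  | Sum.inl (s, j) => X (Sum.inl (s, (j + 1) * k - 1))
  | Sum.inr t => (1 + X (Sum.inr t)) ^ k - 1

/-- The Adams operations of the ghost ring. -/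
noncomputable def psiHom (k : ℕ) : Gh K S T →ₐ[FractionRing K] Gh K S T := aeval (psiFun K S T k)

theorem psiHom_X_inl (k : ℕ) (s : S) (j : ℕ) :
    psiHom K S T k (X (Sum.inl (s, j))) = X (Sum.inl (s, (j + 1) * k - 1)) := by
  simp [psiHom, psiFun]

theorem psiHom_X_inr (k : ℕ) (t : T) :
    psiHom K S T k (X (Sum.inr t)) = (1 + X (Sum.inr t)) ^ k - 1 := by
  simp [psiHom, psiFun]

theorem psiHom_line (k : ℕ) (t : T) :
    psiHom K S T k (1 + X (Sum.inr t)) = (1 + X (Sum.inr t)) ^ k := by
  rw [map_add, map_one, psiHom_X_inr]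
  ring

/-- The system of Adams operations of the ghost ring. -/
noncomputable def psiSys : PsiSys (Gh K S T) where
  ψ k := (psiHom K S T k : Gh K S T →+* Gh K S T)
  ψ_one := by
    apply MvPolynomial.ringHom_ext
    · intro r
      simp [psiHom]
    · rintro ((⟨s, j⟩) | t)
      · simp [psiHom_X_inl]
      · simp [psiHom_X_inr]
  ψ_mul := by
    intro j k hj hk
    apply MvPolynomial.ringHom_ext
    · intro r
      simp [psiHom]
    · rintro ((⟨s, i⟩) | t)
      · simp only [RingHom.coe_coe, RingHom.coe_comp, Function.comp_apply, psiHom_X_inl]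
        congr 3
        have h1 : 1 ≤ (i + 1) * k := Nat.mul_pos (Nat.succ_pos i) hk
        rw [Nat.sub_add_cancel h1]
        congr 1
        ring
      · simp only [RingHom.coe_coe, RingHom.coe_comp, Function.comp_apply, psiHom_X_inr,
          map_sub, map_pow, map_one, psiHom_line]
        rw [← pow_mul]

/-- The λ-structure of the ghost ring. -/
noncomputable def ghLam : LambdaOps (Gh K S T) := (psiSys K S T).lambdaOps

theorem gh_isSpecial : @IsSpecial (Gh K S T) _ (ghLam K S T) := (psiSys K S T).isSpecial

theorem gh_adamsOp (k : ℕ) (hk : 1 ≤ k) (p : Gh K S T) :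
    @adamsOp (Gh K S T) _ (ghLam K S T) k p = psiHom K S T k p :=
  (psiSys K S T).adamsOp_eq k hk p

end Ghost

section Iota

variable (K : Type u) [CommRing K] [BinomialRing K] (S : Type v) (T : Type w)

/-- The model ring. -/
abbrev Mod : Type (max u v w) := MvPolynomial (Var S T) K

/-- The generator `x_s` in the ghost ring. -/
noncomputable def gx (s : S) : Gh K S T := X (Sum.inl (s, 0))

/-- Images of the variables in the ghost ring. -/
noncomputable def iotaFun : Var S T → Gh K S T
  | Sum.inl (s, i) => @LambdaOps.lam _ _ (ghLam K S T) (i + 1) (gx K S T s)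
  | Sum.inr t => X (Sum.inr t)

/-- The comparison map from the model to the ghost ring. -/
noncomputable def iota : Mod K S T →+* Gh K S T :=
  eval₂Hom (C.comp (algebraMap K (FractionRing K))) (iotaFun K S T)

theorem iota_C (k : K) : iota K S T (C k) = C (algebraMap K (FractionRing K) k) := by
  simp [iota]

theorem iota_X_inl (s : S) (i : ℕ) :
    iota K S T (X (Sum.inl (s, i))) = @LambdaOps.lam _ _ (ghLam K S T) (i + 1) (gx K S T s) := by
  simp [iota, iotaFun]

theorem iota_X_inr (t : T) : iota K S T (X (Sum.inr t)) = X (Sum.inr t) := by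
  simp [iota, iotaFun]

/-- `λ^{i+1}(x_s)` in terms of the ghost coordinates. -/
theorem lam_gx (s : S) (i : ℕ) :
    @LambdaOps.lam _ _ (ghLam K S T) (i + 1) (gx K S T s) =
      aeval (fun j : ℕ => (X (Sum.inl (s, j)) : Gh K S T)) (epsP i) := by
  letI : LambdaOps (Gh K S T) := ghLam K S T
  have h := eq_aeval_epsP (NR_lam_adams (gx K S T s)) i
  rw [h]
  congr 2
  funext j
  rw [gh_adamsOp K S T (j + 1) (by omega), gx, psiHom_X_inl]
  congr 3
  omega

/-- The extension of `iota` to ghost coefficients. -/
noncomputable def thetaHom : Gh K S T →ₐ[FractionRing K] Gh K S T := aeval (iotaFun K S T)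

/-- A left inverse of `thetaHom`. -/
noncomputable def etaFun : Var S T → Gh K S T
  | Sum.inl (s, j) => aeval (fun i : ℕ => (X (Sum.inl (s, i)) : Gh K S T)) (nuP j)
  | Sum.inr t => X (Sum.inr t)

noncomputable def etaHom : Gh K S T →ₐ[FractionRing K] Gh K S T := aeval (etaFun K S T)

theorem eta_theta (p : Gh K S T) : etaHom K S T (thetaHom K S T p) = p := by
  have h : (etaHom K S T).comp (thetaHom K S T) = AlgHom.id _ _ := by
    apply MvPolynomial.algHom_ext
    rintro ((⟨s, i⟩) | t)
    · simp only [AlgHom.coe_comp, Function.comp_apply, thetaHom, aeval_X, iotaFun, AlgHom.coe_id,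
        id_eq]
      rw [lam_gx]
      have e : etaHom K S T (aeval (fun j : ℕ => (X (Sum.inl (s, j)) : Gh K S T)) (epsP i)) =
          aeval (fun j : ℕ => etaHom K S T (X (Sum.inl (s, j)) : Gh K S T)) (epsP i) :=
        comp_aeval_apply _ ((etaHom K S T).restrictScalars ℚ) (epsP i)
      rw [e]
      have e2 : (fun j : ℕ => etaHom K S T (X (Sum.inl (s, j)) : Gh K S T)) =
          fun j : ℕ => aeval (fun i : ℕ => (X (Sum.inl (s, i)) : Gh K S T)) (nuP j) := by
        funext j
        simp [etaHom, etaFun]
      rw [e2]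
      have hNR := NR_aeval_nuZ (fun i : ℕ => (X (Sum.inl (s, i)) : Gh K S T))
      have e3 := funext (eq_aeval_nuP hNR)
      rw [e3] at hNR
      exact (eq_aeval_epsP hNR i).symm
    · simp [thetaHom, etaHom, iotaFun, etaFun]
  exact DFunLike.congr_fun h p

theorem iota_eq (p : Mod K S T) :
    iota K S T p = thetaHom K S T (MvPolynomial.map (algebraMap K (FractionRing K)) p) := by
  have h : iota K S T = ((thetaHom K S T : Gh K S T →+* Gh K S T)).comp
      (MvPolynomial.map (algebraMap K (FractionRing K))) := by
    apply MvPolynomial.ringHom_ext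
    · intro r
      simp [iota, thetaHom]
    · intro v
      simp [iota, thetaHom]
  exact DFunLike.congr_fun h p

theorem iota_injective : Function.Injective (iota K S T) := by
  intro p q hpq
  rw [iota_eq, iota_eq] at hpq
  have h2 := congrArg (etaHom K S T) hpq
  rw [eta_theta, eta_theta] at h2
  exact MvPolynomial.map_injective _ (IsFractionRing.injective K (FractionRing K)) h2

end Iota

section Closure

variable (K : Type u) [CommRing K] [BinomialRing K] (S : Type v) (T : Type w)

theorem choose_succ_rec (x : K) (n : ℕ) :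
    ((n : K) + 1) * Ring.choose x (n + 1) = Ring.choose x n * (x - n) := by
  letI : LambdaOps K := binomialLambdaOps K
  exact succ_mul_lam_succ (K := K) (fun _ _ => rfl) x n

theorem lam_iota_C (k : K) (n : ℕ) :
    @LambdaOps.lam _ _ (ghLam K S T) n (iota K S T (C k)) = iota K S T (C (Ring.choose k n)) := by
  letI : LambdaOps (Gh K S T) := ghLam K S T
  have hy : ∀ j : ℕ, adamsOp (j + 1) (iota K S T (C k)) =
      iota K S T (C k) * (1 : Gh K S T) ^ (j + 1) := by
    intro j
    rw [gh_adamsOp K S T (j + 1) (by omega), iota_C, one_pow, mul_one]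
    simp [psiHom]
  induction n with
  | zero => rw [LambdaOps.lam_zero, Ring.choose_zero_right, C_1, map_one]
  | succ n ih =>
    have hrec := succ_mul_lam_succ_of_adams (iota K S T (C k)) (iota K S T (C k)) 1 hy n
    rw [ih, mul_one] at hrec
    have hu : IsUnit ((n : Gh K S T) + 1) :=
      Groth.Agent.Lib.helper13.LogDeriv.isUnit_natCast_succ n
    apply hu.mul_left_cancel
    rw [hrec]
    have e := congrArg (fun z => iota K S T (C z)) (choose_succ_rec K k n)
    simp only [map_mul, map_add, map_sub, map_natCast, map_one] at e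
    rw [e]
    ring

theorem adamsOp_line (t : T) (j : ℕ) :
    @adamsOp _ _ (ghLam K S T) (j + 1) (1 + X (Sum.inr t) : Gh K S T) =
      (1 + X (Sum.inr t)) ^ (j + 1) := by
  rw [gh_adamsOp K S T (j + 1) (by omega), psiHom_line]

theorem lam_gh_line (t : T) (n : ℕ) (hn : 2 ≤ n) :
    @LambdaOps.lam _ _ (ghLam K S T) n (1 + X (Sum.inr t) : Gh K S T) = 0 := by
  letI : LambdaOps (Gh K S T) := ghLam K S T
  exact lam_eq_zero_of_adams_pow _ (adamsOp_line K S T t) n hn

theorem iota_mem_lamClosed (p : Mod K S T) :
    iota K S T p ∈ @lamClosed _ _ (ghLam K S T) (gh_isSpecial K S T) (iota K S T).range := by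
  letI : LambdaOps (Gh K S T) := ghLam K S T
  apply mem_lamClosed_of_generators (gh_isSpecial K S T)
  · intro k n
    rw [lam_iota_C]
    exact ⟨_, rfl⟩
  · rintro ((⟨s, i⟩) | t)
    · intro n
      obtain ⟨Q, hQ⟩ := exists_isCompPoly (i + 1) n
      rw [iota_X_inl, (gh_isSpecial K S T).lam_lam (i + 1) n Q hQ]
      letI : Algebra ℤ (Gh K S T) := Ring.toIntAlgebra _
      refine ⟨aeval (fun k' : Fin ((i + 1) * n) => (X (Sum.inl (s, (k' : ℕ))) : Mod K S T)) Q, ?_⟩
      rw [ringHom_aeval]
      congr 2
      funext k'
      rw [iota_X_inl]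
    · have hL : (1 + X (Sum.inr t) : Gh K S T) ∈
          lamClosed (gh_isSpecial K S T) (iota K S T).range := by
        intro n
        rcases n with _ | _ | n
        · rw [LambdaOps.lam_zero]; exact Subring.one_mem _
        · rw [LambdaOps.lam_one]
          exact ⟨1 + X (Sum.inr t), by rw [map_add, map_one, iota_X_inr]⟩
        · rw [lam_gh_line K S T t (n + 2) (by omega)]; exact Subring.zero_mem _
      have h1 : (1 : Gh K S T) ∈ lamClosed (gh_isSpecial K S T) (iota K S T).range :=
        Subring.one_mem _
      have := Subring.sub_mem _ hL h1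
      rw [iota_X_inr]
      simpa using this

theorem lam_iota_mem (p : Mod K S T) (n : ℕ) :
    @LambdaOps.lam _ _ (ghLam K S T) n (iota K S T p) ∈ (iota K S T).range :=
  iota_mem_lamClosed K S T p n

end Closure

section Instance

variable {K : Type u} [CommRing K] [BinomialRing K] {S : Type v} {T : Type w}

/-- The λ-structure of the universal model. -/
noncomputable instance modLam : LambdaOps (MvPolynomial (Var S T) K) :=
  @pullLam _ _ _ _ (ghLam K S T) (iota K S T) (iota_injective K S T) (lam_iota_mem K S T)

theorem iota_lam (n : ℕ) (p : Mod K S T) :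
    iota K S T (LambdaOps.lam n p) = @LambdaOps.lam _ _ (ghLam K S T) n (iota K S T p) :=
  @map_pullLam _ _ _ _ (ghLam K S T) (iota K S T) (iota_injective K S T) (lam_iota_mem K S T) n p

theorem mod_isSpecial : IsSpecial (Mod K S T) :=
  @isSpecial_pullLam _ _ _ _ (ghLam K S T) (iota K S T) (iota_injective K S T)
    (lam_iota_mem K S T) (gh_isSpecial K S T)

theorem lam_C (n : ℕ) (k : K) :
    LambdaOps.lam n (C k : Mod K S T) = C (Ring.choose k n) := by
  apply iota_injective K S T
  rw [iota_lam, lam_iota_C]

theorem lam_X_inl (s : S) (i : ℕ) :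
    LambdaOps.lam (i + 1) (X (Sum.inl (s, 0)) : Mod K S T) = X (Sum.inl (s, i)) := by
  apply iota_injective K S T
  rw [iota_lam, iota_X_inl, iota_X_inl]
  congr 1
  letI : LambdaOps (Gh K S T) := ghLam K S T
  rw [LambdaOps.lam_one]

theorem lam_line (t : T) (n : ℕ) (hn : 2 ≤ n) :
    LambdaOps.lam n (1 + X (Sum.inr t) : Mod K S T) = 0 := by
  apply iota_injective K S T
  rw [iota_lam, map_add, map_one, iota_X_inr, lam_gh_line K S T t n hn, map_zero]

end Instance

section Ev

variable {K : Type u} [CommRing K] [BinomialRing K] [LambdaOps K] (hKb : IsBinomial K)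
  {A : Type*} [CommRing A] [LambdaOps A] [Algebra K A] (hA : IsSpecial A) (hKA : IsLambdaAlg K A)
  {S : Type v} {T : Type w} (f : S → A) (g : T → A)

/-- Values of the evaluation map on the variables. -/
def evFun : Var S T → A
  | Sum.inl (s, i) => LambdaOps.lam (i + 1) (f s)
  | Sum.inr t => g t

/-- The evaluation map of the universal model. -/
noncomputable def ev : Mod K S T →ₐ[K] A := aeval (evFun f g)

theorem ev_C (k : K) : ev f g (C k : Mod K S T) = algebraMap K A k := by
  simp [ev]

theorem ev_X_inl (s : S) (i : ℕ) :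
    ev (K := K) f g (X (Sum.inl (s, i)) : Mod K S T) = LambdaOps.lam (i + 1) (f s) := by
  simp [ev, evFun]

theorem ev_X_inr (t : T) : ev (K := K) f g (X (Sum.inr t) : Mod K S T) = g t := by
  simp [ev, evFun]

include hKb hA hKA in
/-- The evaluation map is a λ-homomorphism. -/
theorem ev_lam (hg : ∀ (t : T) (n : ℕ), 2 ≤ n → LambdaOps.lam n (1 + g t) = 0)
    (p : Mod K S T) (n : ℕ) :
    ev f g (LambdaOps.lam n p) = LambdaOps.lam n (ev f g p) := by
  have key := map_lam_of_generators (mod_isSpecial (K := K) (S := S) (T := T)) hA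
    ((ev f g : Mod K S T →ₐ[K] A) : Mod K S T →+* A) ?_ ?_ p n
  · exact key
  · intro k n
    simp only [RingHom.coe_coe]
    rw [lam_C, ev_C, ev_C, ← hKb n k, hKA n k]
  · rintro ((⟨s, i⟩) | t)
    · intro n
      simp only [RingHom.coe_coe]
      obtain ⟨Q, hQ⟩ := exists_isCompPoly (i + 1) n
      letI : Algebra ℤ (Mod K S T) := Ring.toIntAlgebra _
      rw [← lam_X_inl s i, (mod_isSpecial (K := K) (S := S) (T := T)).lam_lam (i + 1) n Q hQ,
        lam_X_inl s i, ev_X_inl, hA.lam_lam (i + 1) n Q hQ]
      have e := ringHom_aeval ((ev f g : Mod K S T →ₐ[K] A) : Mod K S T →+* A)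
        (fun k' : Fin ((i + 1) * n) =>
          LambdaOps.lam ((k' : ℕ) + 1) (X (Sum.inl (s, 0)) : Mod K S T)) Q
      simp only [RingHom.coe_coe] at e
      rw [e]
      congr 2
      funext k'
      rw [lam_X_inl, ev_X_inl]
    · have hL : (1 + X (Sum.inr t) : Mod K S T) ∈
          lamCompat (mod_isSpecial (K := K) (S := S) (T := T)) hA
            ((ev f g : Mod K S T →ₐ[K] A) : Mod K S T →+* A) := by
        intro n
        simp only [RingHom.coe_coe]
        rcases n with _ | _ | n
        · rw [LambdaOps.lam_zero, LambdaOps.lam_zero, map_one]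
        · rw [LambdaOps.lam_one, LambdaOps.lam_one]
        · rw [lam_line t (n + 2) (by omega), map_zero, map_add, map_one, ev_X_inr,
            hg t (n + 2) (by omega)]
      have h1 := Subring.one_mem (lamCompat (mod_isSpecial (K := K) (S := S) (T := T)) hA
            ((ev f g : Mod K S T →ₐ[K] A) : Mod K S T →+* A))
      have := Subring.sub_mem _ hL h1
      simpa using this

end Ev

section Aug

variable {K : Type u} [CommRing K] [BinomialRing K] [LambdaOps K] (hKb : IsBinomial K)
  (hK : IsSpecial K) (S : Type v) (T : Type w)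

/-- The augmentation of the universal model: `x_s ↦ 0`, `a_t ↦ 0`. -/
noncomputable def aug : Mod K S T →ₐ[K] K := ev (fun _ : S => (0 : K)) (fun _ : T => (0 : K))

theorem aug_eq_constantCoeff (p : Mod K S T) : aug S T p = constantCoeff p := by
  have h : ((aug S T : Mod K S T →ₐ[K] K) : Mod K S T →+* K) = constantCoeff := by
    apply MvPolynomial.ringHom_ext
    · intro k
      simp [aug, ev]
    · rintro ((⟨s, i⟩) | t)
      · simp only [RingHom.coe_coe, aug, ev_X_inl, constantCoeff_X]
        exact Groth.Agent.Lib.helper13.SubLam.lam_zero_arg (i + 1) (Nat.succ_ne_zero i)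
      · simp [aug, ev_X_inr]
  exact DFunLike.congr_fun h p

include hKb hK in
theorem aug_lam (p : Mod K S T) (n : ℕ) :
    aug S T (LambdaOps.lam n p) = LambdaOps.lam n (aug S T p) := by
  refine ev_lam hKb hK (fun n x => rfl) _ _ ?_ p n
  intro t n hn
  rw [add_zero]
  exact hK.lam_one_eq_zero n hn

include hKb in
theorem mod_isLambdaAlg : IsLambdaAlg K (Mod K S T) := by
  intro n k
  rw [MvPolynomial.algebraMap_eq, lam_C, hKb n k]

include hKb hK in
theorem mod_isAugLambdaAlg : IsAugLambdaAlg K (Mod K S T) (aug S T) where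
  isLambdaAlg := mod_isLambdaAlg hKb S T
  map_lam n a := aug_lam hKb hK S T a n

end Aug

end Groth.Agent.Lib.helper13.UModel
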