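import Groth.Agent.Lib.helper13.UModel
import Groth.Agent.Lib.helper13.IdealPsi
import Groth.Agent.Lib.helper13.GammaBasic
import Groth.Agent.Lib.helper13.NewtonWeight

/-!
Computations in the split model (no free generators): behaviour of the λ- and γ-operations with
respect to the powers of the augmentation ideal (helper13's helper library).
-/

set_option autoImplicit false
set_option linter.style.haveILetI false
set_option linter.unusedSectionVars false

namespace Groth.Agent.Lib.helper13.USplit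

open LambdaRing MvPolynomial Finset
open Groth.Agent.Lib.helper13.Newton Groth.Agent.Lib.helper13.NewtonLambda
  Groth.Agent.Lib.helper13.LamGhost Groth.Agent.Lib.helper13.UModel
  Groth.Agent.Lib.helper13.IdealPsi Groth.Agent.Lib.helper13.GammaBasic

universe u v w

section General

theorem mem_idealOfVars_iff {σ R : Type*} [CommRing R] (p : MvPolynomial σ R) :
    p ∈ idealOfVars σ R ↔ constantCoeff p = 0 := by
  have h := mem_pow_idealOfVars_iff' (σ := σ) (R := R) 1 p
  rw [pow_one] at h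
  rw [h, constantCoeff_eq]
  constructor
  · intro hx
    exact hx 0 (by simp)
  · intro h0 x hx
    have : x = 0 := by
      have hd : Finsupp.degree x = 0 := by omega
      exact (Finsupp.degree_eq_zero_iff x).mp hd
    rw [this]
    exact h0

theorem X_mem_idealOfVars {σ R : Type*} [CommRing R] (v : σ) :
    (X v : MvPolynomial σ R) ∈ idealOfVars σ R := Ideal.subset_span ⟨v, rfl⟩

theorem epsP_mem_idealOfVars (m : ℕ) : epsP m ∈ idealOfVars ℕ ℚ := by
  rw [mem_idealOfVars_iff, constantCoeff_eq]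
  refine (isWeightedHomogeneous_epsP m).coeff_eq_zero 0 ?_
  simp

theorem aeval_mem_of_mem_idealOfVars {R : Type*} [CommRing R] [Algebra ℚ R] (J : Ideal R)
    (b : ℕ → R) (hb : ∀ i, b i ∈ J) {p : MvPolynomial ℕ ℚ} (hp : p ∈ idealOfVars ℕ ℚ) :
    aeval b p ∈ J := by
  unfold idealOfVars at hp
  induction hp using Submodule.span_induction with
  | mem x hx =>
    obtain ⟨i, rfl⟩ := hx
    rw [aeval_X]
    exact hb i
  | zero => simp
  | add x y _ _ hx hy => rw [map_add]; exact J.add_mem hx hy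
  | smul r x _ hx => rw [smul_eq_mul, map_mul]; exact J.mul_mem_left _ hx

theorem gamma_succ_eq {A : Type*} [CommRing A] [LambdaOps A] (n : ℕ) (x : A) :
    gamma (n + 1) x = ∑ i ∈ range (n + 1), (n.choose i : A) * LambdaOps.lam (i + 1) x := by
  rw [gamma, if_neg (Nat.succ_ne_zero n), Finset.sum_range_succ']
  simp

theorem alt_sum_choose_pow (n : ℕ) :
    ∑ i ∈ range (n + 1), (n.choose i : ℤ) * ((-1) ^ i * ((i : ℤ) + 1) ^ n) =
      (-1) ^ n * (n.factorial : ℤ) := by
  have h1 := fwdDiff_iter_eq_sum_shift (1 : ℤ) (fun r : ℤ => r ^ n) n 1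
  have h2 := congrFun (fwdDiff_iter_eq_factorial (R := ℤ) (n := n)) 1
  rw [h2] at h1
  have h3 : ((n.factorial : ℕ) : ℤ → ℤ) 1 = (n.factorial : ℤ) := by simp
  rw [h3] at h1
  rw [h1, Finset.mul_sum]
  refine Finset.sum_congr rfl fun i hi => ?_
  have hin : i ≤ n := Nat.lt_succ_iff.mp (Finset.mem_range.mp hi)
  have hs : (-1 : ℤ) ^ n * (-1) ^ (n - i) = (-1) ^ i := by
    rw [← pow_add]
    have : n + (n - i) = i + 2 * (n - i) := by omega
    rw [this, pow_add, pow_mul]
    simp
  simp only [smul_eq_mul, nsmul_eq_mul, mul_one]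
  rw [← hs]
  ring

end General

section GhostCalc

variable (K : Type u) [CommRing K] [BinomialRing K] (S : Type v) (T : Type w)

/-- The augmentation ideal of the ghost ring. -/
noncomputable abbrev IF : Ideal (Gh K S T) := idealOfVars (Var S T) (FractionRing K)

theorem psi_sub_self_mem (j : ℕ) (h : Gh K S T) : psiHom K S T j h - h ∈ IF K S T := by
  rw [mem_idealOfVars_iff, map_sub, sub_eq_zero]
  have e : (constantCoeff : Gh K S T →+* FractionRing K).comp
      (psiHom K S T j : Gh K S T →+* Gh K S T) = constantCoeff := by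
    apply MvPolynomial.ringHom_ext
    · intro r
      simp [psiHom]
    · rintro ((⟨s, i⟩) | t)
      · simp [psiHom_X_inl]
      · simp [psiHom_X_inr]
  exact DFunLike.congr_fun e h

theorem psi_mem (j : ℕ) {h : Gh K S T} (hh : h ∈ IF K S T) : psiHom K S T j h ∈ IF K S T := by
  have e : psiHom K S T j h = (psiHom K S T j h - h) + h := by ring
  rw [e]
  exact Ideal.add_mem _ (psi_sub_self_mem K S T j h) hh

theorem psi_mem_pow (j d : ℕ) {g : Gh K S T} (hg : g ∈ IF K S T ^ d) :
    psiHom K S T j g ∈ IF K S T ^ d :=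
  map_mem_pow (psiHom K S T j : Gh K S T →+* Gh K S T) (IF K S T)
    (fun _ hh => psi_mem K S T j hh) d hg

theorem psi_sub_pow_mul_mem [IsEmpty S] (j d : ℕ) {g : Gh K S T} (hg : g ∈ IF K S T ^ d) :
    psiHom K S T j g - (j : Gh K S T) ^ d * g ∈ IF K S T ^ (d + 1) := by
  refine sub_pow_mul_mem (psiHom K S T j : Gh K S T →+* Gh K S T) (IF K S T) (j : Gh K S T)
    (psi_sub_self_mem K S T j) ?_ d hg
  intro h hh
  refine sub_mul_mem_sq_of_generators (psiHom K S T j : Gh K S T →+* Gh K S T) (IF K S T)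
    (j : Gh K S T) (Set.range X) rfl (psi_sub_self_mem K S T j) ?_ hh
  rintro x ⟨v, rfl⟩
  rcases v with ⟨s, i⟩ | t
  · exact (IsEmpty.false s).elim
  · simp only [RingHom.coe_coe, psiHom_X_inr]
    have h1 := one_add_pow_sub (X (Sum.inr t) : Gh K S T) j
    have h2 : Ideal.span {(X (Sum.inr t) : Gh K S T)} ≤ IF K S T := by
      rw [Ideal.span_le, Set.singleton_subset_iff]
      exact X_mem_idealOfVars _
    exact Ideal.pow_right_mono h2 2 h1

theorem lam_gh_mem_pow (n : ℕ) (hn : 1 ≤ n) (d : ℕ) {g : Gh K S T} (hg : g ∈ IF K S T ^ d) :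
    @LambdaOps.lam _ _ (ghLam K S T) n g ∈ IF K S T ^ d := by
  letI : LambdaOps (Gh K S T) := ghLam K S T
  obtain ⟨n, rfl⟩ : ∃ m, n = m + 1 := ⟨n - 1, by omega⟩
  rw [eq_aeval_epsP (NR_lam_adams g) n]
  refine aeval_mem_of_mem_idealOfVars _ _ ?_ (epsP_mem_idealOfVars n)
  intro j
  rw [gh_adamsOp K S T (j + 1) (by omega)]
  exact psi_mem_pow K S T (j + 1) d hg

theorem lam_gh_sub_mem [IsEmpty S] (n m : ℕ) {g : Gh K S T} (hg : g ∈ IF K S T ^ (m + 1)) :
    @LambdaOps.lam _ _ (ghLam K S T) (n + 1) g - (-1) ^ n * ((n : Gh K S T) + 1) ^ m * g ∈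
      IF K S T ^ (m + 2) := by
  letI : LambdaOps (Gh K S T) := ghLam K S T
  have hNR := NR_lam_adams g n
  simp only at hNR
  -- the sum lies in `I^(2m+2)`
  have hsum : ∑ i ∈ range n, (-1 : Gh K S T) ^ (n - 1 - i) *
      (LambdaOps.lam (i + 1) g * adamsOp (n - 1 - i + 1) g) ∈ IF K S T ^ (m + 2) := by
    refine Ideal.sum_mem _ fun i _ => Ideal.mul_mem_left _ _ ?_
    have h1 := lam_gh_mem_pow K S T (i + 1) (by omega) (m + 1) hg
    have h2 : adamsOp (n - 1 - i + 1) g ∈ IF K S T ^ (m + 1) := by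
      rw [gh_adamsOp K S T _ (by omega)]
      exact psi_mem_pow K S T _ _ hg
    have h3 := Ideal.mul_mem_mul h1 h2
    rw [← pow_add] at h3
    exact Ideal.pow_le_pow_right (by omega) h3
  have hpsi : adamsOp (n + 1) g - ((n : Gh K S T) + 1) ^ (m + 1) * g ∈ IF K S T ^ (m + 2) := by
    rw [gh_adamsOp K S T _ (by omega)]
    have := psi_sub_pow_mul_mem K S T (n + 1) (m + 1) hg
    push_cast at this
    exact this
  have hmain : ((n : Gh K S T) + 1) * LambdaOps.lam (n + 1) g -
      (-1) ^ n * (((n : Gh K S T) + 1) ^ (m + 1) * g) ∈ IF K S T ^ (m + 2) := by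
    rw [hNR]
    have e : (-1 : Gh K S T) ^ n * adamsOp (n + 1) g +
        ∑ i ∈ range n, (-1 : Gh K S T) ^ (n - 1 - i) *
          (LambdaOps.lam (i + 1) g * adamsOp (n - 1 - i + 1) g) -
        (-1) ^ n * (((n : Gh K S T) + 1) ^ (m + 1) * g) =
        (-1) ^ n * (adamsOp (n + 1) g - ((n : Gh K S T) + 1) ^ (m + 1) * g) +
        ∑ i ∈ range n, (-1 : Gh K S T) ^ (n - 1 - i) *
          (LambdaOps.lam (i + 1) g * adamsOp (n - 1 - i + 1) g) := by ring
    rw [e]
    exact Ideal.add_mem _ (Ideal.mul_mem_left _ _ hpsi) hsum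
  have hu := Groth.Agent.Lib.helper13.Newton.algebraMap_inv_mul (R := Gh K S T) n
  have e2 : LambdaOps.lam (n + 1) g - (-1) ^ n * ((n : Gh K S T) + 1) ^ m * g =
      algebraMap ℚ (Gh K S T) (1 / ((n : ℚ) + 1)) *
        (((n : Gh K S T) + 1) * LambdaOps.lam (n + 1) g -
          (-1) ^ n * (((n : Gh K S T) + 1) ^ (m + 1) * g)) := by
    have h3 : algebraMap ℚ (Gh K S T) (1 / ((n : ℚ) + 1)) *
        (((n : Gh K S T) + 1) * LambdaOps.lam (n + 1) g -
          (-1) ^ n * (((n : Gh K S T) + 1) ^ (m + 1) * g)) =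
        (algebraMap ℚ (Gh K S T) (1 / ((n : ℚ) + 1)) * ((n : Gh K S T) + 1)) *
          (LambdaOps.lam (n + 1) g - (-1) ^ n * ((n : Gh K S T) + 1) ^ m * g) := by ring
    rw [h3, hu, one_mul]
  rw [e2]
  exact Ideal.mul_mem_left _ _ hmain

theorem gamma_gh_sub_mem [IsEmpty S] (n : ℕ) {g : Gh K S T} (hg : g ∈ IF K S T ^ (n + 1)) :
    @gamma _ _ (ghLam K S T) (n + 1) g - (-1) ^ n * (n.factorial : Gh K S T) * g ∈
      IF K S T ^ (n + 2) := by
  letI : LambdaOps (Gh K S T) := ghLam K S T
  rw [gamma_succ_eq]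
  have hid := congrArg (Int.cast : ℤ → Gh K S T) (alt_sum_choose_pow n)
  push_cast at hid
  rw [← hid, Finset.sum_mul, ← Finset.sum_sub_distrib]
  refine Ideal.sum_mem _ fun i _ => ?_
  have h := lam_gh_sub_mem K S T i n hg
  have e : (n.choose i : Gh K S T) * LambdaOps.lam (i + 1) g -
      (n.choose i : Gh K S T) * ((-1) ^ i * ((i : Gh K S T) + 1) ^ n) * g =
      (n.choose i : Gh K S T) *
        (LambdaOps.lam (i + 1) g - (-1) ^ i * ((i : Gh K S T) + 1) ^ n * g) := by ring
  rw [e]
  exact Ideal.mul_mem_left _ _ h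

end GhostCalc

section Principle

variable (K : Type u) [CommRing K] [BinomialRing K] (S : Type v) (T : Type w)

/-- Translation `X ↦ X - 1`. -/
noncomputable def sigmaHom : Gh K S T →ₐ[FractionRing K] Gh K S T := aeval fun v => X v - 1

/-- Translation `X ↦ X + 1`. -/
noncomputable def sigmaHom' : Gh K S T →ₐ[FractionRing K] Gh K S T := aeval fun v => X v + 1

theorem sigma'_sigma (g : Gh K S T) : sigmaHom' K S T (sigmaHom K S T g) = g := by
  have h : (sigmaHom' K S T).comp (sigmaHom K S T) = AlgHom.id _ _ := by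
    apply MvPolynomial.algHom_ext
    intro v
    simp [sigmaHom, sigmaHom']
  exact DFunLike.congr_fun h g

/-- The "line element" attached to an exponent vector. -/
noncomputable def Lm (m : Var S T →₀ ℕ) : Gh K S T := m.prod fun v e => (X v + 1) ^ e

theorem constantCoeff_Lm (m : Var S T →₀ ℕ) : constantCoeff (Lm K S T m) = 1 := by
  unfold Lm
  rw [map_finsuppProd]
  simp [Finsupp.prod]

theorem Lm_sub_one_mem (m : Var S T →₀ ℕ) : Lm K S T m - 1 ∈ IF K S T := by
  rw [mem_idealOfVars_iff, map_sub, constantCoeff_Lm, map_one, sub_self]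

theorem psi_Lm [IsEmpty S] (j : ℕ) (m : Var S T →₀ ℕ) :
    psiHom K S T j (Lm K S T m) = Lm K S T m ^ j := by
  unfold Lm
  rw [map_finsuppProd, Finsupp.prod, Finsupp.prod, ← Finset.prod_pow]
  refine Finset.prod_congr rfl fun v _ => ?_
  rcases v with ⟨s, i⟩ | t
  · exact (IsEmpty.false s).elim
  · rw [map_pow, add_comm, psiHom_line, ← pow_mul, ← pow_mul, mul_comm]

theorem expand_eq (g : Gh K S T) :
    g = ∑ m ∈ (sigmaHom K S T g).support,
      C (coeff m (sigmaHom K S T g)) * Lm K S T m := by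
  conv_lhs => rw [← sigma'_sigma K S T g, (sigmaHom K S T g).as_sum, map_sum]
  refine Finset.sum_congr rfl fun m _ => ?_
  rw [sigmaHom', aeval_monomial]
  rfl

theorem expand_eq' {g : Gh K S T} (hg : g ∈ IF K S T) :
    g = ∑ m ∈ (sigmaHom K S T g).support,
      C (coeff m (sigmaHom K S T g)) * (Lm K S T m - 1) := by
  have h1 := expand_eq K S T g
  have h2 : ∑ m ∈ (sigmaHom K S T g).support, coeff m (sigmaHom K S T g) = 0 := by
    have h3 := congrArg constantCoeff h1
    rw [(mem_idealOfVars_iff g).mp hg, map_sum] at h3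
    rw [h3]
    refine Finset.sum_congr rfl fun m _ => ?_
    rw [map_mul, constantCoeff_C, constantCoeff_Lm, mul_one]
  have h4 : ∑ m ∈ (sigmaHom K S T g).support,
      C (coeff m (sigmaHom K S T g)) * (Lm K S T m - 1) =
      ∑ m ∈ (sigmaHom K S T g).support, C (coeff m (sigmaHom K S T g)) * Lm K S T m -
        C (∑ m ∈ (sigmaHom K S T g).support, coeff m (sigmaHom K S T g)) := by
    rw [map_sum, ← Finset.sum_sub_distrib]
    refine Finset.sum_congr rfl fun m _ => ?_
    ring
  rw [h4, h2, map_zero, sub_zero]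
  exact h1

theorem gamma_gh_term_mem [IsEmpty S] (c : FractionRing K) (m : Var S T →₀ ℕ) (i : ℕ) :
    @gamma _ _ (ghLam K S T) i (C c * (Lm K S T m - 1)) ∈ IF K S T ^ i := by
  have h := (psiSys K S T).factorial_mul_gamma (C c) (Lm K S T m)
    (fun j _ => by
      show psiHom K S T j (C c) = C c
      simp [psiHom])
    (fun j _ => psi_Lm K S T j m) i
  have hu : algebraMap ℚ (Gh K S T) (1 / (i.factorial : ℚ)) * (i.factorial : Gh K S T) = 1 := by
    have h' : ((i.factorial : ℕ) : Gh K S T) = algebraMap ℚ (Gh K S T) (i.factorial : ℚ) := by simp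
    rw [h', ← map_mul, one_div, inv_mul_cancel₀ (by positivity), map_one]
  have e : @gamma _ _ (ghLam K S T) i (C c * (Lm K S T m - 1)) =
      algebraMap ℚ (Gh K S T) (1 / (i.factorial : ℚ)) *
        ((i.factorial : Gh K S T) * @gamma _ _ (ghLam K S T) i (C c * (Lm K S T m - 1))) := by
    rw [← mul_assoc, hu, one_mul]
  rw [e]
  refine Ideal.mul_mem_left _ _ ?_
  have h' : (i.factorial : Gh K S T) * @gamma _ _ (ghLam K S T) i (C c * (Lm K S T m - 1)) =
      (∏ r ∈ range i, (C c - (r : Gh K S T))) * (Lm K S T m - 1) ^ i := h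
  rw [h']
  exact Ideal.mul_mem_left _ _ (Ideal.pow_mem_pow (Lm_sub_one_mem K S T m) i)

/-- In the split ghost ring, `γ^i` maps the augmentation ideal into its `i`-th power. -/
theorem gamma_gh_mem_pow [IsEmpty S] {g : Gh K S T} (hg : g ∈ IF K S T) (i : ℕ) :
    @gamma _ _ (ghLam K S T) i g ∈ IF K S T ^ i := by
  letI : LambdaOps (Gh K S T) := ghLam K S T
  have key : ∀ (s : Finset (Var S T →₀ ℕ)) (c : (Var S T →₀ ℕ) → FractionRing K) (i : ℕ),
      gamma i (∑ m ∈ s, C (c m) * (Lm K S T m - 1)) ∈ IF K S T ^ i := by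
    classical
    intro s c
    induction s using Finset.induction_on with
    | empty =>
      intro i
      rw [Finset.sum_empty]
      rcases i with _ | i
      · rw [gamma_zero, pow_zero, Ideal.one_eq_top]; trivial
      · rw [gamma_arg_zero _ (Nat.succ_ne_zero i)]; exact Ideal.zero_mem _
    | insert a s ha ih =>
      intro i
      rw [Finset.sum_insert ha, gamma_add]
      refine Ideal.sum_mem _ fun j hj => ?_
      have hj' : j ≤ i := Nat.lt_succ_iff.mp (Finset.mem_range.mp hj)
      have h1 := gamma_gh_term_mem K S T (c a) a j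
      have h2 := ih (i - j)
      have h3 := Ideal.mul_mem_mul h1 h2
      rwa [← pow_add, Nat.add_sub_cancel' hj'] at h3
  have h := expand_eq' K S T hg
  rw [h]
  exact key _ _ i

end Principle

section Transfer

variable (K : Type u) [CommRing K] [BinomialRing K] (S : Type v) (T : Type w)

/-- The augmentation ideal of the model. -/
noncomputable abbrev IK : Ideal (Mod K S T) := idealOfVars (Var S T) K

theorem iota_eq_map [IsEmpty S] (p : Mod K S T) :
    iota K S T p = MvPolynomial.map (algebraMap K (FractionRing K)) p := by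
  have h : iota K S T = MvPolynomial.map (algebraMap K (FractionRing K)) := by
    apply MvPolynomial.ringHom_ext
    · intro k
      simp [iota_C]
    · rintro ((⟨s, i⟩) | t)
      · exact (IsEmpty.false s).elim
      · simp [iota_X_inr]
  exact DFunLike.congr_fun h p

theorem mem_pow_iff [IsEmpty S] (d : ℕ) (p : Mod K S T) :
    p ∈ IK K S T ^ d ↔ iota K S T p ∈ IF K S T ^ d := by
  rw [mem_pow_idealOfVars_iff, mem_pow_idealOfVars_iff, iota_eq_map,
    MvPolynomial.support_map_of_injective _ (IsFractionRing.injective K (FractionRing K))]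

theorem iota_gamma (k : ℕ) (p : Mod K S T) :
    iota K S T (gamma k p) = @gamma _ _ (ghLam K S T) k (iota K S T p) := by
  letI : LambdaOps (Gh K S T) := ghLam K S T
  exact map_gamma (iota K S T) p (fun n => iota_lam n p) k

/-- `I^d` is stable under the `λ^n`, `n ≥ 1`. -/
theorem lam_mem_pow [IsEmpty S] (n : ℕ) (hn : 1 ≤ n) (d : ℕ) {p : Mod K S T}
    (hp : p ∈ IK K S T ^ d) : LambdaOps.lam n p ∈ IK K S T ^ d := by
  rw [mem_pow_iff, iota_lam]
  exact lam_gh_mem_pow K S T n hn d ((mem_pow_iff K S T d p).mp hp)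

/-- `I^d` is stable under the `γ^n`, `n ≥ 1`. -/
theorem gamma_mem_pow' [IsEmpty S] (n : ℕ) (hn : 1 ≤ n) (d : ℕ) {p : Mod K S T}
    (hp : p ∈ IK K S T ^ d) : gamma n p ∈ IK K S T ^ d := by
  rw [gamma, if_neg (by omega)]
  refine Ideal.sum_mem _ fun j _ => Ideal.mul_mem_left _ _ ?_
  split_ifs with hj
  · exact Ideal.zero_mem _
  · exact lam_mem_pow K S T j (by omega) d hp

/-- `γ^i` maps the augmentation ideal into its `i`-th power. -/
theorem gamma_mem_pow [IsEmpty S] {p : Mod K S T} (hp : p ∈ IK K S T) (i : ℕ) :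
    gamma i p ∈ IK K S T ^ i := by
  rw [mem_pow_iff, iota_gamma]
  refine gamma_gh_mem_pow K S T ?_ i
  have := (mem_pow_iff K S T 1 p).mp (by rwa [pow_one])
  rwa [pow_one] at this

/-- `γ^(n+1)` acts on `I^(n+1) / I^(n+2)` as `(-1)^n n!`. -/
theorem gamma_sub_mem [IsEmpty S] (n : ℕ) {p : Mod K S T} (hp : p ∈ IK K S T ^ (n + 1)) :
    gamma (n + 1) p - (-1) ^ n * (n.factorial : Mod K S T) * p ∈ IK K S T ^ (n + 2) := by
  rw [mem_pow_iff, map_sub, iota_gamma, map_mul, map_mul, map_pow, map_neg, map_one, map_natCast]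
  exact gamma_gh_sub_mem K S T n ((mem_pow_iff K S T (n + 1) p).mp hp)

end Transfer

section FilSplit

variable {K : Type u} [CommRing K] [BinomialRing K] [LambdaOps K] (S : Type v) (T : Type w)

theorem aug_eq_zero_iff (p : Mod K S T) : aug S T p = 0 ↔ p ∈ IK K S T := by
  rw [aug_eq_constantCoeff, mem_idealOfVars_iff]

/-- In the split model the γ-filtration is contained in the powers of the augmentation ideal. -/
theorem gammaFil_le_pow [IsEmpty S] (n : ℕ) :
    gammaFil ((aug S T : Mod K S T →ₐ[K] K) : Mod K S T →+* K) n ≤ IK K S T ^ n := by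
  unfold gammaFil
  apply Ideal.span_le.mpr
  rintro y ⟨l, hl, hn, rfl⟩
  have key : ∀ l : List (ℕ × Mod K S T), (∀ p ∈ l, aug S T p.2 = 0) →
      (l.map fun p => gamma p.1 p.2).prod ∈ IK K S T ^ (l.map Prod.fst).sum := by
    intro l
    induction l with
    | nil => intro _; simp
    | cons q l ih =>
      intro hl
      simp only [List.map_cons, List.prod_cons, List.sum_cons, pow_add]
      refine Ideal.mul_mem_mul ?_ (ih fun p hp => hl p (List.mem_cons_of_mem _ hp))
      exact gamma_mem_pow K S T ((aug_eq_zero_iff S T q.2).mp (hl q List.mem_cons_self)) q.1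
  exact Ideal.pow_le_pow_right hn (key l hl)

end FilSplit

end Groth.Agent.Lib.helper13.USplit
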