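import Groth.Agent.Lib.helper13.UFree
import Groth.Agent.Lib.helper13.AdamsSpecial

/-!
The universal `K`-λ-algebra `UR K S d` on free generators `x_s` (`s : S`) and an element `NU` of
rank `d` (`λ^k(NU) = 0` for `k > d`): a polynomial ring, embedded by the splitting principle in the
mixed model `Mod K S (Fin d)` where `NU` becomes a sum of `d` line elements
(helper13's helper library).
-/

set_option autoImplicit false
set_option linter.style.haveILetI false
set_option linter.unusedSectionVars false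

namespace Groth.Agent.Lib.helper13.USym

open LambdaRing MvPolynomial Finset
open Groth.Agent.Lib.helper13.UModel Groth.Agent.Lib.helper13.USplit
  Groth.Agent.Lib.helper13.GammaBasic Groth.Agent.Lib.helper13.MultiSym
  Groth.Agent.Lib.helper13.SubLam Groth.Agent.Lib.helper13.Newton
  Groth.Agent.Lib.helper13.PolyExist Groth.Agent.Lib.helper13.Lam

universe u v w

section Line

variable {A : Type u} [CommRing A] [LambdaOps A]

theorem lamSeries_sum {ι : Type*} (s : Finset ι) (y : ι → A) :
    lamSeries (∑ i ∈ s, y i) = ∏ i ∈ s, lamSeries (y i) := by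
  classical
  induction s using Finset.induction_on with
  | empty => simp [lamSeries_zero]
  | insert a s ha ih => rw [Finset.sum_insert ha, Finset.prod_insert ha, lamSeries_add, ih]

/-- `λ^k` of a sum of line elements is their `k`-th elementary symmetric function. -/
theorem lam_sum_line (n : ℕ) (y : Fin n → A)
    (hy : ∀ (i : Fin n) (j : ℕ), 2 ≤ j → LambdaOps.lam j (y i) = 0) (k : ℕ) :
    LambdaOps.lam k (∑ i : Fin n, y i) =
      ∑ s ∈ (univ : Finset (Fin n)).powersetCard k, ∏ i ∈ s, y i := by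
  rw [← coeff_lamSeries, lamSeries_sum]
  have : ∀ i ∈ (univ : Finset (Fin n)), lamSeries (y i) = 1 + PowerSeries.C (y i) * PowerSeries.X :=
    fun i _ => Groth.Agent.S8651.lamSeries_line (y i) (hy i)
  rw [Finset.prod_congr rfl this, Groth.Agent.S8651.coeff_prod_one_add]

theorem aeval_esymm_eq {R : Type*} [CommRing R] [Algebra R A] (n : ℕ) (y : Fin n → A) (k : ℕ) :
    aeval y (esymm (Fin n) R k) =
      ∑ s ∈ (univ : Finset (Fin n)).powersetCard k, ∏ i ∈ s, y i := by
  rw [esymm, map_sum]
  refine Finset.sum_congr rfl fun t _ => ?_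
  rw [map_prod]
  refine Finset.prod_congr rfl fun i _ => ?_
  rw [aeval_X]

end Line

section Defs

variable (K : Type u) [CommRing K] [BinomialRing K] (S : Type v) (d : ℕ)

/-- The mixed model. -/
abbrev Mx : Type (max u v) := Mod K S (Fin d)

/-- The universal ring. -/
abbrev UR : Type (max u v) := MvPolynomial (Fin d ⊕ (S × ℕ)) K

/-- The line elements of the mixed model. -/
noncomputable def Ln (l : Fin d) : Mx K S d := 1 + X (Sum.inr l)

/-- The split rank `d` element. -/
noncomputable def Nbar : Mx K S d := ∑ l : Fin d, Ln K S d l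

theorem lam_Ln (l : Fin d) (n : ℕ) (hn : 2 ≤ n) : LambdaOps.lam n (Ln K S d l) = 0 :=
  lam_line l n hn

theorem lam_Nbar (k : ℕ) :
    LambdaOps.lam k (Nbar K S d) = aeval (Ln K S d) (esymm (Fin d) K k) := by
  rw [Nbar, lam_sum_line d (Ln K S d) (fun l j hj => lam_Ln K S d l j hj), aeval_esymm_eq]

/-- Images of the variables of the universal ring. -/
noncomputable def thetaFun : Fin d ⊕ (S × ℕ) → Mx K S d
  | Sum.inl i => aeval (Ln K S d) (esymm (Fin d) K ((i : ℕ) + 1))
  | Sum.inr v => X (Sum.inl v)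

/-- The embedding of the universal ring in the mixed model. -/
noncomputable def Theta : UR K S d →ₐ[K] Mx K S d := aeval (thetaFun K S d)

theorem Theta_X_inl (i : Fin d) :
    Theta K S d (X (Sum.inl i)) = LambdaOps.lam ((i : ℕ) + 1) (Nbar K S d) := by
  rw [lam_Nbar]
  simp [Theta, thetaFun]

theorem Theta_X_inr (v : S × ℕ) : Theta K S d (X (Sum.inr v)) = X (Sum.inl v) := by
  simp [Theta, thetaFun]

theorem Theta_C (k : K) : Theta K S d (C k) = C k := by
  simp [Theta]

/-- Translation `b_l ↦ 1 + b_l`. -/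
noncomputable def tau : Mx K S d →ₐ[K] Mx K S d :=
  aeval (Sum.elim (fun v => X (Sum.inl v)) (fun l => 1 + X (Sum.inr l)))

/-- Translation `b_l ↦ b_l - 1`. -/
noncomputable def tau' : Mx K S d →ₐ[K] Mx K S d :=
  aeval (Sum.elim (fun v => X (Sum.inl v)) (fun l => X (Sum.inr l) - 1))

theorem tau'_tau (p : Mx K S d) : tau' K S d (tau K S d p) = p := by
  have h : (tau' K S d).comp (tau K S d) = AlgHom.id K _ := by
    apply MvPolynomial.algHom_ext
    rintro (v | l)
    · simp [tau, tau']
    · simp [tau, tau']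
  exact DFunLike.congr_fun h p

/-- The untranslated embedding. -/
noncomputable def Theta0 : UR K S d →ₐ[K] Mx K S d :=
  (sumRight K (σ := S × ℕ) (esub K d)).comp (rename Sum.swap)

theorem Theta_eq : Theta K S d = (tau K S d).comp (Theta0 K S d) := by
  apply MvPolynomial.algHom_ext
  rintro (i | v)
  · simp only [Theta, aeval_X, thetaFun, Theta0, AlgHom.comp_apply, rename_X, Sum.swap_inl,
      sumRight, Sum.elim_inr, esub, tau, aeval_rename]
    rfl
  · simp [Theta, thetaFun, Theta0, sumRight, tau]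

theorem Theta_injective : Function.Injective (Theta K S d) := by
  rw [Theta_eq]
  have h1 : Function.Injective (tau K S d) :=
    Function.LeftInverse.injective (tau'_tau K S d)
  have h2 : Function.Injective (Theta0 K S d) :=
    (sumRight_injective K (esub K d) (esub_injective K d)).comp
      (rename_injective _ Sum.swap_leftInverse.injective)
  exact h1.comp h2

end Defs

section Closure

variable (K : Type u) [CommRing K] [BinomialRing K] (S : Type v) (d : ℕ)

/-- The ring homomorphism underlying `Theta`. -/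
noncomputable abbrev ThetaR : UR K S d →+* Mx K S d := (Theta K S d : UR K S d →+* Mx K S d)

theorem lam_Nbar_mem (k : ℕ) : LambdaOps.lam k (Nbar K S d) ∈ (ThetaR K S d).range := by
  rcases k with _ | k
  · rw [LambdaOps.lam_zero]; exact Subring.one_mem _
  · by_cases hk : k < d
    · exact ⟨X (Sum.inl ⟨k, hk⟩), Theta_X_inl K S d ⟨k, hk⟩⟩
    · rw [lam_Nbar, aeval_esymm_eq, Finset.powersetCard_eq_empty.mpr (by simp; omega),
        Finset.sum_empty]
      exact Subring.zero_mem _

theorem Theta_mem_lamClosed (p : UR K S d) :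
    ThetaR K S d p ∈ lamClosed (mod_isSpecial (K := K) (S := S) (T := Fin d))
      (ThetaR K S d).range := by
  apply mem_lamClosed_of_generators (mod_isSpecial (K := K) (S := S) (T := Fin d))
  · intro k n
    rw [RingHom.coe_coe, Theta_C, lam_C]
    exact ⟨C (Ring.choose k n), Theta_C K S d _⟩
  · rintro (i | ⟨s, j⟩)
    · intro n
      obtain ⟨Q, hQ⟩ := exists_isCompPoly ((i : ℕ) + 1) n
      rw [RingHom.coe_coe, Theta_X_inl,
        (mod_isSpecial (K := K) (S := S) (T := Fin d)).lam_lam ((i : ℕ) + 1) n Q hQ]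
      letI : Algebra ℤ (Mx K S d) := Ring.toIntAlgebra _
      exact aeval_mem_subring _ _ (fun k' => lam_Nbar_mem K S d _) Q
    · intro n
      obtain ⟨Q, hQ⟩ := exists_isCompPoly (j + 1) n
      rw [RingHom.coe_coe, Theta_X_inr, ← lam_X_inl s j,
        (mod_isSpecial (K := K) (S := S) (T := Fin d)).lam_lam (j + 1) n Q hQ]
      letI : Algebra ℤ (Mx K S d) := Ring.toIntAlgebra _
      refine aeval_mem_subring _ _ (fun k' => ?_) Q
      rw [lam_X_inl]
      exact ⟨X (Sum.inr (s, (k' : ℕ))), Theta_X_inr K S d _⟩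

theorem lam_Theta_mem (p : UR K S d) (n : ℕ) :
    LambdaOps.lam n (ThetaR K S d p) ∈ (ThetaR K S d).range :=
  Theta_mem_lamClosed K S d p n

end Closure

section Instance

variable {K : Type u} [CommRing K] [BinomialRing K] {S : Type v} {d : ℕ}

/-- The λ-structure of the universal ring. -/
noncomputable instance urLam : LambdaOps (MvPolynomial (Fin d ⊕ (S × ℕ)) K) :=
  pullLam (ThetaR K S d) (Theta_injective K S d) (lam_Theta_mem K S d)

theorem Theta_lam (n : ℕ) (p : UR K S d) :
    Theta K S d (LambdaOps.lam n p) = LambdaOps.lam n (Theta K S d p) :=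
  map_pullLam (ThetaR K S d) (Theta_injective K S d) (lam_Theta_mem K S d) n p

theorem ur_isSpecial : IsSpecial (UR K S d) :=
  isSpecial_pullLam (ThetaR K S d) (Theta_injective K S d) (lam_Theta_mem K S d) mod_isSpecial

theorem ur_lam_C (n : ℕ) (k : K) : LambdaOps.lam n (C k : UR K S d) = C (Ring.choose k n) := by
  apply Theta_injective K S d
  rw [Theta_lam, Theta_C, Theta_C, lam_C]

/-- The free generators of the universal ring. -/
noncomputable def xU (s : S) : UR K S d := X (Sum.inr (s, 0))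

theorem lam_xU (s : S) (j : ℕ) : LambdaOps.lam (j + 1) (xU (K := K) (d := d) s) =
    X (Sum.inr (s, j)) := by
  apply Theta_injective K S d
  rw [Theta_lam, xU, Theta_X_inr, Theta_X_inr, lam_X_inl]

/-- The universal element of rank `d`. -/
noncomputable def NU : UR K S d := if h : 0 < d then X (Sum.inl ⟨0, h⟩) else 0

theorem Theta_NU : Theta K S d NU = Nbar K S d := by
  unfold NU
  split_ifs with h
  · rw [Theta_X_inl, LambdaOps.lam_one]
  · have hd : d = 0 := by omega
    subst hd
    simp [Nbar]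

theorem lam_NU_lt (k : ℕ) (hk : k < d) :
    LambdaOps.lam (k + 1) (NU : UR K S d) = X (Sum.inl ⟨k, hk⟩) := by
  apply Theta_injective K S d
  rw [Theta_lam, Theta_NU, Theta_X_inl]

theorem lam_NU_gt (k : ℕ) (hk : d < k) : LambdaOps.lam k (NU : UR K S d) = 0 := by
  apply Theta_injective K S d
  rw [Theta_lam, Theta_NU, lam_Nbar, aeval_esymm_eq,
    Finset.powersetCard_eq_empty.mpr (by simp; omega), Finset.sum_empty, map_zero]

end Instance

section EvU

variable {K : Type u} [CommRing K] [BinomialRing K] [LambdaOps K] (hKb : IsBinomial K)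
  {A : Type w} [CommRing A] [LambdaOps A] [Algebra K A] (hA : IsSpecial A)
  (hKA : IsLambdaAlg K A) {S : Type v} {d : ℕ} (f : S → A) (NA : A)
  (hN : ∀ k : ℕ, d < k → LambdaOps.lam k NA = 0)

/-- Values of the evaluation map on the variables. -/
def evUFun : Fin d ⊕ (S × ℕ) → A
  | Sum.inl i => LambdaOps.lam ((i : ℕ) + 1) NA
  | Sum.inr (s, j) => LambdaOps.lam (j + 1) (f s)

/-- The evaluation map of the universal ring. -/
noncomputable def evU : UR K S d →ₐ[K] A := aeval (evUFun f NA)

theorem evU_C (k : K) : evU f NA (C k : UR K S d) = algebraMap K A k := by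
  simp [evU]

theorem evU_X_inl (i : Fin d) :
    evU (K := K) f NA (X (Sum.inl i) : UR K S d) = LambdaOps.lam ((i : ℕ) + 1) NA := by
  simp [evU, evUFun]

theorem evU_X_inr (s : S) (j : ℕ) :
    evU (K := K) f NA (X (Sum.inr (s, j)) : UR K S d) = LambdaOps.lam (j + 1) (f s) := by
  simp [evU, evUFun]

theorem evU_xU (s : S) : evU (K := K) f NA (xU (d := d) s) = f s := by
  rw [xU, evU_X_inr, LambdaOps.lam_one]

include hN in
theorem evU_lam_NU (k : ℕ) :
    evU (K := K) f NA (LambdaOps.lam k (NU : UR K S d)) = LambdaOps.lam k NA := by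
  rcases k with _ | k
  · rw [LambdaOps.lam_zero, LambdaOps.lam_zero, map_one]
  · by_cases hk : k < d
    · rw [lam_NU_lt k hk, evU_X_inl]
    · rw [lam_NU_gt (k + 1) (by omega), hN (k + 1) (by omega), map_zero]

include hN in
theorem evU_NU : evU (K := K) f NA (NU : UR K S d) = NA := by
  have := evU_lam_NU (K := K) f NA hN 1
  rwa [LambdaOps.lam_one, LambdaOps.lam_one] at this

include hKb hA hKA hN in
/-- The evaluation map is a λ-homomorphism. -/
theorem evU_lam (p : UR K S d) (n : ℕ) :
    evU f NA (LambdaOps.lam n p) = LambdaOps.lam n (evU f NA p) := by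
  have key := map_lam_of_generators (ur_isSpecial (K := K) (S := S) (d := d)) hA
    ((evU f NA : UR K S d →ₐ[K] A) : UR K S d →+* A) ?_ ?_ p n
  · exact key
  · intro k n
    simp only [RingHom.coe_coe]
    rw [ur_lam_C, evU_C, evU_C, ← hKb n k, hKA n k]
  · rintro (i | ⟨s, j⟩)
    · intro n
      simp only [RingHom.coe_coe]
      obtain ⟨Q, hQ⟩ := exists_isCompPoly ((i : ℕ) + 1) n
      letI : Algebra ℤ (UR K S d) := Ring.toIntAlgebra _
      rw [← lam_NU_lt (i : ℕ) i.2,
        (ur_isSpecial (K := K) (S := S) (d := d)).lam_lam ((i : ℕ) + 1) n Q hQ,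
        evU_lam_NU f NA hN, hA.lam_lam ((i : ℕ) + 1) n Q hQ]
      have e := ringHom_aeval ((evU f NA : UR K S d →ₐ[K] A) : UR K S d →+* A)
        (fun k' : Fin (((i : ℕ) + 1) * n) =>
          LambdaOps.lam ((k' : ℕ) + 1) (NU : UR K S d)) Q
      simp only [RingHom.coe_coe] at e
      rw [e]
      congr 2
      funext k'
      rw [evU_lam_NU f NA hN]
    · intro n
      simp only [RingHom.coe_coe]
      obtain ⟨Q, hQ⟩ := exists_isCompPoly (j + 1) n
      letI : Algebra ℤ (UR K S d) := Ring.toIntAlgebra _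
      rw [← lam_xU s j,
        (ur_isSpecial (K := K) (S := S) (d := d)).lam_lam (j + 1) n Q hQ,
        lam_xU s j, evU_X_inr, hA.lam_lam (j + 1) n Q hQ]
      have e := ringHom_aeval ((evU f NA : UR K S d →ₐ[K] A) : UR K S d →+* A)
        (fun k' : Fin ((j + 1) * n) =>
          LambdaOps.lam ((k' : ℕ) + 1) (xU (K := K) (d := d) s)) Q
      simp only [RingHom.coe_coe] at e
      rw [e]
      congr 2
      funext k'
      rw [lam_xU, evU_X_inr]

include hKb hA hKA hN in
theorem evU_gamma (p : UR K S d) (n : ℕ) :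
    evU f NA (gamma n p) = gamma n (evU f NA p) :=
  map_gamma ((evU f NA : UR K S d →ₐ[K] A) : UR K S d →+* A) p
    (fun k => evU_lam hKb hA hKA f NA hN p k) n

end EvU

section AdamsGen

variable {A : Type u} [CommRing A] [LambdaOps A]

open Groth.Agent.Lib.helper13.NewtonLambda in
/-- The Adams operations of a line element are its powers. -/
theorem adamsOp_of_line (y : A) (hy : ∀ j : ℕ, 2 ≤ j → LambdaOps.lam j y = 0) (k : ℕ) :
    adamsOp (k + 1) y = y ^ (k + 1) := by
  induction k with
  | zero =>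
    have h := NR_lam_adams y 0
    simp only [Finset.range_zero, Finset.sum_empty, pow_zero, one_mul, add_zero, Nat.cast_zero,
      zero_add, LambdaOps.lam_one] at h
    rw [← h, pow_one]
  | succ k ih =>
    have h := NR_lam_adams y (k + 1)
    simp only at h
    rw [hy (k + 1 + 1) (by omega), mul_zero, Finset.sum_range_succ'] at h
    have hz : ∑ i ∈ range k, (-1 : A) ^ (k + 1 - 1 - (i + 1)) *
        (LambdaOps.lam (i + 1 + 1) y * adamsOp (k + 1 - 1 - (i + 1) + 1) y) = 0 := by
      refine Finset.sum_eq_zero fun i _ => ?_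
      rw [hy (i + 1 + 1) (by omega), zero_mul, mul_zero]
    rw [hz, zero_add] at h
    simp only [Nat.add_sub_cancel, Nat.sub_zero, zero_add, LambdaOps.lam_one] at h
    rw [ih] at h
    have e := neg_one_pow_mul_self (R := A) k
    rw [pow_succ (-1 : A) k] at h
    linear_combination ((-1 : A) ^ k) * h -
      (adamsOp (k + 1 + 1) y - y ^ (k + 1 + 1)) * e

open Groth.Agent.Lib.helper13.NewtonLambda in
/-- Ring maps commuting with the `λ^n` commute with the Adams operations. -/
theorem map_adamsOp {B : Type v} [CommRing B] [LambdaOps B] (φ : A →+* B) (x : A)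
    (h : ∀ n, φ (LambdaOps.lam n x) = LambdaOps.lam n (φ x)) (k : ℕ) :
    φ (adamsOp k x) = adamsOp k (φ x) := by
  rcases k with _ | k
  · simp [adamsOp]
  · rw [eq_aeval_nuZ (NR_lam_adams x) k, eq_aeval_nuZ (NR_lam_adams (φ x)) k, ringHom_aeval]
    congr 2
    funext m
    exact h (m + 1)

omit [LambdaOps A] in
theorem sum_neg_one_pow_esymm (n : ℕ) (y : Fin n → A) :
    ∑ k ∈ range (n + 1), (-1 : A) ^ k *
      ∑ s ∈ (univ : Finset (Fin n)).powersetCard k, ∏ i ∈ s, y i = ∏ i : Fin n, (1 - y i) := by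
  have h : ∏ i : Fin n, (1 - y i) = ∏ i : Fin n, (1 + (-y i)) := by
    simp [sub_eq_add_neg]
  rw [h, Finset.prod_one_add, Finset.sum_powerset, Finset.card_univ, Fintype.card_fin]
  refine Finset.sum_congr rfl fun k _ => ?_
  rw [Finset.mul_sum]
  refine Finset.sum_congr rfl fun s hs => ?_
  rw [Finset.prod_neg, (Finset.mem_powersetCard.mp hs).2]

end AdamsGen

section Div

variable {K : Type u} [CommRing K] [BinomialRing K] {S : Type v} {d : ℕ}

/-- The truncated `λ_{-1}`. -/
def lamNeg {A : Type*} [CommRing A] [LambdaOps A] (d : ℕ) (y : A) : A :=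
  ∑ j ∈ range (d + 1), (-1 : A) ^ j * LambdaOps.lam j y

/-- `λ_{-1}` of the universal element. -/
noncomputable def uU : UR K S d := lamNeg d NU

theorem Theta_uU : Theta K S d uU = ∏ l : Fin d, (1 - Ln K S d l) := by
  rw [uU, lamNeg, map_sum, ← sum_neg_one_pow_esymm]
  refine Finset.sum_congr rfl fun k _ => ?_
  rw [map_mul, map_pow, map_neg, map_one, Theta_lam, Theta_NU, lam_Nbar, aeval_esymm_eq]

/-- Symmetric polynomials in the line elements lie in the image of the universal ring. -/
theorem aeval_Ln_mem_range (p : MvPolynomial (Fin d) K) (hp : p.IsSymmetric) :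
    ∃ q' : UR K S d, Theta K S d q' = aeval (Ln K S d) p := by
  obtain ⟨q, hq⟩ := Groth.Agent.Lib.helper13.SymmUniv.exists_aeval_esymm_eq K d hp
  refine ⟨rename Sum.inl q, ?_⟩
  rw [← hq, Theta, aeval_rename]
  exact (comp_aeval_apply _ (aeval (Ln K S d)) q).symm

theorem adamsOp_one_mx (k : ℕ) : adamsOp (k + 1) (1 : Mx K S d) = 1 := by
  rw [adamsOp_of_line 1 (mod_isSpecial.lam_one_eq_zero) k, one_pow]

theorem adamsOp_Theta_uU (k : ℕ) :
    adamsOp (k + 1) (Theta K S d (uU : UR K S d)) =
      Theta K S d uU * ∏ l : Fin d, ∑ i ∈ range (k + 1), Ln K S d l ^ i := by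
  let ψ : Mx K S d →+* Mx K S d :=
    Groth.Agent.Lib.helper13.AdamsSpecial.adamsRingHom (k + 1) (adamsOp_one_mx k)
      (Groth.Agent.Lib.helper13.AdamsSpecial.adamsOp_mul mod_isSpecial
        (fun n => exists_isMulPoly n) (k + 1) (by omega))
  have hψ : ∀ x, ψ x = adamsOp (k + 1) x := fun _ => rfl
  rw [Theta_uU, ← hψ, map_prod, ← Finset.prod_mul_distrib]
  refine Finset.prod_congr rfl fun l _ => ?_
  rw [map_sub, map_one, hψ, adamsOp_of_line _ (lam_Ln K S d l) k, mul_neg_geom_sum]

theorem exists_theta (k : ℕ) :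
    ∃ θ : UR K S d, adamsOp (k + 1) (uU : UR K S d) = uU * θ := by
  have hsym : (∏ l : Fin d, ∑ i ∈ range (k + 1), (X l : MvPolynomial (Fin d) K) ^ i).IsSymmetric := by
    intro e
    rw [map_prod]
    simp only [map_sum, map_pow, rename_X]
    exact Equiv.prod_comp e (fun l => ∑ i ∈ range (k + 1), (X l : MvPolynomial (Fin d) K) ^ i)
  obtain ⟨θ, hθ⟩ := aeval_Ln_mem_range (S := S) _ hsym
  refine ⟨θ, ?_⟩
  apply Theta_injective K S d
  have h1 := map_adamsOp (ThetaR K S d) (uU : UR K S d) (fun n => Theta_lam n _) (k + 1)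
  simp only [RingHom.coe_coe] at h1
  rw [h1, adamsOp_Theta_uU, map_mul, hθ, map_prod]
  simp only [map_sum, map_pow, aeval_X]

theorem adamsOp_mul_uU_mem (f : UR K S d) (k : ℕ) :
    adamsOp (k + 1) (f * uU) ∈ Ideal.span {(uU : UR K S d)} := by
  obtain ⟨θ, hθ⟩ := exists_theta (K := K) (S := S) (d := d) k
  rw [Groth.Agent.Lib.helper13.AdamsSpecial.adamsOp_mul ur_isSpecial
    (fun n => exists_isMulPoly n) (k + 1) (by omega), hθ, Ideal.mem_span_singleton]
  exact ⟨adamsOp (k + 1) f * θ, by ring⟩

open Groth.Agent.Lib.helper13.NewtonLambda in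
theorem succ_mul_lam_mem (f : UR K S d) (n : ℕ) :
    ((n : UR K S d) + 1) * LambdaOps.lam (n + 1) (f * uU) ∈ Ideal.span {(uU : UR K S d)} := by
  have h := NR_lam_adams (f * (uU : UR K S d)) n
  simp only at h
  rw [h]
  refine Ideal.add_mem _ (Ideal.mul_mem_left _ _ (adamsOp_mul_uU_mem f n))
    (Ideal.sum_mem _ fun i _ => Ideal.mul_mem_left _ _ (Ideal.mul_mem_left _ _ ?_))
  exact adamsOp_mul_uU_mem f (n - 1 - i)

theorem uU_eq : (uU : UR K S d) = 1 + ∑ i : Fin d, (-1) ^ ((i : ℕ) + 1) * X (Sum.inl i) := by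
  rw [uU, lamNeg, Finset.sum_range_succ', pow_zero, LambdaOps.lam_zero, one_mul, add_comm,
    Finset.sum_range]
  congr 1
  refine Finset.sum_congr rfl fun i _ => ?_
  rw [lam_NU_lt (i : ℕ) i.2]

open Classical in
/-- Elimination of the first variable by means of the relation `uU = 0`. -/
noncomputable def sigU (hd : 0 < d) : UR K S d →ₐ[K] UR K S d :=
  aeval fun v => if v = Sum.inl ⟨0, hd⟩ then X v + uU else X v

theorem sub_sigU_mem (hd : 0 < d) (f : UR K S d) :
    f - sigU hd f ∈ Ideal.span {(uU : UR K S d)} := by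
  induction f using MvPolynomial.induction_on with
  | C a => simp [sigU]
  | add p q hp hq =>
    have e : p + q - sigU hd (p + q) = (p - sigU hd p) + (q - sigU hd q) := by
      rw [map_add]; ring
    rw [e]
    exact Ideal.add_mem _ hp hq
  | mul_X p v hp =>
    have e : p * X v - sigU hd (p * X v) =
        (p - sigU hd p) * X v + sigU hd p * (X v - sigU hd (X v)) := by
      rw [map_mul]; ring
    rw [e]
    refine Ideal.add_mem _ (Ideal.mul_mem_right _ _ hp) (Ideal.mul_mem_left _ _ ?_)
    rw [sigU, aeval_X]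
    split_ifs
    · rw [Ideal.mem_span_singleton]
      exact ⟨-1, by ring⟩
    · simp

theorem sigU_uU (hd : 0 < d) : sigU hd (uU : UR K S d) = 0 := by
  have h := congrArg (sigU hd) (uU_eq (K := K) (S := S) (d := d))
  rw [h, map_add, map_one, map_sum]
  have e : ∀ i : Fin d, sigU hd ((-1) ^ ((i : ℕ) + 1) * X (Sum.inl i) : UR K S d) =
      (-1) ^ ((i : ℕ) + 1) * X (Sum.inl i) +
        (if i = ⟨0, hd⟩ then (-1) ^ ((i : ℕ) + 1) * (uU : UR K S d) else 0) := by
    intro i
    rw [map_mul, map_pow, map_neg, map_one, sigU, aeval_X]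
    by_cases hi : i = ⟨0, hd⟩
    · rw [if_pos (by rw [hi]), if_pos hi]
      ring
    · rw [if_neg (fun h => hi (Sum.inl_injective h)), if_neg hi, add_zero]
  rw [Finset.sum_congr rfl fun i _ => e i, Finset.sum_add_distrib, ← add_assoc, ← uU_eq,
    Finset.sum_ite_eq' Finset.univ (⟨0, hd⟩ : Fin d), if_pos (Finset.mem_univ _)]
  simp

theorem natCast_succ_mul_eq_zero {σ : Type*} (n : ℕ) (y : MvPolynomial σ K)
    (h : ((n : MvPolynomial σ K) + 1) * y = 0) : y = 0 := by
  ext m
  have h1 := congrArg (coeff m) h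
  have e : ((n : MvPolynomial σ K) + 1) = C (((n + 1 : ℕ) : K)) := by
    simp
  rw [e, coeff_C_mul, coeff_zero] at h1
  rw [coeff_zero]
  exact (mul_left_mem_nonZeroDivisors_eq_zero_iff
    (Groth.Agent.Lib.helper13.BinomialSpecial.natCast_mem_nonZeroDivisors K
      (Nat.succ_ne_zero n))).mp h1

/-- The universal divisibility: `λ_{-1}(N)` divides `λ^p(f · λ_{-1}(N))` for `p ≥ 1`. -/
theorem uU_dvd_lam (f : UR K S d) (p : ℕ) (hp : 1 ≤ p) :
    (uU : UR K S d) ∣ LambdaOps.lam p (f * uU) := by
  rcases Nat.eq_zero_or_pos d with hd | hd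
  · subst hd
    have : (uU : UR K S 0) = 1 := by
      rw [uU, lamNeg]
      simp [LambdaOps.lam_zero]
    rw [this]
    exact one_dvd _
  · obtain ⟨n, rfl⟩ : ∃ n, p = n + 1 := ⟨p - 1, by omega⟩
    have h1 := succ_mul_lam_mem f n
    rw [Ideal.mem_span_singleton] at h1
    obtain ⟨w, hw⟩ := h1
    have h2 := congrArg (sigU hd) hw
    rw [map_mul, map_mul, sigU_uU, zero_mul, map_add, map_natCast, map_one] at h2
    have h3 := natCast_succ_mul_eq_zero n _ h2
    have h4 := sub_sigU_mem hd (LambdaOps.lam (n + 1) (f * uU))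
    rw [h3, sub_zero, Ideal.mem_span_singleton] at h4
    exact h4

theorem uU_dvd_gamma (f : UR K S d) (p : ℕ) (hp : 1 ≤ p) :
    (uU : UR K S d) ∣ gamma p (f * uU) := by
  rw [gamma, if_neg (by omega)]
  refine Finset.dvd_sum fun j _ => Dvd.dvd.mul_left ?_ _
  split_ifs with hj
  · exact dvd_zero _
  · exact uU_dvd_lam f j (by omega)

end Div

end Groth.Agent.Lib.helper13.USym
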