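import Groth.Agent.Lib.helper13.USym

/-!
The transfer theorem for the universal ring `UR K S d` with an element of rank `d`: description by
γ-generators, splitting maps and the weight estimate (helper13's helper library).
-/

set_option autoImplicit false
set_option linter.style.haveILetI false
set_option linter.unusedSectionVars false

namespace Groth.Agent.Lib.helper13.UTransfer

open LambdaRing MvPolynomial Finset
open Groth.Agent.Lib.helper13.UModel Groth.Agent.Lib.helper13.USplit
  Groth.Agent.Lib.helper13.GammaBasic Groth.Agent.Lib.helper13.MultiSym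
  Groth.Agent.Lib.helper13.UFree Groth.Agent.Lib.helper13.USym

universe u v w

section Division

variable {σ : Type*} {R : Type*} [CommRing R]

theorem mem_pow_of_mul_X_mem (g : MvPolynomial σ R) (v : σ) (n : ℕ)
    (h : g * X v ∈ idealOfVars σ R ^ (n + 1)) : g ∈ idealOfVars σ R ^ n := by
  rw [mem_pow_idealOfVars_iff'] at h ⊢
  intro x hx
  have h1 := h (x + Finsupp.single v 1) (by
    rw [map_add, Finsupp.degree_single]
    omega)
  rwa [coeff_mul_X] at h1

theorem mem_pow_of_mul_prod_X_mem (g : MvPolynomial σ R) (F : Finset σ) (n : ℕ)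
    (h : g * ∏ v ∈ F, X v ∈ idealOfVars σ R ^ (n + F.card)) : g ∈ idealOfVars σ R ^ n := by
  classical
  induction F using Finset.induction_on generalizing n with
  | empty => simpa using h
  | insert a F ha ih =>
    rw [Finset.prod_insert ha, Finset.card_insert_of_notMem ha] at h
    have h1 : (g * ∏ v ∈ F, X v) * X a ∈ idealOfVars σ R ^ (n + F.card + 1) := by
      have e : (g * ∏ v ∈ F, X v) * X a = g * (X a * ∏ v ∈ F, X v) := by ring
      rw [e]
      exact h
    exact ih n (mem_pow_of_mul_X_mem _ a _ h1)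

theorem mem_pow_of_mul_prod_X_mem' {ι : Type*} (g : MvPolynomial σ R) (F : Finset ι) (e : ι → σ)
    (n : ℕ) (h : g * ∏ i ∈ F, X (e i) ∈ idealOfVars σ R ^ (n + F.card)) :
    g ∈ idealOfVars σ R ^ n := by
  classical
  induction F using Finset.induction_on generalizing n with
  | empty => simpa using h
  | insert a F ha ih =>
    rw [Finset.prod_insert ha, Finset.card_insert_of_notMem ha] at h
    have h1 : (g * ∏ i ∈ F, X (e i)) * X (e a) ∈ idealOfVars σ R ^ (n + F.card + 1) := by
      have e' : (g * ∏ i ∈ F, X (e i)) * X (e a) = g * (X (e a) * ∏ i ∈ F, X (e i)) := by ring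
      rw [e']
      exact h
    exact ih n (mem_pow_of_mul_X_mem _ (e a) _ h1)

theorem prod_X_mem_pow' {ι : Type*} (F : Finset ι) (e : ι → σ) :
    (∏ i ∈ F, (X (e i) : MvPolynomial σ R)) ∈ idealOfVars σ R ^ F.card := by
  have h := Ideal.prod_mem_prod (s := F) (I := fun _ => idealOfVars σ R)
    (x := fun i => (X (e i) : MvPolynomial σ R)) (fun i _ => X_mem_idealOfVars (e i))
  rwa [Finset.prod_const] at h

theorem prod_X_mem_pow (F : Finset σ) :
    (∏ v ∈ F, (X v : MvPolynomial σ R)) ∈ idealOfVars σ R ^ F.card := by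
  have h := Ideal.prod_mem_prod (s := F) (I := fun _ => idealOfVars σ R)
    (x := fun v => (X v : MvPolynomial σ R)) (fun v _ => X_mem_idealOfVars v)
  rwa [Finset.prod_const] at h

end Division

section Gam

variable (K : Type u) [CommRing K] [BinomialRing K] (S : Type v) (d : ℕ)

/-- The shifted universal element, of augmentation zero. -/
noncomputable def zU : UR K S d := NU - (d : UR K S d)

/-- The γ-generators of the universal ring. -/
noncomputable def GamU : MvPolynomial (Fin d ⊕ (S × ℕ)) K →ₐ[K] UR K S d :=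
  aeval (Sum.elim (fun i : Fin d => gamma ((i : ℕ) + 1) (zU K S d))
    (fun v : S × ℕ => gamma (v.2 + 1) (xU (K := K) (d := d) v.1)))

theorem GamU_X_inl (i : Fin d) : GamU K S d (X (Sum.inl i)) = gamma ((i : ℕ) + 1) (zU K S d) := by
  simp [GamU]

theorem GamU_X_inr (s : S) (j : ℕ) :
    GamU K S d (X (Sum.inr (s, j))) = gamma (j + 1) (xU (K := K) (d := d) s) := by
  simp [GamU]

theorem Theta_zU : Theta K S d (zU K S d) = ∑ l : Fin d, Ln K S d l - (d : Mx K S d) := by
  rw [zU, map_sub, Theta_NU, map_natCast, Nbar]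

theorem Theta_gamma (n : ℕ) (p : UR K S d) :
    Theta K S d (gamma n p) = gamma n (Theta K S d p) :=
  map_gamma (ThetaR K S d) p (fun k => Theta_lam k p) n

theorem gamma_zU_eq_zero (j : ℕ) (hj : d < j) : gamma j (zU K S d) = 0 := by
  apply Theta_injective K S d
  rw [Theta_gamma, Theta_zU, Groth.Agent.S8651.result (Mx K S d) (mod_isSpecial.lam_one_eq_zero) d
    (Ln K S d) (fun l k hk => lam_Ln K S d l k hk) j,
    Finset.powersetCard_eq_empty.mpr (by simp; omega), Finset.sum_empty, map_zero]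

theorem GamU_surjective : Function.Surjective (GamU K S d) := by
  intro p
  have hx : ∀ (s : S) (k : ℕ), LambdaOps.lam k (xU (K := K) (d := d) s) ∈
      (GamU K S d).range.toSubring := by
    intro s k
    apply lam_mem_of_gamma_mem
    intro j hj
    obtain ⟨j, rfl⟩ : ∃ j', j = j' + 1 := ⟨j - 1, by omega⟩
    exact ⟨X (Sum.inr (s, j)), GamU_X_inr K S d s j⟩
  have hz : ∀ k : ℕ, LambdaOps.lam k (zU K S d) ∈ (GamU K S d).range.toSubring := by
    intro k
    apply lam_mem_of_gamma_mem
    intro j hj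
    obtain ⟨j, rfl⟩ : ∃ j', j = j' + 1 := ⟨j - 1, by omega⟩
    by_cases hjd : j < d
    · exact ⟨X (Sum.inl ⟨j, hjd⟩), GamU_X_inl K S d ⟨j, hjd⟩⟩
    · rw [gamma_zU_eq_zero K S d (j + 1) (by omega)]
      exact Subring.zero_mem _
  have hN : ∀ k : ℕ, LambdaOps.lam k (NU : UR K S d) ∈ (GamU K S d).range.toSubring := by
    intro k
    have e : (NU : UR K S d) = zU K S d + (d : UR K S d) := by rw [zU]; ring
    rw [e, LambdaOps.lam_add]
    refine Subring.sum_mem _ fun i _ => Subring.mul_mem _ (hz i) ?_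
    rw [lam_natCast (ur_isSpecial.lam_one_eq_zero)]
    exact natCast_mem _ _
  have : p ∈ (GamU K S d).range := by
    induction p using MvPolynomial.induction_on with
    | C a => exact ⟨C a, by simp [GamU]⟩
    | add p q hp hq => exact Subalgebra.add_mem _ hp hq
    | mul_X p i hp =>
      refine Subalgebra.mul_mem _ hp ?_
      rcases i with i | ⟨s, j⟩
      · have := hN ((i : ℕ) + 1)
        rw [lam_NU_lt (i : ℕ) i.2] at this
        exact this
      · have := hx s (j + 1)
        rw [lam_xU] at this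
        exact this
  exact this

end Gam

section SplitU

variable {K : Type u} [CommRing K] [BinomialRing K] [LambdaOps K] (hKb : IsBinomial K)
  (S : Type v) (d : ℕ)

/-- The split model for the universal ring. -/
abbrev SpU (N : ℕ) : Type (max u v) := Mod K PEmpty.{1} (Fin d ⊕ (S × Fin N))

/-- The splitting map on the mixed model. -/
noncomputable def evM (N : ℕ) : Mx K S d →ₐ[K] SpU (K := K) S d N :=
  ev (fun s : S => ∑ l : Fin N, (X (Sum.inr (Sum.inr (s, l))) : SpU (K := K) S d N))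
    (fun l : Fin d => (X (Sum.inr (Sum.inl l)) : SpU (K := K) S d N))

/-- The splitting map on the universal ring. -/
noncomputable def piU (N : ℕ) : UR K S d →ₐ[K] SpU (K := K) S d N :=
  (evM S d N).comp (Theta K S d)

include hKb in
theorem evM_lam (N : ℕ) (p : Mx K S d) (n : ℕ) :
    evM S d N (LambdaOps.lam n p) = LambdaOps.lam n (evM S d N p) :=
  ev_lam hKb mod_isSpecial (mod_isLambdaAlg hKb _ _) _ _
    (fun t n hn => lam_line (Sum.inl t) n hn) p n

include hKb in
theorem piU_lam (N : ℕ) (p : UR K S d) (n : ℕ) :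
    piU S d N (LambdaOps.lam n p) = LambdaOps.lam n (piU S d N p) := by
  rw [piU, AlgHom.comp_apply, Theta_lam, evM_lam hKb, AlgHom.comp_apply]

include hKb in
theorem piU_gamma (N : ℕ) (p : UR K S d) (n : ℕ) :
    piU S d N (gamma n p) = gamma n (piU S d N p) :=
  map_gamma ((piU S d N : UR K S d →ₐ[K] SpU (K := K) S d N) : UR K S d →+* SpU (K := K) S d N) p
    (fun k => piU_lam hKb S d N p k) n

theorem piU_xU (N : ℕ) (s : S) :
    piU S d N (xU (K := K) (d := d) s) =
      ∑ l : Fin N, (X (Sum.inr (Sum.inr (s, l))) : SpU (K := K) S d N) := by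
  rw [piU, AlgHom.comp_apply, xU, Theta_X_inr, evM, ev_X_inl, LambdaOps.lam_one]

theorem evM_Ln (N : ℕ) (l : Fin d) :
    evM S d N (Ln K S d l) = 1 + (X (Sum.inr (Sum.inl l)) : SpU (K := K) S d N) := by
  rw [Ln, map_add, map_one, evM, ev_X_inr]

theorem piU_zU (N : ℕ) :
    piU S d N (zU K S d) =
      ∑ l : Fin d, (1 + (X (Sum.inr (Sum.inl l)) : SpU (K := K) S d N)) -
        (d : SpU (K := K) S d N) := by
  rw [piU, AlgHom.comp_apply, Theta_zU, map_sub, map_sum, map_natCast]
  simp only [evM_Ln]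

theorem piU_uU (N : ℕ) :
    piU S d N (uU : UR K S d) =
      (-1) ^ d * ∏ l : Fin d, (X (Sum.inr (Sum.inl l)) : SpU (K := K) S d N) := by
  rw [piU, AlgHom.comp_apply, Theta_uU, map_prod]
  have : ∀ l : Fin d, evM S d N (1 - Ln K S d l) =
      -(X (Sum.inr (Sum.inl l)) : SpU (K := K) S d N) := by
    intro l
    rw [map_sub, map_one, evM_Ln]
    ring
  rw [Finset.prod_congr rfl fun l _ => this l, Finset.prod_neg, Finset.card_univ,
    Fintype.card_fin]

include hKb in
theorem piU_GamU_X_inr (N : ℕ) (s : S) (j : ℕ) :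
    piU S d N (GamU K S d (X (Sum.inr (s, j)))) =
      rename (fun l : Fin N => (Sum.inr (Sum.inr (s, l)) : Var PEmpty.{1} (Fin d ⊕ (S × Fin N))))
        (esymm (Fin N) K (j + 1)) := by
  rw [GamU_X_inr, piU_gamma hKb, piU_xU]
  have h := Groth.Agent.S8651.result (SpU (K := K) S d N) (mod_isSpecial.lam_one_eq_zero) N
    (fun l => 1 + X (Sum.inr (Sum.inr (s, l))))
    (fun l k hk => lam_line (Sum.inr (s, l)) k hk) (j + 1)
  have e : ∑ l : Fin N, (1 + X (Sum.inr (Sum.inr (s, l))) : SpU (K := K) S d N) -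
      (N : SpU (K := K) S d N) = ∑ l : Fin N, X (Sum.inr (Sum.inr (s, l))) := by
    rw [Finset.sum_add_distrib]
    simp
  rw [e] at h
  rw [h, esymm, map_sum]
  refine Finset.sum_congr rfl fun t _ => ?_
  rw [map_prod]
  refine Finset.prod_congr rfl fun i _ => ?_
  rw [rename_X]
  ring

include hKb in
theorem piU_GamU_X_inl (N : ℕ) (i : Fin d) :
    piU S d N (GamU K S d (X (Sum.inl i))) =
      rename (fun l : Fin d => (Sum.inr (Sum.inl l) : Var PEmpty.{1} (Fin d ⊕ (S × Fin N))))
        (esymm (Fin d) K ((i : ℕ) + 1)) := by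
  rw [GamU_X_inl, piU_gamma hKb, piU_zU]
  have h := Groth.Agent.S8651.result (SpU (K := K) S d N) (mod_isSpecial.lam_one_eq_zero) d
    (fun l => 1 + X (Sum.inr (Sum.inl l)))
    (fun l k hk => lam_line (Sum.inl l) k hk) ((i : ℕ) + 1)
  rw [h, esymm, map_sum]
  refine Finset.sum_congr rfl fun t _ => ?_
  rw [map_prod]
  refine Finset.prod_congr rfl fun i _ => ?_
  rw [rename_X]
  ring

/-- Restriction to the variables `(s, j)` with `j < N`. -/
noncomputable def inclU (N : ℕ) : Fin d ⊕ (S × Fin N) → Fin d ⊕ (S × ℕ) := Sum.map id (incl S N)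

theorem inclU_injective (N : ℕ) : Function.Injective (inclU S d N) :=
  Sum.map_injective.mpr ⟨Function.injective_id, incl_injective S N⟩

include hKb in
theorem piU_GamU_rename (N : ℕ) (q : MvPolynomial (Fin d ⊕ (S × Fin N)) K) :
    piU S d N (GamU K S d (rename (inclU S d N) q)) =
      rename (Sum.inr : Fin d ⊕ (S × Fin N) → Var PEmpty.{1} (Fin d ⊕ (S × Fin N)))
        (sumBoth K (esub K d) (EAll K S N) q) := by
  have h : ((piU S d N).comp ((GamU K S d).comp (rename (inclU S d N)))) =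
      (rename (Sum.inr : Fin d ⊕ (S × Fin N) → Var PEmpty.{1} (Fin d ⊕ (S × Fin N)))).comp
        (sumBoth K (esub K d) (EAll K S N)) := by
    apply MvPolynomial.algHom_ext
    rintro (i | ⟨s, l⟩)
    · simp only [AlgHom.comp_apply, rename_X, inclU, Sum.map_inl, id]
      rw [piU_GamU_X_inl hKb, sumBoth, aeval_X, Sum.elim_inl, esub, aeval_X, rename_rename]
      rfl
    · simp only [AlgHom.comp_apply, rename_X, inclU, Sum.map_inr, incl, Prod.map, id]
      rw [piU_GamU_X_inr hKb, sumBoth, aeval_X, Sum.elim_inr, EAll, aeval_X, eFam, rename_rename,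
        rename_rename]
      rfl
  exact DFunLike.congr_fun h q

/-- The weights of the γ-generators. -/
def wfU : Fin d ⊕ (S × ℕ) → ℕ := Sum.elim (fun i => (i : ℕ) + 1) (fun v => v.2 + 1)

include hKb in
/-- The transfer theorem for the universal ring. -/
theorem transferU (f : UR K S d) (n : ℕ)
    (h : ∀ N : ℕ, piU S d N f ∈ IK K PEmpty.{1} (Fin d ⊕ (S × Fin N)) ^ n) :
    ∃ q : MvPolynomial (Fin d ⊕ (S × ℕ)) K, GamU K S d q = f ∧
      ∀ t ∈ q.support, n ≤ wt (wfU S d) t := by
  classical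
  obtain ⟨q, hq⟩ := GamU_surjective K S d f
  let N := (q.vars.sup (Sum.elim (fun _ => 0) (fun v : S × ℕ => v.2))) + 1
  have hvars : (q.vars : Set (Fin d ⊕ (S × ℕ))) ⊆ Set.range (inclU S d N) := by
    intro v hv
    rcases v with i | ⟨s, j⟩
    · exact ⟨Sum.inl i, rfl⟩
    · have : j < N := Nat.lt_succ_of_le
        (Finset.le_sup (f := Sum.elim (fun _ => 0) (fun v : S × ℕ => v.2)) hv)
      exact ⟨Sum.inr (s, ⟨j, this⟩), rfl⟩
  obtain ⟨q', hq'⟩ :=
    exists_rename_eq_of_vars_subset_range q (inclU S d N) (inclU_injective S d N) hvars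
  refine ⟨q, hq, ?_⟩
  have h1 := h N
  rw [← hq, ← hq', piU_GamU_rename hKb] at h1
  have h2 := mem_pow_of_rename_mem_pow _ Sum.inr_injective _ _ h1
  have h3 := wt_le_of_mem_pow (fun v : Fin d ⊕ (S × Fin N) => wfU S d (inclU S d N v))
    (sumBoth K (esub K d) (EAll K S N))
    (sumBoth_injective K _ _ (esub_injective K d) (EAll_injective K S N)) (fun v => by
      rcases v with i | ⟨s, l⟩
      · rw [sumBoth, aeval_X, Sum.elim_inl, esub, aeval_X]
        exact (esymm_isHomogeneous K (Fin d) ((i : ℕ) + 1)).rename_isHomogeneous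
      · rw [sumBoth, aeval_X, Sum.elim_inr, EAll, aeval_X]
        exact (eFam_isHomogeneous K S N s l).rename_isHomogeneous) q' n h2
  intro t ht
  rw [← hq', support_rename_of_injective (inclU_injective S d N)] at ht
  obtain ⟨t', ht', rfl⟩ := Finset.mem_image.mp ht
  rw [wt_mapDomain _ _ (inclU_injective S d N)]
  exact h3 t' ht'

end SplitU

section ApplyU

variable {K : Type u} [CommRing K] [BinomialRing K] [LambdaOps K] (hKb : IsBinomial K)
  (hK : IsSpecial K)
  {A : Type w} [CommRing A] [LambdaOps A] [Algebra K A] (hA : IsSpecial A)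
  (ε : A →ₐ[K] K) (hε : IsAugLambdaAlg K A ε)
  {S : Type v} {d : ℕ} (f : S → A) (hf : ∀ s, ε (f s) = 0) (NA : A)
  (hN : ∀ k : ℕ, d < k → LambdaOps.lam k NA = 0) (hNε : ε NA = (d : K))

/-- The augmentation of the universal ring. -/
noncomputable def augU (S : Type v) (d : ℕ) : UR K S d →ₐ[K] K :=
  evU (fun _ : S => (0 : K)) ((d : ℕ) : K)

include hK in
theorem lam_natCast_eq_zero (k : ℕ) (hk : d < k) : LambdaOps.lam k ((d : ℕ) : K) = 0 := by
  rw [lam_natCast hK.lam_one_eq_zero, Nat.choose_eq_zero_of_lt hk, Nat.cast_zero]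

include hε hf hNε in
theorem eps_evU (p : UR K S d) : ε (evU f NA p) = augU S d p := by
  have h : (ε.comp (evU f NA : UR K S d →ₐ[K] A)) = augU S d := by
    apply MvPolynomial.algHom_ext
    rintro (i | ⟨s, j⟩)
    · rw [AlgHom.comp_apply, evU_X_inl, augU, evU_X_inl, hε.map_lam, hNε]
    · rw [AlgHom.comp_apply, evU_X_inr, augU, evU_X_inr, hε.map_lam, hf]
  exact DFunLike.congr_fun h p

include hKb hK in
theorem aug_piU (N : ℕ) (p : UR K S d) :
    aug PEmpty.{1} (Fin d ⊕ (S × Fin N)) (piU S d N p) = augU S d p := by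
  have h : ((aug PEmpty.{1} (Fin d ⊕ (S × Fin N)) : SpU (K := K) S d N →ₐ[K] K).comp
      (piU S d N)) = augU S d := by
    apply MvPolynomial.algHom_ext
    rintro (i | ⟨s, j⟩)
    · rw [AlgHom.comp_apply, ← lam_NU_lt (i : ℕ) i.2, piU_lam hKb, aug_lam hKb hK,
        lam_NU_lt (i : ℕ) i.2, augU, evU_X_inl]
      congr 1
      have e : (NU : UR K S d) = zU K S d + (d : UR K S d) := by rw [zU]; ring
      rw [e, map_add, piU_zU, map_natCast]
      have h0 : ∀ l : Fin d, aug PEmpty.{1} (Fin d ⊕ (S × Fin N))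
          (1 + (X (Sum.inr (Sum.inl l)) : SpU (K := K) S d N)) = 1 := by
        intro l
        rw [map_add, map_one, aug_eq_constantCoeff, constantCoeff_X, add_zero]
      rw [map_add, map_sub, map_sum, Finset.sum_congr rfl fun l _ => h0 l, map_natCast]
      simp
    · rw [AlgHom.comp_apply, ← lam_xU s j, piU_lam hKb, aug_lam hKb hK, lam_xU s j, augU,
        evU_X_inr]
      congr 1
      rw [piU_xU, map_sum]
      refine Finset.sum_eq_zero fun l _ => ?_
      rw [aug_eq_constantCoeff, constantCoeff_X]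
  exact DFunLike.congr_fun h p

include hKb hA hε hN in
theorem evU_GamU (q : MvPolynomial (Fin d ⊕ (S × ℕ)) K) :
    evU f NA (GamU K S d q) =
      aeval (Sum.elim (fun i : Fin d => gamma ((i : ℕ) + 1) (NA - (d : A)))
        (fun v : S × ℕ => gamma (v.2 + 1) (f v.1))) q := by
  have h : (evU f NA : UR K S d →ₐ[K] A).comp (GamU K S d) =
      aeval (Sum.elim (fun i : Fin d => gamma ((i : ℕ) + 1) (NA - (d : A)))
        (fun v : S × ℕ => gamma (v.2 + 1) (f v.1))) := by
    apply MvPolynomial.algHom_ext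
    rintro (i | ⟨s, j⟩)
    · rw [AlgHom.comp_apply, GamU_X_inl, evU_gamma hKb hA hε.isLambdaAlg f NA hN, zU, map_sub,
        evU_NU f NA hN, map_natCast, aeval_X, Sum.elim_inl]
    · rw [AlgHom.comp_apply, GamU_X_inr, evU_gamma hKb hA hε.isLambdaAlg f NA hN, evU_xU, aeval_X,
        Sum.elim_inr]
  exact DFunLike.congr_fun h q

include hN in
theorem evU_uU : evU (K := K) f NA (uU : UR K S d) = lamNeg d NA := by
  rw [uU, lamNeg, lamNeg, map_sum]
  refine Finset.sum_congr rfl fun i _ => ?_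
  rw [map_mul, map_pow, map_neg, map_one, evU_lam_NU f NA hN]

include hKb hA hε hf hN hNε in
/-- Main estimate: if the images of `uU * w` in all split models lie in `I^(n+d)`, then the image
of `w` in `A` lies in the `n`-th step of the γ-filtration. -/
theorem evU_mem_gammaFil (w : UR K S d) (n : ℕ)
    (h : ∀ N : ℕ, piU S d N (uU * w) ∈ IK K PEmpty.{1} (Fin d ⊕ (S × Fin N)) ^ (n + d)) :
    evU f NA w ∈ gammaFil (ε : A →+* K) n := by
  have h' : ∀ N : ℕ, piU S d N w ∈ IK K PEmpty.{1} (Fin d ⊕ (S × Fin N)) ^ n := by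
    intro N
    have h1 := h N
    rw [map_mul, piU_uU] at h1
    have h2 := Ideal.mul_mem_left _ ((-1 : SpU (K := K) S d N) ^ d) h1
    have e : (-1 : SpU (K := K) S d N) ^ d * (((-1) ^ d *
        (∏ l : Fin d, (X (Sum.inr (Sum.inl l)) : SpU (K := K) S d N))) * piU S d N w) =
        piU S d N w * (∏ l : Fin d, (X (Sum.inr (Sum.inl l)) : SpU (K := K) S d N)) := by
      have := Groth.Agent.Lib.helper13.Newton.neg_one_pow_mul_self (R := SpU (K := K) S d N) d
      linear_combination ((∏ l : Fin d, (X (Sum.inr (Sum.inl l)) : SpU (K := K) S d N)) *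
        piU S d N w) * this
    rw [e] at h2
    refine mem_pow_of_mul_prod_X_mem' _ Finset.univ
      (fun l : Fin d => (Sum.inr (Sum.inl l) : Var PEmpty.{1} (Fin d ⊕ (S × Fin N)))) n ?_
    rwa [Finset.card_univ, Fintype.card_fin]
  obtain ⟨q, hq, hw⟩ := transferU hKb S d w n h'
  rw [← hq, evU_GamU hKb hA ε hε f NA hN]
  refine (gammaFil_good (ε : A →+* K)).aeval_mem (K := K) _ (wfU S d) ?_ q n hw
  rintro (i | ⟨s, j⟩)
  · refine gamma_mem_gammaFil (ε : A →+* K) ?_ ((i : ℕ) + 1)
    simp only [RingHom.coe_coe]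
    rw [map_sub, hNε, map_natCast, sub_self]
  · exact gamma_mem_gammaFil (ε : A →+* K) (hf s) (j + 1)

include hKb hK hA hε hf hN hNε in
/-- Lifting elements of the γ-filtration to the universal ring. -/
theorem exists_lift_gammaFil (hsurj : Function.Surjective (evU (K := K) (d := d) f NA))
    {i : ℕ} {x : A} (hx : x ∈ gammaFil (ε : A →+* K) i) :
    ∃ x' : UR K S d, x' ∈ gammaFil ((augU S d : UR K S d →ₐ[K] K) : UR K S d →+* K) i ∧
      evU f NA x' = x := by
  obtain ⟨x', hx', hxx⟩ := exists_mem_gammaFil_of_surjective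
    ((augU S d : UR K S d →ₐ[K] K) : UR K S d →+* K) (ε : A →+* K)
    ((evU f NA : UR K S d →ₐ[K] A) : UR K S d →+* A) hsurj
    (fun b hb => by
      obtain ⟨a, rfl⟩ := hsurj b
      refine ⟨a, ?_, rfl⟩
      simp only [RingHom.coe_coe] at hb ⊢
      rw [← eps_evU ε hε f hf NA hNε]
      exact hb)
    (fun k a => evU_gamma hKb hA hε.isLambdaAlg f NA hN a k) hx
  exact ⟨x', hx', hxx⟩

include hKb hK in
theorem piU_mem_pow {i : ℕ} {x' : UR K S d}
    (hx' : x' ∈ gammaFil ((augU S d : UR K S d →ₐ[K] K) : UR K S d →+* K) i) (N : ℕ) :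
    piU S d N x' ∈ IK K PEmpty.{1} (Fin d ⊕ (S × Fin N)) ^ i := by
  have h1 : piU S d N x' ∈ gammaFil
      ((aug PEmpty.{1} (Fin d ⊕ (S × Fin N)) : SpU (K := K) S d N →ₐ[K] K) :
        SpU (K := K) S d N →+* K) i :=
    map_mem_gammaFil ((augU S d : UR K S d →ₐ[K] K) : UR K S d →+* K)
      ((aug PEmpty.{1} (Fin d ⊕ (S × Fin N)) : SpU (K := K) S d N →ₐ[K] K) :
        SpU (K := K) S d N →+* K)
      ((piU S d N : UR K S d →ₐ[K] SpU (K := K) S d N) : UR K S d →+* SpU (K := K) S d N)
      (fun a => aug_piU hKb hK N a) (fun k a => piU_gamma hKb S d N a k) hx'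
  exact gammaFil_le_pow PEmpty.{1} (Fin d ⊕ (S × Fin N)) i h1

theorem piU_uU_mem_pow (N : ℕ) :
    piU S d N (uU : UR K S d) ∈ IK K PEmpty.{1} (Fin d ⊕ (S × Fin N)) ^ d := by
  rw [piU_uU]
  refine Ideal.mul_mem_left _ _ ?_
  have := prod_X_mem_pow' (R := K) (Finset.univ : Finset (Fin d))
    (fun l : Fin d => (Sum.inr (Sum.inl l) : Var PEmpty.{1} (Fin d ⊕ (S × Fin N))))
  rwa [Finset.card_univ, Fintype.card_fin] at this

include hKb hK hA hε hf hN hNε in
/-- The class of `γ^{d+i}(N, x)` in `Gr^{i}` for `x ∈ Fil^i`. -/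
theorem gamma_quot_sub_mem (hsurj : Function.Surjective (evU (K := K) (d := d) f NA))
    (hd : 1 ≤ d) (hnzd : lamNeg d NA ∈ nonZeroDivisors A) (i : ℕ) (x : A)
    (hx : x ∈ gammaFil (ε : A →+* K) i) (y : A)
    (hy : y * lamNeg d NA = gamma (d + i) (x * lamNeg d NA)) :
    y - (-1 : A) ^ (d + i - 1) * ((d + i - 1).factorial : A) * x ∈
      gammaFil (ε : A →+* K) (i + 1) := by
  obtain ⟨x', hx', rfl⟩ := exists_lift_gammaFil hKb hK hA ε hε f hf NA hN hNε hsurj hx
  obtain ⟨y', hy'⟩ := uU_dvd_gamma x' (d + i) (by omega)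
  obtain ⟨m, hm⟩ : ∃ m, d + i = m + 1 := ⟨d + i - 1, by omega⟩
  have hm' : d + i - 1 = m := by omega
  rw [hm'] at ⊢
  rw [hm] at hy hy'
  -- `evU y' = y`
  have hyy : evU f NA y' = y := by
    have h1 : evU f NA y' * lamNeg d NA = y * lamNeg d NA := by
      rw [hy, ← evU_uU (K := K) f NA hN, ← map_mul, mul_comm y' _, ← hy',
        evU_gamma hKb hA hε.isLambdaAlg f NA hN, map_mul]
    exact (mul_cancel_right_mem_nonZeroDivisors hnzd).mp h1
  have key : evU f NA (y' - (-1) ^ m * (m.factorial : UR K S d) * x') ∈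
      gammaFil (ε : A →+* K) (i + 1) := by
    refine evU_mem_gammaFil hKb hA ε hε f hf NA hN hNε _ (i + 1) ?_
    intro N
    have h1 : piU S d N (x' * uU) ∈ IK K PEmpty.{1} (Fin d ⊕ (S × Fin N)) ^ (m + 1) := by
      rw [map_mul, ← hm, Nat.add_comm d i, pow_add]
      exact Ideal.mul_mem_mul (piU_mem_pow hKb hK hx' N) (piU_uU_mem_pow N)
    have h2 := gamma_sub_mem K PEmpty.{1} (Fin d ⊕ (S × Fin N)) m h1
    have e : piU S d N (uU * (y' - (-1) ^ m * (m.factorial : UR K S d) * x')) =
        gamma (m + 1) (piU S d N (x' * uU)) -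
          (-1) ^ m * (m.factorial : SpU (K := K) S d N) * piU S d N (x' * uU) := by
      rw [← piU_gamma hKb, hy']
      simp only [map_mul, map_sub, map_pow, map_neg, map_one, map_natCast]
      ring
    rw [e]
    have e2 : i + 1 + d = m + 2 := by omega
    rw [e2]
    exact h2
  rw [map_sub, map_mul, map_mul, map_pow, map_neg, map_one, map_natCast, hyy] at key
  exact key

include hKb hK hA hε hf hN hNε in
/-- `γ^p(N, x) ∈ Fil^{p-d}`. -/
theorem gamma_quot_mem (hsurj : Function.Surjective (evU (K := K) (d := d) f NA))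
    (hd : 1 ≤ d) (hnzd : lamNeg d NA ∈ nonZeroDivisors A) (p : ℕ) (hp : 1 ≤ p) (x y : A)
    (hy : y * lamNeg d NA = gamma p (x * lamNeg d NA)) :
    y ∈ gammaFil (ε : A →+* K) (p - d) := by
  obtain ⟨x', rfl⟩ := hsurj x
  obtain ⟨y', hy'⟩ := uU_dvd_gamma x' p hp
  have hyy : evU f NA y' = y := by
    have h1 : evU f NA y' * lamNeg d NA = y * lamNeg d NA := by
      rw [hy, ← evU_uU (K := K) f NA hN, ← map_mul, mul_comm y' _, ← hy',
        evU_gamma hKb hA hε.isLambdaAlg f NA hN, map_mul]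
    exact (mul_cancel_right_mem_nonZeroDivisors hnzd).mp h1
  rw [← hyy]
  by_cases hpd : p < d
  · have : p - d = 0 := by omega
    rw [this, gammaFil_zero]
    trivial
  · refine evU_mem_gammaFil hKb hA ε hε f hf NA hN hNε _ (p - d) ?_
    intro N
    have h1 : piU S d N (x' * uU) ∈ IK K PEmpty.{1} (Fin d ⊕ (S × Fin N)) := by
      rw [map_mul]
      refine Ideal.mul_mem_left _ _ ?_
      have h2 := piU_uU_mem_pow (K := K) (S := S) (d := d) N
      exact Ideal.pow_le_self (by omega) h2
    have h3 := gamma_mem_pow K PEmpty.{1} (Fin d ⊕ (S × Fin N)) h1 p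
    rw [← hy', piU_gamma hKb]
    have e2 : p - d + d = p := by omega
    rw [e2]
    exact h3

end ApplyU

section CanonU

variable {K : Type u} [CommRing K] [BinomialRing K] [LambdaOps K]
  {A : Type w} [CommRing A] [LambdaOps A] [Algebra K A] (ε : A →ₐ[K] K) (d : ℕ) (NA : A)

theorem evU_ker_surjective :
    Function.Surjective (evU (K := K) (d := d) (fun s : {a : A // ε a = 0} => s.1) NA) := by
  intro a
  have h0 : ε (a - algebraMap K A (ε a)) = 0 := by
    rw [map_sub, ε.commutes]
    simp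
  refine ⟨C (ε a) + xU (K := K) (d := d) ⟨a - algebraMap K A (ε a), h0⟩, ?_⟩
  rw [map_add, evU_xU, evU_C]
  ring

end CanonU

end Groth.Agent.Lib.helper13.UTransfer
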